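import Cfsg.Agent.GW.Defs
import Cfsg.Agent.Grp.SmallTwo

/-!
# Sylow `2`-subgroups with centre of index four: fusion and the automizers of the abelian maximal
subgroups
-/

set_option autoImplicit false
set_option linter.unusedSectionVars false

namespace Cfsg.GW

open Subgroup

universe u

local notation "C(" Q ")" => Subgroup.centralizer (SetLike.coe (Q : Subgroup _))
local notation "N(" Q ")" => Subgroup.normalizer (SetLike.coe (Q : Subgroup _))

theorem card_commutator_of_index_center {K : Type u} [Group K] [Finite K] {p : ℕ} (hp : p.Prime)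
    (hna : ¬ IsMulCommutative K) (h : (center K).index ∣ p ^ 2) : Nat.card (commutator K) = p := by
  haveI := Fact.mk hp
  obtain ⟨x, hx⟩ : ∃ x : K, x ∉ center K := by
    by_contra! e
    exact hna ⟨⟨fun a b => (mem_center_iff.1 (e b) a)⟩⟩
  haveI : IsMulCommutative (zpowers x ⊔ center K : Subgroup K) :=
    isMulCommutative_zpowers_sup (center_le_centralizer _)
  set A : Subgroup K := zpowers x ⊔ center K with hA
  have hZA : center K ≤ A := le_sup_right
  have h1 : A.index ≠ 1 := fun e => hna (by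
    rw [index_eq_one] at e
    exact ⟨⟨fun a b => isMulCommutative_iff_forall.1 ‹_› a (e.ge (mem_top a)) b (e.ge (mem_top b))⟩⟩)
  have h2 : (center K).relIndex A ≠ 1 := fun e => hx (relIndex_eq_one.1 e
    (mem_sup_left (mem_zpowers x)))
  have h3 := relIndex_mul_index hZA
  obtain ⟨i, hi, e1⟩ := (Nat.dvd_prime_pow hp).1 ((Dvd.intro_left _ h3).trans h)
  obtain ⟨j, hj, e2⟩ := (Nat.dvd_prime_pow hp).1 ((Dvd.intro _ h3).trans h)
  have h4 : j + i ≤ 2 := (Nat.pow_dvd_pow_iff_le_right hp.one_lt).1 (by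
    rw [pow_add, ← e1, ← e2, h3]; exact h)
  have hi0 : i ≠ 0 := fun e => h1 (by rw [e1, e, pow_zero])
  have hj0 : j ≠ 0 := fun e => h2 (by rw [e2, e, pow_zero])
  obtain rfl : i = 1 := by omega
  obtain rfl : j = 1 := by omega
  rw [pow_one] at e1 e2
  have h5 : commutator K ≤ center K := by
    have : IsMulCommutative (K ⧸ center K) := IsPGroup.isMulCommutative_of_card_eq_prime_sq (p := p)
      (by rw [← index_eq_card, ← h3, e1, e2, sq])
    exact Subgroup.Normal.quotient_commutative_iff_commutator_le.1 this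
  haveI : A.Normal := ⟨fun a ha g => by
    have := mul_mem (hZA (h5 (commutator_mem_commutator (mem_top g) (mem_top a)))) ha
    simpa [commutatorElement_def] using this⟩
  haveI : IsCyclic (K ⧸ A) := isCyclic_of_prime_card (p := p) (by rw [← index_eq_card, e1])
  have h6 := card_commutator_mul_of_isCyclic_quotient A
  rw [inf_eq_right.2 hZA, ← card_mul_relIndex hZA, e2, mul_comm] at h6
  exact Nat.eq_of_mul_eq_mul_left Nat.card_pos h6

theorem mul_eq_one_of_not_four_dvd {K : Type u} [Group K] [Finite K] (h4 : ¬ 4 ∣ Nat.card K)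
    {σ τ : K} (h1 : σ * σ = 1) (h2 : τ * τ = 1) (h1' : σ ≠ 1) (h2' : τ ≠ 1)
    (h : (σ * τ) ^ 4 = 1) : σ * τ = 1 := by
  by_contra h3
  have hn : zpowers σ ≤ N(zpowers (σ * τ)) := by
    refine zpowers_le.2 (mem_normalizer_of_forall_conj_mem ?_)
    rintro _ ⟨k, rfl⟩
    refine ⟨-k, ?_⟩
    simp only
    rw [← conj_zpow, zpow_neg, ← inv_zpow]
    congr 1
    rw [← mul_assoc, h1, one_mul, mul_inv_rev, inv_eq_of_mul_eq_one_right h2]
  have hQ := (isPElt_iff_isPGroup_zpowers.1 (isPElt_iff_pow_eq_one.2 ⟨1, (pow_two σ).trans h1⟩ :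
    IsPElt 2 σ)).to_sup_of_normal_right'
    (isPElt_iff_isPGroup_zpowers.1 (isPElt_iff_pow_eq_one.2 ⟨2, h⟩ : IsPElt 2 (σ * τ))) hn
  obtain ⟨j, hj⟩ := hQ.exists_card_eq
  have h5 : j ≤ 1 := by
    by_contra! e
    exact h4 (((pow_dvd_pow 2 e).trans (hj ▸ card_subgroup_dvd_card _) :))
  have h6 : j ≠ 0 := fun e => h1' (mem_bot.1 ((card_eq_one.1 (by rw [hj, e, pow_zero])).le
    (mem_sup_left (mem_zpowers σ))))
  obtain ⟨y, -, hy⟩ := (Nat.card_eq_two_iff' (1 : (zpowers σ ⊔ zpowers (σ * τ) : Subgroup K))).1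
    (by rw [hj, show j = 1 by omega, pow_one])
  have := (hy ⟨σ, mem_sup_left (mem_zpowers σ)⟩ fun e => h1' (congrArg Subtype.val e)).trans
    (hy ⟨σ * τ, mem_sup_right (mem_zpowers _)⟩ fun e => h3 (congrArg Subtype.val e)).symm
  exact h2' (by simpa using congrArg Subtype.val this)

variable {G : Type u} [Group G] [Finite G] {P A B : Subgroup G} {a b c g k m n s u v w x y z : G}

theorem exists_isZ4 (hna : ¬ IsMulCommutative P) (hZ : (center P).index = 4) : ∃ z, IsZ4 P z := by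
  obtain ⟨z, hz⟩ := exists_isD2 (card_commutator_of_index_center Nat.prime_two hna (hZ ▸ dvd_rfl))
  refine ⟨z, hz.isZ4 ?_⟩
  rw [← center_map_subtype, card_map_subtype, ← card_mul_index (center P), hZ]
  omega

/-- A Sylow `2`-subgroup whose centre has index four. -/
structure Syl4 (P : Subgroup G) (z : G) : Prop extends IsZ4 P z where
  pg : IsPGroup 2 P
  idx : ¬ 2 ∣ P.index

/-- An abelian subgroup of index two. -/
structure Half (P A : Subgroup G) : Prop extends Idx2 A P where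
  comm : A ≤ C(A)

theorem Syl4.half (h : Syl4 P z) (hu : u ∈ P) (hu' : u ∉ C(P)) : Half P (P ⊓ C(zpowers u)) :=
  ⟨h.idx2 hu, h.comm hu hu'⟩

theorem Syl4.not_dvd (h : Syl4 P z) {Y : Subgroup G} (hY : P ≤ Y) : ¬ 2 ∣ P.relIndex Y :=
  fun e => h.idx (e.trans (relIndex_dvd_index_of_le hY))

namespace Half

variable (H : Half P A)
include H

theorem comm' (ha : a ∈ A) (hb : b ∈ A) : a * b = b * a := H.comm hb a ha

theorem le_norm : P ≤ N(A) := fun _ hg =>
  mem_normalizer_of_forall_conj_mem fun _ ha => H.conj_mem hg ha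

theorem map_conj (hm : m ∈ N(P)) : Half P (A.map (MulAut.conj m).toMonoidHom) :=
  ⟨by have := H.toIdx2.map (MulAut.conj m).toMonoidHom; rwa [map_conj_eq_iff.2 hm] at this,
    by rw [centralizer_map_conj]; exact map_mono H.comm⟩

variable (h : Syl4 P z)
include h

theorem exists_notMem : ∃ s ∈ P, s ∉ A := by
  by_contra! e
  exact h.nc fun a ha b hb => H.comm' (e b hb) (e a ha)

theorem exists_ncent : ∃ u ∈ A, u ∉ C(P) := by
  by_contra! e
  exact h.nc (H.le_cent e)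

theorem mem_of_cent (hc : c ∈ P) (hc' : c ∈ C(P)) : c ∈ A := by_contra fun e =>
  h.nc (H.le_cent fun a ha => H.mem_cent hc e (H.comm ha) (hc' a (H.le ha)).symm)

theorem z_mem : z ∈ A := H.mem_of_cent h h.mem h.cent

theorem conj_eq' (hs : s ∈ P) (hs' : s ∉ A) (ha : a ∈ A) (ha' : a ∉ C(P)) :
    s * a * s⁻¹ = a * z :=
  h.conj_of_ne hs (H.le ha) fun e => ha' (H.mem_cent hs hs' (H.comm ha) e)

theorem mem_iff (hu : u ∈ A) (hu' : u ∉ C(P)) (hg : g ∈ P) : g ∈ A ↔ g * u = u * g :=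
  ⟨fun e => H.comm' e hu, fun e => by_contra fun e' => hu' (H.mem_cent hg e' (H.comm hu) e)⟩

theorem mul_cent (ha : a ∈ A) (hb : b ∈ A) (ha' : a ∉ C(P)) (hb' : b ∉ C(P)) : a * b ∈ C(P) :=
  (h.cases a (H.le ha) ha' b (H.le hb) (H.comm' hb ha)).resolve_left hb'

theorem eq_of_mem (H' : Half P B) (hu : u ∈ A) (hu' : u ∈ B) (hc : u ∉ C(P)) : A = B :=
  le_antisymm (fun _ e => (H'.mem_iff h hu' hc (H.le e)).2 (H.comm' e hu))
    fun _ e => (H.mem_iff h hu hc (H'.le e)).2 (H'.comm' e hu')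

theorem card_eq' : Nat.card P = 2 * Nat.card A := by
  obtain ⟨s, hs, hs'⟩ := H.exists_notMem h
  exact H.card_eq hs hs'

theorem not_four_dvd : ¬ 4 ∣ (C(A)).relIndex N(A) := by
  rintro ⟨r, hr⟩
  have h1 := card_mul_relIndex (centralizer_le_normalizer (A : Set G))
  obtain ⟨d, hd⟩ := card_dvd_of_le H.comm
  obtain ⟨e, he⟩ := card_subgroup_dvd_card N(A)
  have h2 := card_mul_index P
  rw [he, ← h1, hr, hd, H.card_eq' h] at h2
  refine h.idx ⟨d * r * e, Nat.eq_of_mul_eq_mul_left (Nat.mul_pos two_pos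
    (Nat.card_pos (α := A))) (h2.trans (by ring))⟩

theorem mul_mem_cent_of_pow {t : G} (hs : s ∈ N(A)) (ht : t ∈ N(A)) (hs' : s ∉ C(A))
    (ht' : t ∉ C(A)) (hs2 : s * s ∈ C(A)) (ht2 : t * t ∈ C(A)) (h4 : (s * t) ^ 4 ∈ C(A)) :
    s * t ∈ C(A) := by
  haveI : ((C(A)).subgroupOf N(A)).Normal := by
    rw [← normalizerMonoidHom_ker]; infer_instance
  have key : ∀ x : N(A), (x : N(A) ⧸ (C(A)).subgroupOf N(A)) = 1 ↔ (x : G) ∈ C(A) := fun x => by
    rw [QuotientGroup.eq_one_iff, mem_subgroupOf]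
  refine (key (⟨s, hs⟩ * ⟨t, ht⟩)).1 (mul_eq_one_of_not_four_dvd (H.not_four_dvd h)
    ((key (⟨s, hs⟩ * ⟨s, hs⟩)).2 hs2) ((key (⟨t, ht⟩ * ⟨t, ht⟩)).2 ht2)
    (mt (key _).1 hs') (mt (key _).1 ht') ?_)
  rw [← QuotientGroup.mk_mul, ← QuotientGroup.mk_pow]
  exact (key _).2 h4

theorem act_of_mem (hs : s ∈ P) (ha : n⁻¹ * a * n ∈ C(P)) :
    n * s * n⁻¹ * a * (n * s * n⁻¹)⁻¹ = a := by
  have := conj_eq_of_mem_cent ha hs
  calc _ = n * (s * (n⁻¹ * a * n) * s⁻¹) * n⁻¹ := by group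
    _ = a := by rw [this]; group

theorem act_of_notMem (hn : n ∈ N(A)) (hs : s ∈ P) (hs' : s ∉ A) (ha : a ∈ A)
    (ha' : n⁻¹ * a * n ∉ C(P)) :
    n * s * n⁻¹ * a * (n * s * n⁻¹)⁻¹ = a * (n * z * n⁻¹) := by
  have := H.conj_eq' h hs hs' (by simpa using conj_mem_of_mem_normalizer (inv_mem hn) ha) ha'
  calc _ = n * (s * (n⁻¹ * a * n) * s⁻¹) * n⁻¹ := by group
    _ = _ := by rw [this]; group

theorem act_cases (hn : n ∈ N(A)) (hs : s ∈ P) (hs' : s ∉ A) (ha : a ∈ A) :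
    n * s * n⁻¹ * a * (n * s * n⁻¹)⁻¹ = a ∨
      n * s * n⁻¹ * a * (n * s * n⁻¹)⁻¹ = a * (n * z * n⁻¹) :=
  (em _).imp (H.act_of_mem h hs) (H.act_of_notMem h hn hs hs' ha)

theorem notMem_cent (hs : s ∈ P) (hs' : s ∉ A) : s ∉ C(A) := fun e => by
  obtain ⟨u, hu, hu'⟩ := H.exists_ncent h
  exact hs' ((H.mem_iff h hu hu' hs).2 (e u hu).symm)

theorem mul_conj_mem_cent (hn : n ∈ N(A)) (hs : s ∈ P) (hs' : s ∉ A)
    (hz : n * z * n⁻¹ ∈ C(P)) : s * (n * s * n⁻¹) ∈ C(A) := by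
  have hsN := H.le_norm hs
  have htN : n * s * n⁻¹ ∈ N(A) := mul_mem (mul_mem hn hsN) (inv_mem hn)
  have hC := fun x (hx : x ∈ C(A)) => conj_mem_cent hn hx
  have hs2 : s * s ∈ C(A) := H.comm (H.sq_mem hs)
  refine H.mul_mem_cent_of_pow h hsN htN (H.notMem_cent h hs hs')
    (mt (conj_mem_cent_iff hn).1 (H.notMem_cent h hs hs')) hs2
    (by rw [conj_mul]; exact hC _ hs2) ?_
  have hz' := conj_mem_of_mem_normalizer hn (H.z_mem h)
  have hz2 : n * z * n⁻¹ * (n * z * n⁻¹) = 1 := by rw [conj_mul, h.sq]; group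
  have ht := fun a (ha : a ∈ A) => H.act_cases h hn hs hs' ha
  have htz : n * s * n⁻¹ * (n * z * n⁻¹) * (n * s * n⁻¹)⁻¹ = n * z * n⁻¹ :=
    H.act_of_mem h hs (by simpa [mul_assoc] using h.cent)
  generalize n * s * n⁻¹ = t at *
  generalize n * z * n⁻¹ = y at *
  have h1 : s * t * y * (s * t)⁻¹ = y := by
    calc _ = s * (t * y * t⁻¹) * s⁻¹ := by group
      _ = y := by rw [htz, conj_eq_of_mem_cent hz hs]
  have h2 : s * t * z * (s * t)⁻¹ = z ∨ s * t * z * (s * t)⁻¹ = z * y := by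
    rw [show s * t * z * (s * t)⁻¹ = s * (t * z * t⁻¹) * s⁻¹ by group]
    refine (ht z (H.z_mem h)).imp (fun e => ?_) fun e => ?_ <;> rw [e]
    exacts [conj_eq_of_mem_cent h.cent hs, conj_eq_of_mem_cent (mul_mem h.cent hz) hs]
  have h3 : ∀ a, s * t * (s * t) * a * (s * t * (s * t))⁻¹ =
      s * t * (s * t * a * (s * t)⁻¹) * (s * t)⁻¹ := fun a => by group
  obtain ⟨τ, hτ⟩ : ∃ τ, τ = s * t * (s * t) := ⟨_, rfl⟩
  let W : Subgroup G :=
    { carrier := {w | w ∈ A ∧ w * w = 1 ∧ τ * w * τ⁻¹ = w}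
      mul_mem' := fun {a b} ha hb => ⟨mul_mem ha.1 hb.1, by
        rw [mul_assoc, ← mul_assoc b, H.comm' hb.1 ha.1, mul_assoc, hb.2.1, mul_one, ha.2.1], by
        rw [← conj_mul, ha.2.2, hb.2.2]⟩
      one_mem' := ⟨one_mem _, mul_one _, by group⟩
      inv_mem' := fun {a} ha => by rwa [inv_eq_of_mul_eq_one_right ha.2.1] }
  have hzW : z ∈ W := ⟨H.z_mem h, h.sq, by
    rw [hτ, h3]
    rcases h2 with e | e
    · rw [e, e]
    · rw [e, ← conj_mul, e, h1, mul_assoc, hz2, mul_one]⟩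
  have hyW : y ∈ W := ⟨hz', hz2, by rw [hτ, h3, h1, h1]⟩
  have hQ : ∀ r r' : G, r' ∈ N(A) → (∀ a ∈ A, a⁻¹ * (r * a * r⁻¹) ∈ W) →
      (∀ a ∈ A, a⁻¹ * (r' * a * r'⁻¹) ∈ W) → ∀ a ∈ A, a⁻¹ * (r * r' * a * (r * r')⁻¹) ∈ W :=
    fun r r' hr' e e' a ha => by
      convert mul_mem (e' a ha) (e _ (conj_mem_of_mem_normalizer hr' ha)) using 1
      group
  have hρ := hQ s t htN (fun a ha => by
    rcases h.conj s hs a (H.le ha) with e | e <;> rw [e] <;> simp [hzW]) fun a ha => by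
    rcases ht a ha with e | e <;> rw [e] <;> simp [hyW]
  intro a ha
  obtain ⟨-, h5, h6⟩ := hτ ▸ hQ _ _ (mul_mem hsN htN) hρ hρ a ha
  rw [show (s * t) ^ 4 = τ * τ by rw [hτ]; simp only [pow_succ, pow_zero, one_mul, mul_assoc],
    eq_comm, ← conj_eq_iff_comm]
  have h7 : τ * a * τ⁻¹ = a * (a⁻¹ * (τ * a * τ⁻¹)) := by group
  generalize a⁻¹ * (τ * a * τ⁻¹) = w at *
  calc _ = τ * (τ * a * τ⁻¹) * τ⁻¹ := by group
    _ = a := by rw [h7, ← conj_mul, h7, h6, mul_assoc, h5, mul_one]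

/-- An element of `N(A)` that fixes `z` acts on `A` like an element of `N(P)`. -/
theorem exists_norm (hn : n ∈ N(A)) (hz : n * z * n⁻¹ = z) :
    ∃ m ∈ N(P), ∀ a ∈ A, n * a * n⁻¹ = m * a * m⁻¹ := by
  obtain ⟨s, hs, hs'⟩ := H.exists_notMem h
  have h1 := H.mul_conj_mem_cent h hn hs hs' (hz.symm ▸ h.cent)
  obtain ⟨y, hy, hy'⟩ := exists_map_conj_le_of_not_dvd_relIndex h.pg
    (h.not_dvd (le_sup_left (b := C(A)))) ((isPGroup_map_conj_iff (g := n)).2 h.pg)
    (map_conj_le_iff.2 fun p hp => by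
      by_cases e : p ∈ A
      · exact mem_sup_left (H.le (conj_mem_of_mem_normalizer hn e))
      · convert mul_mem (mem_sup_left (P.mul_mem (H.le (conj_mem_of_mem_normalizer hn
          (H.mul_inv hp hs e hs'))) (P.inv_mem hs))) (mem_sup_right h1) using 1
        group)
  rw [map_conj_map_conj] at hy'
  obtain ⟨p, hp, c, hc, rfl⟩ := (mem_sup_of_le_normalizer
    (H.le_norm.trans (normalizer_le_normalizer_centralizer A))).1 hy
  have h2 := mul_mem (inv_mem (le_normalizer hp)) (mem_normalizer_of_map_conj_le hy')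
  refine ⟨c * n, by simpa [mul_assoc] using h2, fun a ha => ?_⟩
  rw [show c * n * a * (c * n)⁻¹ = c * (n * a * n⁻¹) * c⁻¹ by group,
    ← hc _ (conj_mem_of_mem_normalizer hn ha), mul_inv_cancel_right]

theorem conj_notMem_cent (hn : n ∈ N(A)) (hz : n * z * n⁻¹ ≠ z) : n * z * n⁻¹ ∉ C(P) := fun e => by
  obtain ⟨s, hs, hs'⟩ := H.exists_notMem h
  obtain ⟨u, hu, hu'⟩ := H.exists_ncent h
  have h1 := conj_eq_iff_comm.2 (H.mul_conj_mem_cent h hn hs hs' e u hu).symm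
  rw [show s * (n * s * n⁻¹) * u * (s * (n * s * n⁻¹))⁻¹ =
    s * (n * s * n⁻¹ * u * (n * s * n⁻¹)⁻¹) * s⁻¹ by group] at h1
  rcases H.act_cases h hn hs hs' hu with e' | e' <;> rw [e'] at h1
  · exact h.ne (by simpa [H.conj_eq' h hs hs' hu hu'] using h1)
  · rw [← conj_mul, H.conj_eq' h hs hs' hu hu', conj_eq_of_mem_cent e hs, mul_assoc,
      mul_eq_left] at h1
    exact hz (mul_left_cancel (h1.trans h.sq.symm))

end Half

/-- Fusion in `P` is generated by `N(P)` and the normalizers of the abelian maximal subgroups. -/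
theorem Syl4.fus (h : Syl4 P z) {S : G → Prop}
    (h1 : ∀ n ∈ N(P), ∀ x ∈ P, S x → S (n * x * n⁻¹))
    (h2 : ∀ A, Half P A → ∀ n ∈ N(A), ∀ x ∈ A, S x → S (n * x * n⁻¹))
    (hx : x ∈ P) (hg : g * x * g⁻¹ ∈ P) (hS : S x) : S (g * x * g⁻¹) := by
  have h1' : ∀ n ∈ N(P), ∀ x ∈ P, S x ↔ S (n * x * n⁻¹) := fun n hn x hx => ⟨h1 n hn x hx,
    fun e => by simpa [mul_assoc] using h1 _ (inv_mem hn) _ (conj_mem_of_mem_normalizer hn hx) e⟩
  have h2' : ∀ A, Half P A → ∀ n ∈ N(A), ∀ x ∈ A, S x ↔ S (n * x * n⁻¹) := fun A H n hn x hx =>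
    ⟨h2 A H n hn x hx, fun e => by
      simpa [mul_assoc] using h2 A H _ (inv_mem hn) _ (conj_mem_of_mem_normalizer hn hx) e⟩
  have key : ∀ a ∈ P, ∀ g : G, ¬ 2 ∣ P.relIndex C(zpowers (g * a * g⁻¹)) →
      (S a ↔ S (g * a * g⁻¹)) := by
    intro a ha g hi
    obtain ⟨c, hc, hc'⟩ := exists_map_conj_le_of_not_dvd_relIndex h.pg hi
      ((isPGroup_map_conj_iff (g := g)).2 (h.pg.to_le (inf_le_left (b := C(zpowers a)))))
      (by rw [zpowers_conj, centralizer_map_conj]; exact map_mono inf_le_right)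
    rw [map_conj_map_conj] at hc'
    have e : g * a * g⁻¹ = c * g * a * (c * g)⁻¹ := by
      rw [← conj_eq_iff_comm.2 (mem_cent_zpowers.1 hc)]; group
    rw [e]
    generalize c * g = k at *
    by_cases ha' : a ∈ C(P)
    · rw [inf_eq_left.2 (le_cent_zpowers ha')] at hc'
      exact h1' k (mem_normalizer_of_map_conj_le hc') a ha
    have H := h.half ha ha'
    have H' : Half P ((P ⊓ C(zpowers a)).map (MulAut.conj k).toMonoidHom) :=
      ⟨idx2_of_card hc' (by rw [card_map_conj, H.card_eq' h]),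
        by rw [centralizer_map_conj]; exact map_mono H.comm⟩
    obtain ⟨n, hn, hn'⟩ := exists_map_conj_le_of_not_dvd_relIndex h.pg (h.not_dvd H'.le_norm)
      ((isPGroup_map_conj_iff (g := k)).2 h.pg)
      (by rw [normalizer_map_conj]; exact map_mono H.le_norm)
    rw [map_conj_map_conj] at hn'
    rw [h1' _ (mem_normalizer_of_map_conj_le hn') a ha,
      h2' _ H' n hn _ (conj_mem_map_conj.2 ⟨ha, mem_cent_zpowers.2 rfl⟩)]
    exact iff_of_eq (congrArg S (by group))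
  obtain ⟨T, hT, -, hTC, hTi⟩ := exists_sylow_le_of_le (p := 2) (H := C(zpowers x))
    IsPGroup.of_bot bot_le
  obtain ⟨k, -, hk⟩ := exists_map_conj_le_of_not_dvd_relIndex h.pg (h.not_dvd le_top) hT le_top
  have hi : ¬ 2 ∣ P.relIndex C(zpowers (k * x * k⁻¹)) := fun e => hTi (by
    have := e.trans (relIndex_dvd_of_le_left _ hk)
    rwa [zpowers_conj, centralizer_map_conj, relIndex_map_conj] at this)
  have e : k * x * k⁻¹ = k * g⁻¹ * (g * x * g⁻¹) * (k * g⁻¹)⁻¹ := by group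
  exact (key _ hg _ (e ▸ hi)).2 (e ▸ (key x hx k hi).1 hS)

end Cfsg.GW

set_option linter.all false in
theorem Cfsg.Rz.GW_NonAbA_0 : True := by
  have := @_root_.Cfsg.GW.Half.mk.congr_simp.{0}
  have := @_root_.Cfsg.GW.Syl4.mk.congr_simp.{0}
  trivial
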