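import Cfsg.Agent.GW.L2Fact

/-!
# Almost simple `IsD8` groups with known socle

`N ≥ L`, `C_N(L) = 1`. An involution of `N` is *inner* if it lies in `L`, else *outer* (then
`N` has Sylow subgroup `D₈`, `L` has Sylow subgroup `V₄`, `a = 2k`; `A7r` has no outer involutions).
Let `V₀ = ⟨v,s⟩ ≤ L`, `B = O(C_N(V₀))`, `K = K(v)`. `O(C_N(v)) = K B` (`[O(C_N v), s] ≤ L`). `B` centralizes
a Sylow `2`-subgroup of `C_L(v)` (`[B,x] ≤ B ∩ L = 1`), so by `lemmaZ` it acts faithfully on the cyclic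
group `K`; hence every element normalizing `V₀` and centralizing `v` centralizes `B`.

`outer` (`t` outer, `u` the central involution of a Sylow subgroup `⟨x,s⟩ ∋ t = xs`, `s,u ∈ L`):
`count_two` for `M = L⟨t⟩` with `U = K(u)`, `e₁ = k`, `U₂ = C_K(t)`, `W = O(C_M(t)) = Kof L t`,
`|W| = w|U₂|`: `nq = w² + 2kw`, so `(w+k)² = (3k+ε)²`, `w = n`. If `U₂ ≠ 1`: `U₂` is a Hall subgroup of
`W`, a `u`-invariant complement `W'` is inverted by `u`, of order `n`, so `W' = T` is of type `T`; a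
minimal normal subgroup `N₀` of `W` lies in `T` (then `W ≤ N_L(T)`, `U₂ = 1`) or in `U₂` (then
`T ≤ N_L(N₀) ≤ C(u)`, `n ∣ 2a`). So `t` inverts `K(u)`, `W = T`, `|C_L(t)| = 2n`.
`comm_le`: Frattini `N = L N_N(V₀)`, `N_N(V₀) = C_N(V₀)⟨ρ,t⟩`, `C_N(V₀) = V₀ × B`, `[B,t] = 1`.

`f3`. `X ≤ F(O(C_N t))`. It suffices to show that `b ∈ X ∩ C(V)` of prime order `p` is impossible when
`V ∋ t` is a four-group containing an inner `s ≠ t` (then `s` inverts `X`, `X = [X,s] ≤ L`). `b ∈ B`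
centralizes `O_{p'}` of the cyclic group `Kof L t` and a Sylow `2`-subgroup of `L`, and normalizers of
four-groups (`cent_norm_four`), so `L₀ = C_L(b)` satisfies `bsw_rel` with parameters `a₀,n₀,q₀`,
`|L₀|` divides `|L|`.
Inner `t`: `b` acts nontrivially on `K_p`, `|K : C_K(b)| = p`, `p ∣ a₀`, `a = p a₀`; `q₀ n₀ ∣ nq`, and the
prime power `q₀` divides `n` or `q`; modulo `q₀`: `2a₀ ≡ -ε₀`, `q ≡ ε - pε₀`, `2n ≡ 2ε - pε₀`, nonzero
of absolute value `≤ p+2 < 4p - 1 ≤ q₀`.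
Outer `t`: `K₀ = C_{K(u)}(b) < K(u)`, `T₀ = C_T(b)` has index `1` or `p`; `count_two` in `L₀⟨t⟩` gives
`|T₀| = n₀ = 2k₀ + ε₀ < n`, so `n = p n₀`, `p ∣ n₀`, `p ∤ k`, `p ∣ k - k₀`, hence `ε = ε₀`;
`q₀ = 2n₀ - ε ≥ 2p - 1` is a prime power dividing one of `k`, `n`, `q`, and modulo `q₀`:
`q ≡ ε(p-1)`, `2n ≡ εp`, `4k ≡ ε(p-2)`.

`star`: `Y₁ = [Y,t] ≤ L` is normalized by `C_N(t)`; suppose `Y₁ ≠ 1`, apply `nil_type`. Inner `t`:
`C_L(t)` contains a four-group, so type `K(w)`, `C_L(t) = C_L(w)`, `w = t` (else `w` inverts and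
centralizes `K(t) ≠ 1`), `Y₁ ≤ C(t)`. Outer `t`: `C_L(t)` is dihedral of order `2n`, so type `T` with
`T = Kof L t`. In both cases `[Y,t,t] = 1`. `A7r`: `V₁ = ⟨t,s⟩` from `cent`, `K(v) = K(t)` on `V₁^#`,
`Y₁ = ⟨C_{Y₁}(v)⟩ ≤ K(t)`.

`diamond`: `Y ≤ Kof L s =: X(s)`. If `Y = 1` take `N' = J`. `J = J₀ C_J(V)`, `J₀ = J ∩ L`. `L2r`: take
`N' = L J`. If `J₀ = 1` then `J ≤ C(V)` normalizes `X(s)_p ≠ 1`, contradicting maximality. So
`J₀ ≠ 1` lies in a cyclic Sylow `p`-subgroup of `L` (`p ∣ k` or `p ∣ n`), some `c ∈ V^#` centralizes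
`J₀`, `J₀ ≤ X(c)`, `J` normalizes `X(c)_p` (`nil_type`), so `X(c)_p ≤ J`, and it is Sylow in `L`.
`A7r`: `p = 3`, `C_J(V)` centralizes each `K(c)`; `J₀` is generated by some of the `K(c)`, so
(`nine`) `J₀ = K(c)` (`J₀ = 1` contradicts maximality); `N' = (K(c) ⊔ Y) J`.
-/

set_option autoImplicit false
set_option linter.unusedSectionVars false
set_option linter.unusedVariables false

namespace Cfsg.GW

open Subgroup Cfsg.Agent.FT
open scoped commutatorElement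

universe u

variable {G : Type u} [Group G] [Finite G] {N L M S : Subgroup G} {a n q p : ℕ} {u v x s t : G}

theorem IsD8.le_K (h : IsD8 N) (ht : t ∈ N) (ho : orderOf t = 2) (hM : M ≤ N) {X : Subgroup G}
    (h1 : X ≤ M) (h2 : X ≤ 𝓒[t]) (hX : Odd (Nat.card X)) : X ≤ Kof M t :=
  (le_inf (le_core_of_npc (h.npc_cent ht ho) (le_inf (h1.trans hM) h2) hX) (le_inf h1 h2)).trans
    (piCoreOf_inf_le (inf_le_inf_right _ hM))

theorem IsD8.mem_K (h : IsD8 N) (ht : t ∈ N) (ho : orderOf t = 2) (hM : M ≤ N) {y : G} :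
    y ∈ Kof M t ↔ y ∈ M ∧ y ∈ 𝓒[t] ∧ Odd (orderOf y) :=
  ⟨fun hy => ⟨(piCoreOf_le _ hy).1, (piCoreOf_le _ hy).2, odd_orderOf (odd_core _) hy⟩,
    fun hy => h.le_K ht ho hM (zpowers_le.2 hy.1) (zpowers_le.2 hy.2.1)
      (by rw [Nat.card_zpowers]; exact hy.2.2) (mem_zpowers y)⟩

theorem le_norm_K {A : Subgroup G} (h1 : A ≤ 𝓝(L)) (h2 : A ≤ 𝓒[t]) : A ≤ 𝓝(Kof L t) :=
  le_norm_piCoreOf (le_normalizer_inf h1 (le_norm_cent1 h2))

theorem mem_norm_K {g : G} (h1 : g ∈ 𝓝(L)) (h2 : g ∈ 𝓒[t]) : g ∈ 𝓝(Kof L t) :=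
  le_norm_K (zpowers_le.2 h1) (zpowers_le.2 h2) (mem_zpowers g)

theorem notMem_of_odd {X : Subgroup G} (hX : Odd (Nat.card X)) (ho : orderOf t = 2) : t ∉ X :=
  fun h => absurd (ho ▸ odd_orderOf hX h) (by decide)

theorem mul_mem_of_two (hL : L.relIndex M = 2) {g y : G} (hg : g ∈ M) (hy : y ∈ M) (h1 : g ∉ L)
    (h2 : y ∉ L) : g * y ∈ L :=
  (mul_mem_iff_of_index_two (H := L.subgroupOf M) hL (a := ⟨g, hg⟩) (b := ⟨y, hy⟩)).2
    (iff_of_false h1 h2)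

theorem norm_of_two (hL : L.relIndex M = 2) (hle : L ≤ M) : M ≤ 𝓝(L) :=
  (normal_subgroupOf_iff_le_normalizer hle).1 (normal_of_index_eq_two hL)

theorem le_of_two (hL : L.relIndex M = 2) (hle : L ≤ M) {X : Subgroup G} (hX : X ≤ M)
    (ho : Odd (Nat.card X)) : X ≤ L :=
  le_of_coprime_relIndex hX (norm_of_two hL hle) (by rw [hL]; exact Nat.coprime_two_right.2 ho)

theorem IsD8.K_eq (h : IsD8 M) (hL : L.relIndex M = 2) (hle : L ≤ M) (ht : t ∈ M)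
    (ho : orderOf t = 2) : 𝐎(M ⊓ 𝓒[t]) = Kof L t :=
  le_antisymm (h.le_K ht ho hle (le_of_two hL hle (Kof_le M t) (odd_core _)) (Kof_le_cent M t)
    (odd_core _)) (h.le_K ht ho le_rfl ((Kof_le L t).trans hle) (Kof_le_cent L t) (odd_core _))

theorem relIndex_sup_invol (hn : t ∈ 𝓝(L)) (ho : orderOf t = 2) (hL : t ∉ L) :
    L.relIndex (L ⊔ zpowers t) = 2 := by
  rw [IsSdprod.relIndex_left ⟨rfl, zpowers_le.2 hn, eq_bot_iff.2 fun z hz => ?_⟩,
    Nat.card_zpowers, ho]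
  rcases eq_one_or_of_mul_self (mul_self_of_orderOf_eq_two ho) hz.2 with rfl | rfl
  exacts [one_mem _, (hL hz.1).elim]

theorem AS.norm (h : AS N L) : N ≤ 𝓝(L) := h.normal.norm

theorem AS.mem_of_eight (h : AS N L) (h8 : 8 ∣ Nat.card L) (ht : t ∈ N) (ho : orderOf t = 2) :
    t ∈ L := by
  refine le_of_coprime_relIndex (zpowers_le.2 ht) h.norm ?_ (mem_zpowers t)
  rw [Nat.card_zpowers, ho, Nat.prime_two.coprime_iff_not_dvd]
  intro e
  refine h.d8.1 ?_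
  rw [← card_mul_relIndex h.normal.le]
  exact Nat.mul_dvd_mul h8 e

theorem Simp.not_cyclic (h : Simp L) (hS : IsSylowOf 2 S L) : ¬ IsCyclic S := fun e =>
  h.not_sol (sol_of_npc (npc_of_cyclic hS e))

/-- An outer involution centralizes an inner one. -/
theorem AS.exists_inner (h : AS N L) (h2 : Simp L) (ht : t ∈ N) (ho : orderOf t = 2) :
    ∃ u ∈ L, IsFour t u := by
  by_cases hL : t ∈ L
  · obtain ⟨S, x, s, hd⟩ := h2.exists_dihOf hL ho
    exact ⟨s, hd.syl.le hd.s_mem, hd.isFour⟩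
  obtain ⟨S, hS, hle⟩ := exists_sylow_ge (isPElt_iff_isPGroup_zpowers.1 (isPElt_two_of_orderOf ho))
    (zpowers_le.2 ht)
  have h1 := meet_center_nil (nil_of_pgroup hS.pgroup) (h.normal.inf_left hS.le)
    (ne_bot_of_not_cyclic (h2.not_cyclic (hS.inf_normal h.normal)))
  obtain ⟨⟨z, hz⟩, hz2⟩ := exists_prime_orderOf_dvd_card' 2 ((IsSylowOf.self (p := 2)
    (hS.pgroup.to_le (inf_le_left.trans inf_le_left))).ne_bot_iff.1 h1)
  rw [← Subgroup.orderOf_coe] at hz2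
  exact ⟨z, hz.1.2, ho, hz2, hz.2 t (hle (mem_zpowers t)), fun e => hL (e ▸ hz.1.2)⟩

theorem AS.exists_dihOf (h : AS N L) (h2 : Simp L) (ht : t ∈ N) (hL : t ∉ L) (hu : u ∈ L)
    (h4 : IsFour t u) : ∃ S x s, DihOf (L ⊔ zpowers t) S x s u ∧ x * x = u ∧ x * s = t ∧ s ∈ L := by
  have hM : L ⊔ zpowers t ≤ N := sup_le h.normal.le (zpowers_le.2 ht)
  have hi := relIndex_sup_invol (h.norm ht) h4.ord_left hL
  obtain ⟨S, x, s, v, hd, e⟩ := (h.d8.of_le hM).exists_dihOf' h4 (mem_sup_right (mem_zpowers t))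
    (mem_sup_left hu)
  have hS := hd.syl.inf_normal (h.normal.mono le_sup_left hM)
  have htS : t ∈ S := hd.four_le (e ▸ left_mem_four t u)
  have h1 : Nat.card (S ⊓ L : Subgroup G) * 2 = Nat.card S := by
    rw [← card_mul_relIndex (inf_le_left : S ⊓ L ≤ S), inf_relIndex_left]
    congr 1
    refine ((Nat.dvd_prime Nat.prime_two).1 (hi ▸ relIndex_dvd_of_norm hd.syl.le
      (hM.trans h.norm))).resolve_left (fun e => hL (relIndex_eq_one.1 e htS)) |>.symm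
  have hx : x * x = v ∧ Nat.card S = 8 := hd.card_cases.resolve_left fun e =>
    h2.not_cyclic hS (cyclic_of_prime (by
      rw [show Nat.card (S ⊓ L : Subgroup G) = 2 by omega]; exact Nat.prime_two))
  have hxL : x ∉ L := fun e => h2.not_cyclic hS (by
    rw [← eq_of_le_of_card_le (zpowers_le.2 ⟨hd.x_mem, e⟩ : zpowers x ≤ S ⊓ L) (by
      rw [Nat.card_zpowers, (hd.card_eight hx.1).2.1]; omega)]
    infer_instance)
  have hxM := hd.syl.le hd.x_mem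
  have hv : v ∈ L := hx.1 ▸ mul_mem_of_two hi hxM hxM hxL hxL
  obtain rfl : v = u := by
    rcases h4.mem_four.1 (e ▸ left_mem_four v s) with e | e | e | e
    · exact (ne_one_of_ord hd.ord e).elim
    · exact (hL (e ▸ hv)).elim
    · exact e
    · exact (hL ((mul_mem_cancel_right hu).1 (e ▸ hv))).elim
  refine ⟨S, x, x⁻¹ * t, hd.of_notMem (mul_mem (inv_mem hd.x_mem) htS) fun e => ?_, hx.1,
    mul_inv_cancel_left x t, mul_mem_of_two hi (inv_mem hxM) (hd.syl.le htS) (by simpa) hL⟩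
  exact h4.ne (hd.eq_t ((mul_mem_cancel_left (inv_mem (mem_zpowers x))).1 e) h4.ord_left)

/-- The count of pairs of an inner and an outer involution. -/
theorem count_outer (h : DihOf M S x s u) (hx : x * x = u) (hL : L.relIndex M = 2) (hle : L ≤ M)
    (hu : u ∈ L) (ht : x * s ∉ L) (h1 : ∃ g ∈ M, g * u * g⁻¹ = s)
    (hinv : ∀ y ∈ Kof L u, s * y * s⁻¹ = y⁻¹) {k : ℕ} (hk : Nat.card (Kof L u) = k)
    (hc : Nat.card L = 4 * k * n * (2 * k + n)) :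
    Nat.card (Kof L (x * s)) = Nat.card (Kof L u ⊓ 𝓒[x * s] : Subgroup G) * n := by
  have h8 := h.isD8
  have h4 := h.swap.isFour
  have htM := h.syl.le h.swap.s_mem
  have e := count_two h hx h1 fun g hg e =>
    ht (e ▸ (mem_normalizer_iff.1 (norm_of_two hL hle hg) u).1 hu)
  have e1 := h.sdprod.card
  rw [h8.K_eq hL hle (hle hu) h.ord] at e e1
  rw [h8.K_eq hL hle htM h4.ord_right] at e
  have e2 : Kof L (x * s) ⊓ 𝓒[u] = Kof L u ⊓ 𝓒[x * s] := by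
    ext y
    simp only [mem_inf, h8.mem_K htM h4.ord_right hle, h8.mem_K (hle hu) h.ord hle]
    tauto
  have c1 := card_mul_relIndex (inf_le_left : M ⊓ 𝓒[u] ≤ M)
  have c2 := card_mul_relIndex (inf_le_left : Kof L u ⊓ 𝓒[s] ≤ _)
  have c3 := card_mul_relIndex (inf_le_left : Kof L u ⊓ 𝓒[x * s] ≤ _)
  have c4 := card_mul_relIndex (inf_le_left : Kof L (x * s) ⊓ 𝓒[u] ≤ _)
  rw [inf_relIndex_left] at c1 c2 c3 c4
  rw [cent_eq_bot_of_inv (odd_core _) hinv, card_bot, one_mul] at c2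
  rw [← e1, (h.card_eight hx).1, ← card_mul_relIndex hle, hL, hc] at c1
  rw [c2, ← c4, e2] at e
  rw [← c4, e2]
  rw [hk] at c1 c3 e
  have k0 : 0 < k := hk ▸ Nat.card_pos
  congr 1
  generalize (𝓒[u] : Subgroup G).relIndex (Kof L (x * s)) = w at e
  have e3 : n * (2 * k + n) = w * (2 * k + w) := by
    refine Nat.eq_of_mul_eq_mul_left (show 0 < 8 * k by omega) ?_
    linear_combination 8 * e + 16 * k * w * c3 - c1
  exact le_antisymm (not_lt.1 fun h => by nlinarith) (not_lt.1 fun h => by nlinarith)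

theorem TTr.ge_of_odd {T X : Subgroup G} (h : TTr L n T) (h0 : 0 < n) (hX : X ≤ L ⊓ 𝓝(T))
    (ho : Odd (Nat.card X)) : X ≤ T := by
  have h1 : T ≤ L ⊓ 𝓝(T) := le_inf h.cc.1 le_normalizer
  refine le_of_two (Nat.eq_of_mul_eq_mul_left h0 ?_) h1 hX ho
  rw [← h.card, card_mul_relIndex h1, h.card_norm, h.card, mul_comm]

theorem L2r.not_eight (h : AS N L) (h2 : L2r L a n q) (ht : t ∈ N) (ho : orderOf t = 2)
    (hL : t ∉ L) (hu : u ∈ L) (ou : orderOf u = 2) : a = 2 * Nat.card (Kof L u) :=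
  ((h2.card_K hu ou).resolve_right fun e => hL (h.mem_of_eight e.2 ht ho)).1

theorem AS.outer (h : AS N L) (h2 : L2r L a n q) (ht : t ∈ N) (ho : orderOf t = 2) (hL : t ∉ L) :
    TTr L n (Kof L t) ∧ Nat.card (L ⊓ 𝓒[t] : Subgroup G) = 2 * n := by
  obtain ⟨u, hu, h4⟩ := h.exists_inner h2.toSimp ht ho
  obtain ⟨S, x, s, hd, hx, rfl, hs⟩ := h.exists_dihOf h2.toSimp ht hL hu h4
  obtain ⟨a2, on, oq, an, aq, nq, n3⟩ := h2.arith
  have ha := h2.not_eight h ht ho hL hu hd.ord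
  have e := count_outer (n := n) hd hx (relIndex_sup_invol (h.norm ht) ho hL) le_sup_left hu hL
    (let ⟨g, hg, e⟩ := h2.one u hu s hs hd.ord hd.isFour.ord_right; ⟨g, mem_sup_left hg, e⟩)
    (h2.inv u hu s hs hd.isFour) rfl (by rw [h2.card, h2.hq, ha]; ring)
  have hc : Nat.card (Kof L u ⊓ 𝓒[x * s] : Subgroup G) ∣ a :=
    ha ▸ (card_dvd_of_le inf_le_left).mul_left 2
  generalize x * s = t at *
  have hW : Kof L t ≠ ⊥ := fun e0 => by
    rw [e0, card_bot] at e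
    have := Nat.eq_one_of_mul_eq_one_left e.symm
    omega
  have hF := (fittingOf_le (Kof L t)).trans (Kof_le L t)
  have hn : L ⊓ 𝓒[t] ≤ 𝓝(fittingOf (Kof L t)) ⊓ 𝓝(L) :=
    le_inf ((piCoreOf_normalOf _ _).norm.trans (norm_le_norm_fittingOf _))
      (inf_le_left.trans le_normalizer)
  have hF0 := fittingOf_ne_bot (sol_of_odd (odd_core _)) hW
  have hFd := card_dvd_of_le (fittingOf_le (Kof L t))
  rcases h2.nil_type hF hF0 ((odd_core _).of_dvd_nat hFd) (fittingOf_nil _) with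
    ⟨w, hw, ow, -, h3⟩ | ⟨T, hT, -, h3⟩ | ⟨Q, hQ, h3, -⟩
  · have h5 := card_dvd_of_le (le_inf (Kof_le L t) (((piCoreOf_le _).trans hn).trans h3))
    rw [h2.card_cent w hw ow, e] at h5
    have := Nat.eq_one_of_dvd_coprimes ((Nat.coprime_two_left.2 on).mul_left an)
      ((Dvd.intro_left _ rfl).trans h5) dvd_rfl
    omega
  · have h5 : L ⊓ 𝓒[t] ≤ L ⊓ 𝓝(T) := le_inf inf_le_left (hn.trans h3)
    have h6 := hT.ge_of_odd (by omega) ((piCoreOf_le _).trans h5) (odd_core _)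
    have h7 : Kof L t = T := eq_of_le_of_card_le h6 (by
      rw [e, hT.card]; exact Nat.le_mul_of_pos_left _ Nat.card_pos)
    refine ⟨h7 ▸ hT, Nat.dvd_antisymm (hT.card_norm ▸ card_dvd_of_le h5)
      ((Nat.coprime_two_left.2 on).mul_dvd_of_dvd_of_dvd ?_ ?_)⟩
    · exact h4.ord_right ▸ (L ⊓ 𝓒[t]).orderOf_dvd_natCard ⟨hu, mem_cent1.2 h4.comm.symm.eq⟩
    · rw [← hT.card, ← h7]; exact card_dvd_of_le (piCoreOf_le _)
  · refine (hF0 (card_eq_one.1 (Nat.eq_one_of_dvd_coprimes (aq.mul_left nq) (hFd.trans ?_)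
      (hQ.card ▸ card_dvd_of_le h3)))).elim
    exact e ▸ Nat.mul_dvd_mul_right hc n

/-- The centralizer in `L` of a four-group is a `2`-group. -/
theorem AS.eq_one (h : AS N L) (h2 : L2r L a n q) (ht : t ∈ N) (hs : s ∈ N) (h4 : IsFour t s)
    {y : G} (hy : y ∈ L) (ho : Odd (orderOf y)) (h1 : y ∈ 𝓒[t]) (h3 : y ∈ 𝓒[s]) : y = 1 := by
  have key : ∀ {u v}, u ∈ L → v ∈ N → IsFour u v → y ∈ 𝓒[u] → y ∈ 𝓒[v] → y = 1 := by
    intro u v hu hv h4 h1 h3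
    by_cases hL : v ∈ L
    · exact eq_one_of_odd ho (h4.mul_self (h2.cent_four hu hL h4 ▸ ⟨hy, cent_four u v ▸ ⟨h1, h3⟩⟩))
    by_contra h0
    refine notMem_of_odd (odd_core (L ⊓ 𝓒[v])) h4.ord_left ?_
    rw [← Kof, ← (h.outer h2 hv h4.ord_right hL).1.cc.2 y
      ((h.d8.mem_K hv h4.ord_right h.normal.le).2 ⟨hy, h3, ho⟩) h0]
    exact ⟨hu, mem_cent1.2 (mem_cent1.1 h1).symm⟩
  rcases h.d8.exists_mem_four h4 ht hs h.normal (by
    rw [h2.card, mul_assoc, mul_assoc]; simp) with e | e | e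
  · exact key e hs h4 h1 h3
  · exact key e ht h4.symm h3 h1
  · exact key e ht h4.mul.symm
      (mem_cent1.2 (Commute.mul_right (mem_cent1.1 h1) (mem_cent1.1 h3)).eq) h1

theorem AS.inv_K (h : AS N L) (h2 : L2r L a n q) (ht : t ∈ N) (hs : s ∈ N) (h4 : IsFour t s) :
    ∀ y ∈ Kof L t, s * y * s⁻¹ = y⁻¹ :=
  inv_of_cent_eq_bot (odd_core _) h4.ss (mem_norm_K (h.norm hs) (mem_cent1.2 h4.comm.symm.eq))
    (eq_bot_iff.2 fun y hy => h.eq_one h2 ht hs h4 (Kof_le L t hy.1) (odd_orderOf (odd_core _) hy.1)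
      (Kof_le_cent L t hy.1) hy.2)

theorem AS.cyc_K (h : AS N L) (h2 : L2r L a n q) (ht : t ∈ N) (ho : orderOf t = 2) :
    IsCyclic (Kof L t) := by
  by_cases hL : t ∈ L
  exacts [h2.cycK t hL ho, (h.outer h2 ht ho hL).1.cyc]

/-- An element of odd order centralizing an inner four-group acts faithfully on `K(v)`. -/
theorem AS.faith (h : AS N L) (h2 : L2r L a n q) (hv : v ∈ L) (hs : s ∈ L) (h4 : IsFour v s)
    {b : G} (hb : b ∈ N) (ho : Odd (orderOf b)) (hc : four v s ≤ 𝓒[b]) (hK : Kof L v ≤ 𝓒[b]) :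
    b = 1 := by
  obtain ⟨S, x, hd⟩ := h2.exists_dihOf hv hs h4
  have := h2.lemmaZ hv h4.ord_left (h.norm hb) ho (hd.sdprod.sup ▸ sup_le hK
    ((le_inf hd.syl.le hd.le_norm_four).trans (h2.cent_norm_four hv hs h4 (h.norm hb) ho hc)))
  exact mem_bot.1 (h.cent ▸ ⟨hb, le_cent1_iff.1 this⟩)

theorem mem_of_inv {z : G} (hz : z ∈ 𝓝(L)) (ho : Odd (orderOf z)) (hs : s ∈ L)
    (h : s * z * s⁻¹ = z⁻¹) : z ∈ L := by
  have h1 : z * z ∈ L := by
    have := mul_mem ((mem_normalizer_iff''.1 hz _).1 hs) (inv_mem hs)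
    rw [mul_assoc, mul_assoc, ← mul_assoc s, h, ← mul_inv_rev] at this
    exact inv_mem_iff.1 this
  obtain ⟨w, ⟨i, rfl⟩, e⟩ := exists_sqrt ho
  rw [← e, ← pow_two, ← zpow_natCast, ← zpow_mul, mul_comm, zpow_mul, zpow_natCast, pow_two]
  exact zpow_mem h1 i

theorem AS.comm_le (h : AS N L) (h2 : A7r L ∨ ∃ a n q, L2r L a n q) (ht : t ∈ N)
    (ho : orderOf t = 2) : ⁅N, zpowers t⁆ ≤ L := by
  by_cases hL : t ∈ L
  · exact (comm_mono le_rfl (zpowers_le.2 hL)).trans (comm_le_right h.norm)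
  obtain ⟨a, n, q, h2⟩ := h2.resolve_left fun e => hL (h.mem_of_eight e.eight ht ho)
  obtain ⟨u, hu, h4⟩ := h.exists_inner h2.toSimp ht ho
  obtain ⟨S, x, s, hd, hx, e, hs⟩ := h.exists_dihOf h2.toSimp ht hL hu h4
  have hi := relIndex_sup_invol (h.norm ht) ho hL
  have hM : L ⊔ zpowers t ≤ N := sup_le h.normal.le (zpowers_le.2 ht)
  have huN := h.normal.le hu
  have hsN := h.normal.le hs
  have hd' : DihOf N S x s u := ⟨hd.syl.of_relIndex hM fun e => h.d8.1 (by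
    rw [← card_mul_relIndex hM]
    exact Nat.mul_dvd_mul ((hd.card_eight hx).1 ▸ card_dvd_of_le hd.syl.le) e), hd.pair, hd.ord,
    hd.cases⟩
  have nO : ∀ {g}, g ∈ N → g ∈ 𝓒[u] → g ∈ 𝓝(Kof N u) := fun h1 h2 =>
    (piCoreOf_normalOf _ _).norm ⟨h1, h2⟩
  have key : N ≤ 𝓝(L ⊔ zpowers t) := fun g hg => by
    obtain ⟨l, hl, e1⟩ := h2.one u hu _ (h.normal.conj_mem hg hu) hd.ord
      ((orderOf_conj_eq g u).trans hd.ord)
    rw [← mul_inv_cancel_left l g]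
    refine mul_mem (le_normalizer (mem_sup_left hl)) ((?_ : N ⊓ 𝓒[u] ≤ _)
      ⟨N.mul_mem (N.inv_mem (h.normal.le hl)) hg, mem_cent1.2 ?_⟩)
    · rw [← hd'.sdprod.sup]
      refine sup_le (fun y hy => ?_) (hd.syl.le.trans le_normalizer)
      obtain ⟨c, hc, z, hz, c1, z1, rfl⟩ := exists_cent_mul_inv (odd_core _) hd.isFour.ss
        (nO hsN (hd.le_cent hd.s_mem)) hy
      refine mul_mem (le_normalizer_sup (zpowers_le.2 (h.norm (Kof_le N u hc))) (zpowers_le.2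
        (cent1_le_norm_zpowers t ?_)) (mem_zpowers c)) (le_normalizer (mem_sup_left
          (mem_of_inv (h.norm (Kof_le N u hz)) (odd_orderOf (odd_core _) hz) hs z1)))
      have h5 : ⁅c, t⁆ ∈ Kof N u := comm_le_left (zpowers_le.2 (nO ht (mem_cent1.2 h4.comm.eq)))
        (commutator_mem_commutator hc (mem_zpowers t))
      have h6 := h.faith h2 hu hs hd.isFour (Kof_le N u h5) (odd_orderOf (odd_core _) h5) ?_
        (le_cent1_iff.2 (comm_le_cent_of_inv (h.inv_K h2 huN ht h4.symm) (zpowers_le.2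
          (mem_norm_K (h.norm (Kof_le N u hc)) (Kof_le_cent N u hc)))
            (commutator_mem_commutator (mem_zpowers c) (mem_zpowers t))))
      · exact mem_cent1.2 (commutatorElement_eq_one_iff_mul_comm.1 h6)
      · refine le_cent1_iff.2 (comm_le_left (le_norm_cent (zpowers_le.2 (hd.le_norm_four
          (e ▸ hd.swap.s_mem)))) (commutator_mem_commutator ?_ (mem_zpowers t)))
        exact cent_four u s ▸ ⟨Kof_le_cent N u hc,
          mem_cent1.2 (mul_inv_eq_iff_eq_mul.1 c1).symm⟩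
    · calc l⁻¹ * g * u = l⁻¹ * (g * u * g⁻¹) * g := by group
        _ = _ := by rw [← e1]; group
  refine comm_le_iff.2 fun g hg z hz => ?_
  rcases eq_one_or_of_mul_self (mul_self_of_orderOf_eq_two ho) hz with rfl | rfl
  · simp
  · exact mul_mem_of_two hi ((mem_normalizer_iff.1 (key hg) _).1 (mem_sup_right hz))
      (inv_mem (mem_sup_right hz)) (fun e => hL ((mem_normalizer_iff.1 (h.norm hg) _).2 e))
      (by simpa)

theorem cyc_index [hp' : Fact p.Prime] (hp : p ≠ 2) {K : Subgroup G} (hK : IsCyclic K) {b : G}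
    (hb : orderOf b = p) (hn : b ∈ 𝓝(K)) (hc : piCoreOf {p}ᶜ K ≤ 𝓒[b]) (h : ¬ K ≤ 𝓒[b]) :
    Nat.card (K ⊓ 𝓒[b] : Subgroup G) * p = Nat.card K ∧ p ∣ Nat.card (K ⊓ 𝓒[b] : Subgroup G) := by
  obtain ⟨y, hy⟩ := exists_zpowers_eq (cyclic_of_le hK (piCoreOf_le (π := {p}) K))
  obtain ⟨e, he⟩ := (pgroup_piCoreOf p K).exists_card_eq
  have h1 := le_norm_piCoreOf (π := {p}) (zpowers_le.2 hn) (mem_zpowers b)
  have hP := (nil_dprod (nil_of_comm (comm_of_cyclic hK)) {p}).isProd.symm.mono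
    (le_inf (piCoreOf_le _) hc) inf_le_left le_rfl (piCoreOf_le _)
  have hyK := piCoreOf_le (π := {p}) K
  rw [hy] at he h1 hP hyK
  rw [Nat.card_zpowers] at he
  obtain ⟨r, hr⟩ := (mem_normalizer_iff.1 h1 y).1 (mem_zpowers y)
  have h2 : ∀ k : ℕ, b ^ k * y * (b ^ k)⁻¹ = y ^ r ^ k := fun k => by
    induction k with
    | zero => simp
    | succ k ih =>
      rw [pow_succ r, mul_comm, zpow_mul, show y ^ r = _ from hr, conj_zpow, ← ih, pow_succ']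
      group
  have h3 := h2 p
  rw [← hb, pow_orderOf_eq_one, one_mul, inv_one, mul_one, hb, eq_comm, ← mul_inv_eq_one,
    ← zpow_sub_one, ← orderOf_dvd_iff_zpow_eq_one, he, Nat.cast_pow] at h3
  have h4 := pow_dvd_mul_sub_one hp h3
  rw [← Nat.cast_pow, ← he, orderOf_dvd_iff_zpow_eq_one, sub_mul, one_mul, zpow_sub, mul_inv_eq_one,
    zpow_mul, show y ^ r = _ from hr, zpow_natCast, zpow_natCast, _root_.conj_pow,
    mul_inv_eq_iff_eq_mul] at h4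
  have h5 : (zpowers (y ^ p)).relIndex (zpowers y) ∣ p := by
    have := card_mul_relIndex (zpowers_le.2 (pow_mem (mem_zpowers y) p))
    rw [Nat.card_zpowers, Nat.card_zpowers, orderOf_pow' _ hp'.out.ne_zero] at this
    rw [Nat.eq_of_mul_eq_mul_left (Nat.div_pos (Nat.gcd_le_left _ (orderOf_pos y))
      (Nat.gcd_pos_of_pos_left _ (orderOf_pos y)))
      (this.trans (Nat.div_mul_cancel (Nat.gcd_dvd_left _ _)).symm)]
    exact Nat.gcd_dvd_right _ _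
  have h6 := ((Nat.dvd_prime hp'.out).1 (hP.relIndex_eq ▸ (relIndex_dvd_of_le_left _ (zpowers_le.2
    (mem_inf.2 ⟨hyK (pow_mem (mem_zpowers y) p), mem_cent1.2 h4.symm⟩))).trans h5)).resolve_left
      fun e => h ((relIndex_eq_one.1 e).trans inf_le_right)
  have h7 := card_mul_relIndex (inf_le_left : K ⊓ 𝓒[b] ≤ K)
  rw [h6] at h7
  have h8 := card_omegaOne_cyclic hK (h7 ▸ Dvd.intro_left _ rfl)
  refine ⟨h7, h8 ▸ card_dvd_of_le (le_inf (omegaOne_le K) (le_cent1_iff.2 ?_))⟩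
  exact pgroup_cent_of_card_dvd (pgroup_of_card ((Nat.card_zpowers b).trans hb))
    (le_norm_omegaOne (zpowers_le.2 hn)) h8.dvd (mem_zpowers b)

theorem IsD8.K_inf (h : IsD8 N) (ht : t ∈ N) (ho : orderOf t = 2) (hL : L ≤ N) (H : Subgroup G) :
    Kof (L ⊓ H) t = Kof L t ⊓ H := by
  ext y
  simp only [mem_inf, h.mem_K ht ho hL, h.mem_K ht ho (inf_le_left.trans hL)]
  tauto

/-- The centralizer in `L` of an element of odd order centralizing an inner four-group. -/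
theorem AS.sub (h : AS N L) (h2 : L2r L a n q) (hd : DihOf L S x s u) {b : G} (hb : b ∈ N)
    (ho : Odd (orderOf b)) (hc : four u s ≤ 𝓒[b]) :
    (∃ g ∈ L ⊓ 𝓒[b], g * u * g⁻¹ = s) ∧ 2 * a = Nat.card (Kof L u) * Nat.card S ∧
      ∃ a₀ n₀ q₀ : ℕ, 2 * a₀ = Nat.card (Kof L u ⊓ 𝓒[b] : Subgroup G) * Nat.card S ∧
        (n₀ = a₀ + 1 ∨ n₀ + 1 = a₀) ∧ q₀ = a₀ + n₀ ∧
          Nat.card (L ⊓ 𝓒[b] : Subgroup G) = 2 * a₀ * n₀ * q₀ ∧ IsPrimePow q₀ := by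
  have hu := hd.syl.le hd.t_mem'
  have key : ∀ s, DihOf L S x s u → four u s ≤ 𝓒[b] →
      S ≤ 𝓒[b] ∧ ∃ g ∈ L ⊓ 𝓒[b], g * u * g⁻¹ = s := fun s hd hc => by
    have hs := hd.syl.le hd.s_mem
    have h3 := h2.cent_norm_four hu hs hd.isFour (h.norm hb) ho hc
    obtain ⟨g, hg, e1, e2⟩ := hd.exists_rho (h2.one u hu s hs hd.ord hd.isFour.ord_right)
    exact ⟨(le_inf hd.syl.le hd.le_norm_four).trans h3, g, ⟨hg, h3 ⟨hg, hd.isFour.mem_norm
      (e1 ▸ right_mem_four u s) (e2 ▸ mul_mem_four u s)⟩⟩, e1⟩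
  obtain ⟨h3, h4⟩ := key s hd hc
  have hd' := hd.mono (le_inf hd.syl.le h3) inf_le_left
  have e := h.d8.K_inf (h.normal.le hu) hd.ord h.normal.le 𝓒[b]
  have i1 := h2.inv u hu s (hd.syl.le hd.s_mem) hd.isFour
  have i2 := h2.inv u hu _ (hd.syl.le hd.swap.s_mem) hd.swap.isFour
  obtain ⟨a₀, n₀, q₀, c1, c2⟩ := bsw_rel hd' (hd'.oneCl h4 (key _ hd.swap
    (hd.swap.four_le.trans h3)).2) (fun y hy => i1 y (e ▸ hy).1) (fun y hy => by
      have hy' := (Kof L u).inv_mem (e ▸ hy).1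
      have := i2 _ hy'
      rw [show x * s * y⁻¹ * (x * s)⁻¹ = x * (s * y⁻¹ * s⁻¹) * x⁻¹ by group, i1 _ hy', inv_inv,
        mul_inv_eq_iff_eq_mul] at this
      exact mem_cent1.2 this.symm)
    fun y hy y1 => (inf_le_inf_right _ inf_le_left).trans (h2.ti u hu hd.ord y (e ▸ hy).1 y1)
  exact ⟨h4, by rw [hd.sdprod.card, h2.card_cent u hu hd.ord], a₀, n₀, q₀,
    by rw [← e, hd'.sdprod.card, c1], c2⟩

theorem f3_inner {a₀ n₀ q₀ : ℕ} (hp : 3 ≤ p) (ha : a = a₀ * p) (h0 : 2 * p ≤ a₀)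
    (e : n = a + 1 ∨ n + 1 = a) (hq : q = a + n) (e₀ : n₀ = a₀ + 1 ∨ n₀ + 1 = a₀)
    (hq₀ : q₀ = a₀ + n₀) (h : q₀ ∣ n ∨ q₀ ∣ q) : False := by
  have h1 : q₀ * p = 2 * a + p ∨ q₀ * p + p = 2 * a := e₀.imp (fun e => by rw [hq₀, e, ha]; ring)
    fun e => by rw [hq₀, ha, ← e]; ring
  have h2 : ∀ m, q₀ ∣ m → q₀ * p < m + q₀ → m < q₀ * p + q₀ → m = q₀ * p := fun m ⟨c, hc⟩ h1 h2 => by
    rw [hc, ← Nat.mul_succ, Nat.mul_lt_mul_left (by omega)] at h1 h2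
    rw [hc, show c = p by omega]
  rcases h with h | h
  · have := h2 _ (h.mul_left 2); omega
  · have := h2 _ h; omega

theorem f3_outer {k k₀ n₀ q₀ : ℕ} (hp : 3 ≤ p) (hn : n = n₀ * p) (h0 : p ∣ n₀) (hk : p ∣ k - k₀)
    (hk' : k₀ < k) (e : n = 2 * k + 1 ∨ n + 1 = 2 * k) (hq : q = 2 * k + n)
    (e₀ : n₀ = 2 * k₀ + 1 ∨ n₀ + 1 = 2 * k₀) (hq₀ : q₀ = 2 * k₀ + n₀)
    (h : q₀ ∣ k ∨ q₀ ∣ n ∨ q₀ ∣ q) : False := by
  have h3 : p ≤ n₀ := Nat.le_of_dvd (by omega) h0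
  have h4 : p ∣ n - n₀ := Nat.dvd_sub (hn ▸ Dvd.intro_left _ rfl) h0
  have h5 := hk.mul_left 2
  have h1 : q₀ * p + p = 2 * n ∧ n = 2 * k + 1 ∧ q₀ + 1 = 2 * n₀ ∨
      q₀ * p = 2 * n + p ∧ n + 1 = 2 * k ∧ q₀ = 2 * n₀ + 1 := by
    rcases e with e | e <;> rcases e₀ with e₀ | e₀
    · exact .inl ⟨by rw [hq₀, hn, e₀]; ring, e, by omega⟩
    · have := Nat.le_of_dvd (by omega) (Nat.dvd_sub h4 h5); omega
    · have := Nat.le_of_dvd (by omega) (Nat.dvd_sub h5 h4); omega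
    · exact .inr ⟨by rw [hq₀, hn, ← e₀]; ring, e, by omega⟩
  have h2 : ∀ m, q₀ ∣ m → q₀ * p < m + q₀ → m < q₀ * p + q₀ → m = q₀ * p := fun m ⟨c, hc⟩ h1 h2 => by
    rw [hc, ← Nat.mul_succ, Nat.mul_lt_mul_left (by omega)] at h1 h2
    rw [hc, show c = p by omega]
  rcases h with h | h | h
  · have := h2 _ (h.mul_left 4); omega
  · have := h2 _ (h.mul_left 2); omega
  · have := h2 _ h; omega

theorem AS.f3 (h : AS N L) (h2 : L2r L a n q) (ht : t ∈ N) (ho : orderOf t = 2) {X : Subgroup G}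
    (hX : X ≤ N ⊓ 𝓒[t]) (hn : N ⊓ 𝓒[t] ≤ 𝓝(X)) (hnil : Group.IsNilpotent X)
    (hodd : Odd (Nat.card X)) : X ≤ Kof L t := by
  obtain ⟨u, hu, h4⟩ := h.exists_inner h2.toSimp ht ho
  have huN := h.normal.le hu
  refine h.d8.le_K ht ho h.normal.le (fun z hz => mem_of_inv (h.norm (hX hz).1)
    (odd_orderOf hodd hz) hu (inv_of_cent_eq_bot hodd h4.ss
      (hn ⟨huN, mem_cent1.2 h4.comm.symm.eq⟩) ?_ z hz)) (hX.trans inf_le_right) hodd
  by_contra h0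
  obtain ⟨b, ⟨hb, hbu⟩, hp⟩ := exists_prime_order_mem h0
  have ob := odd_orderOf hodd hb
  obtain ⟨hbN, hbt⟩ := hX hb
  have b1 : b ≠ 1 := fun e => hp.ne_one (orderOf_eq_one_iff.2 e)
  obtain ⟨p, e⟩ : ∃ p, orderOf b = p := ⟨_, rfl⟩
  have := Fact.mk (e ▸ hp)
  have p2 : p ≠ 2 := fun e' => by rw [e, e'] at ob; exact absurd ob (by decide)
  have p3 : 3 ≤ p := by have := (e ▸ hp).two_le; omega
  have nK : N ⊓ 𝓒[t] ≤ 𝓝(Kof L t) := le_norm_K (inf_le_left.trans h.norm) inf_le_right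
  have hK := h.cyc_K h2 ht ho
  have hc := cyc_index p2 hK e (nK ⟨hbN, hbt⟩) (le_cent_zpowers.1 (nil_cent_of_coprime
    (fittingOf_nil (N ⊓ 𝓒[t])) ((piCoreOf_le _).trans (IsNormalOf.le_fittingOf
      ⟨le_inf ((Kof_le L t).trans h.normal.le) (Kof_le_cent L t), nK⟩
        (nil_of_comm (comm_of_cyclic hK))))
    (zpowers_le.2 (IsNormalOf.le_fittingOf ⟨hX, hn⟩ hnil hb))
    (coprime_of_pgroup_of_not_dvd (pgroup_of_card ((Nat.card_zpowers b).trans e))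
      (not_dvd_piCoreOf p _))))
  obtain ⟨a2, on, oq, an, aq, nq, n3⟩ := h2.arith
  have symm : ∀ {c}, b ∈ 𝓒[c] → c ∈ 𝓒[b] := fun h => mem_cent1.2 (mem_cent1.1 h).symm
  have hLd := card_dvd_of_le (inf_le_left : L ⊓ 𝓒[b] ≤ L)
  by_cases hL : t ∈ L
  · obtain ⟨S, x, hd⟩ := h2.exists_dihOf hL hu h4
    have h5 := four_le_iff.2 ⟨symm hbt, symm hbu⟩
    obtain ⟨-, c1, a₀, n₀, q₀, c2, c3, c4, c5, c6⟩ := h.sub h2 hd hbN ob h5
    obtain ⟨c7, c8⟩ := hc fun e => b1 (h.faith h2 hL hu h4 hbN ob h5 e)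
    have ha : a = a₀ * p := Nat.eq_of_mul_eq_mul_left two_pos (by
      rw [c1, ← c7, ← mul_assoc, c2]; ring)
    have h6 : p * 4 ∣ 2 * a₀ := c2 ▸ Nat.mul_dvd_mul c8 (h4.card ▸ card_dvd_of_le hd.four_le)
    have h7 : p ∣ a₀ := let ⟨c, hc⟩ := h6; ⟨2 * c, by linarith⟩
    have a0 : 0 < a₀ := Nat.pos_of_ne_zero fun e => by
      rw [ha, e, zero_mul, Nat.coprime_zero_left] at an; omega
    refine f3_inner p3 ha (by have := Nat.le_of_dvd (by omega) h6; omega) h2.eps h2.hq c3 c4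
      ((nq.isPrimePow_dvd_mul c6).1 (Nat.Coprime.dvd_of_dvd_mul_left (m := p) ?_
        ((Dvd.intro_left n₀ rfl).trans (Nat.dvd_of_mul_dvd_mul_left (show 0 < 2 * a₀ by omega) ?_))))
    · refine (this.out.coprime_iff_not_dvd.2 fun e => this.out.not_dvd_one ?_).symm
      rcases c3 with c3 | c3
      · exact (Nat.dvd_add_right (h7.add h7)).1 (by rwa [c4, c3, ← add_assoc] at e)
      · exact (Nat.dvd_add_right e).1 (by rw [c4, add_assoc, c3]; exact h7.add h7)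
    · rw [c5, h2.card, ha] at hLd
      convert hLd using 1 <;> ring
  obtain ⟨S, x, s, hd, hx, rfl, hs⟩ := h.exists_dihOf h2.toSimp ht hL hu h4
  have hsN := h.normal.le hs
  have hbK := (h.d8.mem_K huN hd.ord le_rfl).2 ⟨hbN, hbu, ob⟩
  have hbs : b ∈ 𝓒[s] := by
    have h5 := commutator_mem_commutator (mem_zpowers b) (mem_zpowers s)
    have h6 := comm_le_left (zpowers_le.2 ((piCoreOf_normalOf _ _).norm
      (⟨hsN, hd.le_cent hd.s_mem⟩ : s ∈ N ⊓ 𝓒[u]))) (commutator_mem_commutator hbK (mem_zpowers s))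
    have h7 := comm_le_left (le_norm_cent (zpowers_le.2 (hd.swap.le_norm_four hd.s_mem)))
      (commutator_mem_commutator ((cent_four u _).ge ⟨hbu, hbt⟩) (mem_zpowers s))
    rw [cent_four] at h7
    exact mem_cent1.2 (commutatorElement_eq_one_iff_mul_comm.1 (h.eq_one h2 ht huN h4
      (comm_le_right h.norm (commutator_mem_commutator hbN hs))
      (odd_orderOf (odd_core _) h6) h7.2 h7.1))
  obtain ⟨S', x', hd'⟩ := h2.exists_dihOf hu hs hd.isFour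
  have h5 := four_le_iff.2 ⟨symm hbu, symm hbs⟩
  obtain ⟨⟨g, hg, e1⟩, c1, a₀, n₀, q₀, c2, c3, c4, c5, c6⟩ := h.sub h2 hd' hbN ob h5
  have ha := h2.not_eight h ht ho hL hu hd.ord
  have k0 : 0 < Nat.card (Kof L u) := Nat.card_pos
  rw [show Nat.card S' = 4 from Nat.eq_of_mul_eq_mul_left k0 (by omega)] at c2
  have hs0 : s ∈ L ⊓ 𝓒[b] ⊔ zpowers (x * s) := mem_sup_left ⟨hs, symm hbs⟩
  have e2 := h.d8.K_inf huN hd.ord h.normal.le 𝓒[b]
  have c := count_outer (n := n₀) (L := L ⊓ 𝓒[b])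
    (hd.mono (hd.eq_sup.le.trans (sup_le (zpowers_le.2
    ((mul_mem_cancel_right hs0).1 (mem_sup_right (mem_zpowers _)))) (zpowers_le.2 hs0)))
    (sup_le_sup_right inf_le_left _)) hx (relIndex_sup_invol (le_normalizer_inf (zpowers_le.2
      (h.norm ht)) (le_norm_cent1 (zpowers_le.2 (symm hbt))) (mem_zpowers _)) ho fun e => hL e.1)
    le_sup_left ⟨hu, symm hbu⟩ (fun e => hL e.1) ⟨g, mem_sup_left hg, e1⟩
    (fun y hy => h2.inv u hu s hs hd.isFour y (e2 ▸ hy).1) (k := Nat.card (Kof L u ⊓ 𝓒[b] : Subgroup G))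
    (by rw [e2])
    (by rw [c5, c4, show a₀ = 2 * Nat.card (Kof L u ⊓ 𝓒[b] : Subgroup G) by omega]; ring)
  rw [e2, h.d8.K_inf ht ho h.normal.le, inf_right_comm, cent_eq_bot_of_inv (odd_core _)
    (h.inv_K h2 huN ht h4.symm), bot_inf_eq, card_bot, one_mul] at c
  have c7 := (h.outer h2 ht ho hL).1.card
  have c8 := card_mul_relIndex (inf_le_left : Kof L u ⊓ 𝓒[b] ≤ _)
  have c9 : (Kof L u ⊓ 𝓒[b]).relIndex (Kof L u) ≠ 1 := fun e =>
    b1 (h.faith h2 hu hs hd.isFour hbN ob h5 ((relIndex_eq_one.1 e).trans inf_le_right))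
  have c10 := Nat.odd_iff.1 ((odd_core (L ⊓ 𝓒[u])).of_dvd_nat (Dvd.intro_left _ c8))
  have c11 := (semiPrime_of_prime (K := Kof L u) ((Nat.card_zpowers b).symm ▸ hp)).card_dvd
    (zpowers_le.2 (mem_norm_K (h.norm hbN) hbu))
  have k1 : 0 < Nat.card (Kof L u ⊓ 𝓒[b] : Subgroup G) := Nat.card_pos
  have c12 := Nat.mul_le_mul_left (Nat.card (Kof L u ⊓ 𝓒[b] : Subgroup G))
    (show 3 ≤ (Kof L u ⊓ 𝓒[b]).relIndex (Kof L u) by omega)
  have eps := h2.eps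
  rw [Nat.card_zpowers, e, centralizer_zpowers] at c11
  obtain ⟨c13, c14⟩ := hc fun e => by
    rw [inf_eq_left.2 e] at c
    omega
  rw [c] at c13 c14
  refine f3_outer p3 (c7 ▸ c13.symm) c14 c11 (by omega) (ha ▸ eps) (ha ▸ h2.hq) (by omega)
    (by omega : q₀ = _) ?_
  have h6 : q₀ ∣ 2 ^ 2 * (Nat.card (Kof L u) * (n * q)) := by
    rw [c5, h2.card, ha] at hLd
    refine (Dvd.intro_left _ rfl).trans (hLd.trans (dvd_of_eq (by ring)))
  exact ((((an.mul_right aq).coprime_dvd_left (Dvd.intro_left 2 ha.symm)).isPrimePow_dvd_mul c6).1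
    (((Nat.coprime_two_right.2 (Nat.odd_iff.2 (by omega))).pow_right 2).dvd_of_dvd_mul_left
      h6)).imp_right (nq.isPrimePow_dvd_mul c6).1

theorem odd_of_pgroup [hp : Fact p.Prime] (h2 : p ≠ 2) {Y : Subgroup G} (hY : IsPGroup p Y) :
    Odd (Nat.card Y) := by
  obtain ⟨k, hk⟩ := hY.exists_card_eq
  exact hk ▸ (hp.out.odd_of_ne_two h2).pow

theorem AS.star [Fact p.Prime] (h : AS N L) (h2 : A7r L ∨ ∃ a n q, L2r L a n q) (ht : t ∈ N)
    (ho : orderOf t = 2) (hp : p ≠ 2) {Y : Subgroup G} (hY : Y ≤ N) (hYp : IsPGroup p Y)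
    (hn : N ⊓ 𝓒[t] ≤ 𝓝(Y)) : Y ≤ 𝓒[t] := by
  have htY : t ∈ 𝓝(Y) := hn ⟨ht, mem_cent1.2 rfl⟩
  have h1 := comm_le_left (zpowers_le.2 htY)
  have hL : ⁅Y, zpowers t⁆ ≤ L := (comm_mono hY le_rfl).trans (h.comm_le h2 ht ho)
  have hn' : N ⊓ 𝓒[t] ≤ 𝓝(⁅Y, zpowers t⁆) :=
    le_norm_comm hn (inf_le_right.trans (cent1_le_norm_zpowers t))
  have hodd := odd_of_pgroup hp (hYp.to_le h1)
  suffices H : ⁅Y, zpowers t⁆ ≤ 𝓒[t] by
    rw [← le_cent_zpowers, le_cent_iff_comm] at H ⊢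
    rwa [comm_comm_eq (odd_of_pgroup hp hYp) (mul_self_of_orderOf_eq_two ho) htY] at H
  have hnil := nil_of_pgroup (hYp.to_le h1)
  generalize ⁅Y, zpowers t⁆ = X at hL hn' hodd hnil
  rcases h2 with h2 | ⟨a, n, q, h2⟩
  · have htL := h.mem_of_eight h2.eight ht ho
    obtain ⟨s, hs, h4, hK⟩ := h2.cent t htL ho
    have key : ∀ v ∈ L, orderOf v = 2 → Kof L t ≤ 𝓒[v] → X ⊓ 𝓒[v] ≤ 𝓒[t] := fun v hv ov hK =>
      (h2.d8.le_K hv ov le_rfl (inf_le_left.trans hL) inf_le_right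
        (hodd.of_dvd_nat (card_dvd_of_le inf_le_left))).trans ((eq_of_le_of_card_le
          (h2.d8.le_K hv ov le_rfl (Kof_le L t) hK (odd_core _))
            (by rw [h2.cardK v hv ov, h2.cardK t htL ho])).ge.trans (Kof_le_cent L t))
    exact le_of_four hodd h4 (hn' ⟨ht, mem_cent1.2 rfl⟩)
      (hn' ⟨h.normal.le hs, mem_cent1.2 h4.comm.symm.eq⟩) inf_le_right (key s hs h4.ord_right hK)
      (key _ (mul_mem htL hs) h4.mul.ord_right fun y hy => mem_cent1.2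
        (Commute.mul_right (mem_cent1.1 (Kof_le_cent L t hy)) (mem_cent1.1 (hK hy))).eq)
  by_cases h0 : X = ⊥
  · exact h0 ▸ bot_le
  obtain ⟨a2, on, oq, an, aq, nq, n3⟩ := h2.arith
  have hN : N ⊓ 𝓒[t] ≤ 𝓝(X) ⊓ 𝓝(L) := le_inf hn' (inf_le_left.trans h.norm)
  have hN' : L ⊓ 𝓒[t] ≤ 𝓝(X) ⊓ 𝓝(L) := (inf_le_inf_right _ h.normal.le).trans hN
  have hc : Nat.card (L ⊓ 𝓒[t] : Subgroup G) = 2 * a ∧ t ∈ L ∨
      Nat.card (L ⊓ 𝓒[t] : Subgroup G) = 2 * n ∧ TTr L n (Kof L t) := by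
    by_cases htL : t ∈ L
    exacts [.inl ⟨h2.card_cent t htL ho, htL⟩, .inr (h.outer h2 ht ho htL).symm]
  rcases h2.nil_type hL h0 hodd hnil with ⟨w, hw, ow, h3, h4⟩ | ⟨T, hT, h3, h4⟩ | ⟨Q, hQ, -, h4⟩
  · by_cases e : w = t
    · exact e ▸ h3.trans (Kof_le_cent L w)
    have h5 : Kof L t = ⊥ := by
      rw [← cent_eq_bot_of_inv (odd_core _) (h.inv_K h2 ht (h.normal.le hw)
        ⟨ho, ow, mem_cent1.1 (h4 (hN ⟨ht, mem_cent1.2 rfl⟩)), Ne.symm e⟩), eq_comm, inf_eq_left]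
      exact ((piCoreOf_le _).trans hN').trans h4
    rcases hc with ⟨-, htL⟩ | ⟨-, hT⟩
    · have h6 := h2.card_K htL ho
      have h7 := h2.card_K hw ow
      rw [h5, card_bot] at h6
      exact (h0 (le_bot_iff.1 (h3.trans (card_eq_one.1 (by omega)).le))).elim
    · have := hT.card
      rw [h5, card_bot] at this
      omega
  · have h5 : L ⊓ 𝓒[t] ≤ L ⊓ 𝓝(T) := le_inf inf_le_left (hN'.trans h4)
    rcases hc with ⟨hc, -⟩ | ⟨-, hc⟩
    · have := card_dvd_of_le h5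
      rw [hc, hT.card_norm] at this
      have := Nat.eq_one_of_dvd_coprimes an dvd_rfl (Nat.dvd_of_mul_dvd_mul_left two_pos this)
      omega
    · exact h3.trans ((eq_of_le_of_card_le (hT.ge_of_odd (by omega) ((piCoreOf_le _).trans h5)
        (odd_core _)) (by rw [hc.card, hT.card])).ge.trans (Kof_le_cent L t))
  · have h5 := Nat.mul_dvd_mul_left 2 (card_dvd_of_le (le_inf inf_le_left (hN'.trans h4)))
    have c4 : ∀ m, m.Coprime q → 2 * (2 * m) ∣ q * (q - 1) → 2 * (2 * m) ≤ q - 1 := fun m hm e =>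
      Nat.le_of_dvd (by have := h2.hq; omega) (((Nat.coprime_two_left.2 oq).mul_left
        ((Nat.coprime_two_left.2 oq).mul_left hm)).dvd_of_dvd_mul_left e)
    have := h2.hq
    have := h2.eps
    rw [hQ.card_norm] at h5
    rcases hc with ⟨hc, -⟩ | ⟨hc, -⟩ <;> rw [hc] at h5
    · have := c4 a aq h5; omega
    · have := c4 n nq h5; omega

theorem AS.ti (h : AS N L) (h2 : L2r L a n q) (ht : t ∈ N) (ho : orderOf t = 2) {y : G}
    (hy : y ∈ Kof L t) (h1 : y ≠ 1) : L ⊓ 𝓒[y] ≤ 𝓒[t] := by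
  by_cases hL : t ∈ L
  · exact h2.ti t hL ho y hy h1
  · exact ((h.outer h2 ht ho hL).1.cc.2 y hy h1).le.trans (Kof_le_cent L t)

theorem AS.norm_K (h : AS N L) (h2 : L2r L a n q) (ht : t ∈ N) (ho : orderOf t = 2)
    {Z A : Subgroup G} (hZ : Z ≤ Kof L t) (h0 : Z ≠ ⊥) (h1 : A ≤ 𝓝(Z)) (h3 : A ≤ 𝓝(L)) :
    A ≤ 𝓝(Kof L t) := by
  obtain ⟨y, hy, y1⟩ := exists_ne_one_of_ne_bot h0
  have h4 : L ⊓ 𝓒(Z) ≤ L ⊓ 𝓒[t] := le_inf inf_le_left
    ((inf_le_inf_left _ (cent_le_cent1 hy)).trans (h.ti h2 ht ho (hZ hy) y1))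
  rw [Kof, le_antisymm (piCoreOf_le_of_le h4 (le_inf (Kof_le L t) ((comm_iff_le_cent.1
    (comm_of_cyclic (h.cyc_K h2 ht ho))).trans (cent_anti hZ))))
    (h.d8.le_K ht ho h.normal.le ((piCoreOf_le _).trans inf_le_left)
      ((piCoreOf_le _).trans (h4.trans inf_le_right)) (odd_core _))]
  exact le_norm_piCoreOf (le_norm_subcent h3 h1)

theorem AS.sylow_K [hp : Fact p.Prime] (h : AS N L) (h2 : L2r L a n q) (ht : t ∈ N)
    (ho : orderOf t = 2) (hd : p ∣ Nat.card (Kof L t)) :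
    IsSylowOf p (piCoreOf {p} (Kof L t)) L := by
  refine (nil_pcore_sylow p (nil_of_comm (comm_of_cyclic (h.cyc_K h2 ht ho)))).of_relIndex
    (Kof_le L t) fun e => ?_
  obtain ⟨a2, on, oq, an, aq, nq, n3⟩ := h2.arith
  have c := card_mul_relIndex (Kof_le L t)
  have c2 : (Nat.card (Kof L t)).Coprime 2 := Nat.coprime_two_right.2 (odd_core _)
  have k0 : 0 < Nat.card (Kof L t) := Nat.card_pos
  refine hp.out.ne_one (Nat.eq_one_of_dvd_coprimes ?_ hd e)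
  rw [h2.card] at c
  by_cases hL : t ∈ L
  · have h3 : Nat.card (Kof L t) ∣ a := by
      rcases h2.card_K hL ho with e | e <;> exact e.1 ▸ Dvd.intro_left _ rfl
    have h4 := ((an.mul_right aq).coprime_dvd_left h3).mul_right (c2.pow_right 3)
    refine h4.coprime_dvd_right (Nat.dvd_of_mul_dvd_mul_left k0 ?_)
    rw [c]
    rcases h2.card_K hL ho with e | e <;> rw [e.1]
    exacts [⟨2, by ring⟩, ⟨1, by ring⟩]
  · rw [(h.outer h2 ht ho hL).1.card] at c c2 k0 ⊢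
    rw [Nat.eq_of_mul_eq_mul_left k0 (c.trans (show _ = n * (2 * a * q) by ring))]
    exact (c2.mul_right an.symm).mul_right nq

theorem IsFour.of_mem (h4 : IsFour t s) {c d : G} (hc : c ∈ four t s) (hd : d ∈ four t s)
    (c1 : c ≠ 1) (d1 : d ≠ 1) (e : c ≠ d) : IsFour c d :=
  ⟨orderOf_eq_two_of_mul_self (h4.mul_self hc) c1, orderOf_eq_two_of_mul_self (h4.mul_self hd) d1,
    h4.le_cent hd c hc, e⟩

theorem sylow_sup [Fact p.Prime] {J E : Subgroup G} (hJ : IsPGroup p J) (hn : J ≤ 𝓝(E))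
    (h : ¬ p ∣ J.relIndex E) : IsSylowOf p J (E ⊔ J) :=
  (IsSylowOf.self hJ).of_relIndex le_sup_right
    (by rwa [(isProd_of_le_norm hn).symm.relIndex_eq])

theorem AS.diamond [hp' : Fact p.Prime] (h : AS N L) (h2 : A7r L ∨ ∃ a n q, L2r L a n q)
    (ht : t ∈ N) (hs : s ∈ N) (h4 : IsFour t s) (hp : p ≠ 2) {J Y : Subgroup G} (hJ : J ≤ N)
    (hJp : IsPGroup p J) (nJ : four t s ≤ 𝓝(J))
    (hmax : ∀ J', J' ≤ N → IsPGroup p J' → four t s ≤ 𝓝(J') → J ≤ J' → J' = J) (hY : Y ≤ N)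
    (hYp : IsPGroup p Y) (nY : four t s ≤ 𝓝(Y)) (hYt : ⁅Y, zpowers t⁆ = Y) (hYs : Y ≤ 𝓒[s]) :
    ∃ N', J ⊔ Y ≤ N' ∧ N' ≤ N ∧ IsSylowOf p J N' := by
  by_cases h0 : Y = ⊥
  · exact ⟨J, by simp [h0], hJ, .self hJp⟩
  have hV : four t s ≤ N := four_le_iff.2 ⟨ht, hs⟩
  have hYL : Y ≤ L := hYt ▸ (comm_mono hY le_rfl).trans (h.comm_le h2 ht h4.ord_left)
  have hYK := h.d8.le_K hs h4.ord_right h.normal.le hYL hYs (odd_of_pgroup hp hYp)
  have hVL := hV.trans h.norm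
  have oV : ∀ c ∈ four t s, c ≠ 1 → orderOf c = 2 := fun c hc c1 =>
    orderOf_eq_two_of_mul_self (h4.mul_self hc) c1
  have nK : ∀ c ∈ four t s, four t s ≤ 𝓝(Kof L c) := fun c hc =>
    le_norm_K hVL (h4.le_cent.trans (cent_le_cent1 hc))
  have hle : ∀ P, P ≤ N → IsPGroup p P → four t s ≤ 𝓝(P) → J ≤ 𝓝(P) → P ≤ J :=
    fun P h1 h3 h5 h6 => le_sup_right.trans (hmax _ (sup_le hJ h1) (pgroup_sup hJp h3 h6)
      (le_normalizer_sup nJ h5) le_sup_left).le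
  have hJ0 := hJp.to_le (inf_le_left : J ⊓ L ≤ J)
  have o0 := odd_of_pgroup hp hJ0
  have hK : ∀ c ∈ four t s, c ≠ 1 → J ⊓ L ⊓ 𝓒[c] ≤ Kof L c := fun c hc c1 =>
    h.d8.le_K (hV hc) (oV c hc c1) h.normal.le (inf_le_left.trans inf_le_right) inf_le_right
      (o0.of_dvd_nat (card_dvd_of_le inf_le_left))
  have gen : ∀ H, (∀ c ∈ four t s, c ≠ 1 → J ⊓ L ⊓ 𝓒[c] ≤ H) → J ⊓ L ≤ H := fun H =>
    coprime_abelian_gen_cent1 (comm_iff_le_cent.2 h4.le_cent) h4.not_isCyclic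
      (le_normalizer_inf nJ hVL) (by
        rw [h4.card]; exact (Nat.coprime_two_right.2 o0).pow_right 2)
  have hJe : J ≤ J ⊓ 𝓒(four t s) ⊔ J ⊓ L := by
    refine (isCoprimeAction_of_isPGroup_right nJ hJp
      fun e => hp ?_).inf_centralizer_sup_commutator.ge.trans
      (sup_le_sup_left (le_inf (comm_le_left nJ) (comm_sup_le' ?_ ?_ ?_ ?_)) _)
    · rw [h4.card] at e
      exact (Nat.prime_dvd_prime_iff_eq hp'.out Nat.prime_two).1 (hp'.out.dvd_of_dvd_pow (n := 2) e)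
    exacts [zpowers_le.2 (h.norm ht), zpowers_le.2 (h.norm hs),
      (comm_mono hJ le_rfl).trans (h.comm_le h2 ht h4.ord_left),
      (comm_mono hJ le_rfl).trans (h.comm_le h2 hs h4.ord_right)]
  have dvd : ∀ {Z K : Subgroup G}, IsPGroup p Z → Z ≠ ⊥ → Z ≤ K → p ∣ Nat.card K :=
    fun hZ h0 hK => ((IsSylowOf.self hZ).ne_bot_iff.1 h0).trans (card_dvd_of_le hK)
  have hc : (∃ c ∈ four t s, c ≠ 1 ∧ J ⊓ L ⊓ 𝓒[c] ≠ ⊥) ∨ J ≤ 𝓝(Kof L s) := by
    refine or_iff_not_imp_left.2 fun e => le_norm_K (hJ.trans h.norm) ?_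
    push Not at e
    rw [le_bot_iff.1 (gen ⊥ fun c hc c1 => (e c hc c1).le), sup_bot_eq] at hJe
    exact hJe.trans (inf_le_right.trans (cent_le_cent1 (right_mem_four t s)))
  rcases h2 with h2 | ⟨a, n, q, h2⟩
  · have hVL' : ∀ c ∈ four t s, c ≠ 1 → c ∈ L := fun c hc c1 =>
      h.mem_of_eight h2.eight (hV hc) (oV c hc c1)
    have c3 : ∀ c ∈ four t s, c ≠ 1 → Nat.card (Kof L c) = 3 := fun c hc c1 =>
      h2.cardK c (hVL' c hc c1) (oV c hc c1)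
    have s1 := ne_one_of_ord h4.ord_right
    obtain rfl : p = 3 := (Nat.prime_dvd_prime_iff_eq hp'.out Nat.prime_three).1
      (c3 s (right_mem_four t s) s1 ▸ dvd hYp h0 hYK)
    have key : ∀ c ∈ four t s, c ≠ 1 → J ⊓ L ⊓ 𝓒[c] ≠ ⊥ → Kof L c ≤ J := fun c hc c1 e =>
      (eq_of_le_of_card_le (hK c hc c1) (c3 c hc c1 ▸ Nat.le_of_dvd Nat.card_pos
        (dvd (hJ0.to_le inf_le_left) e le_rfl))).ge.trans (inf_le_left.trans inf_le_left)
    have nine : ∀ c ∈ four t s, c ≠ 1 → ∀ d ∈ four t s, d ≠ 1 →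
        ¬ 3 ∣ (Kof L c).relIndex (Kof L c ⊔ Kof L d) := fun c hc c1 d hd d1 e => by
      by_cases e' : c = d
      · simp [e'] at e
      refine h2.nine c (hVL' c hc c1) d (hVL' d hd d1) (h4.of_mem hc hd c1 d1 e') ?_
      rw [← card_mul_relIndex le_sup_left, c3 c hc c1]
      exact Nat.mul_dvd_mul_left 3 e
    obtain ⟨c, hc, c1, h5, h6⟩ : ∃ c ∈ four t s, c ≠ 1 ∧ Kof L c ≤ J ∧ J ⊓ L ≤ Kof L c := by
      obtain ⟨c, hc, c1, e⟩ : ∃ c ∈ four t s, c ≠ 1 ∧ Kof L c ≤ J := hc.elim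
        (fun ⟨c, hc, c1, e⟩ => ⟨c, hc, c1, key c hc c1 e⟩) fun e => ⟨s, right_mem_four t s, s1,
          hle _ ((Kof_le L s).trans h.normal.le) (pgroup_of_card (c3 s (right_mem_four t s) s1))
            (nK s (right_mem_four t s)) e⟩
      refine ⟨c, hc, c1, e, gen _ fun d hd d1 => ?_⟩
      by_cases e' : J ⊓ L ⊓ 𝓒[d] = ⊥
      · exact e' ▸ bot_le
      refine (hK d hd d1).trans (le_sup_right.trans (IsSylowOf.eq_of_le (p := 3)
        ⟨le_sup_left, hJp.to_le e, nine c hc c1 d hd d1⟩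
        (hJp.to_le (sup_le e (key d hd d1 e'))) le_sup_left le_rfl).le)
    refine ⟨(Kof L c ⊔ Kof L s) ⊔ J, sup_le le_sup_right (hYK.trans (le_sup_right.trans
      le_sup_left)), sup_le ((sup_le (Kof_le L c) (Kof_le L s)).trans h.normal.le) hJ,
      sylow_sup hJp ?_ fun e => nine c hc c1 s (right_mem_four t s) s1
        (e.trans (relIndex_dvd_of_le_left _ h5))⟩
    have h7 : J ⊓ 𝓒(four t s) ≤ 𝓝(L) := inf_le_left.trans (hJ.trans h.norm)
    exact hJe.trans (sup_le (le_normalizer_sup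
      (le_norm_K h7 (inf_le_right.trans (cent_le_cent1 hc)))
      (le_norm_K h7 (inf_le_right.trans (cent_le_cent1 (right_mem_four t s)))))
      (h6.trans (le_sup_left.trans le_normalizer)))
  obtain ⟨c, hc, c1, h5, h6⟩ : ∃ c ∈ four t s, c ≠ 1 ∧ p ∣ Nat.card (Kof L c) ∧
      J ≤ 𝓝(Kof L c) := by
    rcases hc with ⟨c, hc, c1, e⟩ | e
    · have h5 := dvd (hJ0.to_le inf_le_left) e (hK c hc c1)
      obtain ⟨g, -, hg⟩ := (h.sylow_K h2 (hV hc) (oV c hc c1) h5).exists_conj_le hJ0 inf_le_right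
      exact ⟨c, hc, c1, h5, h.norm_K h2 (hV hc) (oV c hc c1) (hK c hc c1) e
        ((le_normalizer_inf le_normalizer (hJ.trans h.norm)).trans (norm_le_norm_of_cyclic
          (isCyclic_conj_iff.1 (cyclic_of_le (h.cyc_K h2 (hV hc) (oV c hc c1))
            (hg.trans (piCoreOf_le _)))) inf_le_left)) (hJ.trans h.norm)⟩
    · exact ⟨s, right_mem_four t s, ne_one_of_ord h4.ord_right, dvd hYp h0 hYK, e⟩
  have hS := h.sylow_K h2 (hV hc) (oV c hc c1) h5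
  exact ⟨L ⊔ J, sup_le le_sup_right (hYL.trans le_sup_left), sup_le h.normal.le hJ,
    sylow_sup hJp (hJ.trans h.norm) (hS.not_dvd_of_le (hle _ (hS.le.trans h.normal.le) hS.pgroup
      (le_norm_piCoreOf (nK c hc)) (le_norm_piCoreOf h6)))⟩

end Cfsg.GW
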