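import Cfsg.Agent.GW.AbelA
import Cfsg.Agent.Blk.AbFreeC

/-!
# Abelian Sylow `2`-subgroup with an invariant quotient of order four

`G` simple, `T` abelian Sylow, `T₀ ≤ T` of index `4`, normalized by `N(T)`. Claim `T₀ = 1`.
The kernel `H` of the action of `N(T)` on `T/T₀` has index `3` (transfer), and
`T = (T ∩ Z(H)) × (T ∩ H')` with `T ∩ H' ≤ T₀`. If `T ∩ H' = 1` then `N(T)/C(T)` has order three
and acts freely, and `AbFree.isSolvable` applies. Otherwise see `AbTri.false_of`.
-/

set_option autoImplicit false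
set_option linter.unusedVariables false
set_option linter.style.haveILetI false

namespace Cfsg.GW

open Subgroup
open scoped commutatorElement

universe u

theorem AbTri.eq_one_of_mem_commutator {G : Type u} [Group G] {T : Sylow 2 G} {H : Subgroup G}
    {m : G → ℂ} {r : G} (h : AbTri T H m r) {c : H} (hc : c ∈ commutator H) : m c = 1 :=
  congrArg Units.val (Abelianization.commutator_subset_ker (MonoidHom.toHomUnits
    { toFun := fun x : H => m x
      map_one' := h.one
      map_mul' := fun x y => h.mul _ x.2 _ y.2 }) hc)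

theorem exists_invol_of_ne_bot {G : Type u} [Group G] [Finite G] {Q : Subgroup G}
    (hQ : IsPGroup 2 Q) (h : Q ≠ ⊥) : ∃ x ∈ Q, orderOf x = 2 := by
  obtain ⟨k, hk⟩ := hQ.exists_card_eq
  obtain ⟨x, hx⟩ := exists_prime_orderOf_dvd_card' (G := Q) 2 (hk ▸ dvd_pow_self 2 (by
    rintro rfl
    exact h (card_eq_one.1 hk)))
  exact ⟨x, x.2, by rw [orderOf_coe, hx]⟩

theorem card_eq_four_of_comm {G : Type u} [Group G] [Finite G] [IsSimpleGroup G]
    (hna : ¬ IsMulCommutative G) (T : Sylow 2 G) (hab : IsMulCommutative (T : Subgroup G))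
    {T₀ : Subgroup G} (hle : T₀ ≤ T) (hi : T₀.relIndex T = 4)
    (hn : normalizer ((T : Subgroup G) : Set G) ≤ normalizer (T₀ : Set G))
    (hsq : ∀ a ∈ (T : Subgroup G), a * a ∈ T₀) : Nat.card (T : Subgroup G) = 4 := by
  classical
  have hcomm : (T : Subgroup G) ≤ centralizer ((T : Subgroup G) : Set G) := le_centralizer _
  have hG' : commutator G = ⊤ := (IsSimpleGroup.eq_bot_or_eq_top_of_normal _
    inferInstance).resolve_left fun e => hna ((commutator_eq_bot_iff G).1 e)
  have hperf : (T : Subgroup G) ≤ ⁅(T : Subgroup G), normalizer ((T : Subgroup G) : Set G)⁆ := by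
    rw [← commutator_inf_sylow_eq T, hG', top_inf_eq]
  have hT0 : ¬ (T : Subgroup G) ≤ T₀ := fun e => by
    rw [relIndex_eq_one.2 e] at hi
    exact absurd hi (by norm_num)
  set Y := normalizer ((T : Subgroup G) : Set G) with hY
  haveI : MulAction.QuotientAction Y (T₀.subgroupOf T) := ⟨fun b a a' h => by
    rw [← smul_inv', ← smul_mul']
    exact (mem_normalizer_iff.1 (hn b.2) _).1 h⟩
  let K := (MulAction.toPermHom Y ((T : Subgroup G) ⧸ T₀.subgroupOf T)).ker
  have hK : ∀ n : Y, n ∈ K ↔ ∀ t ∈ (T : Subgroup G), ((n : G) * t * (n : G)⁻¹)⁻¹ * t ∈ T₀ :=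
    fun n => ⟨fun h t ht => (QuotientGroup.eq (s := T₀.subgroupOf T)
      (a := n • (⟨t, ht⟩ : (T : Subgroup G))) (b := ⟨t, ht⟩)).1
      (DFunLike.congr_fun h ((⟨t, ht⟩ : (T : Subgroup G)) : _ ⧸ T₀.subgroupOf T)), fun h => Equiv.ext fun q =>
        QuotientGroup.induction_on q fun t => QuotientGroup.eq.2 (h t t.2)⟩
  have hcK : ∀ n : Y, n ∈ K → ∀ t ∈ (T : Subgroup G), ⁅t, (n : G)⁆ ∈ T₀ := fun n h t ht => by
    have := inv_mem ((hK n).1 h _ (inv_mem ht))
    convert this using 1
    rw [commutatorElement_def]; group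
  let H := K.map Y.subtype
  have hHK : H.subgroupOf Y = K := comap_map_eq_self_of_injective (subtype_injective _) _
  have hCH : centralizer ((T : Subgroup G) : Set G) ≤ H := fun g hg =>
    ⟨⟨g, centralizer_le_normalizer _ hg⟩, (hK _).2 fun t ht => by
      simp [← hg t ht, one_mem], rfl⟩
  have hHY : H ≤ Y := map_subtype_le _
  have hidx : H.relIndex Y = 3 := by
    have h1 : H.relIndex Y ∣ 24 := by
      rw [relIndex, hHK, index_ker]
      refine (card_subgroup_dvd_card _).trans ?_
      rw [Nat.card_perm, show Nat.card ((T : Subgroup G) ⧸ T₀.subgroupOf T) = 4 from hi]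
      norm_num [Nat.factorial]
    have h2 : ¬ 2 ∣ H.relIndex Y := fun e => T.not_dvd_index (e.trans
      ((relIndex_dvd_of_le_left _ (hcomm.trans hCH)).trans (relIndex_dvd_index_of_le le_normalizer)))
    have h3 : H.relIndex Y ≠ 1 := fun e => hT0 (hperf.trans (commutator_le.2 fun t ht n hn =>
      hcK ⟨n, hn⟩ (hHK ▸ relIndex_eq_one.1 e hn) t ht))
    have := Nat.le_of_dvd (by norm_num) h1
    interval_cases H.relIndex Y <;> simp_all
  obtain ⟨r, hr, hr'⟩ : ∃ r ∈ Y, r ∉ H := by
    by_contra! e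
    rw [relIndex_eq_one.2 e] at hidx
    exact absurd hidx (by norm_num)
  let P := T.subtype (hcomm.trans hCH)
  haveI : IsMulCommutative (P : Subgroup H) :=
    ⟨⟨fun a b => Subtype.ext (Subtype.ext (hcomm b.2 _ a.2))⟩⟩
  have hP : ∀ k : H, k ∈ normalizer ((P : Subgroup H) : Set H) := fun k =>
    mem_normalizer_iff.2 fun t => mem_normalizer_iff.1 (hHY k.2) t
  obtain ⟨v, ⟨hv, hvc⟩, hv2⟩ := exists_invol_of_ne_bot (P.isPGroup'.to_inf_left
    (K := centralizer (normalizer ((P : Subgroup H) : Set H) : Set H))) fun e => hT0 fun t ht => by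
      have h1 := sylow_inf_centralizer_normalizer_sup P
      rw [e, bot_sup_eq, commutator_inf_sylow_eq] at h1
      refine (h1.ge.trans (commutator_le.2 fun a ha k _ => ?_) : _ ≤ T₀.subgroupOf H)
        (x := ⟨t, hCH (hcomm ht)⟩) ht
      exact hcK ⟨k, hHY k.2⟩ (hHK ▸ k.2) a ha
  obtain ⟨μ, -, hμ⟩ := exists_linear_ne_one (L := commutator H) (g := v) le_rfl fun e => by
    rw [mem_bot.1 ((commutator_inf_sylow_inf_centralizer_normalizer P).le ⟨⟨e, hv⟩, hvc⟩)] at hv2
    simp at hv2
  have h : AbTri T H (fun g => if e : g ∈ H then μ ⟨g, e⟩ else 0) r :=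
    { comm := hcomm
      tle := hcomm.trans hCH
      hle := hHY
      nrm := by
        rintro n hn _ ⟨k, hk, rfl⟩
        exact ⟨_, (MonoidHom.normal_ker _).conj_mem k hk ⟨n, hn⟩, rfl⟩
      idx := hidx
      rmem := hr
      rnot := hr'
      mul := fun a ha b hb => by
        simp only [dif_pos ha, dif_pos hb, dif_pos (mul_mem ha hb)]
        rw [← Units.val_mul, ← map_mul]
        rfl
      one := by
        simp only [dif_pos H.one_mem]
        exact congrArg Units.val μ.map_one
      perf := hperf }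
  by_cases hB : commutator H ⊓ P = ⊥
  swap
  · obtain ⟨c, ⟨hc, hcT⟩, hc2⟩ := exists_invol_of_ne_bot P.isPGroup'.to_inf_right hB
    refine (h.false_of hna (v := v) (c := c) hv (by rw [orderOf_coe, hv2])
      (fun k hk => congrArg Subtype.val (hvc ⟨k, hk⟩ (hP _))) ?_ hcT (by rw [orderOf_coe, hc2])
      ?_).elim
    · simpa using hμ
    rw [eta3, h.eq_one_of_mem_commutator hc, (h.shift hr).eq_one_of_mem_commutator hc,
      ((h.shift hr).shift hr).eq_one_of_mem_commutator hc]
    norm_num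
  rw [commutator_inf_sylow_eq, commutator_eq_bot_iff_le_centralizer] at hB
  have hHC : H = centralizer ((T : Subgroup G) : Set G) := le_antisymm (fun k hk t ht =>
    (congrArg Subtype.val (hB (x := ⟨t, hCH (hcomm ht)⟩) ht ⟨k, hk⟩ (hP _))).symm) hCH
  have hf : AbFree T := ⟨hcomm, fun y hy hy1 n hn => by
    by_contra hn'
    refine hy1 (mem_bot.1 ((commutator_inf_sylow_inf_centralizer_normalizer T).le
      ⟨⟨hG'.ge trivial, hy⟩, fun g hg => ?_⟩))
    obtain ⟨-, k, hk, i, rfl⟩ := h.cases hn.2 (hHC ▸ hn') hg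
    exact Commute.mul_left ((hHC.le hk) y hy).symm
      (Commute.pow_left (mem_centralizer_singleton_iff.1 hn.1) i)⟩
  have hE := card_autOf_subtype (P := (T : Subgroup G)) (T := Y) le_rfl
  rw [← hHC, hidx] at hE
  obtain ⟨M, hM⟩ := exists_isPModular Nat.prime_two
  haveI := Fintype.ofFinite T
  have hS := excSys_principal hM hf.comm (fun e => hT0 (e ▸ bot_le)) hf.free
  obtain ⟨X, Z, δ, d, ζ, a, o⟩ := hS.exists_out
  have h4 : 4 ∣ Nat.card (T : Subgroup G) := hi ▸ relIndex_dvd_card _ _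
  refine le_antisymm (not_lt.1 fun e => hna ?_) (Nat.le_of_dvd Nat.card_pos h4)
  haveI := hf.isSolvable hM o (by rw [hE]; exact e) (by rw [hE]; norm_num)
  exact ⟨⟨IsSimpleGroup.comm_iff_isSolvable.2 this⟩⟩

end Cfsg.GW
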