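import Cfsg.Agent.GW.Alt7B
import Cfsg.Agent.Grp.Scott

/-!
# Identification of `A₇`

`χ` is the character of degree six of `GW/Alt7B`.  Dimensions of fixed spaces: `S` has dimension two,
`N = N(V₁)` at least one, so `A = N(V₂)` has dimension one (else `⟨A, N⟩ ≠ G` contradicts `a0`), and
some `B = ⟨S, r⟩ ≤ N` has dimension two.  So `X = ⟨A, B⟩ ≠ G`, `9` divides `|X|`, and `|X| = 360`.
-/

set_option autoImplicit false
set_option linter.unusedSectionVars false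
set_option linter.unusedVariables false

namespace Cfsg.GW

open Subgroup Cfsg.Agent.FT

universe u

variable {G : Type u} [Group G] [Finite G] {S : Subgroup G} {x s t y r : G}

namespace A7

theorem mem_norm_sup {L : Subgroup G} (hx : x ∈ 𝓝(L)) (hr : x * r * x⁻¹ ∈ L ⊔ zpowers r) :
    x ∈ 𝓝(L ⊔ zpowers r) := by
  refine mem_normalizer_of_forall_conj_mem (map_conj_le_iff.1 ?_)
  rw [Subgroup.map_sup, conj_eq_of_mem_norm hx, MonoidHom.map_zpowers]
  exact sup_le le_sup_left (zpowers_le.2 hr)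

theorem mem_norm_sup' {L : Subgroup G} (hx : x ∈ 𝓝(L)) (hr : x * r * x⁻¹ * r ∈ L) :
    x ∈ 𝓝(L ⊔ zpowers r) :=
  mem_norm_sup hx ((mul_mem_cancel_right (mem_sup_right (mem_zpowers r))).1 (mem_sup_left hr))

theorem av_sq {χ : G → ℂ} (h : IsClassFunction G χ) {L : Subgroup G} (hx : x ∈ 𝓝(L))
    (hr : r ∈ 𝓝(L)) (h3 : r ^ 3 ∈ L) (hi : x * r * x⁻¹ * r ∈ L) : av χ L (r ^ 2) = av χ L r := by
  rw [← av_conj h hx r]
  refine av_congr ?_
  rw [show (x * r * x⁻¹)⁻¹ * r ^ 2 = r * ((x * r * x⁻¹ * r)⁻¹ * r ^ 3) * r⁻¹ by group]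
  exact conj_mem_of_mem_normalizer hr (mul_mem (inv_mem hi) h3)

theorem inv_mul {L : Subgroup G} {a b : G} (ha : a ∈ 𝓝(L)) (h1 : x * a * x⁻¹ * a ∈ L)
    (h2 : x * b * x⁻¹ * b ∈ L) (hc : Commute a b) : x * (a * b) * x⁻¹ * (a * b) ∈ L := by
  have := mul_mem h1 (conj_mem_of_mem_normalizer (inv_mem ha) h2)
  rw [show x * (a * b) * x⁻¹ * (a * b) = x * (a * b) * x⁻¹ * (b * a) by rw [hc.eq]]
  convert this using 1
  group

section Rot

variable (hd : DihOf ⊤ S x s t) (hx : x * x = t) (e1 : r * t * r⁻¹ = s) (e2 : r * s * r⁻¹ = t * s)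
include hd e1 e2

theorem rot3 : r * (t * s) * r⁻¹ = t := by
  rw [← conj_mul, e1, e2, hd.isFour.comm.eq, ← mul_assoc, hd.isFour.ss, one_mul]

theorem rot_norm : r ∈ 𝓝(four t s) :=
  hd.isFour.mem_norm (e1 ▸ right_mem_four t s) (e2 ▸ mul_mem_four t s)

theorem rot_cube : r ^ 3 ∈ 𝓒(four t s) := by
  have e : ∀ a, r ^ 3 * a * (r ^ 3)⁻¹ = r * (r * (r * a * r⁻¹) * r⁻¹) * r⁻¹ := fun a => by
    rw [_root_.pow_three]; group
  rw [cent_four]
  exact ⟨mem_cent1.2 (mul_inv_eq_iff_eq_mul.1 (by rw [e, e1, e2, rot3 hd e1 e2])),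
    mem_cent1.2 (mul_inv_eq_iff_eq_mul.1 (by rw [e, e2, rot3 hd e1 e2, e1]))⟩

theorem av_rot {χ : G → ℂ} (h : IsClassFunction G χ) : av χ (four t s) r = χ r := by
  have h4 := hd.isFour
  have key : ∀ v w : G, v * v = 1 → r * v * r⁻¹ = w → χ (r * (v * w⁻¹)) = χ r := fun v w _ e => by
    rw [← h r w, ← e]; congr 1; group
  have h1 := key _ _ h4.tt e1
  have h2 := key _ _ h4.ss e2
  have h3 := key _ _ h4.mul_mul (rot3 hd e1 e2)
  rw [inv_eq_of_mul_eq_one_right h4.ss] at h1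
  rw [mul_inv_rev, mul_inv_cancel_left, inv_eq_of_mul_eq_one_right h4.tt] at h2
  rw [h4.comm.eq, mul_inv_cancel_right] at h3
  have := av_four (χ := χ) h4 r
  rw [h1, h2, h3] at this
  linear_combination this / 4

include hx in
theorem rot_inv : x * r * x⁻¹ * r ∈ 𝓒(four t s) := by
  have e : ∀ a, x * r * x⁻¹ * r * a * (x * r * x⁻¹ * r)⁻¹ =
    x * (r * (x⁻¹ * (r * a * r⁻¹) * x) * r⁻¹) * x⁻¹ := fun a => by group
  have h1 := (hd.card_eight hx).2.2
  have h0 := hd.conj_t hd.x_mem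
  have h2 : x * (t * s) * x⁻¹ = s := by
    rw [← conj_mul, h0, h1, ← mul_assoc, hd.isFour.tt, one_mul]
  have h3 : x⁻¹ * s * x = t * s := by
    calc _ = x⁻¹ * (x * (t * s) * x⁻¹) * x := by rw [h2]
      _ = _ := by group
  have h4 : x⁻¹ * (t * s) * x = s := by rw [← h1]; group
  rw [cent_four]
  exact ⟨mem_cent1.2 (mul_inv_eq_iff_eq_mul.1 (by rw [e, e1, h3, rot3 hd e1 e2, h0])),
    mem_cent1.2 (mul_inv_eq_iff_eq_mul.1 (by rw [e, e2, h4, e2, h2]))⟩

theorem rot_mul {c : G} (hc : c ∈ 𝓒(four t s)) :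
    r * c * t * (r * c)⁻¹ = s ∧ r * c * s * (r * c)⁻¹ = t * s := by
  have e : ∀ a ∈ four t s, r * c * a * (r * c)⁻¹ = r * a * r⁻¹ := fun a ha => by
    rw [mul_assoc r, ← mem_cent_sub.1 hc a ha]; group
  exact ⟨(e _ (left_mem_four t s)).trans e1, (e _ (right_mem_four t s)).trans e2⟩

end Rot

theorem exists_rot (h : Base S x s t) {s' : G} (hd : DihOf ⊤ S x s' t) :
    ∃ r, IsPElt 3 r ∧ r * t * r⁻¹ = s' ∧ r * s' * r⁻¹ = t * s' := by
  haveI : Fact (Nat.Prime 3) := ⟨Nat.prime_three⟩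
  obtain ⟨ρ, e1, e2⟩ := exists_rho' h hd
  have h1 : pPrimePart 3 ρ ∈ 𝓒(four t s') := by
    obtain ⟨k, hk⟩ := mem_zpowers_iff.1 (pPrimePart_mem_zpowers 3 ρ)
    refine zpowers_le.2 ?_ (mem_zpowers_pow_iff.2 ((Nat.Prime.coprime_iff_not_dvd
      Nat.prime_three).2 (isPRegular_pPrimePart (p := 3) ρ)))
    rw [← hk, ← zpow_natCast, ← zpow_mul, mul_comm, zpow_mul, zpow_natCast]
    exact zpow_mem (rot_cube hd e1 e2) k
  have h2 := rot_mul hd e1 e2 (inv_mem h1)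
  rw [← eq_mul_inv_of_mul_eq (pPart_mul_pPrimePart 3 ρ)] at h2
  exact ⟨_, isPElt_pPart 3 ρ, h2⟩

theorem odd_of_three (h : IsPElt 3 r) : Odd (orderOf r) := by
  obtain ⟨k, hk⟩ := h
  exact hk ▸ Odd.pow (by decide)

theorem sup_eq (hd : DihOf ⊤ S x s t) : four t s ⊔ zpowers x = S :=
  le_antisymm (sup_le hd.four_le hd.pair.zpowers_le)
    (hd.eq_sup.trans_le (sup_le le_sup_right (le_sup_of_le_left le_sup_right)))

section Six

variable {χ : G → ℂ} (hχ : IsCharacter G χ) (c1 : χ 1 = 6) (ct : ∀ a, orderOf a = 2 → χ a = 2)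
  (cx : χ x = 0) (hd : DihOf ⊤ S x s t) (hx : x * x = t)
include hχ c1 ct hd

theorem av_V : av χ (four t s) 1 = 3 := by
  have h4 := hd.isFour
  have := av_four (χ := χ) h4 1
  simp only [one_mul] at this
  rw [c1, ct _ h4.ord_left, ct _ h4.ord_right, ct _ h4.mul.ord_right] at this
  linear_combination this / 4

include cx hx

theorem av_x : av χ (four t s) x = 1 := by
  have h4 := hd.isFour
  have h3 := av_four (χ := χ) h4 x
  have h5 : x * t = s * x * s⁻¹ := by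
    rw [hd.pair.conj_eq, eq_inv_iff_mul_eq_one, mul_assoc, ← mem_cent1.1 (hd.le_cent hd.x_mem),
      ← mul_assoc, hx, h4.tt]
  have h6 : x * (t * s) = t * (x * s) := by
    rw [← mul_assoc, mem_cent1.1 (hd.le_cent hd.x_mem), mul_assoc]
  rw [h5, hχ.isClassFunction, h6, ct _ hd.swap.isFour.ord_right,
    ct _ hd.swap.isFour.mul.ord_right, cx] at h3
  linear_combination h3 / 4

theorem fx_S : fxDim χ S = 2 := by
  have h1 := av_sup2 (χ := χ) (hd.le_norm_four hd.x_mem) (hx ▸ left_mem_four t s) 1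
  rw [sup_eq hd, av_one hχ, one_mul, av_V hχ c1 ct hd, av_x hχ c1 ct cx hd hx] at h1
  exact_mod_cast (show (fxDim χ S : ℂ) = (2 : ℕ) by push_cast; linear_combination h1 / 2)

theorem av_xr (hr : r ∈ 𝓝(four t s)) (ho : Odd (orderOf r)) (hi : x * r * x⁻¹ * r ∈ four t s) :
    av χ (four t s) (x * r) = 1 := by
  rw [av_mul_of_inv hχ.isClassFunction (hd.le_norm_four hd.x_mem) hr ho hi, av_x hχ c1 ct cx hd hx]

theorem fx_B (e1 : r * t * r⁻¹ = s) (e2 : r * s * r⁻¹ = t * s) (h3 : r ^ 3 = 1)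
    (hi : x * r * x⁻¹ * r ∈ four t s) :
    3 * (fxDim χ (four t s ⊔ zpowers r) : ℂ) = 3 + 2 * χ r ∧
    2 * fxDim χ (four t s ⊔ zpowers r ⊔ zpowers x) = fxDim χ (four t s ⊔ zpowers r) + 1 := by
  have hr := rot_norm hd e1 e2
  have hxn := hd.le_norm_four hd.x_mem
  have h3' : r ^ 3 ∈ four t s := h3 ▸ one_mem _
  have ho : Odd (orderOf r) := Odd.of_dvd_nat (by decide) (orderOf_dvd_of_pow_eq_one h3)
  have h1 := av_sup3 (χ := χ) hr h3' 1
  have h2 := av_sup3 (χ := χ) hr h3' x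
  have h4 := av_sup2 (χ := χ) (mem_norm_sup' hxn hi) (mem_sup_left (hx ▸ left_mem_four t s)) 1
  simp only [one_mul] at h1 h4
  rw [av_one hχ, av_V hχ c1 ct hd, av_sq hχ.isClassFunction hxn hr h3' hi,
    av_rot hd e1 e2 hχ.isClassFunction] at h1
  rw [av_x hχ c1 ct cx hd hx, av_xr hχ c1 ct cx hd hx hr ho hi, pow_two, av_xr hχ c1 ct cx hd hx
    (mul_mem hr hr) (ho.of_dvd_nat (pow_two r ▸ orderOf_pow_dvd 2))
    (inv_mul hr hi hi (Commute.refl r))] at h2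
  rw [av_one hχ, av_one hχ] at h4
  exact ⟨by linear_combination h1, by
    refine Nat.cast_injective (R := ℂ) ?_
    push_cast
    linear_combination h4 + h2 / 3⟩

end Six

theorem of_index_seven (h : Base S x s t) (h7 : A7cfg x s t) {X : Subgroup G} (hX : X.index = 7) :
    Nonempty (G ≃* alternatingGroup (Fin 7)) := by
  haveI := h.simple
  obtain ⟨f, hf⟩ := exists_injective_perm_of_index hX (by decide)
  refine nonempty_equiv_alternatingGroup_of_injective (by decide)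
    ((commutator_normal ⊤ ⊤).eq_bot_or_eq_top.resolve_left fun e => h.nonab ⟨⟨fun a b =>
      commutatorElement_eq_one_iff_mul_comm.1 (mem_bot.1
        (e ▸ commutator_mem_commutator (mem_top a) (mem_top b)))⟩⟩) f hf ?_
  rw [h7.card]; decide

theorem index_seven (h : Base S x s t) (h7 : A7cfg x s t) (hy : 𝐎(𝓒[t]) = zpowers y)
    {X : Subgroup G} (hX : X ≠ ⊤) (hS : S ≤ X) (h1 : ∃ g ∈ X, g * t * g⁻¹ = s)
    (h2 : ∃ g ∈ X, g * t * g⁻¹ = x * s) (h9 : 9 ∣ Nat.card X) : X.index = 7 := by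
  have hd := h.dih.mono hS le_top
  have hO : 𝐎(X ⊓ 𝓒[t]) = ⊥ := by
    refine eq_bot_iff.2 fun c hc => by_contra fun h0 => hX (eq_top h h7 ?_ h1 h2)
    have hc' := (piCoreOf_normalOf _ _).le hc
    rw [← (sdprod h h7 hy).sup]
    refine sup_le (zpowers_le.2 ?_) hS
    rcases cases_three (ord_y h h7 hy) (mem_U h h7 hy hc'.2 (odd_orderOf (odd_core _) hc))
      with rfl | rfl | rfl
    exacts [(h0 (one_mem _)).elim, hc'.1, inv_mem_iff.1 hc'.1]
  obtain ⟨m, -, -, hm, hm1, -, -, -, -, e, -⟩ := d8_data hd h7.sq (hd.oneCl h1 h2)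
  have e1 := card_mul_relIndex (inf_le_left : X ⊓ 𝓒[t] ≤ X)
  rw [← hd.sdprod.card, hO, card_bot, (hd.card_eight h7.sq).1, inf_relIndex_left] at e1
  rw [hO, relIndex_bot_right, relIndex_bot_right] at e
  have e2 := X.card_mul_index
  have e3 : X.index ≠ 1 := fun e => hX (index_eq_one.1 e)
  rw [h7.card, ← e1] at e2
  rw [← e1] at h9
  generalize (𝓒[t] : Subgroup G).relIndex X = i at *
  obtain ⟨j, rfl⟩ : 9 ∣ i := (by decide : Nat.Coprime 9 (1 * 8)).dvd_of_dvd_mul_left h9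
  have e4 : j * X.index = 35 := by linarith
  norm_cast at e
  have h35 : X.index ∣ 35 := Dvd.intro_left j e4
  have hm' : m ≤ -7 ∨ 9 ≤ m := by omega
  obtain e5 | e5 | e5 | e5 := (by decide : ∀ n ≤ 35, n ∣ 35 → n = 1 ∨ n = 5 ∨ n = 7 ∨ n = 35) _
    (Nat.le_of_dvd (by decide) h35) h35
  · exact (e3 e5).elim
  · obtain rfl : j = 7 := by rw [e5] at e4; omega
    push_cast at e
    rcases hm' with h | h <;> nlinarith
  · exact e5
  · obtain rfl : j = 1 := by rw [e5] at e4; omega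
    push_cast at e
    rcases hm' with h | h <;> nlinarith

end A7

open A7 in
theorem Base.alt7 (h : Base S x s t) (h7 : A7cfg x s t) :
    Nonempty (G ≃* alternatingGroup (Fin 7)) := by
  haveI : Fact (Nat.Prime 3) := ⟨Nat.prime_three⟩
  obtain ⟨y, hy⟩ := exists_gen h7
  obtain ⟨φ, d6, ct, cx, cty⟩ := exists_six h h7 hy
  have hχ := φ.isCharacter
  have hcl := hχ.isClassFunction
  have c1 : φ.1 1 = 6 := by rw [hχ.apply_one, d6]; rfl
  replace ct : ∀ a, orderOf a = 2 → φ.1 a = 2 := fun a ha =>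
    (hcl.eq_of_isConj ((isConj_iff_ord h).2 ha)).symm.trans ct
  have hnt : ∀ L, fxDim φ.1 L ≠ 0 → L ≠ ⊤ := fun L => ne_top_of_fxDim (by rw [d6]; decide)
  change φ.1 x = 0 at cx
  change φ.1 (t * y) = -1 at cty
  generalize φ.1 = χ at *
  have hd := h.dih
  have hx := h7.sq
  have h4 := hd.isFour
  have y3 := ord_y h h7 hy
  have y3' : y ^ 3 = 1 := orderOf_dvd_iff_pow_eq_one.1 y3.dvd
  have yC := y_mem h h7 hy
  have yN := cent_le_norm _ yC
  have xN := hd.le_norm_four hd.x_mem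
  have yi : x * y * x⁻¹ * y ∈ four t s := by rw [x_inv h h7 hy, inv_mul_cancel]; exact one_mem _
  have hC : four t s ⊔ zpowers y = 𝓒(four t s) := (dprod h h7 hy).symm.sup
  obtain ⟨ρ, hρ, e1, e2⟩ := exists_rot h hd
  have ρN := rot_norm hd e1 e2
  have ρ3 : ρ ^ 3 ∈ zpowers y := mem_U h h7 hy
    (cent_le_cent1 (left_mem_four t s) (rot_cube hd e1 e2)) (odd_of_three (hρ.pow 3))
  have ρy : Commute ρ y := by
    rcases conj_y h h7 hy (cent_le_cent1 (left_mem_four t s)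
      (conj_mem_of_mem_normalizer (le_norm_cent le_rfl ρN) yC)) with e | e
    · exact mul_inv_eq_iff_eq_mul.1 e
    refine (ne_inv_of_three y3 ?_).elim
    obtain ⟨k, hk⟩ := mem_zpowers_iff.1 ρ3
    calc y = ρ ^ 3 * y * (ρ ^ 3)⁻¹ := by rw [← hk]; group
      _ = ρ * (ρ * (ρ * y * ρ⁻¹) * ρ⁻¹) * ρ⁻¹ := by rw [_root_.pow_three]; group
      _ = y⁻¹ := by rw [e, ← conj_inv, e, inv_inv, e]
  have ρi : x * ρ * x⁻¹ * ρ ∈ four t s := by
    obtain ⟨u, hu, v, hv, e⟩ := (dprod h h7 hy).isProd.2.2 _ (rot_inv hd hx e1 e2)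
    have huC := zpowers_le.2 yC hu
    have hρu : Commute ρ u := by
      obtain ⟨k, rfl⟩ := mem_zpowers_iff.1 hu
      exact ρy.zpow_right k
    have e3 : u⁻¹ * (x * v * x⁻¹) = t * (ρ * t⁻¹ * ρ⁻¹) * u * (ρ * v * ρ⁻¹) := by
      calc _ = x * (x * ρ * x⁻¹ * ρ) * x⁻¹ := by
            rw [e, ← conj_mul, conj_inv_of_mem_zpowers (x_inv h h7 hy) hu]
        _ = t * (ρ * t⁻¹ * ρ⁻¹) * (ρ * (x * ρ * x⁻¹ * ρ) * ρ⁻¹) := by rw [← hx]; group
        _ = _ := by rw [e, ← conj_mul, hρu.eq, mul_inv_cancel_right, mul_assoc _ u]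
    have hw : t * (ρ * t⁻¹ * ρ⁻¹) ∈ four t s :=
      mul_mem (left_mem_four t s) (conj_mem_of_mem_normalizer ρN (inv_mem (left_mem_four t s)))
    rw [mem_cent_sub.1 huC _ hw, inv_mul_eq_iff_eq_mul] at e3
    have h5 : u * u ∈ zpowers y ⊓ four t s := Subgroup.mem_inf.2 ⟨mul_mem hu hu, by
      rw [show u * u = x * v * x⁻¹ * (ρ * v * ρ⁻¹)⁻¹ * (t * (ρ * t⁻¹ * ρ⁻¹))⁻¹ by rw [e3]; group]
      exact mul_mem (mul_mem (conj_mem_of_mem_normalizer xN hv)
        (inv_mem (conj_mem_of_mem_normalizer ρN hv))) (inv_mem hw)⟩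
    rw [(dprod h h7 hy).inf, mem_bot] at h5
    rwa [e, eq_one_of_odd (odd_orderOf (by rw [Nat.card_zpowers, y3]; decide) hu) h5, one_mul]
  -- the fixed space of `N(V₁)`
  have avC := fun g => av_sup3 (χ := χ) yN (y3' ▸ one_mem _) g
  have ρC : ρ ∈ 𝓝(four t s ⊔ zpowers y) := hC ▸ le_norm_cent le_rfl ρN
  have xC : x ∈ 𝓝(four t s ⊔ zpowers y) := hC ▸ le_norm_cent le_rfl xN
  have avN := fun g => av_sup3 (χ := χ) ρC (mem_sup_right ρ3) g
  have key : ∀ r ∈ 𝓝(four t s), IsPElt 3 r → x * r * x⁻¹ * r ∈ four t s → Commute r y →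
      av χ (four t s ⊔ zpowers y) (x * r) = 1 := fun r hr h3 hi hc => by
    have hy3 : IsPElt 3 y := ⟨1, y3⟩
    have h1 := avC (x * r)
    have h2 := inv_mul hr hi yi hc
    rw [av_xr hχ c1 ct cx hd hx hr (odd_of_three h3) hi, pow_two, ← mul_assoc, mul_assoc x,
      mul_assoc x, av_xr hχ c1 ct cx hd hx (mul_mem hr yN) (odd_of_three (h3.mul_of_commute hy3 hc)) h2,
      av_xr hχ c1 ct cx hd hx (mul_mem (mul_mem hr yN) yN) (odd_of_three ((h3.mul_of_commute hy3 hc).mul_of_commute hy3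
        (hc.mul_left (Commute.refl y)))) (inv_mul (mul_mem hr yN) h2 yi
        (hc.mul_left (Commute.refl y)))] at h1
    linear_combination h1 / 3
  have fN := av_sup2 (χ := χ) (mem_norm_sup' xC (mem_sup_left ρi))
    (mem_sup_left (mem_sup_left (hx ▸ left_mem_four t s))) 1
  have h1 := avN x
  rw [← mul_one x, key 1 (one_mem _) (isPElt_one 3) (by simp) (Commute.one_left y), mul_one,
    key ρ ρN hρ ρi ρy, key _ (pow_mem ρN 2) (hρ.pow 2) (pow_two ρ ▸ inv_mul ρN ρi ρi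
      (Commute.refl ρ)) (ρy.pow_left 2)] at h1
  rw [av_one hχ, av_one hχ, one_mul] at fN
  replace fN : 2 * fxDim χ (four t s ⊔ zpowers y ⊔ zpowers ρ ⊔ zpowers x) =
      fxDim χ (four t s ⊔ zpowers y ⊔ zpowers ρ) + 1 := by
    refine Nat.cast_injective (R := ℂ) ?_
    push_cast
    linear_combination fN + h1 / 3
  -- the fixed space of `N(V₂)`
  obtain ⟨σ, hσ, f1, f2⟩ := exists_rot h hd.swap
  have σ3 : σ ^ 3 = 1 := eq_one_of_odd (odd_of_three (hσ.pow 3))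
    (hd.swap.isFour.mul_self (cent_V2 h h7 hy ▸ rot_cube hd.swap f1 f2))
  obtain ⟨fA0, fA⟩ := fx_B hχ c1 ct cx hd.swap hx f1 f2 σ3 (cent_V2 h h7 hy ▸ rot_inv hd.swap hx f1 f2)
  have fS := fx_S hχ c1 ct cx hd hx
  have hle : ∀ {s' : G} (r : G), DihOf ⊤ S x s' t → S ≤ four t s' ⊔ zpowers r ⊔ zpowers x :=
    fun r hd => sup_eq hd ▸ sup_le_sup_right le_sup_left _
  have hSN : S ≤ four t s ⊔ zpowers y ⊔ zpowers ρ ⊔ zpowers x :=
    (hle y hd).trans (sup_le_sup_right le_sup_left _)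
  have h2 := fxDim_add_le hχ (hle σ hd.swap) hSN
  have mA : σ ∈ four t (x * s) ⊔ zpowers σ ⊔ zpowers x :=
    mem_sup_left (mem_sup_right (mem_zpowers σ))
  rw [by_contra fun h0 => hnt _ h0 (eq_top h h7 (le_sup_of_le_right ((sdprod h h7 hy).sup ▸ sup_le
    (le_sup_of_le_left (le_sup_of_le_left le_sup_right)) hSN))
    ⟨ρ, mem_sup_right (mem_sup_left (mem_sup_right (mem_zpowers ρ))), e1⟩
    ⟨σ, mem_sup_left mA, f1⟩)] at h2
  rw [show fxDim χ (four t (x * s) ⊔ zpowers σ) = 1 by omega] at fA0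
  have cσ : χ σ = 0 := by push_cast at fA0; linear_combination -fA0 / 2
  have cσ' : χ σ⁻¹ = χ σ := by rw [hχ.apply_inv, cσ, map_zero]
  have ne1 : ∀ {s' r : G}, IsFour t s' → r * t * r⁻¹ = s' → r ^ 3 = 1 → orderOf r = 3 :=
    fun h4 e h3 => orderOf_eq_prime h3 fun e' => h4.ne (by simpa [e'] using e)
  have oσ := ne1 hd.swap.isFour f1 σ3
  -- the centralizer of `V₁`
  have fC := avC 1
  have h3 := av_four (χ := χ) h4 y
  have cy : ∀ v : G, ρ * v * ρ⁻¹ * y = ρ * (v * y) * ρ⁻¹ := fun v => by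
    rw [mul_assoc, ρy.inv_left.eq]; group
  have cs : χ (s * y) = -1 := by rw [← e1, cy, hcl, cty]
  have cts : χ (t * s * y) = -1 := by rw [← e2, cy, hcl, cs]
  rw [← mem_cent_sub.1 yC _ (left_mem_four t s), ← mem_cent_sub.1 yC _ (right_mem_four t s),
    ← mem_cent_sub.1 yC _ (mul_mem_four t s), cty, cs, cts] at h3
  simp only [one_mul] at fC
  rw [av_one hχ, av_V hχ c1 ct hd, av_sq hcl xN yN (y3' ▸ one_mem _) yi] at fC
  have h5 : χ y = ((6 * fxDim χ (four t s ⊔ zpowers y) - 3 : ℤ) : ℂ) := by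
    push_cast; linear_combination -h3 - 2 * fC
  have h6 := hχ.norm_le y
  rw [h5, d6, Complex.norm_intCast] at h6
  replace h6 : 6 * (fxDim χ (four t s ⊔ zpowers y) : ℤ) - 3 ≤ 6 := by
    exact_mod_cast (le_abs_self _).trans h6
  have ρ1 : ρ ^ 3 = 1 := by
    by_contra h0
    have h9 : orderOf ρ = 3 ^ (1 + 1) := orderOf_eq_prime_pow h0 (by
      obtain ⟨k, hk⟩ := mem_zpowers_iff.1 ρ3
      rw [pow_succ, pow_mul, pow_one, ← hk, ← zpow_natCast, ← zpow_mul, mul_comm, zpow_mul,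
        zpow_natCast, y3', one_zpow])
    have h8 := (zpowers ρ).card_mul_index
    rw [Nat.card_zpowers, h9, h7.card] at h8
    rw [apply_eq_of_cyclic hcl (c := ρ) ⟨le_top, isPElt_iff_isPGroup_zpowers.1 hρ, by
      rw [relIndex_top_right]; omega⟩ (mem_top y) (mem_top σ) y3 oσ cσ', cσ] at h5
    have : (0 : ℤ) = 6 * fxDim χ (four t s ⊔ zpowers y) - 3 := by exact_mod_cast h5
    omega
  -- a subgroup `B` with a two-dimensional fixed space
  obtain ⟨r, g1, g2, r3, ri, hr⟩ : ∃ r, r * t * r⁻¹ = s ∧ r * s * r⁻¹ = t * s ∧ r ^ 3 = 1 ∧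
      x * r * x⁻¹ * r ∈ four t s ∧ 2 ≤ fxDim χ (four t s ⊔ zpowers r) := by
    obtain ⟨a1, a2⟩ := rot_mul hd e1 e2 yC
    obtain ⟨b1, b2⟩ := rot_mul hd a1 a2 yC
    have a3 : (ρ * y) ^ 3 = 1 := by rw [ρy.mul_pow, ρ1, y3', one_mul]
    have a5 := ρy.mul_left (Commute.refl y)
    have b3 : (ρ * y * y) ^ 3 = 1 := by rw [a5.mul_pow, a3, y3', one_mul]
    have a4 := inv_mul ρN ρi yi ρy
    have b4 := inv_mul (mul_mem ρN yN) a4 yi a5
    by_contra! hn
    have n1 := hn _ e1 e2 ρ1 ρi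
    have n2 := hn _ a1 a2 a3 a4
    have n3 := hn _ b1 b2 b3 b4
    have k0 := avN 1
    have k4 := avC ρ
    simp only [one_mul] at k0
    rw [av_one hχ, av_one hχ, av_sq hcl xC ρC (mem_sup_right ρ3) (mem_sup_left ρi)] at k0
    rw [pow_two, ← mul_assoc, av_rot hd e1 e2 hcl, av_rot hd a1 a2 hcl, av_rot hd b1 b2 hcl] at k4
    have k5 : fxDim χ (four t s ⊔ zpowers ρ) + fxDim χ (four t s ⊔ zpowers (ρ * y)) +
        fxDim χ (four t s ⊔ zpowers (ρ * y * y)) + fxDim χ (four t s ⊔ zpowers y) =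
        3 + 3 * fxDim χ (four t s ⊔ zpowers y ⊔ zpowers ρ) := by
      refine Nat.cast_injective (R := ℂ) ?_
      push_cast
      linear_combination ((fx_B hχ c1 ct cx hd hx e1 e2 ρ1 ρi).1 +
        (fx_B hχ c1 ct cx hd hx a1 a2 a3 a4).1 + (fx_B hχ c1 ct cx hd hx b1 b2 b3 b4).1 -
        2 * k4) / 3 - k0
    omega
  obtain ⟨fB0, fB⟩ := fx_B hχ c1 ct cx hd hx g1 g2 r3 ri
  have h8 := fxDim_add_le hχ (hle σ hd.swap) (hle r hd)
  have mB : r ∈ four t s ⊔ zpowers r ⊔ zpowers x := mem_sup_left (mem_sup_right (mem_zpowers r))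
  refine of_index_seven h h7 (index_seven h h7 hy (hnt _ (by omega))
    (le_sup_of_le_left (hle σ hd.swap)) ⟨r, mem_sup_right mB, g1⟩ ⟨σ, mem_sup_left mA, f1⟩ ?_)
  by_contra h9
  rw [apply_eq_of_cyclic hcl (c := σ) ⟨zpowers_le.2 (mem_sup_left mA),
    isPElt_iff_isPGroup_zpowers.1 hσ, fun e => h9 (by
      rw [← card_mul_relIndex (zpowers_le.2 (mem_sup_left mA)), Nat.card_zpowers, oσ]
      exact Nat.mul_dvd_mul_left 3 e)⟩ (mem_sup_right mB) (mem_sup_left mA) (ne1 h4 g1 r3) oσ cσ',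
    cσ, mul_zero, add_zero] at fB0
  norm_cast at fB0
  omega

end Cfsg.GW
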