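import Cfsg.Agent.GW.Basic
import Cfsg.Agent.FT.FixChar

/-! # Averages of characters over cosets and dimensions of fixed spaces -/

set_option autoImplicit false
set_option linter.unusedSectionVars false
set_option linter.unusedVariables false

namespace Cfsg.GW

open Subgroup Cfsg.Agent.FT Finset

universe u

variable {G : Type u} [Group G] [Finite G] {χ : G → ℂ} {L M : Subgroup G}

/-- the average of `χ` over the coset `g L` -/
noncomputable def av (χ : G → ℂ) (L : Subgroup G) (g : G) : ℂ :=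
  (Nat.card L : ℂ)⁻¹ * ∑ᶠ l : L, χ (g * l)

theorem card_mul_av [Fintype L] (g : G) : (Nat.card L : ℂ) * av χ L g = ∑ l : L, χ (g * l) := by
  rw [av, ← mul_assoc, mul_inv_cancel₀ (natCard_cast_ne_zero L), one_mul, finsum_eq_sum_of_fintype]

theorem av_one (h : IsCharacter G χ) (L : Subgroup G) : av χ L 1 = fxDim χ L := by
  cases nonempty_fintype L
  refine mul_left_cancel₀ (natCard_cast_ne_zero L) ?_
  rw [card_mul_av, card_mul_fxDim h]
  simp

theorem av_bot (g : G) : av χ ⊥ g = χ g := by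
  rw [av, finsum_unique, mem_bot.1 (default : (⊥ : Subgroup G)).2]; simp

theorem av_mul_mem {l : G} (hl : l ∈ L) (g : G) : av χ L (g * l) = av χ L g := by
  unfold av
  rw [← finsum_comp_equiv (Equiv.mulLeft (⟨l, hl⟩ : L)) (f := fun l : L => χ (g * l))]
  simp [mul_assoc]

theorem av_congr {g g' : G} (h : g⁻¹ * g' ∈ L) : av χ L g' = av χ L g := by
  rw [← av_mul_mem h g, mul_inv_cancel_left]

theorem av_conj (h : IsClassFunction G χ) {n : G} (hn : n ∈ 𝓝(L)) (g : G) :
    av χ L (n * g * n⁻¹) = av χ L g := by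
  unfold av
  rw [← finsum_comp_equiv (L.normalizerMonoidHom ⟨n, hn⟩).toEquiv
    (f := fun l : L => χ (n * g * n⁻¹ * l))]
  refine congrArg _ (finsum_congr fun l => ?_)
  rw [← h (g * l) n]
  congr 1
  simp [mul_assoc]

theorem sum_av (hle : L ≤ M) [Fintype M] (g : G) {a : G} (ha : a ∈ M) :
    ∑ m : M, av χ L (g * m * a) = Nat.card M * av χ M g := by
  cases nonempty_fintype L
  refine mul_left_cancel₀ (natCard_cast_ne_zero L) ?_
  rw [mul_sum]
  simp_rw [card_mul_av]
  rw [sum_comm, sum_congr rfl fun (l : L) _ => (show ∑ m : M, χ (g * m * a * l) = ∑ m : M, χ (g * m) from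
    Fintype.sum_equiv (Equiv.mulRight (⟨a * l, mul_mem ha (hle l.2)⟩ : M)) _ _ fun m => by
      simp [mul_assoc])]
  simp [Nat.card_eq_fintype_card]

theorem av_sup {r : G} (hr : r ∈ 𝓝(L)) {n : ℕ} (hn : r ^ n ∈ L) (g : G) :
    n * av χ (L ⊔ zpowers r) g = ∑ k ∈ range n, av χ L (g * r ^ k) := by
  let φ : G → ℂ := fun g => ∑ k ∈ range n, av χ L (g * r ^ k)
  let K : Subgroup G :=
    { carrier := {m | ∀ g, φ (g * m) = φ g}
      mul_mem' := fun {a b} ha hb g => by rw [← mul_assoc, hb, ha]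
      one_mem' := fun g => by rw [mul_one]
      inv_mem' := fun {a} ha g => by rw [← ha, inv_mul_cancel_right] }
  have hK : L ⊔ zpowers r ≤ K := by
    refine sup_le (fun l hl g => sum_congr rfl fun k _ => av_congr ?_) (zpowers_le.2 fun g => ?_)
    · have := conj_mem_of_mem_normalizer (inv_mem (pow_mem hr k)) hl
      simpa [mul_assoc] using this
    · have h1 := sum_range_succ (fun k => av χ L (g * r ^ k)) n
      rw [sum_range_succ', av_mul_mem hn, pow_zero, mul_one, add_left_inj] at h1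
      simpa only [φ, pow_succ', mul_assoc] using h1
  cases nonempty_fintype (L ⊔ zpowers r : Subgroup G)
  refine mul_left_cancel₀ (natCard_cast_ne_zero (L ⊔ zpowers r : Subgroup G)) ?_
  calc _ = ∑ k ∈ range n, ∑ m : (L ⊔ zpowers r : Subgroup G), av χ L (g * m * r ^ k) := by
        rw [sum_congr rfl fun k _ => sum_av le_sup_left g (pow_mem (mem_sup_right (mem_zpowers r)) k)]
        simp [mul_left_comm]
    _ = ∑ m : (L ⊔ zpowers r : Subgroup G), φ g := by
        rw [sum_comm]; exact sum_congr rfl fun m _ => hK m.2 g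
    _ = _ := by simp [φ, Nat.card_eq_fintype_card]

theorem av_sup2 {r : G} (hr : r ∈ 𝓝(L)) (hn : r * r ∈ L) (g : G) :
    2 * av χ (L ⊔ zpowers r) g = av χ L g + av χ L (g * r) := by
  simpa [sum_range_succ] using av_sup (χ := χ) hr (n := 2) ((pow_two r).symm ▸ hn) g

theorem av_sup3 {r : G} (hr : r ∈ 𝓝(L)) (hn : r ^ 3 ∈ L) (g : G) :
    3 * av χ (L ⊔ zpowers r) g = av χ L g + av χ L (g * r) + av χ L (g * r ^ 2) := by
  simpa [sum_range_succ] using av_sup (χ := χ) hr hn g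

theorem av_four {t s : G} (h : IsFour t s) (g : G) :
    4 * av χ (four t s) g = χ g + χ (g * t) + χ (g * s) + χ (g * (t * s)) := by
  have h1 := av_sup2 (χ := χ) (L := zpowers t) (r := s)
    (cent1_le_norm_zpowers t (mem_cent1.2 h.comm.eq.symm)) (h.ss ▸ one_mem _) g
  have h2 := fun g => av_sup2 (χ := χ) (L := ⊥) (r := t) (le_norm_bot ⊤ (mem_top t)) h.tt g
  simp only [bot_sup_eq, av_bot] at h2
  rw [h.comm.eq, ← mul_assoc, four]
  linear_combination 2 * h1 + h2 g + h2 (g * s)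

/-- a coset inverted by `x` -/
theorem av_mul_of_inv (h : IsClassFunction G χ) {x r : G} (hx : x ∈ 𝓝(L)) (hr : r ∈ 𝓝(L))
    (ho : Odd (orderOf r)) (hi : x * r * x⁻¹ * r ∈ L) : av χ L (x * r) = av χ L x := by
  obtain ⟨u, hu, rfl⟩ : ∃ u ∈ zpowers r, u * u = r := exists_sqrt ho
  have h1 : coset L ⟨x, hx⟩ * coset L ⟨_, hr⟩ * (coset L ⟨x, hx⟩)⁻¹ = (coset L ⟨_, hr⟩)⁻¹ := by
    rw [eq_inv_iff_mul_eq_one, ← map_inv, ← map_mul, ← map_mul, ← map_mul]
    exact coset_eq_one.2 hi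
  have hu' := zpowers_le.2 hr hu
  have h2 := conj_inv_of_mem_zpowers h1 (u := coset L ⟨u, hu'⟩) (by
    obtain ⟨k, hk⟩ := mem_zpowers_iff.1 hu
    exact ⟨k, (map_zpow _ _ k).symm.trans (congrArg _ (Subtype.ext hk))⟩)
  rw [← av_conj h (inv_mem hu') x]
  refine av_congr ((coset_eq_one (x := (⟨u, hu'⟩⁻¹ * ⟨x, hx⟩ * ⟨u, hu'⟩⁻¹⁻¹)⁻¹ *
    (⟨x, hx⟩ * (⟨u, hu'⟩ * ⟨u, hu'⟩)))).1 ?_)
  simp only [map_mul, map_inv]
  rw [mul_inv_eq_iff_eq_mul] at h2
  rw [inv_inv, ← h2, inv_mul_eq_one, mul_assoc]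

theorem fxDim_character {n : ℕ} (ρ : Representation ℂ G (Fin n → ℂ)) (L : Subgroup G) :
    fxDim ρ.character L = Module.finrank ℂ (Representation.invariants (ρ.comp L.subtype)) := by
  cases nonempty_fintype L
  haveI := invertibleOfNonzero (natCard_cast_ne_zero L)
  have h1 := Representation.card_inv_mul_sum_char_eq_finrank (ρ.comp L.subtype)
  have h2 := card_mul_fxDim ⟨n, ρ, rfl⟩ L
  have h3 : (fxDim ρ.character L : ℂ) = _ :=
    (eq_inv_mul_iff_mul_eq₀ (natCard_cast_ne_zero L)).2 h2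
  exact_mod_cast h3.trans h1

theorem fxDim_add_le (h : IsCharacter G χ) {A B S : Subgroup G} (hA : S ≤ A) (hB : S ≤ B) :
    fxDim χ A + fxDim χ B ≤ fxDim χ (A ⊔ B) + fxDim χ S := by
  obtain ⟨n, ρ, rfl⟩ := h
  simp only [fxDim_character]
  rw [← Submodule.finrank_sup_add_finrank_inf_eq, add_comm]
  refine add_le_add (Submodule.finrank_mono fun v hv => ?_) (Submodule.finrank_mono (sup_le
    (fun v hv g => hv ⟨g, hA g.2⟩) fun v hv g => hv ⟨g, hB g.2⟩))
  let K : Subgroup G :=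
    { carrier := {g | ρ g v = v}
      mul_mem' := fun {a b} ha hb => by
        rw [Set.mem_ofPred_eq, map_mul, Module.End.mul_apply, hb, ha]
      one_mem' := by simp
      inv_mem' := fun {a} ha => by
        rw [Set.mem_ofPred_eq] at ha ⊢
        conv_lhs => rw [← ha]
        rw [← Module.End.mul_apply, ← map_mul, inv_mul_cancel, map_one, Module.End.one_apply] }
  exact fun g => (sup_le (fun a ha => hv.1 ⟨a, ha⟩) fun a ha => hv.2 ⟨a, ha⟩ : A ⊔ B ≤ K) g.2

theorem ne_top_of_fxDim {φ : IrrCharacter G} (h : charDegree φ.1 ≠ 1) (hL : fxDim φ.1 L ≠ 0) :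
    L ≠ ⊤ := by
  rintro rfl
  refine hL (fxDim_eq_zero_of_normal φ fun h1 => h ?_)
  rw [φ.charKer_eq_top_iff.1 (top_le_iff.1 h1), IrrCharacter.charDegree_one]

/-- elements of order three when the Sylow `3`-subgroups are cyclic -/
theorem apply_eq_of_cyclic (h : IsClassFunction G χ) {c a b : G} (hc : IsSylowOf 3 (zpowers c) M)
    (ha : a ∈ M) (hb : b ∈ M) (ha3 : orderOf a = 3) (hb3 : orderOf b = 3) (hr : χ b⁻¹ = χ b) :
    χ a = χ b := by
  haveI : Fact (Nat.Prime 3) := ⟨Nat.prime_three⟩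
  have hp : ∀ y : G, orderOf y = 3 → IsPGroup 3 (zpowers y) := fun y hy =>
    pgroup_of_card ((Nat.card_zpowers y).trans hy)
  obtain ⟨g, -, hg⟩ := hc.exists_conj_le (hp a ha3) (zpowers_le.2 ha)
  obtain ⟨k, -, hk⟩ := hc.exists_conj_le (hp b hb3) (zpowers_le.2 hb)
  have h1 := mem_zpowers_of_orderOf_dvd_of_mem (hk (conj_mem_map_conj.2 (mem_zpowers b)))
    (hg (conj_mem_map_conj.2 (mem_zpowers a))) (by
      rw [orderOf_conj_eq, orderOf_conj_eq, ha3, hb3])
  classical
  obtain ⟨n, hn, e⟩ := mem_image.1 (mem_zpowers_iff_mem_range_orderOf.1 h1)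
  rw [orderOf_conj_eq, hb3, mem_range] at hn
  rw [← h a g, ← e, conj_pow, h]
  interval_cases n
  · rw [pow_zero, eq_comm, conj_eq_one_iff] at e
    simp [e] at ha3
  · rw [pow_one]
  · rw [← hr, eq_inv_of_mul_eq_one_left (show b ^ 2 * b = 1 from
      (pow_succ b 2).symm.trans (orderOf_dvd_iff_pow_eq_one.1 hb3.dvd))]

end Cfsg.GW

set_option linter.all false in
theorem Cfsg.Rz.GW_Alt7A_0 : True := by
  have := @_root_.Cfsg.GW.av.eq_def.{0}
  have := @_root_.Cfsg.GW.av.fun_cases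
  trivial
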