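import Cfsg.Agent.GW.Num
import Cfsg.Agent.GW.Alt7A
import Cfsg.Agent.Char.Congr

/-! # The configuration of `A₇`: local structure and the character of degree six -/

set_option autoImplicit false
set_option linter.unusedSectionVars false
set_option linter.unusedVariables false

namespace Cfsg.GW.A7

open Subgroup Cfsg.Agent.FT Finset
open scoped ComplexConjugate

universe u

variable {G : Type u} [Group G] [Finite G] {S : Subgroup G} {x s t y : G}

theorem cases_three {u : G} (hy : orderOf y = 3) (hu : u ∈ zpowers y) :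
    u = 1 ∨ u = y ∨ u = y⁻¹ := by
  classical
  obtain ⟨n, hn, rfl⟩ := mem_image.1 (mem_zpowers_iff_mem_range_orderOf.1 hu)
  rw [hy, mem_range] at hn
  interval_cases n
  · simp
  · simp
  · exact Or.inr (Or.inr (eq_inv_of_mul_eq_one_left
      ((pow_succ y 2).symm.trans (orderOf_dvd_iff_pow_eq_one.1 hy.dvd))))

theorem conj_cases {g : G} (hy : orderOf y = 3) (hg : g * y * g⁻¹ ∈ zpowers y) :
    g * y * g⁻¹ = y ∨ g * y * g⁻¹ = y⁻¹ :=
  (cases_three hy hg).resolve_left fun e => by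
    rw [conj_eq_one_iff] at e
    simp [e] at hy

theorem ne_inv_of_three (hy : orderOf y = 3) : y ≠ y⁻¹ := fun e => by
  have := orderOf_dvd_of_pow_eq_one ((pow_two y).trans (eq_inv_iff_mul_eq_one.1 e))
  rw [hy] at this
  omega

theorem exists_gen (h7 : A7cfg x s t) : ∃ y, 𝐎(𝓒[t]) = zpowers y := by
  obtain ⟨g, hg⟩ := (cyclic_of_prime (h7.card_core ▸ Nat.prime_three)).exists_generator
  refine ⟨g, le_antisymm (fun a ha => ?_) (zpowers_le.2 g.2)⟩
  obtain ⟨k, hk⟩ := hg ⟨a, ha⟩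
  exact ⟨k, congrArg Subtype.val hk⟩

section

variable (h : Base S x s t) (h7 : A7cfg x s t) (hy : 𝐎(𝓒[t]) = zpowers y)
include h h7 hy

theorem ord_y : orderOf y = 3 := by rw [← Nat.card_zpowers, ← hy, h7.card_core]

theorem mem_U {c : G} (hc : c ∈ 𝓒[t]) (ho : Odd (orderOf c)) : c ∈ zpowers y := by
  have := h.dih.le_core (X := zpowers c) (zpowers_le.2 ⟨mem_top c, hc⟩) (by rwa [Nat.card_zpowers])
  rw [top_inf_eq, hy] at this
  exact this (mem_zpowers c)

theorem y_mem : y ∈ 𝓒(four t s) := by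
  rw [cent_four]
  exact ⟨(piCoreOf_normalOf _ _).le (hy ▸ mem_zpowers y), h7.cent (hy ▸ mem_zpowers y)⟩

theorem y_mem_t : y ∈ 𝓒[t] := cent_le_cent1 (left_mem_four t s) (y_mem h h7 hy)

theorem sdprod : IsSdprod (zpowers y) S 𝓒[t] := by
  have := h.dih.sdprod
  rwa [top_inf_eq, hy] at this

theorem card_H : Nat.card (𝓒[t] : Subgroup G) = 24 := by
  rw [← (sdprod h h7 hy).card, Nat.card_zpowers, ord_y h h7 hy, (h.dih.card_eight h7.sq).1]

theorem conj_y {g : G} (hg : g * y * g⁻¹ ∈ 𝓒[t]) : g * y * g⁻¹ = y ∨ g * y * g⁻¹ = y⁻¹ :=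
  conj_cases (ord_y h h7 hy) (mem_U h h7 hy hg (by rw [orderOf_conj_eq, ord_y h h7 hy]; decide))

theorem conj_y' {g : G} (hg : g ∈ 𝓒[t]) : g * y * g⁻¹ = y ∨ g * y * g⁻¹ = y⁻¹ :=
  conj_y h h7 hy (mul_mem (mul_mem hg (y_mem_t h h7 hy)) (inv_mem hg))

omit h7 hy in
theorem exists_rho' {s' : G} (hd : DihOf ⊤ S x s' t) :
    ∃ ρ, ρ * t * ρ⁻¹ = s' ∧ ρ * s' * ρ⁻¹ = t * s' := by
  obtain ⟨ρ, -, e⟩ := hd.exists_rho (h.one s' (mem_top _) hd.isFour.ord_right)
  exact ⟨ρ, e⟩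

omit hy in
theorem eq_top {M : Subgroup G} (hM : 𝓒[t] ≤ M) (h1 : ∃ g ∈ M, g * t * g⁻¹ = s)
    (h2 : ∃ g ∈ M, g * t * g⁻¹ = x * s) : M = ⊤ := by
  by_contra hn
  have := (h.a0 hn hM ((h.dih.mono (h.dih.le_cent.trans hM) le_top).oneCl h1 h2)).2.1
  rw [h7.card] at this
  omega

theorem x_inv : x * y * x⁻¹ = y⁻¹ := by
  refine (conj_y' h h7 hy (h.dih.le_cent h.dih.x_mem)).resolve_left fun hx => ?_
  haveI := h.simple
  have key : ∀ s', DihOf ⊤ S x s' t → y ∈ 𝓒[s'] → ∃ g ∈ 𝓝(zpowers y), g * t * g⁻¹ = s' := by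
    intro s' hd hs
    obtain ⟨ρ, e1, e2⟩ := exists_rho' h hd
    have h1 : ρ⁻¹ * y * ρ⁻¹⁻¹ ∈ 𝓒[t] := mem_cent1.2 (by
      rw [inv_inv, show t = ρ⁻¹ * s' * ρ by rw [← e1]; group]
      calc _ = ρ⁻¹ * (y * s') * ρ := by group
        _ = _ := by rw [mem_cent1.1 hs]; group)
    refine ⟨ρ, inv_mem_iff.1 (mem_normalizer_of_forall_conj_mem (map_conj_le_iff.1 ?_)), e1⟩
    rw [MonoidHom.map_zpowers, zpowers_le]
    exact mem_U h h7 hy h1 ((orderOf_conj_eq _ y).trans (ord_y h h7 hy) ▸ by decide)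
  have hs : y ∈ 𝓒[s] := h7.cent (hy ▸ mem_zpowers y)
  refine norm_ne_top (X := zpowers y) (fun e => ?_) (fun e => ?_) (eq_top h h7
    (sdprod h h7 hy).normal.2 (key s h.dih hs) (key _ h.dih.swap (mem_cent1.2 ?_)))
  · simpa [zpowers_eq_bot.1 e] using ord_y h h7 hy
  · have := ord_y h h7 hy
    rw [← Nat.card_zpowers, e, card_top, h7.card] at this
    omega
  · rw [← mul_assoc, ← mul_inv_eq_iff_eq_mul.1 hx, mul_assoc, mem_cent1.1 hs, mul_assoc]

theorem not_cent_x : y ∉ 𝓒[x] := fun e => ne_inv_of_three (ord_y h h7 hy) (by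
  rw [← x_inv h h7 hy, ← mem_cent1.1 e, mul_inv_cancel_right])

theorem dprod : IsDprod (zpowers y) (four t s) 𝓒(four t s) := by
  have := h.dih.cent_four
  rwa [top_inf_eq, top_inf_eq, inf_eq_left.2 h7.cent, hy] at this

theorem card_C : Nat.card (𝓒(four t s) : Subgroup G) = 12 := by
  rw [← (dprod h h7 hy).card, Nat.card_zpowers, ord_y h h7 hy, h.dih.isFour.card]

theorem cent_ty : 𝓒[t] ⊓ 𝓒[y] = 𝓒(four t s) := by
  have h1 : 𝓒(four t s) ≤ 𝓒[t] ⊓ 𝓒[y] := by
    refine le_inf (cent_le_cent1 (left_mem_four t s)) ?_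
    rw [← (dprod h h7 hy).sup]
    exact sup_le (zpowers_le.2 (mem_cent1.2 rfl)) (le_cent1_iff.2 (y_mem h h7 hy))
  refine (eq_of_le_of_card_le h1 ?_).symm
  have h2 := card_dvd_of_le (inf_le_left : 𝓒[t] ⊓ 𝓒[y] ≤ 𝓒[t])
  have h3 : Nat.card (𝓒[t] ⊓ 𝓒[y] : Subgroup G) ≠ Nat.card (𝓒[t] : Subgroup G) := fun e =>
    not_cent_x h h7 hy (mem_cent1.2 (mem_cent1.1 ((eq_of_le_of_card_le inf_le_left e.ge).ge
      (h.dih.le_cent h.dih.x_mem)).2).symm)
  rw [card_H h h7 hy] at h2 h3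
  rw [card_C h h7 hy]
  obtain ⟨k, hk⟩ := h2
  rcases k with _ | _ | k
  · omega
  · omega
  · nlinarith

theorem comm_ty : Commute t y := (mem_cent1.1 (y_mem_t h h7 hy)).symm

theorem pow_three : (t * y) ^ 3 = t := by
  rw [(comm_ty h h7 hy).mul_pow, orderOf_dvd_iff_pow_eq_one.1 (ord_y h h7 hy).dvd, mul_one,
    pow_succ, pow_two, h.dih.isFour.tt, one_mul]

theorem cent_ty' : 𝓒[t * y] = 𝓒(four t s) := by
  rw [← cent_ty h h7 hy]
  ext c
  simp only [Subgroup.mem_inf, mem_cent1]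
  refine ⟨fun e => ?_, fun e => Commute.mul_right e.1 e.2⟩
  have h1 : Commute c t := pow_three h h7 hy ▸ Commute.pow_right e 3
  exact ⟨h1, Commute.eq (by simpa using h1.inv_right.mul_right e)⟩

theorem card_cent_x : Nat.card (𝓒[x] : Subgroup G) = 4 := by
  have hle : 𝓒[x] ≤ 𝓒[t] := fun c hc => h7.sq ▸ mem_cent1.2
    (Commute.mul_right (mem_cent1.1 hc) (mem_cent1.1 hc))
  have h1 := h.dih.pair.factorization_centralizer h.dih.syl.pgroup
    (relIndex_top_right S ▸ h.dih.syl.not_dvd) h.dih.t_mem h.dih.ord (mem_zpowers x)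
    (h7.sq ▸ ne_one_of_ord h.dih.ord)
  rw [(h.dih.card_eight h7.sq).2.1] at h1
  have h2 := card_H h h7 hy ▸ card_dvd_of_le hle
  have h3 : ¬ 3 ∣ Nat.card (𝓒[x] : Subgroup G) := fun e => by
    haveI : Fact (Nat.Prime 3) := ⟨Nat.prime_three⟩
    obtain ⟨c, hc⟩ := exists_prime_orderOf_dvd_card' 3 e
    rw [← Subgroup.orderOf_coe] at hc
    rcases cases_three (ord_y h h7 hy) (mem_U h h7 hy (hle c.2) (by rw [hc]; decide)) with e | e | e
    · simp [e] at hc
    · exact not_cent_x h h7 hy (e ▸ c.2)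
    · exact not_cent_x h h7 hy (inv_mem_iff.1 (e ▸ c.2))
  have h4 : Nat.card (𝓒[x] : Subgroup G) ∣ 2 ^ 3 :=
    ((Nat.Prime.coprime_iff_not_dvd Nat.prime_three).2 h3).symm.dvd_of_dvd_mul_left h2
  obtain ⟨k, -, hk⟩ := (Nat.dvd_prime_pow Nat.prime_two).1 h4
  rw [hk, Nat.prime_two.factorization_pow, Finsupp.single_eq_same] at h1
  rw [hk, h1]

theorem cent_V2 : 𝓒(four t (x * s)) = four t (x * s) := by
  have h1 := h.dih.swap.cent_four
  rw [top_inf_eq, top_inf_eq, hy] at h1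
  rw [← h1.sup, sup_eq_right]
  have h2 : y ∉ 𝓒[x * s] := fun e => not_cent_x h h7 hy (mem_cent1.2 (Commute.eq (by
    simpa using Commute.mul_right (mem_cent1.1 e)
      (Commute.inv_right (mem_cent1.1 (h7.cent (hy ▸ mem_zpowers y)))))))
  intro c hc
  rcases cases_three (ord_y h h7 hy) hc.1 with rfl | rfl | rfl
  exacts [one_mem _, (h2 hc.2).elim, (h2 (inv_mem_iff.1 hc.2)).elim]

omit h7 hy in
theorem isConj_iff_ord {a : G} : IsConj t a ↔ orderOf a = 2 := by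
  refine ⟨fun e => ?_, fun e => ?_⟩
  · obtain ⟨c, rfl⟩ := isConj_iff.1 e
    rw [orderOf_conj_eq, h.dih.ord]
  · obtain ⟨g, -, e⟩ := h.one a (mem_top a) e
    exact isConj_iff.2 ⟨g, e⟩

omit h7 hy in
theorem card_pairs (z : G) : Nat.card {p : G × G // IsConj t p.1 ∧ IsConj t p.2 ∧ p.1 * p.2 = z} =
    {a | orderOf a = 2 ∧ a * z * a⁻¹ = z⁻¹ ∧ a ≠ z}.ncard := by
  refine Nat.card_congr ⟨fun p => ⟨p.1.1, ?_⟩, fun a => ⟨(a, a * z), ?_⟩, ?_, fun a => rfl⟩
  · obtain ⟨⟨a, b⟩, ha, hb, rfl⟩ := p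
    rw [isConj_iff_ord h] at ha hb
    refine ⟨ha, ?_, fun e => ne_one_of_ord hb (left_eq_mul.1 e)⟩
    change a * (a * b) * a⁻¹ = (a * b)⁻¹
    rw [← mul_assoc, mul_self_of_orderOf_eq_two ha, one_mul, mul_inv_rev,
      inv_eq_of_mul_eq_one_right (mul_self_of_orderOf_eq_two hb)]
  · obtain ⟨a, ha, h1, h2⟩ := a
    have h3 := mul_self_of_orderOf_eq_two ha
    refine ⟨(isConj_iff_ord h).2 ha, (isConj_iff_ord h).2 (orderOf_eq_two_of_mul_self ?_
      fun e => h2 (mul_left_cancel (h3.trans e.symm))), by rw [← mul_assoc, h3, one_mul]⟩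
    rw [inv_eq_of_mul_eq_one_right h3] at h1
    rw [← mul_assoc, h1, inv_mul_cancel]
  · rintro ⟨⟨a, b⟩, ha, hb, rfl⟩
    rw [isConj_iff_ord h] at ha
    simp [← mul_assoc, mul_self_of_orderOf_eq_two ha]

theorem ncard_pairs : {a | orderOf a = 2 ∧ a * t * a⁻¹ = t⁻¹ ∧ a ≠ t}.ncard =
    {a | orderOf a = 2 ∧ a * (t * y) * a⁻¹ = (t * y)⁻¹ ∧ a ≠ t * y}.ncard + 2 := by
  have h4 := h.dih.isFour
  have ht : t⁻¹ = t := inv_eq_of_mul_eq_one_right h4.tt
  have hyy := ne_inv_of_three (ord_y h h7 hy)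
  have h1 : ∀ a, a * (t * y) * a⁻¹ = (t * y)⁻¹ ↔ a * t * a⁻¹ = t ∧ a * y * a⁻¹ = y⁻¹ := fun a => by
    have e0 : (t * y)⁻¹ = t * y⁻¹ := by rw [(comm_ty h h7 hy).eq, mul_inv_rev, ht]
    refine ⟨fun e => ?_, fun e => by rw [← conj_mul, e.1, e.2, e0]⟩
    have e1 := congrArg (· ^ 3) e
    simp only [conj_pow, inv_pow, pow_three h h7 hy, ht] at e1
    rw [← conj_mul, e1, e0] at e
    exact ⟨e1, mul_left_cancel e⟩
  have h2 : ∀ a ∈ four t s, a * y * a⁻¹ = y := fun a ha =>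
    mul_inv_eq_iff_eq_mul.2 (mem_cent_sub.1 (y_mem h h7 hy) a ha)
  have h3 : ∀ a ∈ four t s, a * t * a⁻¹ = t := fun a ha => h.dih.conj_t (h.dih.four_le ha)
  refine .trans ?_ ((Set.ncard_union_eq (Set.disjoint_right.2 ?_)).trans (congrArg _ (Set.ncard_pair
    (show s ≠ t * s from fun e => ne_one_of_ord h4.ord_left (right_eq_mul.1 e)))))
  · congr 1
    ext a
    simp only [Set.mem_union, Set.mem_ofPred_eq, h1, ht, Set.mem_insert_iff, Set.mem_singleton_iff]
    refine ⟨fun ⟨e1, e2, e3⟩ => ?_, ?_⟩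
    · have hc : a ∈ 𝓒[t] := mem_cent1.2 (mul_inv_eq_iff_eq_mul.1 e2)
      rcases conj_y' h h7 hy hc with e | e
      · have h5 : a ∈ 𝓒(four t s) := cent_ty h h7 hy ▸ ⟨hc, mem_cent1.2 (mul_inv_eq_iff_eq_mul.1 e)⟩
        rw [cent_four] at h5
        exact Or.inr (((h4.mem_four.1 (h.dih.isD8.mem_four h4 (mem_top _) (mem_top _) (mem_top _)
          (isPElt_two_of_orderOf e1) (mem_cent1.1 hc) (mem_cent1.1 h5.2))).resolve_left
          (ne_one_of_ord e1)).resolve_left e3)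
      · refine Or.inl ⟨e1, ⟨e2, e⟩, ?_⟩
        rintro rfl
        exact hyy (by rw [← e, ← ((comm_ty h h7 hy).symm.mul_right (Commute.refl y)).eq,
          mul_inv_cancel_right])
    · rintro (⟨e1, ⟨e2, e3⟩, -⟩ | rfl | rfl)
      · refine ⟨e1, e2, ?_⟩
        rintro rfl
        exact hyy ((h2 _ (left_mem_four _ _)).symm.trans e3)
      · exact ⟨h4.ord_right, h3 _ (right_mem_four _ _), h4.ne.symm⟩
      · exact ⟨h4.mul.ord_right, h3 _ (mul_mem_four _ _), h4.mul.ne.symm⟩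
  · rintro a (rfl | rfl) e
    · exact hyy ((h2 _ (right_mem_four _ _)).symm.trans ((h1 _).1 e.2.1).2)
    · exact hyy ((h2 _ (mul_mem_four _ _)).symm.trans ((h1 _).1 e.2.1).2)

omit hy in
theorem eight_mul_fxDim {χ : G → ℂ} (hχ : IsCharacter G χ) :
    8 * (fxDim χ S : ℂ) = χ 1 + 5 * χ t + 2 * χ x := by
  have h4 := h.dih.isFour
  have hv : ∀ a, orderOf a = 2 → χ a = χ t := fun a ha => by
    obtain ⟨g, -, rfl⟩ := h.one a (mem_top a) ha
    exact hχ.isClassFunction t g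
  have h1 := av_sup2 (χ := χ) (h.dih.le_norm_four h.dih.x_mem) (h7.sq ▸ left_mem_four t s) 1
  have hS : four t s ⊔ zpowers x = S := le_antisymm (sup_le h.dih.four_le h.dih.pair.zpowers_le)
    (h.dih.eq_sup.trans_le (sup_le le_sup_right (le_sup_of_le_left le_sup_right)))
  have h2 := av_four (χ := χ) h4 1
  have h3 := av_four (χ := χ) h4 x
  have h5 : x * t = s * x * s⁻¹ := by
    rw [h.dih.pair.conj_eq, eq_inv_iff_mul_eq_one, mul_assoc, ← mem_cent1.1 (h.dih.le_cent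
      h.dih.x_mem), ← mul_assoc, h7.sq, h4.tt]
  have h6 : x * (t * s) = t * (x * s) := by
    rw [← mul_assoc, mem_cent1.1 (h.dih.le_cent h.dih.x_mem), mul_assoc]
  rw [h5, hχ.isClassFunction, h6, hv _ h.dih.swap.isFour.ord_right,
    hv _ h.dih.swap.isFour.mul.ord_right] at h3
  simp only [one_mul] at h1 h2
  rw [hv _ h4.ord_right, hv _ h4.mul.ord_right] at h2
  rw [hS, av_one hχ] at h1
  linear_combination 4 * h1 + h2 + h3

theorem exists_six : ∃ χ : IrrCharacter G, charDegree χ.1 = 6 ∧ χ t = 2 ∧ χ x = 0 ∧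
    χ (t * y) = -1 := by
  classical
  obtain ⟨M, hM⟩ := exists_isPModular Nat.prime_two
  have h4 := h.dih.isFour
  have h3 := ord_y h h7 hy
  have hty := comm_ty h h7 hy
  have h6 : orderOf (t * y) = 6 := by
    rw [hty.orderOf_mul_eq_mul_orderOf_of_coprime (by rw [h3, h4.ord_left]; decide), h3,
      h4.ord_left]
  choose a ha using fun χ : IrrCharacter G =>
    (χ.isCharacter.exists_int_of_sq_eq_one ((pow_two t).trans h4.tt)).imp fun m hm => hm.1
  have hc : ∀ χ : IrrCharacter G, ∃ m : ℤ, χ (t * y) = m := fun χ => by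
    refine χ.isCharacter.isGen.exists_int_of_forall_pow fun k hk => ?_
    rw [h6] at hk
    rw [← pow_mod_orderOf, h6]
    obtain e | e : k % 6 = 1 ∨ k % 6 = 5 := by
      have h2 : ¬ 2 ∣ k := fun e => by simpa using Nat.eq_one_of_dvd_coprimes hk e (by decide)
      have h3 : ¬ 3 ∣ k := fun e => by simpa using Nat.eq_one_of_dvd_coprimes hk e (by decide)
      omega
    · rw [e, pow_one]
    · rw [e, ← χ.isClassFunction (t * y) x, ← conj_mul, x_inv h h7 hy, h.dih.conj_t h.dih.x_mem]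
      refine congrArg χ.1 (mul_right_cancel (b := t * y) ?_)
      rw [← pow_succ, orderOf_dvd_iff_pow_eq_one.1 h6.dvd, hty.eq, mul_assoc, inv_mul_cancel_left, h4.tt]
  choose c hc using hc
  have hd : ∀ χ, ∃ d : ℤ, a χ - c χ = 3 * d := fun χ =>
    (χ.isCharacter.isGen.int_modEq Nat.prime_three hty.symm (k := 1)
      (orderOf_dvd_iff_pow_eq_one.1 h3.dvd) (hty.eq ▸ hc χ) (ha χ)).dvd
  choose d hd using hd
  have hn : ∀ g k : G, orderOf g ≠ orderOf k → ∑ χ : IrrCharacter G, χ g * conj (χ k) = 0 :=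
    fun g k e => sum_irr_mul_conj_of_not_isConj fun e' => e (by
      obtain ⟨c, rfl⟩ := isConj_iff.1 e'; rw [orderOf_conj_eq])
  have S1 := sum_irr_mul_conj_of_isConj (IsConj.refl t)
  have S2 := sum_irr_mul_conj_of_isConj (IsConj.refl (t * y))
  have S3 := hn t (t * y) (by rw [h6, h4.ord_left]; decide)
  have S4 := hn 1 t (by rw [orderOf_one, h4.ord_left]; decide)
  have S5 := hn 1 (t * y) (by rw [orderOf_one, h6]; decide)
  have S6 := sum_irr_mul_conj_of_isConj (IsConj.refl x)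
  rw [card_H h h7 hy] at S1
  rw [cent_ty' h h7 hy, card_C h h7 hy] at S2
  rw [card_cent_x h h7 hy] at S6
  simp only [ha, hc, map_intCast, IrrCharacter.apply_one] at S1 S2 S3 S4 S5
  norm_cast at S1 S2 S3 S4 S5
  -- the principal block
  have hi : ¬ 2 ∣ S.index := relIndex_top_right S ▸ h.dih.syl.not_dvd
  have hB : ∀ F : IrrCharacter G → ℂ, ∑ᶠ χ ∈ principalBlock M G, F χ =
      ∑ χ with χ ∈ principalBlock M G, F χ := fun F => by
    rw [← finsum_mem_coe_finset]; simp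
  have hx4 := (h.dih.card_eight h7.sq).2.1
  have B1 := h.dih.pair.finsum_mul hM h.dih.syl.pgroup hi h.dih.t_mem h.dih.ord h.dih.t_mem
    h.dih.t_mem (ne_one_of_ord h.dih.ord)
  have B2 := h.dih.pair.finsum_mul hM h.dih.syl.pgroup hi h.dih.t_mem h.dih.ord (mem_zpowers x)
    (mem_zpowers x) (fun e => by simp [e] at hx4)
  rw [hB, hx4, if_pos rfl, if_pos (inv_eq_of_mul_eq_one_right h4.tt).symm] at B1
  rw [hB, hx4, if_pos rfl, if_neg fun e => ne_one_of_ord h.dih.ord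
    (h7.sq.symm.trans (eq_inv_iff_mul_eq_one.1 e))] at B2
  simp only [ha] at B1
  norm_cast at B1
  have B3 : ∀ χ ∈ principalBlock M G, c χ = a χ := fun χ hχ => by
    have := h.dih.pair.irr_apply_eq hM h.dih.syl.pgroup hi h.dih.t_mem h.dih.ord h.dih.t_mem
      (ne_one_of_ord h.dih.ord) hχ (g := t * y) (by
        rw [pPart_mul_of_commute 2 hty, pPart_eq_self_iff.2 (isPElt_two_of_orderOf h.dih.ord),
          pPart_eq_one_iff.2 (by rw [IsPRegular, h3]; decide), mul_one])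
    rw [ha, hc] at this
    exact_mod_cast this
  have B4 : ∀ χ ∉ principalBlock M G, a χ + 2 * c χ = 0 := by
    have e1 : ∑ χ, (a χ + 2 * c χ) ^ 2 = 72 := by
      rw [sum_congr rfl fun χ _ => show (a χ + 2 * c χ) ^ 2 =
        a χ * a χ + 4 * (c χ * c χ) + 4 * (a χ * c χ) by ring, sum_add_distrib, sum_add_distrib,
        ← mul_sum, ← mul_sum, S1, S2, S3]
      rfl
    rw [← sum_filter_add_sum_filter_not univ (· ∈ principalBlock M G), sum_congr rfl
      fun χ hχ => show (a χ + 2 * c χ) ^ 2 = 9 * (a χ * a χ) by rw [B3 χ (mem_filter.1 hχ).2]; ring,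
      ← mul_sum, B1] at e1
    intro χ hχ
    exact pow_eq_zero_iff two_ne_zero |>.1 ((sum_eq_zero_iff_of_nonneg fun _ _ => sq_nonneg _).1
      (add_eq_left.1 e1) χ (mem_filter.2 ⟨mem_univ _, hχ⟩))
  have B5 : ∀ χ ∉ principalBlock M G, χ x = 0 := by
    rw [← sum_filter_add_sum_filter_not univ (· ∈ principalBlock M G), sum_congr rfl
      fun χ hχ => by rw [h.dih.pair.conj_irr_apply χ (mem_zpowers x)], B2] at S6
    have e1 : ∑ χ with χ ∉ principalBlock M G, Complex.normSq (χ x) = 0 := by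
      simp only [Complex.mul_conj] at S6
      refine Complex.ofReal_injective ?_
      push_cast at S6 ⊢
      linear_combination S6
    intro χ hχ
    exact Complex.normSq_eq_zero.1 ((sum_eq_zero_iff_of_nonneg fun _ _ => Complex.normSq_nonneg _).1
      e1 χ (mem_filter.2 ⟨mem_univ _, hχ⟩))
  have hD : ∀ χ, d χ ≠ 0 → χ ∉ principalBlock M G := fun χ h0 hχ => by
    have := hd χ; have := B3 χ hχ; omega
  have D1 : ∑ χ, d χ ^ 2 = 4 := by
    have e1 : ∑ χ, 9 * d χ ^ 2 = 36 := by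
      rw [sum_congr rfl fun χ _ => show 9 * d χ ^ 2 =
        a χ * a χ + c χ * c χ - 2 * (a χ * c χ) by
          linear_combination (-(a χ - c χ + 3 * d χ)) * hd χ, sum_sub_distrib, sum_add_distrib, ← mul_sum, S1, S2, S3]
      rfl
    rw [← mul_sum] at e1
    omega
  have D2 : ∑ χ, d χ * charDegree χ.1 = 0 := by
    have e1 : ∑ χ, 3 * (d χ * charDegree χ.1) = 0 := by
      rw [sum_congr rfl fun χ _ => show 3 * (d χ * charDegree χ.1) =
        charDegree χ.1 * a χ - charDegree χ.1 * c χ by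
          linear_combination (-(charDegree χ.1 : ℤ)) * hd χ, sum_sub_distrib, S4, S5, sub_self]
    rw [← mul_sum] at e1
    omega
  choose k hk using fun χ : IrrCharacter G => h7.card ▸ χ.charDegree_dvd_card
  have D3 : ∑ χ, d χ ^ 3 * k χ = 96 := by
    have e1 := card_class_mul_eq_sum t t t
    have e2 := card_class_mul_eq_sum t t (t * y)
    have e3 := (𝓒[t] : Subgroup G).card_mul_index
    rw [card_H h h7 hy, h7.card] at e3
    rw [card_pairs h, show (𝓒[t] : Subgroup G).index = 105 by omega, h7.card] at e1 e2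
    rw [ncard_pairs h h7 hy, Nat.cast_add, e2, add_comm, ← eq_sub_iff_add_eq, ← mul_sub,
      ← sum_sub_distrib, sum_congr rfl fun χ _ => show _ = (12 / 2520 : ℂ) * (d χ ^ 3 * k χ : ℤ) by
        have e4 : a χ * a χ * (a χ - c χ) = 12 * d χ ^ 3 := by
          by_cases h0 : d χ = 0
          · rw [hd, h0]; simp
          · have := B4 χ (hD χ h0)
            have := hd χ
            rw [hd, show a χ = 2 * d χ by omega]; ring
        have e5 : (2520 : ℂ) = χ 1 * k χ := by rw [χ.apply_one]; exact_mod_cast hk χ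
        have e6 := χ.apply_one_ne_zero
        have e7 : (k χ : ℂ) ≠ 0 := fun e => by simp [e] at e5
        have e8 := congrArg (Int.cast (R := ℂ)) e4
        rw [ha, hc, map_intCast, map_intCast, e5]
        push_cast at e8 ⊢
        field_simp
        linear_combination e8, ← mul_sum, ← Int.cast_sum] at e1
    have e9 : ((∑ χ, d χ ^ 3 * k χ : ℤ) : ℂ) = (96 : ℤ) := by
      push_cast at e1 ⊢
      linear_combination (-48) * e1
    exact_mod_cast e9
  have D4 : ∀ χ, d χ ≠ 0 → d χ = 1 ∨ d χ = -1 := fun χ h0 => by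
    by_contra! hn
    have e1 : 4 ≤ d χ ^ 2 := by
      obtain e | e : 2 ≤ d χ ∨ d χ ≤ -2 := by omega
      all_goals nlinarith
    rw [← add_sum_erase _ _ (mem_univ χ)] at D1 D2
    have e2 := (sum_eq_zero_iff_of_nonneg fun ψ _ => sq_nonneg (d ψ)).1 (le_antisymm (by omega)
      (sum_nonneg (s := univ.erase χ) fun ψ _ => sq_nonneg (d ψ)))
    rw [sum_eq_zero fun ψ hψ => by rw [pow_eq_zero_iff two_ne_zero |>.1 (e2 ψ hψ), zero_mul],
      add_zero, mul_eq_zero] at D2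
    exact D2.elim h0 (Nat.cast_ne_zero.2 χ.charDegree_pos.ne')
  by_contra! hno
  have key : ∀ χ, d χ ≠ 0 → d χ * charDegree χ.1 = 14 ∧ d χ ^ 3 * k χ = 180 ∨
      d χ * charDegree χ.1 = 30 ∧ d χ ^ 3 * k χ = 84 ∨
      d χ * charDegree χ.1 = -10 ∧ d χ ^ 3 * k χ = -252 ∨
      d χ * charDegree χ.1 = -18 ∧ d χ ^ 3 * k χ = -140 ∨
      d χ * charDegree χ.1 = -42 ∧ d χ ^ 3 * k χ = -60 := fun χ h0 => by
    have e1 := eight_mul_fxDim h h7 χ.isCharacter
    have e2 := B4 χ (hD χ h0)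
    have e3 := hd χ
    have e4 := B5 χ (hD χ h0)
    have e5 := hk χ
    have e6 : charDegree χ.1 ≤ 50 := by
      have := single_le_sum (f := fun ψ : IrrCharacter G => charDegree ψ.1 ^ 2)
        (fun _ _ => Nat.zero_le _) (mem_univ χ)
      rw [sum_charDegree_sq, h7.card] at this
      nlinarith
    have e7 := hno χ
    change 8 * _ = χ 1 + 5 * χ t + 2 * χ x at e1
    rw [ha, e4, χ.apply_one] at e1
    rw [ha, hc] at e7
    norm_cast at e1 e7
    rcases D4 χ h0 with e | e <;> rw [e] at e3 ⊢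
    · obtain e8 | e8 | e8 := (by decide : ∀ n ≤ 50, n ∣ 2520 → n % 8 = 6 → n = 6 ∨ n = 14 ∨ n = 30)
        _ e6 ⟨_, e5⟩ (by omega)
      · exact (e7 e8 (by omega) e4 (by omega)).elim
      all_goals rw [e8] at e5 ⊢; omega
    · obtain e8 | e8 | e8 | e8 := (by decide : ∀ n ≤ 50, n ∣ 2520 → n % 8 = 2 →
        n = 2 ∨ n = 10 ∨ n = 18 ∨ n = 42) _ e6 ⟨_, e5⟩ (by omega)
      · haveI := h.simple
        have e9 : t ∈ charCenter χ.1 := χ.mem_charCenter.2 (by
          rw [ha, e8, show a χ = -2 by omega]; simp)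
        rcases (charCenter_normal χ.1).eq_bot_or_eq_top with e0 | e0
        · exact (ne_one_of_ord h.dih.ord (mem_bot.1 (e0 ▸ e9))).elim
        · have := χ.mem_charCenter.1 (e0 ▸ mem_top x)
          rw [e4, e8] at this
          simp at this
      all_goals rw [e8] at e5 ⊢; omega
  rw [← sum_filter_of_ne (p := (d · ≠ 0)) fun χ _ e e' => e (by simp [e'])] at D1 D2 D3
  rw [sum_congr rfl fun χ hχ => show d χ ^ 2 = 1 by
    rcases D4 χ (mem_filter.1 hχ).2 with e | e <;> simp [e], sum_const, nsmul_one] at D1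
  obtain ⟨χ₁, χ₂, χ₃, χ₄, n1, n2, n3, n4, n5, n6, e⟩ := card_eq_four.1 (by exact_mod_cast D1)
  have hm : ∀ χ ∈ ({χ₁, χ₂, χ₃, χ₄} : Finset _), d χ ≠ 0 := fun χ hχ => by
    rw [← e] at hχ
    exact (mem_filter.1 hχ).2
  rw [e, sum_insert (by simp [*]), sum_insert (by simp [*]), sum_pair n6] at D2 D3
  have k1 := key χ₁ (hm _ (by simp))
  have k2 := key χ₂ (hm _ (by simp))
  have k3 := key χ₃ (hm _ (by simp))
  have k4 := key χ₄ (hm _ (by simp))
  omega

end

end Cfsg.GW.A7
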