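import Cfsg.Agent.GW.BswC

/-! # Brauer-Suzuki-Wall: the Sylow subgroups for the defining characteristic -/

set_option autoImplicit false
set_option linter.unusedSectionVars false
set_option linter.unusedVariables false
set_option linter.style.haveILetI false

namespace Cfsg.GW

open Subgroup Cfsg.Agent.FT

universe u

variable {G : Type u} [Group G] [Finite G]

/-- If no nontrivial element of order `r` normalizes a nontrivial `p`-subgroup (`p ≠ r` odd) and the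
normalizers of nontrivial `r`-subgroups have odd order, the Sylow `r`-subgroups are TI. -/
theorem sylow_ti {r : ℕ} [hr : Fact r.Prime]
    (h1 : ∀ D : Subgroup G, IsPGroup r D → D ≠ ⊥ → Odd (Nat.card 𝓝(D)))
    (h2 : ∀ p : ℕ, p.Prime → p ≠ 2 → p ≠ r → ∀ W : Subgroup G, IsPGroup p W → W ≠ ⊥ →
      ∀ y ∈ 𝓝(W), orderOf y ≠ r) {Q Q' : Subgroup G} (hQ : IsSylowOf r Q ⊤)
    (hQ' : IsSylowOf r Q' ⊤) (hne : Q ≠ Q') : Q ⊓ Q' = ⊥ := by
  by_contra h0
  obtain ⟨D, ⟨hD0, Q, Q', hQ, hQ', hne, hle, hle'⟩, hmax⟩ := Set.Finite.exists_maximal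
    (Set.toFinite {D : Subgroup G | D ≠ ⊥ ∧ ∃ Q Q', IsSylowOf r Q ⊤ ∧ IsSylowOf r Q' ⊤ ∧ Q ≠ Q' ∧
      D ≤ Q ∧ D ≤ Q'}) ⟨Q ⊓ Q', h0, Q, Q', hQ, hQ', hne, inf_le_left, inf_le_right⟩
  have uniq : ∀ R, D < R → ∀ Q₁ Q₂, IsSylowOf r Q₁ ⊤ → IsSylowOf r Q₂ ⊤ → R ≤ Q₁ → R ≤ Q₂ →
      Q₁ = Q₂ := fun R hR Q₁ Q₂ a b c d => by_contra fun e =>
    hR.not_ge (hmax ⟨(bot_le.trans_lt hR).ne', Q₁, Q₂, a, b, e, c, d⟩ hR.le)
  have hlt : ∀ Q Q', IsSylowOf r Q ⊤ → IsSylowOf r Q' ⊤ → Q ≠ Q' → D ≤ Q → D ≤ Q' →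
      D < Q ⊓ 𝓝(D) := fun Q Q' a b c d e =>
    nil_norm_lt (nil_of_pgroup a.pgroup) (lt_of_le_of_ne d fun f =>
      c (a.eq_of_le b.pgroup (f ▸ e) le_top).symm)
  have l1 := hlt Q Q' hQ hQ' hne hle hle'
  have l2 := hlt Q' Q hQ' hQ hne.symm hle' hle
  have hD : IsPGroup r D := hQ.pgroup.to_le hle
  have ho := h1 D hD hD0
  obtain ⟨U, hU, -⟩ := exists_isChief_above (M := 𝓝(D)) (K := 𝓝(D)) (l1.trans_le inf_le_right)
    le_rfl le_rfl le_normalizer
  obtain ⟨p, hp, hel⟩ := hU.abelem (sol_of_le (oddOrder ho) hU.le)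
  have : Fact p.Prime := ⟨hp⟩
  by_cases hpr : p = r
  · subst hpr
    have hUp : IsPGroup p U := isPGroup_of_quo hU.le hD (IsElementaryAbelian.isPGroup hel)
    have key : ∀ Q, IsSylowOf p Q ⊤ → D < Q ⊓ 𝓝(D) → U ≤ Q := fun Q a b => by
      obtain ⟨R, c, d⟩ := exists_sylow_ge
        (pgroup_sup (a.pgroup.to_le inf_le_left) hUp (inf_le_right.trans hU.normU)) le_top
      rw [uniq _ b Q R a c inf_le_left (le_sup_left.trans d)]
      exact le_sup_right.trans d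
    exact hne (uniq U hU.lt Q Q' hQ hQ' (key Q hQ l1) (key Q' hQ' l2))
  · obtain ⟨W, hW⟩ := exists_sylow p U
    obtain ⟨k, hk⟩ := (isPGroup_quo_iff hU.le).1 (IsElementaryAbelian.isPGroup hel)
    have hk0 : k ≠ 0 := fun e => hU.lt.not_ge (relIndex_eq_one.1 (by rw [hk, e, pow_zero]))
    have hpU : p ∣ Nat.card U := (dvd_pow_self p hk0).trans (hk ▸ relIndex_dvd_card D U)
    have hF := hW.frattini (N := U) (M := 𝓝(D)) ⟨hU.le, hU.normU⟩
    have a1 : r ∣ D.relIndex 𝓝(D) := by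
      obtain ⟨j, hj⟩ := (isPGroup_quo_iff (N := D) (H := Q ⊓ 𝓝(D)) inf_le_right).1
        (isPGroup_quo (hQ.pgroup.to_le inf_le_left) D)
      have hj0 : j ≠ 0 := fun e => l1.not_ge (relIndex_eq_one.1 (by rw [hj, e, pow_zero]))
      exact (dvd_pow_self r hj0).trans (hj ▸ relIndex_dvd_of_le_right l1.le inf_le_right)
    rw [← relIndex_mul_relIndex D U _ hU.lt.le hU.le, hk, hF.symm.symm.relIndex_eq] at a1
    have a2 := ((Nat.Prime.dvd_mul hr.out).1 a1).resolve_left fun e =>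
      hpr ((Nat.prime_dvd_prime_iff_eq hr.out hp).1 (hr.out.dvd_of_dvd_pow e)).symm
    obtain ⟨y, hy, hy'⟩ := exists_mem_orderOf_eq_prime (a2.trans (relIndex_dvd_card _ _))
    exact h2 p hp (ne_two_of_dvd_odd ho (hpU.trans (card_dvd_of_le hU.le))) hpr W hW.pgroup
      (hW.ne_bot_iff.2 hpU) y hy.2 hy'

section

variable [Fintype G] {A : Subgroup G} {t : G} {n q : ℕ} {ε : ℤ} {X : G → ℂ} (h : Gd A t)
  (c : Ch A t n q ε X)
include h c

theorem Ch.ncard_Q : {g | Ty A q g}.ncard = 4 * Nat.card A * n := by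
  have := (c.counts h).2.1
  have := c.sq h
  omega

theorem Ch.q_odd : ¬ 2 ∣ q := fun e =>
  absurd (Nat.eq_one_of_dvd_coprimes (c.coprime h).2.1 (dvd_mul_right _ _) e) (by decide)

theorem Ch.class_subset {g : G} (hg : Ty A q g) : {y | IsConj g y} ⊆ {y | Ty A q y} := by
  intro y hy
  obtain ⟨x, rfl⟩ := isConj_iff.1 hy
  exact hg.conj x

theorem Ch.card_Q {g : G} (hg : Ty A q g) : Nat.card (𝓒[g] : Subgroup G) = q := by
  obtain ⟨d, hd⟩ := hg.2.2
  have h1 := Set.ncard_le_ncard (c.class_subset h hg)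
  rw [ncard_isConj, c.ncard_Q h] at h1
  have h2 := (𝓒[g] : Subgroup G).card_mul_index
  have h3 : 0 < Nat.card (𝓒[g] : Subgroup G) := Nat.card_pos
  rw [c.card h] at h2
  have h4 : (𝓒[g] : Subgroup G).index = 2 * Nat.card A * n * d :=
    Nat.eq_of_mul_eq_mul_left h3 (by rw [h2]; nth_rw 1 [hd]; ring)
  have h5 : 0 < 2 * Nat.card A * n := Nat.mul_pos (by have := c.two_le h; omega) (c.n_pos h)
  have h6 : d ≤ 2 := Nat.le_of_mul_le_mul_left (by rw [← h4]; linarith) h5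
  have h7 := c.q_odd h
  have h8 := c.hq
  have h9 := c.n_pos h
  interval_cases d <;> omega

theorem Ch.index_Q {g : G} (hg : Ty A q g) :
    (𝓒[g] : Subgroup G).index = 2 * Nat.card A * n := by
  have h2 := (𝓒[g] : Subgroup G).card_mul_index
  rw [c.card h, c.card_Q h hg] at h2
  have h8 := c.hq
  have h9 := c.n_pos h
  exact Nat.eq_of_mul_eq_mul_left (show 0 < q by omega) (by rw [h2]; ring)

theorem Ch.exists_Q : ∃ g, Ty A q g := by
  refine Set.nonempty_of_ncard_ne_zero (s := {g | Ty A q g}) ?_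
  rw [c.ncard_Q h]
  exact (Nat.mul_pos (by have := c.two_le h; omega) (c.n_pos h)).ne'

theorem Ch.isPrimePow : IsPrimePow q := by
  obtain ⟨g, hg⟩ := c.exists_Q h
  obtain ⟨p, hp, hd⟩ := exists_prime_dvd_orderOf hg.1
  refine isPrimePow_iff_unique_prime_dvd.2 ⟨p, ⟨hp, hd.trans hg.orderOf_dvd⟩, fun r hr => ?_⟩
  by_contra hne
  have : Fact p.Prime := ⟨hp⟩
  have : Fact r.Prime := ⟨hr.1⟩
  obtain ⟨y, hy, hy'⟩ := exists_mem_orderOf_eq_prime (hd.trans (orderOf_dvd_card_cent g))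
  have n1 : ∀ {z : G} {m : ℕ}, orderOf z = m → 1 < m → z ≠ 1 := fun a b e => by
    rw [e, orderOf_one] at a; omega
  have t1 := c.tyQ_of_mem h hg hy (n1 hy' hp.one_lt)
  obtain ⟨z, hz, hz'⟩ := exists_mem_orderOf_eq_prime (p := r) (H := 𝓒[y])
    (by rw [c.card_Q h t1]; exact hr.2)
  have t2 := c.tyQ_of_mem h t1 hz (n1 hz' hr.1.one_lt)
  have h3 := (show Commute z y from mem_cent1.1 hz).orderOf_mul_eq_mul_orderOf_of_coprime
    (by rw [hy', hz']; exact (Nat.coprime_primes hr.1 hp).2 hne)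
  rw [hy', hz'] at h3
  have a1 := hp.two_le
  have a2 := hr.1.two_le
  have t3 := c.tyQ_of_mem h t1 (mul_mem hz (mem_cent1.2 rfl)) (n1 h3 (by nlinarith))
  have dj : ∀ a b : G, orderOf a ≠ orderOf b → Disjoint {y | IsConj a y} {y | IsConj b y} :=
    fun a b e => Set.disjoint_left.2 fun x h1 h2 => e (by
      obtain ⟨w, hw⟩ := isConj_iff.1 (IsConj.trans h1 (IsConj.symm h2))
      rw [← hw, orderOf_conj_eq])
  have h4 := Set.ncard_le_ncard (Set.union_subset (Set.union_subset (c.class_subset h t1)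
    (c.class_subset h t2)) (c.class_subset h t3))
  rw [Set.ncard_union_eq (Set.disjoint_union_left.2 ⟨dj _ _ (by rw [hy', h3]; nlinarith),
    dj _ _ (by rw [hz', h3]; nlinarith)⟩), Set.ncard_union_eq (dj _ _ (by rw [hy', hz']; omega)),
    ncard_isConj, ncard_isConj, ncard_isConj, c.index_Q h t1, c.index_Q h t2, c.index_Q h t3,
    c.ncard_Q h] at h4
  have h5 : 0 < Nat.card A * n := Nat.mul_pos Nat.card_pos (c.n_pos h)
  nlinarith

theorem Ch.exists_torus {p : ℕ} (hp : p.Prime) (h2 : p ≠ 2) (hq : ¬ p ∣ q) {W : Subgroup G}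
    (hW : IsPGroup p W) (h0 : W ≠ ⊥) : ∃ T : Subgroup G, (∀ a ∈ T, ∀ b ∈ T, a * b = b * a) ∧
      (Nat.card T).Coprime q ∧ ∀ y ∈ 𝓝(W), Odd (orderOf y) → y ∈ T := by
  have : Fact p.Prime := ⟨hp⟩
  obtain ⟨⟨w, hw, hwc⟩, h1⟩ := ne_bot_iff_exists_ne_one.1 (center_ne_bot_of_nil (nil_of_pgroup hW) h0)
  have h1 : w ≠ 1 := fun e => h1 (Subtype.ext e)
  have hc : ∀ y ∈ 𝓝(W), y * w * y⁻¹ ∈ 𝓒[w] := fun y hy =>
    mem_cent1.2 (mem_cent_sub.1 hwc _ (conj_mem_of_mem_normalizer hy hw))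
  obtain ⟨k, hk⟩ := IsPGroup.iff_orderOf.1 hW ⟨w, hw⟩
  rw [orderOf_mk] at hk
  have ho : Odd (orderOf w) := hk ▸ (hp.odd_of_ne_two h2).pow
  obtain ⟨co1, co2, co3⟩ := c.coprime h
  by_cases hA : Cs A w
  · obtain ⟨-, x, hx⟩ := hA
    have key : ∀ y ∈ 𝓒[t], Odd (orderOf y) → y ∈ A := fun y hy ho => by_contra fun e =>
      e (eq_one_of_sq_of_odd ho (h.sq y hy e) ▸ A.one_mem)
    have h3 : x * w * x⁻¹ ≠ 1 := by simpa using h1
    refine ⟨A :^ x⁻¹, ?_, by rw [card_map_conj]; exact co2.coprime_mul_left, fun y hy ho' => ?_⟩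
    · exact isMulCommutative_iff_forall.1 (comm_conj_iff.2 h.isComm)
    · rw [mem_map_conj, inv_inv]
      refine key _ (h.ti _ hx h3 _ (key _ (h.cent_le hx h3 ?_) ?_)) (by rwa [orderOf_conj_eq])
      · rw [centralizer_singleton_conj, mem_map_conj]
        convert hc y hy using 1; group
      · rwa [orderOf_conj_eq, orderOf_conj_eq]
  · have hT : Ty A n w := (c.cases h h1 hA).resolve_right fun e => by
      have := e.orderOf_dvd
      rw [hk] at this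
      exact hq ((dvd_pow_self p (by rintro rfl; exact h1 (orderOf_eq_one_iff.1 hk))).trans this)
    have T := c.ttype h hT
    refine ⟨𝓒[w], fun a ha b hb => T.cc.comm_mem ha hb, T.card ▸ co3, fun y hy ho' => ?_⟩
    have h3 := (T.cc.ti (mem_cent1.2 rfl) h1 y).1 (hc y hy)
    have h4 := card_mul_relIndex (le_normalizer (H := (𝓒[w] : Subgroup G)))
    rw [T.card, T.card_norm, mul_comm 2] at h4
    exact mem_of_odd_of_sq_mem ho'
      (mul_self_mem_of_index_two (Nat.eq_of_mul_eq_mul_left (c.n_pos h) h4) ⟨y, h3⟩)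

variable {r f : ℕ} [hr : Fact r.Prime] (hq : r ^ f = q)
include hq

theorem Ch.not_dvd : ¬ r ∣ 2 * Nat.card A * n := fun e => by
  obtain ⟨co1, co2, co3⟩ := c.coprime h
  have h8 := c.hq
  have h9 := c.n_pos h
  have h10 := c.two_le h
  have : f ≠ 0 := by rintro rfl; simp at hq; omega
  exact hr.out.one_lt.ne' (Nat.eq_one_of_dvd_coprimes (co2.mul_left co3) e (hq ▸ dvd_pow_self r this))

theorem Ch.sylow {g : G} (hg : Ty A q g) : IsSylowOf r 𝓒[g] ⊤ :=
  ⟨le_top, IsPGroup.of_card ((c.card_Q h hg).trans hq.symm),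
    by rw [relIndex_top_right, c.index_Q h hg]; exact c.not_dvd h hq⟩

theorem Ch.card_sylow {Q : Subgroup G} (hQ : IsSylowOf r Q ⊤) : Nat.card Q = q := by
  obtain ⟨g, hg⟩ := c.exists_Q h
  rw [hQ.card_eq_card (c.sylow h hq hg), c.card_Q h hg]

theorem Ch.tyQ_of_pgroup {D : Subgroup G} (hD : IsPGroup r D) {g : G} (hg : g ∈ D) (h1 : g ≠ 1) :
    Ty A q g := by
  obtain ⟨Q, hQ, hle⟩ := exists_sylow_ge hD le_top
  exact c.tyQ_of_dvd h h1 (c.card_sylow h hq hQ ▸ Q.orderOf_dvd_natCard (hle hg))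

theorem Ch.inv_of_norm {D : Subgroup G} (hD : IsPGroup r D) {u : G} (hu : orderOf u = 2)
    (hn : u ∈ 𝓝(D)) {g : G} (hg : g ∈ D) : u * g * u⁻¹ = g⁻¹ :=
  inv_of_fpf (mul_self_of_orderOf_eq_two hu) (fun _ => conj_mem_of_mem_normalizer hn)
    (fun y hy e => by_contra fun h2 => (c.tyQ_of_pgroup h hq hD hy h2).2.1
      (h.cs_of_comm (h.cs_of_two hu) e.symm h2)) hg

theorem Ch.cc_sylow {Q : Subgroup G} (hQ : IsSylowOf r Q ⊤) : CC Q := by
  by_cases hex : ∃ D : Subgroup G, IsPGroup r D ∧ D ≠ ⊥ ∧ 2 ∣ Nat.card 𝓝(D)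
  · obtain ⟨D, hD, h0, h2⟩ := hex
    have : Fact (Nat.Prime 2) := ⟨Nat.prime_two⟩
    obtain ⟨u, hu, hu2⟩ := exists_mem_orderOf_eq_prime h2
    obtain ⟨⟨g, hg⟩, h1⟩ := ne_bot_iff_exists_ne_one.1 h0
    have t1 := c.tyQ_of_pgroup h hq hD hg (by simpa using h1)
    obtain ⟨y, -, rfl⟩ := (c.sylow h hq t1).exists_conj_eq hQ
    refine CC.conj (cc_of_comm (c.comm_of_inverts h t1.1 t1.2.1 hu2 (c.inv_of_norm h hq hD hu2 hu hg))
      fun z hz e => ?_) y
    rw [c.card_Q h t1, c.card_Q h (c.tyQ_of_mem h t1 hz e)]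
  · push Not at hex
    intro z hz h1
    by_contra hne
    have := sylow_ti (r := r) (fun D a b => Nat.not_even_iff_odd.1 (mt even_iff_two_dvd.1 (hex D a b)))
      (fun p hp h2 hpr W hW h0 y hy e => ?_) (c.sylow h hq (c.tyQ_of_pgroup h hq hQ.pgroup hz h1))
      hQ hne
    · exact h1 (mem_bot.1 (this ▸ mem_inf.2 ⟨mem_cent1.2 rfl, hz⟩))
    · obtain ⟨T, -, a, b⟩ := c.exists_torus h hp h2 (fun e => hpr
        ((Nat.prime_dvd_prime_iff_eq hp hr.out).1 (hp.dvd_of_dvd_pow (hq ▸ e)))) hW h0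
      have h3 : r ≠ 2 := fun e => c.not_dvd h hq (by rw [e]; exact (dvd_mul_right 2 _).mul_right n)
      have h4 := T.orderOf_dvd_natCard (b y hy (e ▸ hr.out.odd_of_ne_two h3))
      have h5 : y ≠ 1 := fun e' => hr.out.one_lt.ne' (by rw [← e, e', orderOf_one])
      have h6 := (c.tyQ_of_pgroup h hq (pgroup_of_card (by rw [Nat.card_zpowers, e]))
        (mem_zpowers y) h5).orderOf_dvd
      exact h5 (orderOf_eq_one_iff.1 (Nat.eq_one_of_dvd_coprimes a h4 h6))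

theorem Ch.index_norm {Q : Subgroup G} (hQ : IsSylowOf r Q ⊤) : 𝓝(Q).index = q + 1 := by
  have h1 : {y | Ty A q y} = {y | Cs Q y} := by
    ext y
    constructor
    · intro hy
      obtain ⟨x, -, hx⟩ := hQ.exists_conj_eq (c.sylow h hq hy)
      refine ⟨hy.1, x⁻¹, ?_⟩
      rw [inv_inv, ← mem_map_conj, hx]
      exact mem_cent1.2 rfl
    · rintro ⟨h2, x, hx⟩
      have := (c.tyQ_of_pgroup h hq hQ.pgroup hx (by simpa using h2)).conj x⁻¹
      simpa [mul_assoc] using this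
  have h2 := (c.counts h).2.1
  rw [h1, (c.cc_sylow h hq hQ).ncard, c.card_sylow h hq hQ] at h2
  have h8 := c.hq
  have h9 := c.n_pos h
  have h10 := c.two_le h
  obtain ⟨m, rfl⟩ : ∃ m, q = m + 1 := ⟨q - 1, by omega⟩
  exact Nat.eq_of_mul_eq_mul_left (show 0 < m by omega) (by simp at h2; linarith)

theorem Ch.card_norm {Q : Subgroup G} (hQ : IsSylowOf r Q ⊤) :
    2 * Nat.card 𝓝(Q) = q * (q - 1) := by
  have h1 := 𝓝(Q).card_mul_index
  rw [c.index_norm h hq hQ, c.card h] at h1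
  have h2 := c.sq h
  have h8 := c.hq
  have h9 := c.n_pos h
  obtain ⟨m, rfl⟩ : ∃ m, q = m + 1 := ⟨q - 1, by omega⟩
  refine Nat.eq_of_mul_eq_mul_right (show 0 < m + 1 + 1 by omega) ?_
  rw [mul_assoc, h1, Nat.add_sub_cancel]
  nlinarith

theorem Ch.eq_one_of_norm {Q Q' : Subgroup G} (hQ : IsSylowOf r Q ⊤) (hQ' : IsSylowOf r Q' ⊤)
    (hne : Q' ≠ Q) {y : G} (hy : y ∈ Q) (hy' : y ∈ 𝓝(Q')) : y = 1 := by_contra fun e =>
  hne ((c.cc_sylow h hq hQ').eq_of_mem (c.cc_sylow h hq hQ) (hQ'.ge_of_le_norm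
    (hQ.pgroup.to_le (zpowers_le.2 hy)) le_top (zpowers_le.2 hy') (mem_zpowers y)) hy e)

theorem Ch.conj_inj {Q Q' : Subgroup G} (hQ : IsSylowOf r Q ⊤) (hQ' : IsSylowOf r Q' ⊤)
    (hne : Q' ≠ Q) {u v : G} (hu : u ∈ Q) (hv : v ∈ Q) (e : Q' :^ u = Q' :^ v) : u = v := by
  have : v⁻¹ * u ∈ 𝓝(Q') := by rw [← map_conj_eq_iff, ← conj_conj, e, conj_inv_conj]
  exact (inv_mul_eq_one.1 (c.eq_one_of_norm h hq hQ hQ' hne (mul_mem (inv_mem hv) hu) this)).symm

theorem Ch.trans {Q Q' Q'' : Subgroup G} (hQ : IsSylowOf r Q ⊤) (hQ' : IsSylowOf r Q' ⊤)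
    (hQ'' : IsSylowOf r Q'' ⊤) (h1 : Q' ≠ Q) (h2 : Q'' ≠ Q) : ∃ u ∈ Q, Q' :^ u = Q'' := by
  classical
  obtain ⟨P, rfl⟩ := hQ.exists_sylow_top
  obtain ⟨P', rfl⟩ := hQ'.exists_sylow_top
  obtain ⟨P'', rfl⟩ := hQ''.exists_sylow_top
  let F : ↥(P : Subgroup G) → {R : Sylow r G // R ≠ P} := fun u => ⟨(u : G) • P', fun e => h1 (by
    have := congrArg (fun R : Sylow r G => (R : Subgroup G)) e
    simp only [Sylow.coe_smul_eq_map'] at this
    rw [conj_eq_iff_eq_conj_inv.1 this, map_conj_eq_of_mem (inv_mem u.2)])⟩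
  have hF : Function.Injective F := fun u v e => Subtype.ext (c.conj_inj h hq hQ hQ' h1 u.2 v.2 (by
    have := congrArg (fun R : {R : Sylow r G // R ≠ P} => (R.1 : Subgroup G)) e
    simpa only [F, Sylow.coe_smul_eq_map'] using this))
  have hc : Nat.card {R : Sylow r G // R ≠ P} = q := by
    have a1 := P.card_eq_index_normalizer
    have := Fintype.ofFinite (Sylow r G)
    rw [← P.coe_coe, c.index_norm h hq hQ, Nat.card_eq_fintype_card] at a1
    rw [Nat.card_eq_fintype_card, Fintype.card_subtype_compl, a1]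
    simp
  obtain ⟨u, hu⟩ := (hF.bijective_of_nat_card_le (by rw [hc, c.card_sylow h hq hQ])).2
    ⟨P'', fun e => h2 (by rw [e])⟩
  refine ⟨u, u.2, ?_⟩
  have := congrArg (fun R : {R : Sylow r G // R ≠ P} => (R.1 : Subgroup G)) hu
  simpa only [F, Sylow.coe_smul_eq_map'] using this

theorem Ch.cyc {Q : Subgroup G} (hQ : IsSylowOf r Q ⊤) : IsCyclic (𝓝(Q) /ₛ Q) := by
  have h8 := c.hq
  have h9 := c.n_pos h
  have h10 := c.two_le h
  obtain ⟨g, hg⟩ : ∃ g, g ∉ 𝓝(Q) := by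
    by_contra hn
    push Not at hn
    have := c.index_norm h hq hQ
    rw [(eq_top_iff' _).2 hn, index_top] at this
    omega
  have hQ' := hQ.conj_top g
  have hne : Q :^ g ≠ Q := mt map_conj_eq_iff.1 hg
  generalize Q :^ g = Q' at hQ' hne
  have cc := c.cc_sylow h hq hQ
  set E := 𝓝(Q) ⊓ 𝓝(Q') with hE
  have hQ0 : Q ≠ ⊥ := fun e => by have := c.card_sylow h hq hQ; rw [e, card_bot] at this; omega
  have hEQ : ∀ y ∈ E, y ∈ Q → y = 1 := fun y a b => c.eq_one_of_norm h hq hQ hQ' hne b a.2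
  have hEr : ¬ r ∣ Nat.card E := fun e => by
    obtain ⟨y, hy, hy'⟩ := exists_mem_orderOf_eq_prime e
    have := hEQ y hy (hQ.ge_of_le_norm (pgroup_of_card (by rw [Nat.card_zpowers, hy'])) le_top
      (zpowers_le.2 hy.1) (mem_zpowers y))
    exact hr.out.one_lt.ne' (by rw [← hy', this, orderOf_one])
  have hfix : ∀ y ∈ E, (∀ z ∈ Q, z * y = y * z) → y = 1 := fun y a b =>
    hEQ y a (cc.cent_eq le_rfl hQ0 ▸ mem_cent_sub.2 b)
  have hcomm : IsMulCommutative E := by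
    rcases Nat.even_or_odd (Nat.card E) with he | ho
    · have : Fact (Nat.Prime 2) := ⟨Nat.prime_two⟩
      obtain ⟨u, hu, hu2⟩ := exists_mem_orderOf_eq_prime (even_iff_two_dvd.1 he)
      have key : ∀ v ∈ E, orderOf v = 2 → v = u := fun v hv hv2 => by
        refine (inv_mul_eq_one.1 (hfix _ (mul_mem (inv_mem hv) hu) fun z hz => ?_))
        have a1 := c.inv_of_norm h hq hQ.pgroup hu2 hu.1 hz
        have a2 := c.inv_of_norm h hq hQ.pgroup hv2 hv.1 hz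
        rw [← a1] at a2
        rw [show z * (v⁻¹ * u) = v⁻¹ * (v * z * v⁻¹) * u by group, a2]; group
      obtain ⟨x, rfl⟩ := isConj_iff.1 (h.one u hu2)
      refine comm_of_le (comm_conj_iff.2 h.isComm) (K := A :^ x) fun b hb => ?_
      rw [mem_map_conj]
      have a1 := key _ (mul_mem (mul_mem hb hu) (inv_mem hb)) (by rw [orderOf_conj_eq, hu2])
      have a2 : x⁻¹ * b * x ∈ 𝓒[t] := by
        rw [← mem_map_conj, ← centralizer_singleton_conj]
        exact mem_cent1.2 (mul_inv_eq_iff_eq_mul.1 a1)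
      by_contra hn
      have a3 := orderOf_eq_two_of_mul_self (h.sq _ a2 hn) fun e => hn (e ▸ A.one_mem)
      have a4 := key b hb (by rw [← a3, ← orderOf_conj_eq x⁻¹ b, inv_inv])
      exact hn (by rw [a4]; simpa [mul_assoc] using h.mem)
    · by_cases h0 : E = ⊥
      · rw [h0]; infer_instance
      obtain ⟨p, V, hp, hV, hV0, hn, hel, -⟩ := exists_minnormal_abelem (A := E) (M := E)
        le_normalizer (oddOrder ho) h0
      have : Fact p.Prime := ⟨hp⟩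
      have hVp := IsElementaryAbelian.isPGroup hel
      have hd : p ∣ Nat.card E := by
        obtain ⟨k, hk⟩ := hVp.exists_card_eq
        exact (dvd_pow_self p (by rintro rfl; exact hV0 (card_eq_one.1 hk))).trans
          (hk ▸ card_dvd_of_le hV)
      obtain ⟨T, a, -, b⟩ := c.exists_torus h hp (ne_two_of_dvd_odd ho hd) (fun e => hEr
        ((Nat.prime_dvd_prime_iff_eq hp hr.out).1 (hp.dvd_of_dvd_pow (hq ▸ e)) ▸ hd)) hVp hV0
      exact comm_of_le (isMulCommutative_iff_forall.2 a) fun y hy =>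
        b y (hn hy) (ho.of_dvd_nat (E.orderOf_dvd_natCard hy))
  have hcyc : IsCyclic E := by_contra fun hn => hQ0 (le_bot_iff.1
    (coprime_abelian_gen_cent1 hcomm hn inf_le_left
      (by rw [c.card_sylow h hq hQ, ← hq]
          exact ((Nat.Prime.coprime_iff_not_dvd hr.out).2 hEr).pow_left f)
      fun a ha h1 z hz => mem_bot.2 (by_contra fun h2 =>
        h1 (hEQ a ha (cc z hz.1 h2 ▸ mem_cent1.2 (mem_cent1.1 hz.2).symm)))))
  obtain ⟨x, hx⟩ := (Subgroup.isCyclic_iff_exists_zpowers_eq_top E).1 hcyc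
  refine (isCyclic_quo_iff le_rfl).2 ⟨x, (hx ▸ mem_zpowers x : x ∈ E).1, fun b hb => ?_⟩
  obtain ⟨u, hu, e⟩ := c.trans h hq hQ hQ' (hQ'.conj_top b) hne fun e => hne (by
    rw [conj_eq_iff_eq_conj_inv.1 e, conj_eq_of_mem_norm (inv_mem hb)])
  have : u⁻¹ * b ∈ E := mem_inf.2 ⟨mul_mem (inv_mem (le_normalizer hu)) hb,
    map_conj_eq_iff.1 (by rw [← conj_conj, ← e, conj_inv_conj])⟩
  rw [hx, show b = u * (u⁻¹ * b) by group]
  exact mul_mem (mem_sup_right hu) (mem_sup_left this)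

theorem Ch.qtype {Q : Subgroup G} (hQ : IsSylowOf r Q ⊤) : QType q Q := by
  refine ⟨c.cc_sylow h hq hQ, c.card_sylow h hq hQ, c.card_norm h hq hQ, c.cyc h hq hQ,
    fun g k y h1 h2 h3 a1 a2 a3 => ?_⟩
  obtain ⟨u, hu, e⟩ := c.trans h hq hQ (hQ.conj_top g) (hQ.conj_top k) h1 h2
  have hu1 : u ≠ 1 := by rintro rfl; exact h3 (by rwa [map_conj_one] at e)
  have h4 := c.conj_inj h hq hQ (hQ.conj_top g) h1 (conj_mem_of_mem_normalizer a1 hu) hu (by
    rw [← conj_conj, ← conj_conj, conj_eq_of_mem_norm (inv_mem a2), e, conj_eq_of_mem_norm a3])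
  exact c.eq_one_of_norm h hq hQ (hQ.conj_top g) h1
    (c.cc_sylow h hq hQ u hu hu1 ▸ mem_cent1.2 (mul_inv_eq_iff_eq_mul.1 h4)) a2

end

theorem BswHyp.exists_l2' {S : Subgroup G} {x s t : G} (h : BswHyp S x s t) :
    ∃ a n q, L2 S x s t a n q := by
  cases nonempty_fintype G
  obtain ⟨A, hA, hK⟩ := h.gd
  obtain ⟨n, q, ε, X, c⟩ := hA.exists_ch
  refine ⟨Nat.card A, n, q, h, hA.card, ?_, c.hq, by rw [c.card hA]; ring, c.isPrimePow hA,
    fun y h1 ho => ?_⟩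
  · have := c.hn
    rcases c.eps with e | e <;> rw [e] at this <;> omega
  · by_cases h2 : Cs A y
    · obtain ⟨-, g, hg⟩ := h2
      exact Or.inl ⟨g, hK _ hg (by rwa [orderOf_conj_eq])⟩
    · obtain ⟨r, f, hr, -, hq⟩ := (isPrimePow_nat_iff q).1 (c.isPrimePow hA)
      have : Fact r.Prime := ⟨hr⟩
      exact Or.inr ((c.cases hA h1 h2).imp (c.ttype hA) fun e => c.qtype hA hq (c.sylow hA hq e))

end Cfsg.GW
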