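import Cfsg.Agent.GW.L2Defs
import Cfsg.Agent.Grp.ZassF
import Cfsg.Agent.Grp.FpfEnd
import Cfsg.Agent.Grp.JordanP
import Mathlib.RingTheory.SimpleModule.Basic

/-! # Identification of `PSL₂(q)` and cyclicity of its tori -/

set_option autoImplicit false
set_option linter.unusedSectionVars false
set_option linter.style.haveILetI false

namespace Cfsg.GW

open Subgroup Cfsg.Agent.FT OnePoint MulAction
open scoped IsMulCommutative MatrixGroups

universe u

theorem exists_field_of_irred {V : Type u} [AddCommGroup V] [Finite V] [Nontrivial V]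
    (σ : AddMonoid.End V) (h : ∀ W : AddSubgroup V, (∀ v ∈ W, σ v ∈ W) → W = ⊥ ∨ W = ⊤) :
    ∃ (F : Type) (_ : Field F) (_ : Fintype F) (φ : F ≃+ V) (a : F), ∀ t, σ (φ t) = φ (a * t) := by
  let τ : Module.End ℤ V := AddMonoidHom.toIntLinearMap σ
  letI : Module (Polynomial ℤ) V := Module.compHom V (Polynomial.aeval τ).toRingHom
  have hX : ∀ v : V, (Polynomial.X : Polynomial ℤ) • v = σ v := fun v => by
    change (Polynomial.aeval τ Polynomial.X) v = _
    rw [Polynomial.aeval_X]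
    rfl
  have hs : IsSimpleModule (Polynomial ℤ) V := by
    rw [isSimpleModule_iff]
    refine ⟨fun W => ?_⟩
    rcases h W.toAddSubgroup (fun v hv => hX v ▸ W.smul_mem _ hv) with e | e
    · exact Or.inl (Submodule.toAddSubgroup_injective e)
    · exact Or.inr (Submodule.toAddSubgroup_injective e)
  obtain ⟨I, hI, ⟨e⟩⟩ := isSimpleModule_iff_quot_maximal.1 hs
  letI := Ideal.Quotient.field I
  haveI : Finite (Polynomial ℤ ⧸ I) := Finite.of_equiv _ e.toEquiv
  refine ⟨Polynomial ℤ ⧸ I, inferInstance, Fintype.ofFinite _, e.symm.toAddEquiv,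
    Ideal.Quotient.mk I Polynomial.X, fun t => ?_⟩
  rw [← hX]
  exact (e.symm.map_smul _ t).symm

variable {G : Type u} [Group G] [Finite G]

theorem CC.comm {X : Subgroup G} (h : CC X) : IsMulCommutative X :=
  ⟨⟨fun a b => Subtype.ext (by
    by_cases hb : (b : G) = 1
    · simp [hb]
    · exact mem_cent1.1 ((h b b.2 hb).ge a.2))⟩⟩

theorem QType.exists_field {q e : ℕ} {Q : Subgroup G} (h : QType q Q) (he : q = 2 * e + 1)
    (he0 : 0 < e) : ∃ (F : Type) (_ : Field F) (_ : Fintype F) (φ : F → G),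
      Fintype.card F = q ∧ Function.Injective φ ∧ (∀ t, φ t ∈ Q) ∧
      (∀ s t, φ (s + t) = φ s * φ t) ∧
      ∀ g ∈ 𝓝(Q), ∃ a : F, ∀ t, g * φ t * g⁻¹ = φ (a * t) := by
  haveI := h.cc.comm
  obtain ⟨⟨_, hy⟩, hgen⟩ := h.cyc.exists_monoid_generator
  obtain ⟨g₀, hg₀, -, rfl⟩ := mem_quo.1 hy
  have h1 : ∀ g : 𝓝(Q), ∃ k : ℕ, FpfEnd.conjRep Q g = FpfEnd.conjRep Q ⟨g₀, hg₀⟩ ^ k := by
    intro g
    obtain ⟨k, hk⟩ := hgen ⟨_, coset_mem_quo g.2⟩
    have h2 : coset Q (⟨g₀, hg₀⟩ ^ k) = coset Q g := by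
      rw [map_pow]; exact congrArg Subtype.val hk
    have h3 : FpfEnd.conjRep Q ((⟨g₀, hg₀⟩ ^ k)⁻¹ * g) = 1 := AddMonoidHom.ext fun v =>
      FpfEnd.conjRep_eq_iff.2 (setLike_mul_comm (coset_eq_iff.1 h2) v.toMul.2)
    exact ⟨k, by rw [← map_pow, ← mul_inv_cancel_left (⟨g₀, hg₀⟩ ^ k) g, map_mul, h3, mul_one]⟩
  have hN : Q.relIndex 𝓝(Q) = e := by
    have h2 := (Q.subgroupOf 𝓝(Q)).card_mul_index
    rw [Nat.card_congr (subgroupOfEquivOfLe le_normalizer).toEquiv, h.card] at h2
    have h3 := h.card_norm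
    rw [← h2, show q - 1 = 2 * e by omega] at h3
    exact Nat.eq_of_mul_eq_mul_left (show 0 < 2 * q by omega) (by rw [relIndex]; linarith)
  have hcard : Nat.card (Additive Q) = q := h.card
  haveI : Nontrivial (Additive Q) := Finite.one_lt_card_iff_nontrivial.1 (by omega)
  obtain ⟨F, _, _, φ, a, ha⟩ := exists_field_of_irred (FpfEnd.conjRep Q ⟨g₀, hg₀⟩) fun W hW => by
    refine (eq_or_ne W ⊥).imp_right fun h0 => ?_
    obtain ⟨⟨w, hw⟩, hw0⟩ := AddSubgroup.ne_bot_iff_exists_ne_zero.1 h0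
    have hw1 : ((w.toMul : Q) : G) ≠ 1 := fun e => hw0 (Subtype.ext
      (Additive.toMul.injective (Subtype.ext e)))
    letI : MulAction 𝓝(Q) (Additive Q) := MulAction.compHom _ (FpfEnd.conjRep Q)
    have h2 : stabilizer 𝓝(Q) w = Q.subgroupOf 𝓝(Q) := by
      ext g
      rw [mem_stabilizer_iff, mem_subgroupOf]
      exact (FpfEnd.conjRep_eq_iff.trans mem_cent1.symm).trans
        (SetLike.ext_iff.1 (h.cc _ w.toMul.2 hw1) g)
    have h3 : ∀ k : ℕ, ∀ v ∈ W, (FpfEnd.conjRep Q ⟨g₀, hg₀⟩ ^ k) v ∈ W := fun k => by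
      induction k with
      | zero => exact fun v hv => hv
      | succ k ih => exact fun v hv => by rw [pow_succ]; exact ih _ (hW v hv)
    have h4 : orbit 𝓝(Q) w ⊆ (W : Set (Additive Q)) \ {0} := by
      rintro _ ⟨g, rfl⟩
      obtain ⟨k, hk⟩ := h1 g
      refine ⟨?_, fun e => hw0 (Subtype.ext ?_)⟩
      · change FpfEnd.conjRep Q g w ∈ W
        rw [hk]; exact h3 k w hw
      · have e' : g • w = 0 := e
        have : w = g⁻¹ • (0 : Additive Q) := by rw [← e', inv_smul_smul]
        exact this.trans (map_zero (FpfEnd.conjRep Q g⁻¹))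
    have h5 := Set.ncard_le_ncard h4
    rw [← index_stabilizer, h2, Set.ncard_sdiff_singleton_of_mem W.zero_mem] at h5
    have h6 : Nat.card W * W.index = q := hcard ▸ W.card_mul_index
    have h7 : 0 < Nat.card W := Nat.card_pos
    change Q.relIndex 𝓝(Q) ≤ Nat.card W - 1 at h5
    rw [← AddSubgroup.index_eq_one]
    rcases hi : W.index with _ | _ | k
    · rw [hi] at h6; omega
    · rfl
    · rw [hi] at h6
      have : Nat.card W * (k + 1 + 1) = Nat.card W * k + 2 * Nat.card W := by ring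
      omega
  refine ⟨F, inferInstance, inferInstance, fun t => ((φ t).toMul : Q), ?_, ?_,
    fun t => (φ t).toMul.2, fun s t => by simp, fun g hg => ?_⟩
  · rw [← Nat.card_eq_fintype_card, Nat.card_congr φ.toEquiv, hcard]
  · exact fun s t e => φ.injective (Additive.toMul.injective (Subtype.ext e))
  · obtain ⟨k, hk⟩ := h1 ⟨g, hg⟩
    refine ⟨a ^ k, fun t => ?_⟩
    have h2 : ∀ k : ℕ, ∀ t, (FpfEnd.conjRep Q ⟨g₀, hg₀⟩ ^ k) (φ t) = φ (a ^ k * t) := fun k => by
      induction k with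
      | zero => simp
      | succ k ih =>
        intro t
        rw [pow_succ, pow_succ, mul_assoc, ← ih, ← ha]
        rfl
    beta_reduce
    rw [← h2, ← hk]
    rfl

theorem QType.psl [IsSimpleGroup G] {q e : ℕ} {Q : Subgroup G} (h : QType q Q)
    (hq : IsPrimePow q) (he : q = 2 * e + 1) (hG : Nat.card G = (q + 1) * q * e) :
    ∃ (F : Type) (_ : Field F) (_ : Fintype F), Fintype.card F = q ∧
      Nonempty (G ≃* Matrix.ProjectiveSpecialLinearGroup (Fin 2) F) := by
  classical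
  have he0 : 0 < e := by have := hq.two_le; omega
  obtain ⟨F, _, _, φ, hF, hφ, hφQ, hadd, hconj⟩ := h.exists_field he he0
  obtain ⟨r, f, hr, hf, hrq⟩ := (isPrimePow_nat_iff q).1 hq
  haveI := Fact.mk hr
  haveI := h.cc.comm
  have hi : Q.index = (q + 1) * e := by
    have := Q.card_mul_index
    rw [h.card, hG] at this
    exact Nat.eq_of_mul_eq_mul_left (show 0 < q by omega) (by rw [this]; ring)
  let P : Sylow r G := (IsPGroup.of_card (h.card.trans hrq.symm)).toSylow (by
    have h1 : q.Coprime ((q + 1) * e) := by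
      refine Nat.Coprime.mul_right (by simp) ?_
      rw [he]; simp
    rw [hi]
    exact fun h2 => hr.one_lt.ne' (Nat.eq_one_of_dvd_coprimes h1
      (hrq ▸ dvd_pow_self r hf.ne') h2))
  have hP : (P : Subgroup G) = Q := rfl
  have hfix : ∀ g : G, g • P = P ↔ g ∈ 𝓝(Q) := fun g => Sylow.smul_eq_iff_mem_normalizer
  have hD : Nat.card (Sylow r G) = q + 1 := by
    rw [P.card_eq_index_normalizer]
    have h1 := (𝓝(Q)).card_mul_index
    have h2 := h.card_norm
    rw [show q - 1 = 2 * e by omega] at h2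
    have h3 : Nat.card 𝓝(Q) = q * e := by linarith
    rw [h3, hG] at h1
    exact Nat.eq_of_mul_eq_mul_left (Nat.mul_pos hq.pos he0) (h1.trans (by ring))
  have hfree : ∀ z ∈ Q, ∀ R : Sylow r G, R ≠ P → z • R = R → z = 1 := by
    intro z hz R hR e
    by_contra h1
    have h2 : z ∈ (R : Subgroup G) := by
      have := (P.isPGroup'.to_le (zpowers_le.2 hz)).inf_normalizer_sylow R
      exact (this.le ⟨mem_zpowers z, Sylow.smul_eq_iff_mem_normalizer.1 e⟩).2
    obtain ⟨g, rfl⟩ := exists_smul_eq G P R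
    refine hR (Sylow.ext (((g • P).is_maximal' P.isPGroup' ?_).symm))
    rw [hP, ← h.cc z hz h1]
    obtain ⟨z, hz', rfl⟩ := h2
    rintro _ ⟨y, hy, rfl⟩
    exact mem_cent1.2 (((show Commute y z from setLike_mul_comm (s := Q) hy hz').map _).eq)
  haveI : Nontrivial (Sylow r G) := Finite.one_lt_card_iff_nontrivial.1 (by omega)
  obtain ⟨R, hR⟩ := exists_ne P
  let κ₀ : OnePoint F → Sylow r G := fun t => t.elim P fun k => φ k • R
  have hf1 : ∀ k, φ k • P = P := fun k => (hfix _).2 (le_normalizer (hφQ k))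
  have a1 : ∀ k, φ k • R ≠ P := fun k e => hR (smul_left_cancel _ (e.trans (hf1 k).symm))
  have hinj : Function.Injective κ₀ := by
    intro s t hst
    cases s with
    | infty =>
      cases t with
      | infty => rfl
      | coe t => exact absurd hst.symm (a1 _)
    | coe s =>
      cases t with
      | infty => exact absurd hst (a1 _)
      | coe t =>
        have a2 : φ s • R = φ t • R := hst
        rw [hφ (inv_mul_eq_one.1 (hfree _ (mul_mem (inv_mem (hφQ t)) (hφQ s)) R hR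
          (by rw [mul_smul, a2, inv_smul_smul])))]
  have hbij : Function.Bijective κ₀ := by
    refine (Nat.bijective_iff_injective_and_card κ₀).2 ⟨hinj, ?_⟩
    rw [hD, show Nat.card (OnePoint F) = Nat.card (Option F) from
      Nat.card_congr (Equiv.refl _), Finite.card_option, Nat.card_eq_fintype_card, hF]
  let κ := Equiv.ofBijective κ₀ hbij
  letI : MulAction G (OnePoint F) := κ.mulAction G
  have hs : ∀ (g : G) (s t : OnePoint F), g • s = t ↔ g • κ₀ s = κ₀ t := by
    intro g s t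
    rw [Equiv.smul_def, Equiv.symm_apply_eq]; rfl
  obtain ⟨w, hw⟩ := exists_smul_eq G P R
  have hw' : w • P ≠ P := hw ▸ hR
  refine ⟨F, inferInstance, inferInstance, hF, ZassF.nonempty_equiv (e := e)
    ⟨fun g hg => ?_, fun b => ⟨φ b, (hs _ _ _).2 (hf1 b), fun t => (hs _ _ _).2 ?_⟩,
      fun g hg => ?_, w, fun e => hw' ((hs _ _ _).1 e)⟩ (hF.trans he) (hF ▸ hG) ?_⟩
  · rcases (toPermHom G (Sylow r G)).normal_ker.eq_bot_or_eq_top with h1 | h1
    · refine mem_bot.1 (h1 ▸ Equiv.ext fun T => ?_)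
      obtain ⟨t, rfl⟩ := hbij.2 T
      exact (hs g t t).1 (hg t)
    · exact absurd (congrArg (· P) (show toPermHom G (Sylow r G) w = 1 from h1.ge (mem_top w))) hw'
  · change φ b • φ t • R = φ (t + b) • R
    rw [add_comm, hadd, mul_smul]
  · have h1 : g • P = P := (hs _ _ _).1 hg
    obtain ⟨a, ha⟩ := hconj g ((hfix g).1 h1)
    obtain ⟨b, hb⟩ := hbij.2 (g • R)
    cases b with
    | infty => exact absurd (smul_left_cancel g (hb.symm.trans h1.symm)) hR
    | coe b =>
      refine ⟨a, b, fun h0 => ?_, fun t => (hs _ _ _).2 ?_⟩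
      · have h3 : g * φ 1 * g⁻¹ = g * φ 0 * g⁻¹ := by rw [ha, ha, h0, zero_mul, zero_mul]
        exact one_ne_zero (hφ (mul_left_cancel (mul_right_cancel h3)))
      · change g • φ t • R = φ (a * t + b) • R
        rw [hadd, mul_smul, ← ha, show φ b • R = g • R from hb, mul_smul, mul_smul, inv_smul_smul]
  · refine (commutator_normal ⊤ ⊤).eq_bot_or_eq_top.resolve_left fun h1 => hw' ((hfix w).2 ?_)
    rw [commutator_eq_bot_iff_le_centralizer] at h1
    exact centralizer_le_normalizer _ (centralizer_le (le_top : Q ≤ ⊤) (h1 (mem_top w)))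

theorem eq_one_of_unipotent {K : Type*} [Field K] {A : Matrix (Fin 2) (Fin 2) K} (hd : A.det = 1)
    {v : Fin 2 → K} (hv : v ≠ 0) (h : A.mulVec v = v) {n : ℕ} (hn : (n : K) ≠ 0)
    (hA : A ^ n = 1) : A = 1 := by
  have h1 : (A - 1).det = 0 := Matrix.exists_mulVec_eq_zero_iff.1
    ⟨v, hv, by rw [Matrix.sub_mulVec, h, Matrix.one_mulVec, sub_self]⟩
  rw [Matrix.det_fin_two] at hd h1
  simp only [Matrix.sub_apply, Matrix.one_apply_eq, Matrix.one_apply_ne (zero_ne_one' (Fin 2)),
    Matrix.one_apply_ne (one_ne_zero' (Fin 2)), sub_zero] at h1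
  have h2 : (A - 1) * (A - 1) = 0 := by
    ext i j
    fin_cases i <;> fin_cases j <;> simp [Matrix.mul_apply, Fin.sum_univ_two]
    · linear_combination (A 0 0 - 1) * hd - A 0 0 * h1
    · linear_combination (A 0 1) * hd - A 0 1 * h1
    · linear_combination (A 1 0) * hd - A 1 0 * h1
    · linear_combination (A 1 1 - 1) * hd - A 1 1 * h1
  have h3 : ∀ k : ℕ, A ^ k = 1 + (k : K) • (A - 1) := fun k => by
    induction k with
    | zero => simp
    | succ k ih =>
      rw [pow_succ, ih, Nat.cast_succ, add_smul, one_smul]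
      conv_lhs => rw [← sub_add_cancel A 1]
      rw [add_sub_cancel_right, add_mul, one_mul, mul_add, smul_mul_assoc, h2, smul_zero, mul_one]
      abel
  rw [h3, add_eq_left, smul_eq_zero] at hA
  exact sub_eq_zero.1 (hA.resolve_left hn)

theorem isCyclic_of_comm_SL2 {F : Type*} [Field F] {H : Type*} [Group H] [Finite H]
    [IsMulCommutative H] (ι : H →* SL(2, F)) (hι : Function.Injective ι)
    (hp : (Nat.card H : F) ≠ 0) : IsCyclic H := by
  let K := AlgebraicClosure F
  let R : H →* Matrix (Fin 2) (Fin 2) K := (algebraMap F K).mapMatrix.toMonoidHom.comp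
    (Matrix.SpecialLinearGroup.coeMonoidHom.comp ι)
  let ρ : Representation K H (Fin 2 → K) :=
    (Matrix.toLinAlgEquiv' (R := K) (n := Fin 2)).toAlgHom.toMonoidHom.comp R
  obtain ⟨χ, hχ⟩ := Jordan.exists_weight ρ (B := ⊤) fun a _ b _ => mul_comm b a
  obtain ⟨v, hv, hv0⟩ := (Submodule.ne_bot_iff _).1 hχ
  have h1 : ∀ g : H, ρ g v = χ ⟨g, mem_top g⟩ • v := fun g =>
    Module.End.mem_eigenspace_iff.1 ((Submodule.mem_iInf _).1 hv ⟨g, mem_top g⟩)
  let lam : H →* K :=
    { toFun := fun g => χ ⟨g, mem_top g⟩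
      map_one' := smul_left_injective K hv0 (by simp only [← h1, map_one, one_smul]; rfl)
      map_mul' := fun a b => smul_left_injective K hv0 (by
        simp only [mul_smul, ← h1]
        rw [map_mul, Module.End.mul_apply, h1 b, _root_.map_smul]; simp only [h1]; rw [smul_comm]) }
  refine isCyclic_of_injective_ringHom lam ((injective_iff_map_eq_one _).2 fun g hg => ?_)
  have h2 : R g = 1 := eq_one_of_unipotent (n := Nat.card H)
    (by
      change ((algebraMap F K).mapMatrix (ι g).1).det = 1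
      rw [← RingHom.map_det, (ι g).2, map_one]) hv0
    (by
      have := h1 g
      rw [show χ ⟨g, mem_top g⟩ = 1 from hg, one_smul] at this
      exact this)
    (by rw [← map_natCast (algebraMap F K)]; exact (map_ne_zero _).2 hp)
    (by rw [← map_pow, pow_card_eq_one', map_one])
  refine hι (Subtype.ext (Matrix.map_injective (algebraMap F K).injective ?_))
  exact h2.trans (map_one R).symm

theorem isCyclic_of_comm_PSL2 {F : Type*} [Field F] [Finite F] (h2 : (2 : F) ≠ 0)
    (U : Subgroup (Matrix.ProjectiveSpecialLinearGroup (Fin 2) F)) [IsMulCommutative U]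
    (ho : Odd (Nat.card U)) (hp : (Nat.card U : F) ≠ 0) : IsCyclic U := by
  let π : SL(2, F) →* Matrix.ProjectiveSpecialLinearGroup (Fin 2) F := QuotientGroup.mk' _
  have hz : ∀ z ∈ center SL(2, F), z ^ 2 = 1 := fun z hz => by
    obtain ⟨r, hr, e⟩ := Matrix.SpecialLinearGroup.mem_center_iff.1 hz
    refine Subtype.ext ?_
    rw [Matrix.SpecialLinearGroup.coe_pow, ← e, ← map_pow, show r ^ 2 = 1 by simpa using hr,
      map_one]
    rfl
  have hk : ∀ z, π z = 1 ↔ z ∈ center SL(2, F) := fun z => QuotientGroup.eq_one_iff z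
  have hpow : ∀ a ∈ U.comap π, a ^ Nat.card U ∈ center SL(2, F) := fun a ha => by
    rw [← hk, map_pow]
    exact congrArg Subtype.val (pow_card_eq_one' (x := (⟨π a, ha⟩ : U)))
  haveI : IsMulCommutative (U.comap π) := ⟨⟨fun a b => Subtype.ext (by
    have h1 : (a : SL(2, F)) * b * (a : SL(2, F))⁻¹ * (b : SL(2, F))⁻¹ ∈ center SL(2, F) := by
      rw [← hk, map_mul, map_mul, map_mul, setLike_mul_comm (s := U) a.2 b.2]
      simp
    obtain ⟨z, hz'⟩ : ∃ z, z = (a : SL(2, F)) * b * (a : SL(2, F))⁻¹ * (b : SL(2, F))⁻¹ := ⟨_, rfl⟩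
    rw [← hz'] at h1
    have h3 : (a : SL(2, F)) * b * (a : SL(2, F))⁻¹ = z * b := by rw [hz']; group
    have h4 := congrArg (· ^ Nat.card U) h3
    simp only [conj_pow] at h4
    rw [mem_center_iff.1 (hpow b b.2), mul_inv_cancel_right,
      (show Commute z b from (mem_center_iff.1 h1 b).symm).mul_pow, right_eq_mul] at h4
    obtain ⟨k, hk'⟩ := ho
    rw [hk', pow_succ, pow_mul, hz z h1, one_pow, one_mul] at h4
    rw [h4, one_mul, mul_inv_eq_iff_eq_mul] at h3
    exact h3)⟩⟩
  have hc : IsCyclic (U.comap π) := isCyclic_of_comm_SL2 _ (subtype_injective _) fun h0 => by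
    obtain ⟨p, hp'⟩ := CharP.exists F
    haveI := Fact.mk (CharP.char_is_prime F p)
    obtain ⟨a, ha⟩ := exists_prime_orderOf_dvd_card' p ((CharP.cast_eq_zero_iff F p _).1 h0)
    have h3 : a ^ (Nat.card U * 2) = 1 := Subtype.ext (by
      rw [pow_mul]; exact hz _ (hpow a a.2))
    have h4 := (CharP.cast_eq_zero_iff F p _).2 (ha ▸ orderOf_dvd_of_pow_eq_one h3)
    rw [Nat.cast_mul, mul_eq_zero] at h4
    exact h4.elim hp fun h5 => h2 (by exact_mod_cast h5)
  exact isCyclic_of_surjective (π.subgroupComap U)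
    (π.subgroupComap_surjective_of_surjective U (QuotientGroup.mk'_surjective _))

variable {S : Subgroup G} {x s t : G} {a n q : ℕ}

theorem L2.coprime (h : L2 S x s t a n q) : q.Coprime (2 * a) ∧ q.Coprime n := by
  have h1 : a.Coprime n := by
    rcases h.eps with e | e
    · simp [e]
    · simp [← e]
  have h2 : q.Coprime 2 := by
    rw [Nat.coprime_two_right, Nat.odd_iff]
    have := h.hq
    rcases h.eps with e | e <;> omega
  refine ⟨h2.mul_right ?_, ?_⟩
  · rw [h.hq, Nat.coprime_self_add_left]; exact h1.symm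
  · rw [h.hq, Nat.coprime_add_self_left]; exact h1

theorem L2.psl' (h : L2 S x s t a n q) [IsSimpleGroup G] :
    ∃ (F : Type) (_ : Field F) (_ : Fintype F), Fintype.card F = q ∧
      Nonempty (G ≃* Matrix.ProjectiveSpecialLinearGroup (Fin 2) F) := by
  obtain ⟨r, f, hr, hf, hrq⟩ := (isPrimePow_nat_iff q).1 h.pp
  haveI := Fact.mk hr
  have hrq' : r ∣ q := hrq ▸ dvd_pow_self r hf.ne'
  obtain ⟨y, hy⟩ := exists_prime_orderOf_dvd_card' (G := G) r (h.card ▸ hrq'.mul_left _)
  have h1 : ∀ m, q.Coprime m → ¬ r ∣ m := fun m hm e =>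
    hr.one_lt.ne' (Nat.eq_one_of_dvd_coprimes hm hrq' e)
  have hy1 : y ≠ 1 := fun e => hr.one_lt.ne (by rw [← hy, e, orderOf_one])
  rcases h.types y hy1 (hy ▸ hr.odd_of_ne_two fun e => h1 _ h.coprime.1 (e ▸ dvd_mul_right _ _))
    with ⟨g, hg⟩ | hT | hQ
  · refine absurd ?_ (h1 _ h.coprime.1)
    rw [← h.card_cent, ← hy, ← orderOf_conj_eq g y]
    exact Subgroup.orderOf_dvd_natCard _ (piCoreOf_le _ hg)
  · refine absurd ?_ (h1 _ h.coprime.2)
    rw [← hT.card, ← hy]
    exact Subgroup.orderOf_dvd_natCard _ (mem_cent1.2 rfl)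
  · have h2 := h.hq
    rcases h.eps with e | e
    · exact hQ.psl (e := a) h.pp (by omega) (by rw [h.card, h2, e]; ring)
    · exact hQ.psl (e := n) h.pp (by omega) (by rw [h.card, h2, ← e]; ring)

theorem L2.isCyclic (h : L2 S x s t a n q) [IsSimpleGroup G] (U : Subgroup G)
    [IsMulCommutative U] (ho : Odd (Nat.card U)) (hc : q.Coprime (Nat.card U)) : IsCyclic U := by
  obtain ⟨F, _, _, hF, ⟨e⟩⟩ := h.psl'
  have h1 : ∀ m : ℕ, q.Coprime m → (m : F) ≠ 0 := fun m hm h0 => by
    obtain ⟨p, hp⟩ := CharP.exists F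
    refine (CharP.char_is_prime F p).one_lt.ne' (Nat.eq_one_of_dvd_coprimes hm ?_
      ((CharP.cast_eq_zero_iff F p _).1 h0))
    rw [← CharP.cast_eq_zero_iff F p, ← hF]
    exact FiniteField.cast_card_eq_zero F
  have e' := U.equivMapOfInjective e.toMonoidHom e.injective
  have := isCyclic_of_comm_PSL2 (F := F)
    (by exact_mod_cast h1 2 (h.coprime.1.coprime_dvd_right (dvd_mul_right _ _)))
    (U.map e.toMonoidHom) (Nat.card_congr e'.toEquiv ▸ ho) (Nat.card_congr e'.toEquiv ▸ h1 _ hc)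
  exact isCyclic_of_surjective _ e'.symm.surjective

theorem L2.cyc' (h : L2 S x s t a n q) [IsSimpleGroup G] :
    IsCyclic 𝐎(𝓒[t]) ∧ ∀ T : Subgroup G, TType n T → IsCyclic T := by
  refine ⟨?_, fun T hT => ?_⟩
  · haveI : IsMulCommutative 𝐎(𝓒[t]) := ⟨⟨fun u v => Subtype.ext (by
      have h1 := h.inv _ (mul_mem u.2 v.2)
      rw [← conj_mul, h.inv _ u.2, h.inv _ v.2, ← mul_inv_rev, inv_inj] at h1
      exact h1.symm)⟩⟩
    haveI := Fact.mk Nat.prime_two
    refine h.isCyclic _ (Nat.coprime_two_right.1 (isPiGroup_compl_singleton_iff_coprime.1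
      (isPiGroup_piCoreOf _ _))) (h.coprime.1.coprime_dvd_right ?_)
    rw [← h.card_cent]
    exact card_dvd_of_le (piCoreOf_le _)
  · haveI := hT.cc.comm
    refine h.isCyclic T ?_ (hT.card ▸ h.coprime.2)
    have h1 : t ∈ zpowers x := by
      rcases h.dih.cases with e | e
      · exact e ▸ mem_zpowers x
      · exact e ▸ mul_mem (mem_zpowers x) (mem_zpowers x)
    have h2 := card_dvd_of_le (h.dih.pair.le_centralizer h1 h.dih.ord)
    rw [h.dih.pair.card_eq, h.card_cent] at h2
    have h3 : 2 ∣ a := (h.dih.ord ▸ orderOf_dvd_of_mem_zpowers h1).trans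
      (Nat.dvd_of_mul_dvd_mul_left two_pos h2)
    rw [hT.card, Nat.odd_iff]
    rcases h.eps with e | e <;> omega

end Cfsg.GW
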