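import Cfsg.Agent.GW.L2Defs
import Cfsg.Agent.GW.BswD
import Cfsg.Agent.GW.BswPsl
import Cfsg.Agent.Blk.PrinDih
import Cfsg.Agent.Grp.Zass
import Cfsg.Agent.FT.Main

/-!
# The Brauer-Suzuki-Wall theorem

Notation: `H = C(t) = K ⋊ S`, `A = ⟨x⟩ × K` abelian of order `a`, `H = A ⋊ ⟨s⟩`, every element of
`H \ A` is an involution inverting `A`; `C(y) = A` for `y ∈ A \ ⟨t⟩`; `A^#` is TI with normalizer `H`.
`i = |G:H|` = number of involutions; every conjugate of an element of `A^#` is a product of two
involutions in exactly `a` ways.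

`bsw_num`. Case `a = 2` (`H = S` of order 4): `|G| = 12` or `60` (order formula `S4479` or any other
argument, e.g. `N(S)` of order 12 is strongly embedded), check the types by Sylow.
Case `a ≥ 4`. For `1 ≠ λ ∈ Irr A` put `φ_λ = (λ - 1)^G`; these span the class functions supported on
the conjugates of `A^#`; `μ` = the character of order 2; `N = a/2 - 1` pairs `{λ, λ̄}` with `λ² ≠ 1`.
Norms: `‖φ_λ‖² = 3`, `‖φ_μ‖² = 4`, all other inner products 2, `(φ,1) = -1`. Hence
`φ_λ = -1 - X + Y_λ`, `φ_μ = -1 - X + X₂ + X₃` (signed irreducibles; the triangle configuration for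
`N = 3` is excluded by degrees; for `N = 1` name `X` suitably; for `N = 2` (`A = C₆`) the alternative
`φ_μ ∋ Y₁ + Y₂` is excluded because `-φ_μ = 4·secOne t` has constituents in `B₀`, constant on `tK`).
On `A^#`: `X = 1`, `Y_λ = λ + λ̄`, `X₂ = X₃ = μ` (restriction to `A` is determined modulo the regular
character), all other irreducibles vanish. With `m = X 1`: `Y 1 = 1 + m = X₂ 1 + X₃ 1`,
`X₂ 1 ≡ 1 (mod a)`. Summing `φ` over products of two involutions:
`-a|G| = i² (4/(1+m) - 1 - 1/m) = i² (1/m₂ + 1/m₃ - 1 - 1/m)`, so `m₂ = m₃ = (1+m)/2`,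
`m = 1 + 2ac`, `|G| = a m (m+1)/c²`; the sum of the squares of the degrees gives `c = ε = ±1`.
So `q = |m| = 2a + ε`, `n = a + ε`, `|G| = 2anq`, pairwise coprime. An element `g ≠ 1` not conjugate
into `A` has order (and centralizer order) prime to `a`, and `Y g = 1 + X g = X₂ g + X₃ g`.
Defect zero (`X` for primes of `q`; `Y`, `X₂`, `X₃` for primes of `n`): either `o(g) ∣ q`, `X g = 0`
(type Q) or `o(g) ∣ n`, `X g = -1` (type T). `(X,1) = 0` gives `N_T = (n-1)|G|/(2n)`, `N_Q = q² - 1`.
Type Q: `|C(g)| ∣ q`, so there are two classes with `|C(g)| = q`, and `q = r^f` (otherwise three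
element orders). The class multiplication formula gives the number of ways to write `g` as a
product of two involutions: `n` for type T, `q(1+ε)/2` for type Q. An involution inverting `g` acts
fixed point freely on `C(g)`, so `T = C(g)` is abelian of order `n`, CC, `|N(T)| = 2n`; for `ε = 1`
also `Q = C(g)` is abelian. For `ε = -1` let `D ≠ 1` be a maximal intersection of two Sylow
`r`-subgroups, `M = N(D)` has odd order (type Q elements are not real), is solvable, `D = O_r(M)`;
for a minimal normal `W̄` of `M/D`, `M = D N_M(W)` and `N(W) ≤ H^g` or `N(T)` is an `r'`-group,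
contradiction. So `Q` is TI, abelian, there are `q+1` Sylow subgroups, `N(Q) = Q ⋊ E`,
`|E| = (q-1)/2`, `E` semiregular on `Q^#`; `E` has a nontrivial centre (or is trivial), so
`E ≤ A^g` or `E ≤ T`, `E` abelian, hence cyclic (`isCyclic_of_fpf`).

`L2.psl`: `Q` is elementary abelian, `E` irreducible on it (two orbits of length `(q-1)/2`), the ring
generated by `E` in `End Q` is a field `F` with `q` elements, `E` = squares; an involution `w`
inverting `E` swaps its two fixed points; proceed as in `Grp/Zass` (`exists_inv_of_odd/even`) and use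
`nonempty_equiv_psl_of_coord`. `L2.cyc`: in `PSL₂(F)` the centralizer of an element `y` of order
`> 2` prime to `r` lifts into the unit group of the commutative algebra `F[ŷ]` (a field, or `y` fixes
a Sylow `r`-subgroup and `C(y)` embeds into `N(Q)/Q`).
-/

set_option autoImplicit false

namespace Cfsg.GW

open Subgroup Cfsg.Agent.FT

universe u

variable {G : Type u} [Group G] [Finite G] {S : Subgroup G} {x s t : G}

theorem BswHyp.exists_l2 (h : BswHyp S x s t) : ∃ a n q, L2 S x s t a n q := h.exists_l2'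

theorem L2.psl {a n q : ℕ} (h : L2 S x s t a n q) [IsSimpleGroup G] :
    ∃ (F : Type) (_ : Field F) (_ : Fintype F), Odd (Fintype.card F) ∧
      Nonempty (G ≃* Matrix.ProjectiveSpecialLinearGroup (Fin 2) F) := by
  obtain ⟨F, _, _, hF, e⟩ := h.psl'
  exact ⟨F, inferInstance, inferInstance, hF ▸ Nat.coprime_two_right.1
    (h.coprime.1.coprime_dvd_right (dvd_mul_right _ _)), e⟩

theorem L2.cyc {a n q : ℕ} (h : L2 S x s t a n q) [IsSimpleGroup G] :
    IsCyclic 𝐎(𝓒[t]) ∧ ∀ T : Subgroup G, TType n T → IsCyclic T :=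
  h.cyc'

theorem BswHyp.known' (h : BswHyp S x s t) [hs : IsSimpleGroup G] (hna : ¬ IsMulCommutative G) :
    Known' G := by
  obtain ⟨a, n, q, h2⟩ := h.exists_l2
  exact ⟨Or.inr h2.psl, Or.inr ⟨S, x, s, t, a, n, q, h2, hs, hna, h2.cyc.1, h2.cyc.2⟩⟩

end Cfsg.GW
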