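import Cfsg.Agent.GW.BasicA

/-!
# Elementary facts for the Gorenstein-Walter proof, II: Sylow `2`-subgroups

All statements are elementary (Sylow, Frobenius/Thompson transfer, Feit-Thompson `oddOrder`).
Four-groups, involutions acting on groups of odd order and `IsD8` are in `GW/BasicA`.
-/

set_option autoImplicit false
set_option linter.unusedSectionVars false
set_option linter.unusedVariables false

namespace Cfsg.GW

open Subgroup Cfsg.Agent.FT
open scoped commutatorElement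

universe u v

variable {G : Type u} [Group G] [Finite G]

variable {M S : Subgroup G} {x s t : G}

theorem sdprod_of_npc (h : HasNormalPComplement 2 M) (hS : IsSylowOf 2 S M) :
    IsSdprod 𝐎(M) S M := by
  have h1 := hasNormalPComplement_iff_hall.1 h
  have hc := coprime_of_pgroup_of_not_dvd hS.pgroup (not_dvd_piCoreOf 2 M)
  refine isSdprod_of_normal (piCoreOf_normalOf _ M) ?_ (disjoint_of_coprime_natCard hc).eq_bot
  refine (hS.isProd (piCoreOf_normalOf _ M).le ?_).symm.sup_eq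
  exact fun p hp hd => by_contra fun h2 => h1.2.2 p hp h2 hd

theorem npc_of_sdprod {N : Subgroup G} (h : IsSdprod N S M) (ho : Odd (Nat.card N))
    (hS : IsPGroup 2 S) : HasNormalPComplement 2 M := by
  refine npc_of_normal h.normal.2 (odd_iff_not_two_dvd.1 ho) ((isPGroup_quo_iff h.normal.2).2 ?_)
  rw [h.relIndex_left]
  exact hS.exists_card_eq

theorem dihPair_map {H : Type v} [Group H] [Finite H] (h : IsDihPair S x s) {f : G →* H}
    (hf : Function.Injective f) : IsDihPair (S.map f) (f x) (f s) := by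
  refine ⟨mem_map_of_mem f h.mem_σ, mem_map_of_mem f h.mem_τ, by rw [← map_mul, h.mul_self, map_one],
    by rw [← map_inv, ← map_mul, ← map_mul, h.conj_eq, map_inv], fun e => h.notMem ?_, ?_⟩
  · rwa [← MonoidHom.map_zpowers, mem_map_iff_mem hf] at e
  · rintro _ ⟨y, hy, rfl⟩
    rw [← MonoidHom.map_zpowers, ← map_mul, mem_map_iff_mem hf, mem_map_iff_mem hf]
    exact h.cases y hy

theorem DihOf.t_mem (h : DihOf M S x s t) : t ∈ zpowers x :=
  h.cases.elim (fun e => e ▸ mem_zpowers x) fun e => e ▸ mul_mem (mem_zpowers x) (mem_zpowers x)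

theorem DihOf.x_mem (h : DihOf M S x s t) : x ∈ S := h.pair.mem_σ

theorem DihOf.s_mem (h : DihOf M S x s t) : s ∈ S := h.pair.mem_τ

theorem DihOf.t_mem' (h : DihOf M S x s t) : t ∈ S := h.pair.zpowers_le h.t_mem

theorem DihOf.le_cent (h : DihOf M S x s t) : S ≤ 𝓒[t] := h.pair.le_centralizer h.t_mem h.ord

theorem DihOf.isFour (h : DihOf M S x s t) : IsFour t s :=
  ⟨h.ord, orderOf_eq_two_of_mul_self h.pair.mul_self fun e => h.pair.notMem (e ▸ one_mem _),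
    (mem_cent1.1 (h.le_cent h.s_mem)).symm, fun e => h.pair.notMem (e ▸ h.t_mem)⟩

theorem DihOf.of_notMem (h : DihOf M S x s t) {s' : G} (h1 : s' ∈ S) (h2 : s' ∉ zpowers x) :
    DihOf M S x s' t := ⟨h.syl, h.pair.of_notMem h1 h2, h.ord, h.cases⟩

theorem DihOf.swap (h : DihOf M S x s t) : DihOf M S x (x * s) t :=
  h.of_notMem (mul_mem h.x_mem h.s_mem) (h.pair.mul_τ_notMem (mem_zpowers x))

theorem DihOf.mono (h : DihOf M S x s t) {K : Subgroup G} (h1 : S ≤ K) (h2 : K ≤ M) :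
    DihOf K S x s t := ⟨h.syl.of_le h1 h2, h.pair, h.ord, h.cases⟩

theorem DihOf.conj (h : DihOf M S x s t) (g : G) :
    DihOf (M :^ g) (S :^ g) (g * x * g⁻¹) (g * s * g⁻¹) (g * t * g⁻¹) :=
  ⟨h.syl.conj g, dihPair_map h.pair (f := (MulAut.conj g).toMonoidHom) (MulAut.conj g).injective,
    (orderOf_conj_eq g t).trans h.ord, h.cases.imp (fun e => by rw [e]) fun e => by
      rw [conj_mul, e]⟩

theorem DihOf.four_le (h : DihOf M S x s t) : four t s ≤ S := four_le_iff.2 ⟨h.t_mem', h.s_mem⟩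

theorem DihOf.conj_s (h : DihOf M S x s t) : x * s * x⁻¹ = x * x * s := by
  have := h.pair.τ_conj (inv_mem (mem_zpowers x))
  rw [inv_inv] at this
  exact (mul_assoc _ _ _).trans ((congrArg (x * ·) (mul_inv_eq_iff_eq_mul.1 this)).trans
    (mul_assoc _ _ _).symm)

theorem DihOf.eq_sup (h : DihOf M S x s t) : S = zpowers x ⊔ zpowers s := by
  refine le_antisymm (fun y hy => ?_) (sup_le h.pair.zpowers_le (zpowers_le.2 h.s_mem))
  by_cases hn : y ∈ zpowers x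
  · exact mem_sup_left hn
  · obtain ⟨a, ha, rfl⟩ := h.pair.exists_eq_mul hy hn
    exact mul_mem_sup ha (mem_zpowers s)

theorem DihOf.conj_t (h : DihOf M S x s t) {g : G} (hg : g ∈ S) : g * t * g⁻¹ = t :=
  mul_inv_eq_iff_eq_mul.2 (mem_cent1.1 (h.le_cent hg))

theorem DihOf.le_norm_four (h : DihOf M S x s t) : S ≤ 𝓝(four t s) := by
  rw [h.eq_sup]
  refine sup_le (zpowers_le.2 (h.isFour.mem_norm ?_ ?_))
    (zpowers_le.2 (le_normalizer (right_mem_four t s)))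
  · rw [h.conj_t h.x_mem]; exact left_mem_four t s
  · rw [h.conj_s]
    refine mul_mem (h.cases.elim (fun e => ?_) fun e => e ▸ left_mem_four t s) (right_mem_four t s)
    rw [e, h.isFour.tt]; exact one_mem _

theorem DihOf.card_four (h : DihOf M S x s t) (hx : x = t) : S = four t s := hx ▸ h.eq_sup

theorem DihOf.card_eight (h : DihOf M S x s t) (hx : x * x = t) :
    Nat.card S = 8 ∧ orderOf x = 4 ∧ x * s * x⁻¹ = t * s := by
  have h4 : orderOf x = 2 ^ (1 + 1) := orderOf_eq_prime_pow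
    (by rw [pow_one, pow_two, hx]; exact ne_one_of_ord h.ord)
    (by rw [show 2 ^ (1 + 1) = 2 + 2 from rfl, pow_add, pow_two, hx, h.isFour.tt])
  exact ⟨by rw [h.pair.card_eq, h4]; rfl, h4, by rw [h.conj_s, hx]⟩

theorem DihOf.card_cases (h : DihOf M S x s t) :
    x = t ∧ Nat.card S = 4 ∨ x * x = t ∧ Nat.card S = 8 :=
  h.cases.imp (fun e => ⟨e, by rw [h.card_four e, h.isFour.card]⟩) fun e => ⟨e, (h.card_eight e).1⟩

theorem DihOf.not_commute (h : DihOf M S x s t) (hx : x * x = t) : ¬ Commute s x := fun e => by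
  have := (h.card_eight hx).2.2
  rw [← e.eq, mul_inv_cancel_right, right_eq_mul] at this
  exact ne_one_of_ord h.ord this

theorem DihOf.eq_t (h : DihOf M S x s t) {u : G} (hu : u ∈ zpowers x) (h2 : orderOf u = 2) :
    u = t := eq_of_orderOf_eq_two_of_mem_zpowers hu h.t_mem h2 h.ord

theorem DihOf.t_mem_zpowers (h : DihOf M S x s t) {u : G} (hu : u ∈ zpowers x) (h1 : u ≠ 1) :
    t ∈ zpowers u := h.pair.mem_zpowers_of_ne_one h.syl.pgroup h.t_mem h.ord hu h1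

theorem DihOf.isD8 (h : DihOf M S x s t) : IsD8 M := by
  have h8 : Nat.card S ∣ 8 := h.card_cases.elim (fun e => e.2 ▸ by norm_num) fun e => e.2 ▸ dvd_rfl
  refine isD8_iff.2 ⟨fun h16 => ?_, fun Q hQ hc => ?_⟩
  · rw [← card_mul_relIndex h.syl.le] at h16
    have := ((Nat.coprime_two_left.2 (odd_iff_not_two_dvd.2 h.syl.not_dvd)).pow_left
      4).dvd_of_dvd_mul_right h16
    exact absurd (this.trans h8) (by norm_num)
  obtain ⟨g, -, hg⟩ := h.syl.exists_le_conj (IsPGroup.of_card (n := 3) hc) hQ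
  have e := eq_of_le_of_card_le hg (by rw [card_map_conj, hc]; exact Nat.le_of_dvd (by norm_num) h8)
  have hx := (h.card_cases.resolve_left fun e' => by
    rw [e, card_map_conj, e'.2] at hc; omega).1
  exact ⟨_, e ▸ (h.conj g).s_mem, _, e ▸ (h.conj g).x_mem, (h.conj g).pair.mul_self,
    (h.conj g).not_commute (by rw [conj_mul, hx])⟩

/-- an involution of `S` is `t` or conjugate to `s` or `x s` -/
theorem DihOf.invol_cases (h : DihOf M S x s t) {u : G} (hu : u ∈ S) (h2 : orderOf u = 2) :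
    u = t ∨ ∃ a ∈ S, a * s * a⁻¹ = u ∨ a * (x * s) * a⁻¹ = u := by
  by_cases hn : u ∈ zpowers x
  · exact Or.inl (h.eq_t hn h2)
  · obtain ⟨a, ha, e⟩ := h.pair.exists_conj_eq hu hn
    exact Or.inr ⟨a, h.pair.zpowers_le ha, e⟩

theorem DihOf.npc_of_not_fused (h : DihOf M S x s t) (h1 : ∀ g ∈ M, g * t * g⁻¹ ≠ s)
    (h2 : ∀ g ∈ M, g * t * g⁻¹ ≠ x * s) : HasNormalPComplement 2 M := by
  have key : ∀ Q ≤ S, ∀ y ∈ M, ¬ 2 ∣ orderOf y → (∀ z ∈ Q, y * z * y⁻¹ ∈ Q) →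
      ∀ z ∈ Q, y * z * y⁻¹ = z := by
    intro Q hQ y hy ho hn z hz
    by_cases ht : t ∈ Q
    · refine h.pair.conj_eq_of_odd h.syl.pgroup h.t_mem h.ord hQ ho
        (mem_cent1.2 (mul_inv_eq_iff_eq_mul.1 ?_)) hn hz
      rcases h.invol_cases (hQ (hn t ht)) ((orderOf_conj_eq y t).trans h.ord) with e | ⟨a, ha, e⟩
      · exact e
      have hm := mul_mem (inv_mem (h.syl.le ha)) hy
      have e' : a⁻¹ * y * t * (a⁻¹ * y)⁻¹ = a⁻¹ * (y * t * y⁻¹) * a := by group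
      rcases e with e | e
      · exact (h1 _ hm (by rw [e', ← e]; group)).elim
      · exact (h2 _ hm (by rw [e', ← e]; group)).elim
    have h3 : ∀ w ∈ Q, w ∈ zpowers x → w = 1 := fun w hw hw' => by
      by_contra h0
      exact ht (zpowers_le.2 hw (h.t_mem_zpowers hw' h0))
    by_cases h0 : z = 1
    · simp [h0]
    have h4 : z ∉ zpowers x := fun e => h0 (h3 z hz e)
    have h5 := h3 _ (mul_mem (hn z hz) hz) (h.pair.mul_mem_of_notMem (hQ (hn z hz))
      (fun e => h0 (by simpa using h3 _ (hn z hz) e)) (hQ hz) h4)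
    exact mul_right_cancel (h5.trans (h.pair.mul_self_of_notMem (hQ hz) h4).symm)
  refine hasNormalPComplement_of_forall_isPElt fun Q hQ _ q _ hq y hy hyq => ?_
  obtain ⟨c, hc, hcQ⟩ := h.syl.exists_conj_le (hQ.map M.subtype) (map_subtype_le Q)
  have hy2 : IsPRegular 2 (c * y * c⁻¹) :=
    isPRegular_conj_iff.2 (isPRegular_coe_iff.2 (hyq.isPRegular_of_ne hq))
  intro z hz
  have := key _ hcQ _ (mul_mem (mul_mem hc y.2) (inv_mem hc)) hy2 ?_ (c * z * c⁻¹)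
    (conj_mem_map_conj.2 ⟨z, hz, rfl⟩)
  · apply Subtype.ext
    have h2 := congrArg (fun w => c⁻¹ * w * c * y) this
    simpa [mul_assoc] using h2.symm
  · intro w hw
    rw [mem_map_conj] at hw ⊢
    obtain ⟨w', hw', e⟩ := hw
    refine ⟨y * w' * y⁻¹, conj_mem_of_mem_normalizer hy hw', ?_⟩
    simp only [coe_subtype] at e
    simp only [coe_subtype, coe_mul, coe_inv, e]
    group

/-- if `t` is fused to neither `s` nor `x s` then `M = O(M) S` -/
theorem DihOf.sdprod_of_not_fused (h : DihOf M S x s t) (h1 : ∀ g ∈ M, g * t * g⁻¹ ≠ s)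
    (h2 : ∀ g ∈ M, g * t * g⁻¹ ≠ x * s) : IsSdprod 𝐎(M) S M :=
  sdprod_of_npc (h.npc_of_not_fused h1 h2) h.syl

theorem DihOf.cent (h : DihOf M S x s t) : DihOf (M ⊓ 𝓒[t]) S x s t :=
  h.mono (le_inf h.syl.le h.le_cent) inf_le_left

theorem DihOf.npc_cent (h : DihOf M S x s t) : HasNormalPComplement 2 (M ⊓ 𝓒[t] : Subgroup G) :=
  h.cent.npc_of_not_fused
    (fun g hg => (mul_inv_eq_iff_eq_mul.2 (mem_cent1.1 hg.2)).trans_ne h.isFour.ne)
    fun g hg => (mul_inv_eq_iff_eq_mul.2 (mem_cent1.1 hg.2)).trans_ne h.swap.isFour.ne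

/-- `C_M(t) = O(C_M(t)) S` -/
theorem DihOf.sdprod (h : DihOf M S x s t) : IsSdprod 𝐎(M ⊓ 𝓒[t]) S (M ⊓ 𝓒[t]) :=
  sdprod_of_npc h.npc_cent h.cent.syl

theorem le_core_of_npc (h : HasNormalPComplement 2 M) {X : Subgroup G} (hX : X ≤ M)
    (ho : Odd (Nat.card X)) : X ≤ 𝐎(M) :=
  (hasNormalPComplement_iff_hall.1 h).ge_of_normal (piCoreOf_normalOf _ M).2
    (isPiGroup_compl_singleton_iff.2 (odd_iff_not_two_dvd.1 ho)) hX

theorem DihOf.le_core (h : DihOf M S x s t) {X : Subgroup G} (hX : X ≤ M ⊓ 𝓒[t])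
    (ho : Odd (Nat.card X)) : X ≤ 𝐎(M ⊓ 𝓒[t]) := le_core_of_npc h.npc_cent hX ho

theorem sol_of_sdprod {N : Subgroup G} (h : IsSdprod N S M) (ho : Odd (Nat.card N))
    (hS : IsPGroup 2 S) : Group.IsSolvable M := by
  refine isSolvable_of_quo h.normal.2 (sol_of_odd ho) (sol_of_pgroup (p := 2)
    ((isPGroup_quo_iff h.normal.2).2 ?_))
  rw [h.relIndex_left]
  exact hS.exists_card_eq

theorem sol_of_npc (h : HasNormalPComplement 2 M) : Group.IsSolvable M := by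
  obtain ⟨S, hS⟩ := exists_sylow 2 M
  exact sol_of_sdprod (sdprod_of_npc h hS) (odd_core M) hS.pgroup

theorem DihOf.solvable_cent (h : DihOf M S x s t) : Group.IsSolvable (M ⊓ 𝓒[t] : Subgroup G) :=
  sol_of_npc h.npc_cent

/-- `C_M(V) = C_U(V) × V` -/
theorem DihOf.cent_four (h : DihOf M S x s t) :
    IsDprod (𝐎(M ⊓ 𝓒[t]) ⊓ 𝓒[s]) (four t s) (M ⊓ 𝓒(four t s)) := by
  have h0 : 𝐎(M ⊓ 𝓒[t]) ⊓ 𝓒[s] ≤ M ⊓ 𝓒(four t s) := by
    rw [GW.cent_four, ← inf_assoc]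
    exact inf_le_inf_right _ (piCoreOf_normalOf _ _).le
  refine ⟨le_antisymm (sup_le h0 (le_inf (h.four_le.trans h.syl.le) h.isFour.le_cent))
    fun y hy => ?_, le_cent_symm (h0.trans inf_le_right), (disjoint_of_coprime_natCard
      (coprime_of_pgroup_of_not_dvd h.isFour.pgroup (not_dvd_card_of_le (not_dvd_piCoreOf 2 _)
        inf_le_left))).eq_bot⟩
  have h1 : zpowers y ≤ M ⊓ 𝓒[t] ⊓ 𝓒[s] := by
    rw [inf_assoc, ← GW.cent_four]; exact zpowers_le.2 hy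
  have h2 := h1 (pPart_mem_zpowers (p := 2) y)
  have h3 := h1 (pPrimePart_mem_zpowers (p := 2) y)
  rw [← pPrimePart_mul_pPart 2 y]
  refine mul_mem_sup ⟨zpowers_le.1 (h.le_core (zpowers_le.2 h3.1) ?_), h3.2⟩
    (h.isD8.mem_four h.isFour (h.syl.le h.t_mem') (h.syl.le h.s_mem) h2.1.1 (isPElt_pPart 2 y)
      (mem_cent1.1 h2.1.2) (mem_cent1.1 h2.2))
  rw [Nat.card_zpowers]
  exact odd_iff_not_two_dvd.2 (isPRegular_pPrimePart (p := 2) y)

/-- the `2`-subgroups of an `IsD8` group -/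
theorem IsD8.cases (h : IsD8 M) (hP : IsPGroup 2 S) (hle : S ≤ M) :
    IsCyclic S ∨ ∃ x s t, DihOf S S x s t := by
  refine or_iff_not_imp_left.2 fun hc => ?_
  have hord : ∀ y ∈ S, orderOf y ≠ Nat.card S := fun y hy e =>
    hc (isCyclic_of_orderOf_eq_card (⟨y, hy⟩ : S) ((Subgroup.orderOf_mk y hy).trans e))
  obtain ⟨k, hk, e⟩ := h.card_cases hP hle
  have hdvd : ∀ y ∈ S, ∃ j < k, orderOf y = 2 ^ j := fun y hy => by
    obtain ⟨j, hj, e'⟩ := (Nat.dvd_prime_pow Nat.prime_two).1 (e ▸ S.orderOf_dvd_natCard hy)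
    exact ⟨j, hj.lt_of_ne fun e2 => hord y hy (by rw [e', e, e2]), e'⟩
  have hex : ∀ y ∈ S, ∃ z ∈ S, z ∉ zpowers y := fun y hy => by
    by_contra! hn
    exact hord y hy (by rw [← Nat.card_zpowers, le_antisymm (zpowers_le.2 hy) hn])
  by_cases hsq : ∀ y ∈ S, y * y = 1
  · have hcomm : ∀ a ∈ S, ∀ b ∈ S, Commute a b := fun a ha b hb => by
      have h1 := hsq _ (mul_mem ha hb)
      rw [← eq_inv_iff_mul_eq_one, mul_inv_rev, inv_eq_of_mul_eq_one_right (hsq a ha),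
        inv_eq_of_mul_eq_one_right (hsq b hb)] at h1
      exact h1
    obtain ⟨t, ht, ht1⟩ := hex 1 (one_mem S)
    obtain ⟨s, hs, hs1⟩ := hex t ht
    have h4 : IsFour t s := ⟨orderOf_eq_two_of_mul_self (hsq t ht) fun e => ht1 (e ▸ mem_zpowers _),
      orderOf_eq_two_of_mul_self (hsq s hs) fun e => hs1 (e ▸ one_mem _), hcomm t ht s hs,
      fun e => hs1 (e ▸ mem_zpowers t)⟩
    obtain rfl : S = four t s := le_antisymm (fun z hz => h.mem_four h4 (hle ht) (hle hs) (hle hz)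
      (isPElt_of_mem hP hz) (hcomm z hz t ht) (hcomm z hz s hs)) (four_le_iff.2 ⟨ht, hs⟩)
    exact ⟨t, s, t, .self hP, h4.dihPair, h4.ord_left, Or.inl rfl⟩
  push Not at hsq
  obtain ⟨x, hx, hxx⟩ := hsq
  obtain ⟨j, hj, ej⟩ := hdvd x hx
  have h2 : ¬ orderOf x ∣ 2 := fun e => hxx ((pow_two x).symm.trans (orderOf_dvd_iff_pow_eq_one.1 e))
  obtain ⟨rfl, rfl⟩ : j = 2 ∧ k = 3 := by
    have : ¬ j ≤ 1 := fun e => h2 (ej ▸ pow_dvd_pow 2 e)
    omega
  have h4 : x * x * (x * x) = 1 := by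
    rw [← pow_two x, ← pow_add]; exact orderOf_dvd_iff_pow_eq_one.1 (ej ▸ dvd_rfl)
  have hi : (zpowers x).relIndex S = 2 := by
    have := card_mul_relIndex (zpowers_le.2 hx)
    rw [Nat.card_zpowers, ej, e] at this
    omega
  have hcases : ∀ a ∈ S, a ∉ zpowers x → ∀ y ∈ S, y ∈ zpowers x ∨ y * a ∈ zpowers x :=
    fun a ha han y hy => or_iff_not_imp_left.2 fun hyn =>
      (mul_mem_iff_of_index_two hi (a := ⟨y, hy⟩) (b := ⟨a, ha⟩)).2 (iff_of_false hyn han)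
  have hmem : ∀ y ∈ zpowers x, y = 1 ∨ y = x ∨ y = x * x ∨ y = x⁻¹ := fun y hy => by
    classical
    obtain ⟨n, hn, rfl⟩ := (mem_zpowers_iff_mem_range_orderOf.1 hy |> Finset.mem_image.1)
    rw [ej, Finset.mem_range] at hn
    interval_cases n
    · simp
    · simp
    · simp [pow_two]
    · refine Or.inr (Or.inr (Or.inr (eq_inv_of_mul_eq_one_right ?_)))
      rw [← h4, pow_succ, pow_two]; group
  have hconj : ∀ g ∈ S, g * x * g⁻¹ = x ∨ g * x * g⁻¹ = x⁻¹ := fun g hg => by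
    have h5 : g * x * g⁻¹ ∈ zpowers x :=
      (normal_of_index_eq_two hi).conj_mem ⟨x, hx⟩ (mem_zpowers x) ⟨g, hg⟩
    have h6 : g * x * g⁻¹ * (g * x * g⁻¹) ≠ 1 := by rwa [conj_mul, Ne, conj_eq_one_iff]
    rcases hmem _ h5 with e' | e' | e' | e'
    exacts [(h6 (by rw [e', mul_one])).elim, Or.inl e', (h6 (by rw [e', h4])).elim, Or.inr e']
  obtain ⟨a, ha, b, hb, haa, hab⟩ := (isD8_iff.1 h).2 S hle e
  have han : a ∉ zpowers x := fun h5 => by
    rcases hmem a h5 with rfl | rfl | rfl | rfl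
    · exact hab (Commute.one_left b)
    · exact hxx haa
    · refine hab (Commute.symm (mul_inv_eq_iff_eq_mul.1 ?_))
      rw [← conj_mul]
      rcases hconj b hb with e' | e' <;> rw [e']
      rw [← mul_inv_rev, inv_eq_of_mul_eq_one_right h4]
    · exact hxx (by rwa [← mul_inv_rev, inv_eq_one] at haa)
  refine ⟨x, a, x * x, .self hP, ⟨hx, ha, haa, (hconj a ha).resolve_left fun e' => hab ?_, han,
    hcases a ha han⟩, orderOf_eq_two_of_mul_self h4 hxx, Or.inr rfl⟩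
  have h5 : ∀ y ∈ zpowers x, Commute a y := fun y hy => by
    obtain ⟨n, rfl⟩ := mem_zpowers_iff.1 hy
    exact Commute.zpow_right (mul_inv_eq_iff_eq_mul.1 e') n
  rcases hcases a ha han b hb with h6 | h6
  · exact h5 b h6
  · simpa using (h5 _ h6).mul_right (Commute.refl a).inv_right

theorem IsD8.exists_dihOf_sylow (h : IsD8 M) (hS : IsSylowOf 2 S M) (hc : ¬ IsCyclic S) :
    ∃ x s t, DihOf M S x s t := by
  obtain ⟨x, s, t, h1⟩ := (h.cases hS.pgroup hS.le).resolve_left hc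
  exact ⟨x, s, t, hS, h1.pair, h1.ord, h1.cases⟩

theorem IsD8.exists_dihOf (h : IsD8 M) (h4 : IsFour t s) (ht : t ∈ M) (hs : s ∈ M)
    (hi : ¬ 2 ∣ (𝓒[t] : Subgroup G).relIndex M) : ∃ S x, DihOf M S x s t := by
  obtain ⟨S, hS, hle⟩ := exists_sylow_ge h4.pgroup (M := M ⊓ 𝓒[t])
    (le_inf (four_le_iff.2 ⟨ht, hs⟩) (h4.le_cent.trans (cent_le_cent1 (left_mem_four t s))))
  have hS' := hS.of_relIndex inf_le_left (by rwa [inf_relIndex_left])
  obtain ⟨x, s', t', h1⟩ := h.exists_dihOf_sylow hS' fun hc => h4.not_isCyclic (cyclic_of_le hc hle)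
  rcases h1.card_cases with ⟨-, e⟩ | ⟨e, -⟩
  · obtain rfl := eq_of_le_of_card_le hle (by rw [e, h4.card])
    exact ⟨_, t, hS', h4.dihPair, h4.ord_left, Or.inl rfl⟩
  obtain rfl : t = t' := h1.eq_t (by
    by_contra hn
    exact (h1.of_notMem (hle (left_mem_four t s)) hn).not_commute e
      (mem_cent1.1 (hS.le h1.x_mem).2).symm) h4.ord_left
  exact ⟨S, x, h1.of_notMem (hle (right_mem_four t s)) fun hn => h4.ne (h1.eq_t hn h4.ord_right).symm⟩

theorem npc_of_cyclic (hS : IsSylowOf 2 S M) (hc : IsCyclic S) : HasNormalPComplement 2 M := by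
  obtain ⟨R, rfl⟩ := hS.exists_sylow
  haveI := isCyclic_map_subtype_iff.1 hc
  exact hasNormalPComplement_two_of_isCyclic R

theorem IsD8.npc_cent (h : IsD8 M) (ht : t ∈ M) (ho : orderOf t = 2) :
    HasNormalPComplement 2 (M ⊓ 𝓒[t] : Subgroup G) := by
  obtain ⟨S, hS⟩ := exists_sylow 2 (M ⊓ 𝓒[t])
  by_cases hc : IsCyclic S
  · exact npc_of_cyclic hS hc
  obtain ⟨x, s, t', h1⟩ := (h.of_le inf_le_left).exists_dihOf_sylow hS hc
  obtain ⟨u, hu, h4⟩ : ∃ u ∈ M, IsFour t u := by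
    by_cases e : t = t'
    · exact ⟨s, (hS.le h1.s_mem).1, e ▸ h1.isFour⟩
    · exact ⟨t', (hS.le h1.t_mem').1, ho, h1.ord, (mem_cent1.1 (hS.le h1.t_mem').2).symm, e⟩
  obtain ⟨T, y, h2⟩ := (h.of_le (inf_le_left : M ⊓ 𝓒[t] ≤ M)).exists_dihOf h4
    ⟨ht, mem_cent1.2 rfl⟩ ⟨hu, mem_cent1.2 h4.comm.eq.symm⟩
    (by rw [relIndex_eq_one.2 inf_le_right]; norm_num)
  have := h2.npc_cent
  rwa [inf_assoc, inf_idem] at this

/-- the centralizer of any involution of an `IsD8` group has a normal `2`-complement -/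
theorem IsD8.hall_cent (h : IsD8 M) (ht : t ∈ M) (ho : orderOf t = 2) :
    IsPiHallOf ({2}ᶜ : Set ℕ) 𝐎(M ⊓ 𝓒[t]) (M ⊓ 𝓒[t]) :=
  hasNormalPComplement_iff_hall.1 (h.npc_cent ht ho)

/-- every four-group lies in a Sylow subgroup whose central involution is in it -/
theorem IsD8.exists_dihOf' (h : IsD8 M) (h4 : IsFour t s) (ht : t ∈ M) (hs : s ∈ M) :
    ∃ S x s' t', DihOf M S x s' t' ∧ four t' s' = four t s := by
  obtain ⟨S, hS, hle⟩ := exists_sylow_ge h4.pgroup (four_le_iff.2 ⟨ht, hs⟩)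
  obtain ⟨x, s', t', h1⟩ := h.exists_dihOf_sylow hS fun hc => h4.not_isCyclic (cyclic_of_le hc hle)
  have hi := hS.not_dvd_of_le h1.le_cent
  have h2 := h.mem_four h4 ht hs (hS.le h1.t_mem') (isPElt_two_of_orderOf h1.ord)
    (mem_cent1.1 (h1.le_cent (hle (left_mem_four t s)))).symm
    (mem_cent1.1 (h1.le_cent (hle (right_mem_four t s)))).symm
  rcases h4.mem_four.1 h2 with rfl | rfl | rfl | rfl
  · exact (ne_one_of_ord h1.ord rfl).elim
  · obtain ⟨T, y, h3⟩ := h.exists_dihOf h4 ht hs hi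
    exact ⟨T, y, _, _, h3, rfl⟩
  · obtain ⟨T, y, h3⟩ := h.exists_dihOf h4.symm hs ht hi
    exact ⟨T, y, _, _, h3, four_comm _ _⟩
  · obtain ⟨T, y, h3⟩ := h.exists_dihOf h4.mul.symm (mul_mem ht hs) ht hi
    exact ⟨T, y, _, _, h3, (four_comm _ _).trans h4.four_mul⟩

/-- a normal subgroup of even order meets every four-group -/
theorem IsD8.exists_mem_four (h : IsD8 M) (h4 : IsFour t s) (ht : t ∈ M) (hs : s ∈ M)
    {C : Subgroup G} (hC : C ⊴ M) (he : ¬ Odd (Nat.card C)) : t ∈ C ∨ s ∈ C ∨ t * s ∈ C := by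
  obtain ⟨S, x, s', t', h1, e⟩ := h.exists_dihOf' h4 ht hs
  obtain ⟨c, hc, h0⟩ := exists_ne_one_of_ne_bot ((h1.syl.inf_normal hC).ne_bot_iff.2
    (by rwa [odd_iff_not_two_dvd, not_not] at he))
  obtain ⟨v, hv, hvC, hv1⟩ : ∃ v ∈ four t' s', v ∈ C ∧ v ≠ 1 := by
    by_cases hn : c ∈ zpowers x
    · exact ⟨t', left_mem_four _ _, zpowers_le.2 hc.2 (h1.t_mem_zpowers hn h0), ne_one_of_ord h1.ord⟩
    rcases h1.cases with e1 | e1
    · exact ⟨c, h1.card_four e1 ▸ hc.1, hc.2, h0⟩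
    refine ⟨t', left_mem_four _ _, ?_, ne_one_of_ord h1.ord⟩
    have := hC.conj_mem (h1.syl.le h1.x_mem) hc.2
    rwa [((h1.of_notMem hc.1 hn).card_eight e1).2.2, C.mul_mem_cancel_right hc.2] at this
  rcases h4.mem_four.1 (e ▸ hv) with rfl | rfl | rfl | rfl
  exacts [(hv1 rfl).elim, Or.inl hvC, Or.inr (Or.inl hvC), Or.inr (Or.inr hvC)]

theorem DihOf.exists_rho (h : DihOf M S x s t) (hs : ∃ g ∈ M, g * t * g⁻¹ = s) :
    ∃ ρ ∈ M, ρ * t * ρ⁻¹ = s ∧ ρ * s * ρ⁻¹ = t * s := by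
  obtain ⟨g, hg, e⟩ := hs
  have h4 := h.isFour
  have h1 := h.conj g
  rw [e, conj_eq_of_mem_norm (le_normalizer hg)] at h1
  rcases h.card_cases with ⟨hx, h8⟩ | ⟨hx, h8⟩
  · have hS := h.card_four hx
    have hSs : S ≤ 𝓒[s] := hS ▸ h4.le_cent.trans (cent_le_cent1 (right_mem_four t s))
    obtain ⟨c, hc, e1⟩ := h1.cent.syl.exists_conj_eq (h.syl.of_le (le_inf h.syl.le hSs) inf_le_left)
    rw [conj_conj, map_conj_eq_iff] at e1
    have hn := mul_mem hc.1 hg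
    have e2 : c * g * t * (c * g)⁻¹ = s := by
      rw [← mul_inv_eq_iff_eq_mul.2 (mem_cent1.1 hc.2), ← e]; group
    refine ⟨c * g, hn, e2, ?_⟩
    generalize c * g = n at e1 hn e2
    rcases h4.mem_four.1 (hS ▸ conj_mem_of_mem_normalizer e1 h.s_mem) with e3 | e3 | e3 | e3
    · exact (ne_one_of_ord h4.ord_right (by simpa using e3)).elim
    · refine (h4.ne (e2.symm.trans (mul_inv_eq_iff_eq_mul.2 (mem_cent1.1 ?_))).symm).elim
      have h5 : n * n ∈ 𝓒[t] := mem_cent1.2 (mul_inv_eq_iff_eq_mul.1 (by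
        rw [show n * n * t * (n * n)⁻¹ = n * (n * t * n⁻¹) * n⁻¹ by group, e2, e3]))
      rw [← pPart_mul_pPrimePart 2 n]
      refine mul_mem (h.le_cent (h.syl.ge_of_le_norm (isPElt_iff_isPGroup_zpowers.1
        (isPElt_pPart 2 n)) (zpowers_le.2 (zpowers_le.2 hn (pPart_mem_zpowers 2 n)))
        (zpowers_le.2 (zpowers_le.2 e1 (pPart_mem_zpowers 2 n))) (mem_zpowers _))) ?_
      obtain ⟨u, hu, e4⟩ := exists_sqrt (odd_iff_not_two_dvd.2 (isPRegular_pPrimePart (p := 2) n))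
      obtain ⟨k, rfl⟩ := mem_zpowers_iff.1 (zpowers_le.2 (pPrimePart_mem_zpowers 2 n) hu)
      rw [← e4, ← (Commute.refl n).mul_zpow]
      exact zpow_mem h5 k
    · exact (h4.ne (by simpa using e2.trans e3.symm)).elim
    · exact e3
  obtain ⟨T, y, h2⟩ := h.isD8.exists_dihOf h4.symm (h.syl.le h.s_mem) (h.syl.le h.t_mem')
    (h1.syl.not_dvd_of_le h1.le_cent)
  have hy := (h2.card_cases.resolve_left fun e' => by
    have := h2.syl.card_eq_card h.syl; omega).1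
  refine ⟨x * y, mul_mem (h.syl.le h.x_mem) (h2.syl.le h2.x_mem), ?_, ?_⟩
  · rw [show x * y * t * (x * y)⁻¹ = x * (y * t * y⁻¹) * x⁻¹ by group, (h2.card_eight hy).2.2,
      ← conj_mul, (h.card_eight hx).2.2, h.conj_t h.x_mem, h4.comm.eq, mul_assoc, h4.tt, mul_one]
  · rw [show x * y * s * (x * y)⁻¹ = x * (y * s * y⁻¹) * x⁻¹ by group, h2.conj_t h2.x_mem,
      (h.card_eight hx).2.2]

theorem DihOf.oneCl (h : DihOf M S x s t) (h1 : ∃ g ∈ M, g * t * g⁻¹ = s)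
    (h2 : ∃ g ∈ M, g * t * g⁻¹ = x * s) : OneCl M t := by
  intro u hu ho
  obtain ⟨c, hc, hcu⟩ := h.syl.exists_conj_le
    (isPElt_iff_isPGroup_zpowers.1 (isPElt_two_of_orderOf ho)) (zpowers_le.2 hu)
  obtain ⟨g, hg, e⟩ : ∃ g ∈ M, g * t * g⁻¹ = c * u * c⁻¹ := by
    rcases h.invol_cases (hcu (conj_mem_map_conj.2 (mem_zpowers u)))
      ((orderOf_conj_eq c u).trans ho) with e | ⟨a, ha, e | e⟩
    · exact ⟨1, one_mem _, by simp [e]⟩
    · obtain ⟨g, hg, e1⟩ := h1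
      exact ⟨a * g, mul_mem (h.syl.le ha) hg, by rw [← e, ← e1]; group⟩
    · obtain ⟨g, hg, e1⟩ := h2
      exact ⟨a * g, mul_mem (h.syl.le ha) hg, by rw [← e, ← e1]; group⟩
  exact ⟨c⁻¹ * g, mul_mem (inv_mem hc) hg, by
    rw [show c⁻¹ * g * t * (c⁻¹ * g)⁻¹ = c⁻¹ * (g * t * g⁻¹) * c by group, e]; group⟩

/-- two classes: the index `2` subgroup (Thompson transfer) -/
theorem DihOf.exists_index_two (h : DihOf M S x s t) (hx : x * x = t)
    (h2 : ∀ g ∈ M, g * t * g⁻¹ ≠ x * s) :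
    ∃ M₀, M₀ ≤ M ∧ M₀.relIndex M = 2 ∧ DihOf M₀ (four t s) t s t := by
  have h4 := h.isFour
  have h8 := (h.card_eight hx).1
  by_cases h1 : ∀ g ∈ M, g * t * g⁻¹ ≠ s
  · have h3 := h.sdprod_of_not_fused h1 h2
    have h5 := h3.mono_right h.four_le
    have hle : 𝐎(M) ⊔ four t s ≤ M := sup_le h3.le_left (h.four_le.trans h3.le_right)
    refine ⟨_, hle, ?_, ⟨h5.le_right, h4.pgroup, h5.relIndex_right ▸ not_dvd_piCoreOf 2 M⟩,
      h4.dihPair, h.ord, Or.inl rfl⟩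
    have h6 := card_mul_relIndex hle
    rw [← h5.card, ← h3.card, h8, h4.card, mul_assoc] at h6
    have := Nat.eq_of_mul_eq_mul_left Nat.card_pos h6
    omega
  push Not at h1
  obtain ⟨g, hg, e⟩ := h1
  have hxs := h.syl.le h.swap.s_mem
  obtain ⟨L, hL, hn⟩ := exists_index_two_of_forall_conj_notMem (M := (zpowers x).subgroupOf M)
    (u := ⟨x * s, hxs⟩) (fun h5 => by
      change 4 ∣ (zpowers x).relIndex M at h5
      rw [← relIndex_mul_relIndex _ _ _ h.pair.zpowers_le h.syl.le, h.pair.relIndex_eq] at h5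
      exact h.syl.not_dvd (by omega)) (Subtype.ext h.swap.pair.mul_self) fun c hc =>
    h2 _ (inv_mem c.2) (by
      rw [← h.eq_t hc ((orderOf_conj_eq _ _).trans h.swap.isFour.ord_right)]
      simp [mul_assoc])
  haveI := normal_of_index_eq_two hL
  have hN := IsNormalOf.map_subtype L
  have ht : t ∈ L.map M.subtype := ⟨_, mul_self_mem_of_index_two hL ⟨x, h.syl.le h.x_mem⟩, hx⟩
  have hV : four t s ≤ L.map M.subtype := four_le_iff.2 ⟨ht, e ▸ hN.conj_mem hg ht⟩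
  refine ⟨_, hN.le, (relIndex_map_subtype L).trans hL, ?_, h4.dihPair, h.ord, Or.inl rfl⟩
  have h5 := h.syl.inf_normal hN
  refine h5.of_card_le h4.pgroup hV ?_
  obtain ⟨k, hk⟩ := h5.pgroup.exists_card_eq
  have h6 : Nat.card (S ⊓ L.map M.subtype : Subgroup G) < Nat.card S := by
    refine lt_of_le_of_ne (card_le_of_le inf_le_left) fun e1 => hn ?_
    have := (eq_of_le_of_card_le inf_le_left e1.ge).ge h.swap.s_mem
    exact (mem_map_iff_mem M.subtype_injective).1 this.2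
  rw [hk, h8, show 8 = 2 ^ 3 from rfl, Nat.pow_lt_pow_iff_right one_lt_two] at h6
  rw [hk, h4.card]
  exact Nat.pow_le_pow_right two_pos (Nat.le_of_lt_succ h6)

theorem Base.swap (h : Base S x s t) : Base S x (x * s) t :=
  ⟨h.simple, h.nonab, h.dih.swap, h.one⟩

theorem Base.isD8 (h : Base S x s t) : IsD8 G :=
  h.dih.isD8.of_injective (topEquiv (G := G)).symm.toMonoidHom (MulEquiv.injective _)

theorem OneCl.of_ord (h : OneCl M t) {u : G} (hu : u ∈ M) (ho : orderOf u = 2) : OneCl M u := by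
  intro v hv hv2
  obtain ⟨a, ha, rfl⟩ := h u hu ho
  obtain ⟨b, hb, rfl⟩ := h v hv hv2
  exact ⟨b * a⁻¹, mul_mem hb (inv_mem ha), by group⟩

theorem Base.of_isFour (h : Base S x s t) {t' s' : G} (h4 : IsFour t' s') :
    ∃ S' x', Base S' x' s' t' := by
  obtain ⟨g, -, rfl⟩ := h.one t' (mem_top _) h4.ord_left
  obtain ⟨S', x', h1⟩ := h.dih.isD8.exists_dihOf h4 (mem_top _) (mem_top _)
    ((h.dih.syl.conj_top g).not_dvd_of_le (h.dih.conj g).le_cent)
  exact ⟨S', x', h.simple, h.nonab, h1, h.one.of_ord (mem_top _) h4.ord_left⟩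

theorem not_sol_top [hs : IsSimpleGroup G] (hna : ¬ IsMulCommutative G) :
    ¬ Group.IsSolvable (⊤ : Subgroup G) := fun h =>
  hna ⟨⟨IsSimpleGroup.comm_iff_isSolvable.2
    (Group.isSolvable_of_surjective (f := (⊤ : Subgroup G).subtype) fun g => ⟨⟨g, mem_top g⟩, rfl⟩)⟩⟩

theorem exists_base [hs : IsSimpleGroup G] (hna : ¬ IsMulCommutative G) (h : IsD8 G) :
    ∃ (S : Subgroup G) (x s t : G), Base S x s t := by
  obtain ⟨S, hS⟩ := exists_sylow 2 (⊤ : Subgroup G)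
  obtain ⟨x, s, t, h1⟩ := (h.sub ⊤).exists_dihOf_sylow hS fun hc =>
    not_sol_top hna (sol_of_npc (npc_of_cyclic hS hc))
  refine ⟨S, x, s, t, hs, hna, h1, ?_⟩
  have key : ∀ s, DihOf ⊤ S x s t → (∃ g ∈ (⊤ : Subgroup G), g * t * g⁻¹ = s) →
      ∃ g ∈ (⊤ : Subgroup G), g * t * g⁻¹ = x * s := fun s h2 h3 => by
    rcases h2.cases with rfl | hx
    · obtain ⟨ρ, -, e1, e2⟩ := h2.exists_rho h3
      exact ⟨ρ * ρ, mem_top _, by rw [← e2, ← e1]; group⟩
    by_contra! h4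
    obtain ⟨M₀, -, hi, h5⟩ := h2.exists_index_two hx h4
    rw [relIndex_top_right] at hi
    rcases (normal_of_index_eq_two hi).eq_bot_or_eq_top with rfl | rfl
    · exact ne_one_of_ord h5.ord (h5.syl.le h5.t_mem')
    · simp at hi
  have key2 : (∃ g ∈ (⊤ : Subgroup G), g * t * g⁻¹ = x * s) →
      ∃ g ∈ (⊤ : Subgroup G), g * t * g⁻¹ = s := fun h3 => by
    obtain ⟨g, -, e⟩ := key _ h1.swap h3
    exact ⟨x⁻¹ * g, mem_top _, by
      rw [show x⁻¹ * g * t * (x⁻¹ * g)⁻¹ = x⁻¹ * (g * t * g⁻¹) * x by group, e, ← mul_assoc x,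
        ← h1.conj_s]; group⟩
  by_cases h2 : ∃ g ∈ (⊤ : Subgroup G), g * t * g⁻¹ = s
  · exact h1.oneCl h2 (key s h1 h2)
  · have h3 := mt key2 h2
    push Not at h2 h3
    exact (not_sol_top hna (sol_of_npc (h1.npc_of_not_fused h2 h3))).elim

end Cfsg.GW
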