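import Cfsg.Agent.GW.L2Defs
import Cfsg.Agent.FT.Main
import Cfsg.Agent.FT.BGB
import Cfsg.Agent.Grp.ThompsonTransfer

/-!
# Elementary facts for the Gorenstein-Walter proof, I: four-groups, involutions acting on groups
of odd order, the class `IsD8`
-/

set_option autoImplicit false
set_option linter.unusedSectionVars false
set_option linter.unusedVariables false

namespace Cfsg.GW

open Subgroup Cfsg.Agent.FT
open scoped commutatorElement

universe u v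

variable {G : Type u} [Group G] [Finite G]

theorem odd_iff_not_two_dvd {n : ℕ} : Odd n ↔ ¬ 2 ∣ n := by
  rw [← Nat.not_even_iff_odd, even_iff_two_dvd]

theorem eq_one_or_of_mul_self {t a : G} (h2 : t * t = 1) (ha : a ∈ zpowers t) : a = 1 ∨ a = t := by
  by_cases h1 : t = 1
  · subst h1; simpa using ha
  · exact eq_one_or_eq_of_mem_zpowers_of_orderOf_two (orderOf_eq_two_of_mul_self h2 h1) ha

theorem ne_one_of_ord {t : G} (h : orderOf t = 2) : t ≠ 1 := by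
  rintro rfl; simp at h

theorem exists_sqrt {w : G} (h : Odd (orderOf w)) : ∃ u ∈ zpowers w, u * u = w := by
  obtain ⟨k, hk⟩ := h
  refine ⟨w ^ (k + 1), pow_mem (mem_zpowers w) _, ?_⟩
  rw [← pow_add, show k + 1 + (k + 1) = orderOf w + 1 by omega, pow_succ, pow_orderOf_eq_one,
    one_mul]

theorem odd_orderOf {X : Subgroup G} (ho : Odd (Nat.card X)) {y : G} (hy : y ∈ X) :
    Odd (orderOf y) := ho.of_dvd_nat (X.orderOf_dvd_natCard hy)

theorem eq_of_mul_self_eq {a b : G} (ha : Odd (orderOf a)) (hb : Odd (orderOf b))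
    (h : a * a = b * b) : a = b := by
  obtain ⟨k, hk⟩ := ha.mul hb
  have h1 : a ^ (2 * k + 1) = 1 := orderOf_dvd_iff_pow_eq_one.1 (hk ▸ dvd_mul_right _ _)
  have h2 : b ^ (2 * k + 1) = 1 := orderOf_dvd_iff_pow_eq_one.1 (hk ▸ dvd_mul_left _ _)
  rw [pow_succ, pow_mul, pow_two] at h1 h2
  rw [h] at h1
  exact mul_left_cancel (h1.trans h2.symm)

theorem eq_one_of_odd {a : G} (ha : Odd (orderOf a)) (h : a * a = 1) : a = 1 :=
  eq_of_mul_self_eq ha (by simp) (by simpa using h)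

theorem conj_inv_of_mem_zpowers {t w u : G} (h : t * w * t⁻¹ = w⁻¹) (hu : u ∈ zpowers w) :
    t * u * t⁻¹ = u⁻¹ := by
  obtain ⟨k, rfl⟩ := mem_zpowers_iff.1 hu
  rw [← conj_zpow, h, inv_zpow]

/-! ### four-groups -/

theorem IsFour.symm {t s : G} (h : IsFour t s) : IsFour s t :=
  ⟨h.ord_right, h.ord_left, h.comm.symm, h.ne.symm⟩

theorem IsFour.tt {t s : G} (h : IsFour t s) : t * t = 1 := mul_self_of_orderOf_eq_two h.ord_left

theorem IsFour.ss {t s : G} (h : IsFour t s) : s * s = 1 := mul_self_of_orderOf_eq_two h.ord_right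

theorem IsFour.mul_mul {t s : G} (h : IsFour t s) : t * s * (t * s) = 1 := by
  rw [mul_assoc, ← mul_assoc s, ← h.comm.eq, mul_assoc, h.ss, mul_one, h.tt]

theorem IsFour.mul_ne_one {t s : G} (h : IsFour t s) : t * s ≠ 1 := fun e =>
  h.ne (mul_left_cancel (h.tt.trans e.symm))

theorem IsFour.mul {t s : G} (h : IsFour t s) : IsFour t (t * s) :=
  ⟨h.ord_left, orderOf_eq_two_of_mul_self h.mul_mul h.mul_ne_one, (Commute.refl t).mul_right h.comm,
    fun e => ne_one_of_ord h.ord_right (left_eq_mul.1 e)⟩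

theorem four_comm (t s : G) : four t s = four s t := sup_comm _ _

theorem left_mem_four (t s : G) : t ∈ four t s := mem_sup_left (mem_zpowers t)

theorem right_mem_four (t s : G) : s ∈ four t s := mem_sup_right (mem_zpowers s)

theorem mul_mem_four (t s : G) : t * s ∈ four t s := mul_mem (left_mem_four t s) (right_mem_four t s)

theorem four_le_iff {t s : G} {K : Subgroup G} : four t s ≤ K ↔ t ∈ K ∧ s ∈ K := by
  rw [four, sup_le_iff, zpowers_le, zpowers_le]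

theorem IsFour.four_mul {t s : G} (h : IsFour t s) : four t (t * s) = four t s :=
  le_antisymm (four_le_iff.2 ⟨left_mem_four t s, mul_mem_four t s⟩) (four_le_iff.2
    ⟨left_mem_four _ _, (mul_mem_cancel_left (left_mem_four t _)).1 (right_mem_four _ _)⟩)

theorem IsFour.mem_four {t s z : G} (h : IsFour t s) :
    z ∈ four t s ↔ z = 1 ∨ z = t ∨ z = s ∨ z = t * s := by
  refine ⟨fun hz => ?_, ?_⟩
  · obtain ⟨a, ha, b, hb, rfl⟩ := (isProd_of_le_norm (A := zpowers t) (B := zpowers s)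
      ((zpowers_le.2 (mem_cent1.2 h.comm.eq.symm)).trans (cent1_le_norm_zpowers t))).2.2 z hz
    rcases eq_one_or_of_mul_self h.tt ha with rfl | rfl <;>
      rcases eq_one_or_of_mul_self h.ss hb with rfl | rfl <;> simp
  · rintro (rfl | rfl | rfl | rfl)
    exacts [one_mem _, left_mem_four _ _, right_mem_four _ _, mul_mem_four _ _]

theorem IsFour.mul_self {t s z : G} (h : IsFour t s) (hz : z ∈ four t s) : z * z = 1 := by
  rcases h.mem_four.1 hz with rfl | rfl | rfl | rfl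
  exacts [mul_one 1, h.tt, h.ss, h.mul_mul]

theorem IsFour.notMem {t s : G} (h : IsFour t s) : s ∉ zpowers t := fun hs =>
  (eq_one_or_of_mul_self h.tt hs).elim (ne_one_of_ord h.ord_right) h.ne.symm

theorem IsFour.dihPair {t s : G} (h : IsFour t s) : IsDihPair (four t s) t s := by
  refine ⟨left_mem_four t s, right_mem_four t s, h.ss, ?_, h.notMem, fun z hz => ?_⟩
  · rw [← h.comm.eq, mul_inv_cancel_right, eq_inv_iff_mul_eq_one, h.tt]
  · rcases h.mem_four.1 hz with rfl | rfl | rfl | rfl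
    exacts [Or.inl (one_mem _), Or.inl (mem_zpowers _), Or.inr (h.ss ▸ one_mem _),
      Or.inr (by rw [mul_assoc, h.ss, mul_one]; exact mem_zpowers _)]

theorem IsFour.card {t s : G} (h : IsFour t s) : Nat.card (four t s) = 4 := by
  rw [h.dihPair.card_eq, h.ord_left]

theorem IsFour.pgroup {t s : G} (h : IsFour t s) : IsPGroup 2 (four t s) :=
  IsPGroup.of_card (n := 2) h.card

theorem IsFour.not_isCyclic {t s : G} (h : IsFour t s) : ¬ IsCyclic (four t s) := fun hc => by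
  obtain ⟨g, hg⟩ := hc.exists_generator
  have h1 := orderOf_eq_card_of_forall_mem_zpowers hg
  have h2 : orderOf g ∣ 2 :=
    orderOf_dvd_of_pow_eq_one (Subtype.ext ((pow_two (g : G)).trans (h.mul_self g.2)))
  rw [h1, h.card] at h2
  omega

theorem IsFour.conj {t s : G} (h : IsFour t s) (g : G) :
    IsFour (g * t * g⁻¹) (g * s * g⁻¹) :=
  ⟨(orderOf_conj_eq g t).trans h.ord_left, (orderOf_conj_eq g s).trans h.ord_right,
    h.comm.conj g, fun e => h.ne (by simpa using e)⟩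

theorem cent_four (t s : G) : 𝓒(four t s) = 𝓒[t] ⊓ 𝓒[s] :=
  le_antisymm (le_inf (cent_le_cent1 (left_mem_four t s)) (cent_le_cent1 (right_mem_four t s)))
    (le_cent_sup (le_cent_zpowers.2 inf_le_left) (le_cent_zpowers.2 inf_le_right))

theorem le_norm_four {X : Subgroup G} {t s : G} (ht : t ∈ 𝓝(X)) (hs : s ∈ 𝓝(X)) :
    four t s ≤ 𝓝(X) := four_le_iff.2 ⟨ht, hs⟩

theorem IsFour.le_cent {t s : G} (h : IsFour t s) : four t s ≤ 𝓒(four t s) := by
  rw [cent_four]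
  exact four_le_iff.2 ⟨⟨mem_cent1.2 rfl, mem_cent1.2 h.comm.eq⟩,
    mem_cent1.2 h.comm.eq.symm, mem_cent1.2 rfl⟩

theorem four_conj (t s g : G) : four t s :^ g = four (g * t * g⁻¹) (g * s * g⁻¹) := by
  rw [four, Subgroup.map_sup, MonoidHom.map_zpowers, MonoidHom.map_zpowers]; rfl

theorem IsFour.mem_norm {t s g : G} (h : IsFour t s) (h1 : g * t * g⁻¹ ∈ four t s)
    (h2 : g * s * g⁻¹ ∈ four t s) : g ∈ 𝓝(four t s) :=
  mem_normalizer_of_forall_conj_mem (map_conj_le_iff.1 (four_conj t s g ▸ four_le_iff.2 ⟨h1, h2⟩))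

/-! ### simple groups -/

theorem norm_ne_top [IsSimpleGroup G] {X : Subgroup G} (h0 : X ≠ ⊥) (h1 : X ≠ ⊤) : 𝓝(X) ≠ ⊤ :=
  fun h => ((normalizer_eq_top_iff.1 h).eq_bot_or_eq_top).elim h0 h1

theorem norm_eq_of_coatom [IsSimpleGroup G] {M : Subgroup G} (hM : IsCoatom M) {X : Subgroup G}
    (hX : X ⊴ M) (h0 : X ≠ ⊥) : 𝓝(X) = M :=
  ((hM.le_iff.1 hX.2).resolve_left (norm_ne_top h0 fun e => hM.1 (top_le_iff.1 (e ▸ hX.1))))

theorem exists_coatom_ge {X : Subgroup G} (h : X ≠ ⊤) : ∃ M, IsCoatom M ∧ X ≤ M :=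
  (eq_top_or_exists_le_coatom X).resolve_left h

/-! ### involutions acting on groups of odd order -/

variable {M X : Subgroup G} {s t : G}

theorem sol_of_odd (ho : Odd (Nat.card X)) : Group.IsSolvable X := oddOrder ho

theorem odd_core (M : Subgroup G) : Odd (Nat.card 𝐎(M)) :=
  odd_iff_not_two_dvd.2 (not_dvd_piCoreOf 2 M)

theorem le_core_of_normal {N : Subgroup G} (h : N ⊴ M) (ho : Odd (Nat.card N)) : N ≤ 𝐎(M) :=
  h.le_p'core (odd_iff_not_two_dvd.1 ho)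

theorem coprimeAction_inv (ho : Odd (Nat.card X)) (h2 : t * t = 1) (ht : t ∈ 𝓝(X)) :
    IsCoprimeAction (zpowers t) X :=
  isCoprimeAction_zpowers ht ((Nat.coprime_two_right.2 ho).coprime_dvd_right
    (orderOf_dvd_of_pow_eq_one ((pow_two t).trans h2)))

theorem isProd_cent_comm (ho : Odd (Nat.card X)) (h2 : t * t = 1) (ht : t ∈ 𝓝(X)) :
    IsProd ⁅X, zpowers t⁆ (X ⊓ 𝓒[t]) X := by
  refine IsProd.symm ⟨inf_le_left, comm_le_left (zpowers_le.2 ht), fun m hm => ?_⟩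
  obtain ⟨c, hc, y, hy, e⟩ := (coprimeAction_inv ho h2 ht).exists_centralizer_mul_commutator hm
  exact ⟨c, centralizer_zpowers t ▸ hc, y, hy, e.symm⟩

theorem comm_comm_eq (ho : Odd (Nat.card X)) (h2 : t * t = 1) (ht : t ∈ 𝓝(X)) :
    ⁅⁅X, zpowers t⁆, zpowers t⁆ = ⁅X, zpowers t⁆ :=
  (coprimeAction_inv ho h2 ht).commutator_commutator

theorem conj_conj_of_mul_self (h2 : t * t = 1) (y : G) : t * (t * y * t⁻¹) * t⁻¹ = y := by
  calc _ = (t * t) * y * (t * t)⁻¹ := by group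
    _ = y := by rw [h2]; group

/-- every element is the product of a centralized and an inverted element -/
theorem exists_cent_mul_inv (ho : Odd (Nat.card X)) (h2 : t * t = 1) (ht : t ∈ 𝓝(X)) {y : G}
    (hy : y ∈ X) : ∃ c ∈ X, ∃ z ∈ X, t * c * t⁻¹ = c ∧ t * z * t⁻¹ = z⁻¹ ∧ y = c * z := by
  have hw : y⁻¹ * (t * y * t⁻¹) ∈ X := mul_mem (inv_mem hy) (conj_mem_of_mem_normalizer ht hy)
  obtain ⟨u, hu, e⟩ := exists_sqrt (odd_orderOf ho hw)
  have hX : u ∈ X := zpowers_le.2 hw hu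
  have h3 : t * u * t⁻¹ = u⁻¹ := conj_inv_of_mem_zpowers (by
    rw [← conj_mul, conj_conj_of_mul_self h2]; group) hu
  refine ⟨y * u, mul_mem hy hX, u⁻¹, inv_mem hX, ?_, by rw [← conj_inv, h3], by group⟩
  rw [← conj_mul, h3, ← inv_mul_eq_iff_eq_mul, ← mul_assoc, ← e, mul_inv_cancel_right]

theorem comm_le_of_inv (ho : Odd (Nat.card X)) (h2 : t * t = 1) (ht : t ∈ 𝓝(X))
    {K : Subgroup G} (h : ∀ z ∈ X, t * z * t⁻¹ = z⁻¹ → z ∈ K) : ⁅X, zpowers t⁆ ≤ K := by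
  refine comm_le_iff.2 fun y hy a ha => ?_
  rcases eq_one_or_of_mul_self h2 ha with rfl | rfl
  · simp
  have e : ⁅y, a⁆ = y * (a * y⁻¹ * a⁻¹) := by group
  refine h _ (e ▸ mul_mem hy (conj_mem_of_mem_normalizer ht (inv_mem hy))) ?_
  rw [e, ← conj_mul, conj_conj_of_mul_self h2]
  group

theorem mem_comm_of_inv (ho : Odd (Nat.card X)) {z : G} (hz : z ∈ X) (h : t * z * t⁻¹ = z⁻¹) :
    z ∈ ⁅X, zpowers t⁆ := by
  obtain ⟨u, hu, e⟩ := exists_sqrt (odd_orderOf ho hz)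
  have h1 : ⁅u, t⁆ = z := by
    rw [← e, show ⁅u, t⁆ = u * (t * u * t⁻¹)⁻¹ by group, conj_inv_of_mem_zpowers h hu, inv_inv]
  exact h1 ▸ commutator_mem_commutator (zpowers_le.2 hz hu) (mem_zpowers t)

theorem inv_of_cent_eq_bot (ho : Odd (Nat.card X)) (h2 : t * t = 1) (ht : t ∈ 𝓝(X))
    (h : X ⊓ 𝓒[t] = ⊥) : ∀ y ∈ X, t * y * t⁻¹ = y⁻¹ := by
  intro y hy
  obtain ⟨c, hc, z, -, h1, h3, rfl⟩ := exists_cent_mul_inv ho h2 ht hy
  have : c ∈ X ⊓ 𝓒[t] := ⟨hc, mem_cent1.2 (mul_inv_eq_iff_eq_mul.1 h1).symm⟩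
  rw [h, mem_bot] at this
  rw [this, one_mul, h3]

theorem comm_of_inv (h : ∀ y ∈ X, t * y * t⁻¹ = y⁻¹) : IsMulCommutative X :=
  ⟨⟨fun a b => Subtype.ext (inv_injective (by
    have := h _ (mul_mem a.2 b.2)
    rw [← conj_mul, h _ a.2, h _ b.2] at this
    rw [coe_mul, coe_mul, ← this, mul_inv_rev]))⟩⟩

theorem cent_eq_bot_of_inv (ho : Odd (Nat.card X)) (h : ∀ y ∈ X, t * y * t⁻¹ = y⁻¹) :
    X ⊓ 𝓒[t] = ⊥ := by
  refine eq_bot_iff.2 fun y hy => mem_bot.2 (eq_one_of_odd (odd_orderOf ho hy.1) ?_)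
  rw [← eq_inv_iff_mul_eq_one, ← h y hy.1, ← mem_cent1.1 hy.2, mul_inv_cancel_right]

theorem comm_le_cent_of_cent {R Y : Subgroup G} (h : R ≤ 𝓒[t]) (hY : Y ≤ 𝓝(R)) :
    ⁅Y, zpowers t⁆ ≤ 𝓒(R) :=
  (comm_mono le_rfl (zpowers_le.2 (le_cent1_iff.1 h))).trans (comm_le_right (le_norm_cent hY))

/-- if `t` inverts `R` then `[Y, t]` centralizes `R` for every `Y ≤ N(R)` -/
theorem comm_le_cent_of_inv {R Y : Subgroup G} (h : ∀ y ∈ R, t * y * t⁻¹ = y⁻¹)
    (hY : Y ≤ 𝓝(R)) : ⁅Y, zpowers t⁆ ≤ 𝓒(R) := by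
  have h2 : t * t ∈ 𝓒(R) := mem_cent_sub.2 fun r hr => by
    rw [← mul_inv_eq_iff_eq_mul.1 (show t * t * r * (t * t)⁻¹ = r by
      rw [show t * t * r * (t * t)⁻¹ = t * (t * r * t⁻¹) * t⁻¹ by group, h r hr, h _ (inv_mem hr),
        inv_inv])]
  refine comm_le_iff.2 fun y hy a ha => ?_
  obtain ⟨k, rfl⟩ := mem_zpowers_iff.1 ha
  have h3 : ∀ j : ℤ, t ^ (2 * j) ∈ 𝓒(R) := fun j => by
    rw [zpow_mul, zpow_two]; exact zpow_mem h2 j
  have h4 : ∀ c ∈ 𝓒(R), y * c * y⁻¹ ∈ 𝓒(R) := fun c hc =>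
    conj_mem_of_mem_normalizer (le_norm_cent hY hy) hc
  obtain ⟨j, rfl | rfl⟩ := Int.even_or_odd' k
  · exact mul_mem (h4 _ (h3 j)) (inv_mem (h3 j))
  rw [zpow_add_one, show ⁅y, t ^ (2 * j) * t⁆ = y * t ^ (2 * j) * y⁻¹ * ⁅y, t⁆ * (t ^ (2 * j))⁻¹ by
    group]
  refine mul_mem (mul_mem (h4 _ (h3 j)) (mem_cent_sub.2 fun r hr => ?_)) (inv_mem (h3 j))
  have h5 := h _ (conj_mem_of_mem_normalizer (inv_mem (hY hy)) (inv_mem hr))
  have h6 := h r hr
  calc r * ⁅y, t⁆ = y * (y⁻¹ * r⁻¹ * y⁻¹⁻¹)⁻¹ * t * y⁻¹ * t⁻¹ := by group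
    _ = ⁅y, t⁆ * (t * r * t⁻¹)⁻¹ := by rw [← h5]; group
    _ = _ := by rw [h6, inv_inv]

theorem le_of_four (ho : Odd (Nat.card X)) (h4 : IsFour t s) (ht : t ∈ 𝓝(X)) (hs : s ∈ 𝓝(X))
    {K : Subgroup G} (h1 : X ⊓ 𝓒[t] ≤ K) (h2 : X ⊓ 𝓒[s] ≤ K) (h3 : X ⊓ 𝓒[t * s] ≤ K) :
    X ≤ K := by
  refine coprime_abelian_gen_cent1 (comm_iff_le_cent.2 h4.le_cent) h4.not_isCyclic
    (le_norm_four ht hs) (coprime_of_pgroup_of_not_dvd h4.pgroup (odd_iff_not_two_dvd.1 ho))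
    fun a ha h0 => ?_
  rcases h4.mem_four.1 ha with rfl | rfl | rfl | rfl
  exacts [(h0 rfl).elim, h1, h2, h3]

/-- the index of the centralizer of `t` is the number of inverted elements -/
theorem relIndex_cent_eq (ho : Odd (Nat.card X)) (h2 : t * t = 1) (ht : t ∈ 𝓝(X)) :
    (𝓒[t] : Subgroup G).relIndex X = {z | z ∈ X ∧ t * z * t⁻¹ = z⁻¹}.ncard := by
  let f : (𝓒[t] ⊓ X : Subgroup G) × {z | z ∈ X ∧ t * z * t⁻¹ = z⁻¹} → X :=
    fun p => ⟨p.1 * p.2, mul_mem p.1.2.2 p.2.2.1⟩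
  have key : ∀ c ∈ (𝓒[t] : Subgroup G), ∀ z, t * z * t⁻¹ = z⁻¹ →
      (t * (c * z) * t⁻¹)⁻¹ * (c * z) = z * z := fun c hc z hz => by
    rw [← conj_mul, hz, ← mem_cent1.1 hc]; group
  have hf : Function.Bijective f := by
    refine ⟨?_, fun y => ?_⟩
    · rintro ⟨⟨c, hc⟩, z, hz⟩ ⟨⟨c', hc'⟩, z', hz'⟩ e
      have e' : c * z = c' * z' := congrArg Subtype.val e
      obtain rfl : z = z' := eq_of_mul_self_eq (odd_orderOf ho hz.1) (odd_orderOf ho hz'.1)
        (by rw [← key c hc.1 z hz.2, e', key c' hc'.1 z' hz'.2])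
      obtain rfl : c = c' := mul_right_cancel e'
      rfl
    · obtain ⟨c, hc, z, hz, h1, h3, e⟩ := exists_cent_mul_inv ho h2 ht y.2
      exact ⟨(⟨c, mem_cent1.2 (mul_inv_eq_iff_eq_mul.1 h1).symm, hc⟩, ⟨z, hz, h3⟩),
        Subtype.ext e.symm⟩
  have h1 := Nat.card_eq_of_bijective f hf
  rw [Nat.card_prod, ← card_mul_relIndex (inf_le_right : 𝓒[t] ⊓ X ≤ X), inf_relIndex_right] at h1
  exact (Nat.eq_of_mul_eq_mul_left Nat.card_pos h1).symm

/-! ### `IsD8` -/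

theorem IsD8.of_injective {Q : Type v} [Group Q] [Finite Q] (h : IsD8 G) (f : Q →* G)
    (hf : Function.Injective f) : IsD8 Q := by
  refine ⟨fun h16 => h.1 (h16.trans (card_dvd_of_injective f hf)), fun R hR => ?_⟩
  obtain ⟨_, ⟨a, ha, rfl⟩, _, ⟨b, hb, rfl⟩, h1, h2⟩ :=
    h.2 (R.map f) ((card_map_of_injective hf).trans hR)
  exact ⟨a, ha, b, hb, hf (by rw [map_mul, h1, map_one]), fun e => h2 (e.map f)⟩

theorem IsD8.sub (h : IsD8 G) (M : Subgroup G) : IsD8 M :=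
  h.of_injective M.subtype M.subtype_injective

theorem IsD8.of_le {M N : Subgroup G} (h : IsD8 M) (hle : N ≤ M) : IsD8 N :=
  h.of_injective (inclusion hle) (inclusion_injective hle)

theorem IsD8.of_surjective {Q : Type v} [Group Q] [Finite Q] (h : IsD8 G) (f : G →* Q)
    (hf : Function.Surjective f) (ho : Odd (Nat.card f.ker)) : IsD8 Q := by
  refine ⟨fun h16 => h.1 (h16.trans (card_dvd_of_surjective f hf)), fun R hR => ?_⟩
  obtain ⟨P, hP⟩ := exists_sylow 2 (R.comap f)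
  have h1 : Nat.card (R.comap f) = Nat.card f.ker * 8 := by
    rw [← card_mul_relIndex (ker_le_comap f R), relIndex_ker, map_comap_eq_self_of_surjective hf,
      hR]
  have h2 : Nat.card P = 8 := by
    rw [hP.card_eq, h1, Nat.factorization_mul Nat.card_pos.ne' (by norm_num), Finsupp.add_apply,
      Nat.factorization_eq_zero_of_not_dvd (odd_iff_not_two_dvd.1 ho), show 8 = 2 ^ 3 from rfl,
      Nat.prime_two.factorization_pow]
    simp
  obtain ⟨a, ha, b, hb, h3, h4⟩ := h.2 P h2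
  refine ⟨f a, hP.le ha, f b, hP.le hb, by rw [← map_mul, h3, map_one], fun e => h4 ?_⟩
  refine commutatorElement_eq_one_iff_commute.1 ((isPElt_of_mem hP.pgroup
    (P.mul_mem (P.mul_mem (P.mul_mem ha hb) (P.inv_mem ha)) (P.inv_mem hb))).eq_one_of_isPRegular
    (odd_iff_not_two_dvd.1 (odd_orderOf ho ?_)))
  exact (map_commutatorElement f a b).trans (commutatorElement_eq_one_iff_commute.2 e)

theorem IsD8.quo {M N : Subgroup G} (h : IsD8 M) (hn : M ≤ 𝓝(N)) (ho : Odd (Nat.card N)) :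
    IsD8 (M /ₛ N) :=
  h.of_surjective _ (quoHom_surjective hn) (by
    rw [ker_quoHom]
    exact ho.of_dvd_nat (card_comap_dvd_of_injective N _ M.subtype_injective))

theorem isD8_iff : IsD8 M ↔ ¬ 16 ∣ Nat.card M ∧
    ∀ Q ≤ M, Nat.card Q = 8 → ∃ a ∈ Q, ∃ b ∈ Q, a * a = 1 ∧ ¬ Commute a b := by
  refine and_congr_right fun _ => ⟨fun h Q hQ h8 => ?_, fun h Q h8 => ?_⟩
  · obtain ⟨a, ha, b, hb, h1, h2⟩ := h (Q.subgroupOf M)
      ((Nat.card_congr (subgroupOfEquivOfLe hQ).toEquiv).trans h8)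
    exact ⟨a, ha, b, hb, congrArg Subtype.val h1, fun e => h2 (Subtype.ext e)⟩
  · obtain ⟨_, ⟨a, ha, rfl⟩, _, ⟨b, hb, rfl⟩, h1, h2⟩ := h (Q.map M.subtype) (map_subtype_le Q)
      ((card_map_of_injective M.subtype_injective).trans h8)
    exact ⟨a, ha, b, hb, Subtype.ext h1, fun e => h2 (congrArg Subtype.val e)⟩

theorem IsD8.card_cases (h : IsD8 M) {P : Subgroup G} (hP : IsPGroup 2 P) (hle : P ≤ M) :
    ∃ k ≤ 3, Nat.card P = 2 ^ k := by
  obtain ⟨k, hk⟩ := hP.exists_card_eq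
  exact ⟨k, by
    by_contra! h4
    exact h.1 ((pow_dvd_pow 2 h4).trans (hk ▸ card_dvd_of_le hle)), hk⟩

/-- no elementary abelian subgroup of order `8` -/
theorem IsD8.mem_four {M : Subgroup G} (h : IsD8 M) {t s z : G} (h4 : IsFour t s) (ht : t ∈ M)
    (hs : s ∈ M) (hz : z ∈ M) (hz2 : IsPElt 2 z) (h1 : Commute z t) (h2 : Commute z s) :
    z ∈ four t s := by
  have hc : zpowers z ≤ 𝓒(four t s) :=
    zpowers_le.2 (cent_four t s ▸ ⟨mem_cent1.2 h1.eq, mem_cent1.2 h2.eq⟩)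
  have hle : zpowers z ⊔ four t s ≤ M := sup_le (zpowers_le.2 hz) (four_le_iff.2 ⟨ht, hs⟩)
  obtain ⟨k, hk, e⟩ := h.card_cases (pgroup_sup (isPElt_iff_isPGroup_zpowers.1 hz2) h4.pgroup
    (le_norm_of_le_cent hc)) hle
  rcases hk.eq_or_lt with rfl | hk
  · obtain ⟨a, ha, b, hb, -, h5⟩ := (isD8_iff.1 h).2 _ hle e
    exact (h5 (mem_cent_sub.1 (comm_iff_le_cent.1 (comm_sup inferInstance
      (comm_iff_le_cent.2 h4.le_cent) hc) hb) a ha)).elim
  · rw [eq_of_le_of_card_le (le_sup_right : four t s ≤ zpowers z ⊔ four t s) (by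
      rw [e, h4.card]; exact Nat.pow_le_pow_right two_pos (Nat.le_of_lt_succ hk))]
    exact mem_sup_left (mem_zpowers z)

end Cfsg.GW
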