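import Cfsg.Agent.GW.Basic
import Cfsg.Agent.Grp.AxB

/-!
# Bender's lemmas

`axb` is Thompson's `A × B` lemma. For odd `p` (the only case used with `P` odd) use
`coprime_odd_faithful_cent_abelem`-like arguments or the classical induction on `|P|`:
`[P,B] < P` case: by induction `B` centralizes `[P,A]` (a proper `A × B`-invariant subgroup), so
`[P,A,B] = 1 = [A,B,P]`, three subgroups: `[B,P,A] = 1`, so `[P,B] ≤ C_P(A) ≤ C(B)`, `[P,B,B] = 1`.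

`Infects M N`: `A ≤ F(M) ∩ N` with `C_{F(M)}(A) ≤ A`.
(a) `X = O_r(N) ∩ M`, `r ∉ π(F(M))`: `[X, A] ≤ O_r(N) ∩ F(M) = 1`; `coprime_nil_faithful_cent_stab`
gives `X ≤ C_M(F(M)) ≤ F(M)`, so `X = 1`.
(b) `Z(F(M)) ≤ A`; `N(Z(O_q M)) = M` for `q ∈ π`. `P = O_p(N)`, `A_p × A_q` acts on `P`,
`C_P(A_p) ≤ C(Z(O_p M)) ≤ M`, `[C_P(A_p), A_q] ≤ P ∩ O_q(M) = 1`, `axb`: `A_q` centralizes `P`, hence
`P ≤ C(Z(O_q M)) ≤ M`.
Theorem B: (b) gives `F(N) ≤ M`, so `N` infects `M` (`A = F(N)`); (a) for `N → M` and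
`Z(F M) ≤ N` give `π(F M) = π(F N)`; (b) both ways: `F(M) ≤ N`, `O_q(M)` centralizes `O_p(N)` and
`O_q(N)` centralizes `O_p(M)` for `p ≠ q`. Fix `p ∈ π`. A `p'`-element `c` of `C(O_p M) ≤ M`
centralizes `O_p(N)`: `[c, O_p N] ≤ C(O_p M) ∩ C_M(O_{p'} F M) ≤ Z(F M)`, so `c` normalizes the
nilpotent group `O_p(N) O_p(M) Z(F M)` and its Sylow `p`-subgroup `P* = O_p(N) O_p(M)`, and
`[P*, c, c] = 1`. Hence the subgroups generated by the `p'`-elements of `C(O_p M)` and `C(O_p N)`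
coincide; they are nontrivial, normal in `M` and `N`: `M = N`.

`comm_le_pcore`: WLOG `Y = [Y,t]`, generated by elements `y` inverted by `t`. Put `Q = O_{p'}(X)`;
`[C_Q(t), Y] ≤ Q ∩ Y = 1`. Such a `y` centralizes `Q`: on a chief factor `W` (elementary abelian) of
`Q⟨y,t⟩`, `W₁ = [W,y]` has `C_{W₁}(y) = 1`, and `C_{W₁}(t) ≤ C(y)` so `t` inverts `W₁`, so `y²`
`= (t^y t)^{±1}` centralizes `W₁`, `W₁ = 1`. (Without chief factors: `Q₁ = [Q, y]`, or a `⟨y,t⟩`-invariant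
Sylow argument.) Apply this in `X / O_p(X)`: the image of `Y` centralizes the Fitting subgroup, which
is a `p'`-group, so it is trivial.

`wf`: reduce to `P` elementary abelian (chief factors of `P A ⟨b,t⟩`, fixed points of `t` lift). In
`End P`: `a + a⁻¹` commutes with `t`, so it preserves `P₊ = C_P(t)`; with `c = b⁻¹ a b`,
`T = c + c⁻¹ - a - a⁻¹` kills `P₊`, and commutes with `A`, so it kills `P' = A · P₊`. On `P/P'` the
involution `t` inverts, so `A = [A,t]` acts trivially: `[P,A] ≤ P'`. `T = c⁻¹(c - a)(c - a⁻¹)`. On a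
minimal `A`-invariant `W ≤ P'` (Maschke) each of the commuting endomorphisms is `0` or bijective, so
`c ≡ a^{±1}` modulo `A_W = C_A(W)` for every `a`; so `b` normalizes `A_W`, `A` is the union of the two
subgroups `{a : a^b ≡ a}`, `{a : a^b ≡ a⁻¹}`, and `b` has odd order: `[A,b] ≤ A_W`.
-/

set_option autoImplicit false
set_option linter.unusedSectionVars false
set_option linter.unusedVariables false
set_option linter.style.haveILetI false

namespace Cfsg.GW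

open Subgroup Cfsg.Agent.FT
open scoped commutatorElement

universe u

variable {G : Type u} [Group G] [Finite G] {p : ℕ}

/-- Thompson's `A × B` lemma -/
theorem axb [Fact p.Prime] {P A B : Subgroup G} (hP : IsPGroup p P) (hA : IsPGroup p A)
    (hB : ¬ p ∣ Nat.card B) (nA : A ≤ 𝓝(P)) (nB : B ≤ 𝓝(P)) (hAB : A ≤ 𝓒(B))
    (h : P ⊓ 𝓒(A) ≤ 𝓒(B)) : B ≤ 𝓒(P) := by
  exact le_cent_symm (le_centralizer_of_AxB hP hA nA hB nB (le_cent_symm hAB) h)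

/-- `M` infects `N` -/
def Infects (M N : Subgroup G) : Prop := ∃ A, A ≤ 𝓕(M) ∧ A ≤ N ∧ 𝓕(M) ⊓ 𝓒(A) ≤ A

theorem infects_of_norm_le {M N Y : Subgroup G} (hY : Y ≤ 𝓕(M)) (h : 𝓝(Y) ≤ N) :
    Infects M N := by
  exact ⟨𝓕(M) ⊓ 𝓝(Y), inf_le_left, inf_le_right.trans h, inf_le_inf_left _
    ((cent_anti (le_inf hY le_normalizer)).trans (cent_le_norm _))⟩

theorem Infects.center_le {M N : Subgroup G} (h : Infects M N) : 𝓩(𝓕(M)) ≤ N := by
  obtain ⟨A, h1, h2, h3⟩ := h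
  exact (inf_le_inf_left _ (cent_anti h1)).trans (h3.trans h2)

theorem Infects.inf_eq_bot {M N : Subgroup G} (h : Infects M N) (hM : M ⊓ 𝓒(𝓕(M)) ≤ 𝓕(M))
    {R : Subgroup G} (hR : N ≤ 𝓝(R)) (hc : (Nat.card R).Coprime (Nat.card 𝓕(M))) : R ⊓ M = ⊥ := by
  obtain ⟨A, h1, h2, h3⟩ := h
  have h0 := inf_eq_bot_of_coprime_card hc
  have hn : R ⊓ M ≤ 𝓝(𝓕(M)) := inf_le_right.trans (fittingOf_normal M).norm
  have h4 : A ≤ 𝓒(R ⊓ M) := le_cent_iff_comm'.2 (eq_bot_iff.2 (h0 ▸ le_inf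
    ((comm_mono inf_le_left le_rfl).trans (comm_le_left (h2.trans hR)))
    ((comm_mono le_rfl h1).trans (comm_le_right hn))))
  have h5 := coprime_nil_faithful_cent_stab hn (coprime_mono hc.symm le_rfl inf_le_left)
    (fittingOf_nil M) ((inf_le_inf_left _ (cent_anti (le_inf h1 h4))).trans (h3.trans h4))
  exact eq_bot_iff.2 (h0 ▸ le_inf inf_le_left ((le_inf inf_le_right h5).trans hM))

theorem center_pcore_le (p : ℕ) [Fact p.Prime] (M : Subgroup G) :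
    𝓩(piCoreOf {p} M) ≤ 𝓩(𝓕(M)) := by
  refine le_inf (inf_le_left.trans (pcore_le_fittingOf p M)) ?_
  rw [← nil_piCoreOf_sup (fittingOf_nil M) {p}, pcore_fittingOf]
  refine le_cent_sup inf_le_right (inf_le_left.trans ?_)
  rw [← pcore_fittingOf]
  exact piCoreOf_cent_compl _

theorem center_pcore_ne_bot [Fact p.Prime] {M : Subgroup G} (hp : p ∣ Nat.card 𝓕(M)) :
    𝓩(piCoreOf {p} M) ≠ ⊥ :=
  center_ne_bot_of_nil (nil_of_pgroup (pgroup_piCoreOf p M))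
    ((pcore_sylow_fittingOf p M).ne_bot_iff.2 hp)

theorem norm_center_pcore [IsSimpleGroup G] [Fact p.Prime] {M : Subgroup G} (hM : IsCoatom M)
    (hp : p ∣ Nat.card 𝓕(M)) : 𝓝(𝓩(piCoreOf {p} M)) = M :=
  norm_eq_of_coatom hM ((piCoreOf_normalOf _ _).char_trans inf_le_left (norm_le_norm_center _))
    (center_pcore_ne_bot hp)

theorem cent_pcore_le [IsSimpleGroup G] [Fact p.Prime] {M : Subgroup G} (hM : IsCoatom M)
    (hp : p ∣ Nat.card 𝓕(M)) : 𝓒(piCoreOf {p} M) ≤ M :=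
  (cent_le_norm _).trans ((norm_le_norm_center _).trans (norm_center_pcore hM hp).le)

theorem le_cent_pcore [IsSimpleGroup G] [Fact p.Prime] {M N Y : Subgroup G} (hM : IsCoatom M)
    (cM : M ⊓ 𝓒(𝓕(M)) ≤ 𝓕(M)) (hp : p ∣ Nat.card 𝓕(M)) (h1 : 𝓕(M) ≤ N) (h2 : 𝓕(N) ≤ M)
    (hY : Y ≤ 𝓒(piCoreOf {p} M)) (hd : ¬ p ∣ Nat.card Y) : Y ≤ 𝓒(piCoreOf {p} N) := by
  set P := piCoreOf {p} N
  set O := piCoreOf {p} M
  set D := piCoreOf {p}ᶜ 𝓕(M)
  have hYM := hY.trans (cent_pcore_le hM hp)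
  have hPM : P ≤ M := (pcore_le_fittingOf p N).trans h2
  have nO : M ≤ 𝓝(O) := (piCoreOf_normalOf _ _).norm
  have nD : M ≤ 𝓝(D) := ((fittingOf_normal M).piCoreOf _).norm
  have hF : O ⊔ D = 𝓕(M) := by
    rw [← nil_piCoreOf_sup (fittingOf_nil M) {p}, pcore_fittingOf]
  have hPD : P ≤ 𝓒(D) := le_cent_iff_comm.2 (eq_bot_iff.2 (inf_eq_bot_of_coprime_card
    (coprime_of_pgroup_of_not_dvd (pgroup_piCoreOf p N) (not_dvd_piCoreOf p 𝓕(M))) ▸
    le_inf (comm_le_right (hPM.trans nD))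
      (comm_le_left ((hF.le.trans' le_sup_right).trans (h1.trans (piCoreOf_normalOf _ _).norm)))))
  have hOD : O ≤ 𝓒(D) := (pcore_fittingOf p M).ge.trans (piCoreOf_cent_compl _)
  have h3 : ⁅P, Y⁆ ≤ O ⊔ D := by
    refine le_trans (le_inf (comm_le_of_le hPM hYM) ?_) (cM.trans hF.ge)
    rw [← hF]
    exact le_cent_sup ((comm_mono le_rfl hY).trans (comm_le_right (le_norm_cent (hPM.trans nO))))
      ((comm_mono hPD le_rfl).trans (comm_le_left (le_norm_cent (hYM.trans nD))))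
  have h4 : Y ≤ 𝓝(P ⊔ O ⊔ D) := le_norm_iff_comm.2 (comm_sup_le (le_sup_left.trans le_normalizer)
    (le_sup_right.trans le_normalizer) (comm_sup_le
      ((le_sup_left.trans le_sup_left).trans le_normalizer)
      ((le_sup_right.trans le_sup_left).trans le_normalizer)
      (h3.trans (sup_le_sup_right le_sup_right _))
      ((comm_le_left (hYM.trans nO)).trans (le_sup_right.trans le_sup_left)))
    ((comm_le_left (hYM.trans nD)).trans le_sup_right))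
  have h5 : P ≤ piCoreOf {p} (P ⊔ O ⊔ D) := le_sup_left.trans (IsNormalOf.le_pcore
    ⟨le_sup_left, sup_le le_normalizer (le_norm_of_le_cent (le_cent_symm (sup_le hPD hOD)))⟩
    (pgroup_sup (pgroup_piCoreOf p N) (pgroup_piCoreOf p M) (hPM.trans nO)))
  have h6 : ⁅P, Y⁆ ≤ O := le_pcore_of_le_fittingOf ((pgroup_piCoreOf p _).to_le
    ((comm_mono h5 le_rfl).trans (comm_le_left (le_norm_piCoreOf h4)))) (h3.trans hF.le)
  exact le_cent_iff_comm'.2 (commutator_eq_bot_of_coprime h6 (le_cent_iff_comm'.1 hY)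
    (coprime_of_pgroup_of_not_dvd (pgroup_piCoreOf p M) hd).symm)

theorem Infects.pcore_le [IsSimpleGroup G] [Fact p.Prime] {M N : Subgroup G} (h : Infects M N)
    (hM : IsCoatom M) (hp : p ∣ Nat.card 𝓕(M)) {q : ℕ} [Fact q.Prime] (hq : q ∣ Nat.card 𝓕(M))
    (hpq : p ≠ q) : 𝓩(piCoreOf {q} M) ≤ 𝓒(piCoreOf {p} N) ∧ piCoreOf {p} N ≤ M := by
  have n1 := (center_pcore_le p M).trans h.center_le
  have n2 := (center_pcore_le q M).trans h.center_le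
  have nP := (piCoreOf_normalOf {p} N).norm
  have hQ : IsPGroup q (𝓩(piCoreOf {q} M) : Subgroup G) := (pgroup_piCoreOf q M).to_inf_left
  have h1 : 𝓩(piCoreOf {q} M) ≤ 𝓒(piCoreOf {p} N) := by
    refine axb (A := 𝓩(piCoreOf {p} M)) (pgroup_piCoreOf p N) (pgroup_piCoreOf p M).to_inf_left
      (not_dvd_of_pgroup hQ hpq) (n1.trans nP) (n2.trans nP) ((center_pcore_le p M).trans
      (inf_le_right.trans (cent_anti ((center_pcore_le q M).trans inf_le_left))))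
      (le_cent_iff_comm.2 (eq_bot_iff.2 ?_))
    rw [← inf_eq_bot_of_coprime_card (coprime_of_pgroup (pgroup_piCoreOf p N) hQ hpq)]
    refine le_inf ((comm_mono inf_le_left le_rfl).trans (comm_le_left (n2.trans nP)))
      (comm_le_right (inf_le_right.trans ((cent_le_norm _).trans ?_)))
    rw [norm_center_pcore hM hp, norm_center_pcore hM hq]
  exact ⟨h1, (le_cent_symm h1).trans ((cent_le_norm _).trans (norm_center_pcore hM hq).le)⟩

/-- Bender's theorem -/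
theorem Infects.eq [IsSimpleGroup G] {M N : Subgroup G} (h : Infects M N) (hM : IsCoatom M)
    (hN : IsCoatom N) (cM : M ⊓ 𝓒(𝓕(M)) ≤ 𝓕(M)) (cN : N ⊓ 𝓒(𝓕(N)) ≤ 𝓕(N)) {p q : ℕ}
    (hp : p.Prime) (hq : q.Prime) (hpq : p ≠ q) (hpM : p ∣ Nat.card 𝓕(M))
    (hqM : q ∣ Nat.card 𝓕(M)) (hπ : ∀ r : ℕ, r.Prime → r ∣ Nat.card 𝓕(N) → r ∣ Nat.card 𝓕(M)) :
    M = N := by
  have fit : ∀ {M N : Subgroup G}, Infects M N → IsCoatom M → p ∣ Nat.card 𝓕(M) →
      q ∣ Nat.card 𝓕(M) → (∀ r : ℕ, r.Prime → r ∣ Nat.card 𝓕(N) → r ∣ Nat.card 𝓕(M)) →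
      𝓕(N) ≤ M := fun {M N} h hM hpM hqM hπ => fittingOf_le_of_pcore fun r hr hd => by
    haveI := Fact.mk hr
    haveI := Fact.mk hp
    haveI := Fact.mk hq
    by_cases e : r = p
    · exact (h.pcore_le hM (hπ r hr hd) hqM (e ▸ hpq)).2
    · exact (h.pcore_le hM (hπ r hr hd) hpM e).2
  have h1 := fit h hM hpM hqM hπ
  have h' : Infects N M := ⟨_, le_rfl, h1, inf_le_left⟩
  have hπ' : ∀ r : ℕ, r.Prime → r ∣ Nat.card 𝓕(M) → r ∣ Nat.card 𝓕(N) := fun r hr hd => by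
    haveI := Fact.mk hr
    by_contra hn
    have := h'.inf_eq_bot cN (piCoreOf_normalOf {r} M).norm
      (coprime_of_pgroup_of_not_dvd (pgroup_piCoreOf r M) hn).symm
    exact center_pcore_ne_bot hd (eq_bot_iff.2 (this ▸ le_inf inf_le_left
      ((center_pcore_le r M).trans h.center_le)))
  have h2 := fit h' hN (hπ' p hp hpM) (hπ' q hq hqM) hπ'
  haveI := Fact.mk hp
  haveI := Fact.mk hq
  let K : Subgroup G → Subgroup G := fun M =>
    (pResidual p 𝓒(piCoreOf {p} M)).map (Subgroup.subtype _)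
  have le : ∀ {M N : Subgroup G}, IsCoatom M → M ⊓ 𝓒(𝓕(M)) ≤ 𝓕(M) → p ∣ Nat.card 𝓕(M) →
      𝓕(M) ≤ N → 𝓕(N) ≤ M → K M ≤ K N := fun {M N} hM cM hpM h1 h2 =>
    map_le_iff_le_comap.2 ((closure_le _).2 fun c hc =>
      ⟨⟨c, le_cent_pcore hM cM hpM h1 h2 (zpowers_le.2 c.2) (by
        rw [Nat.card_zpowers, orderOf_coe]
        exact (Nat.Prime.coprime_iff_not_dvd hp).1 (Nat.Coprime.symm hc)) (mem_zpowers _)⟩,
      subset_closure (by rw [Set.mem_setOf_eq, orderOf_mk, orderOf_coe]; exact hc), rfl⟩)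
  have nK : ∀ {M : Subgroup G}, IsCoatom M → p ∣ Nat.card 𝓕(M) → q ∣ Nat.card 𝓕(M) →
      𝓝(K M) = M := fun {M} hM hpM hqM => by
    refine norm_eq_of_coatom hM ⟨(map_subtype_le _).trans (cent_pcore_le hM hpM),
      (le_norm_cent (piCoreOf_normalOf {p} M).norm).trans
        (normalizer_le_normalizer_map_of_characteristic _ _)⟩ (ne_bot_of_le
          ((pcore_sylow_fittingOf q M).ne_bot_iff.2 hqM) ?_)
    have h3 : piCoreOf {q} M ≤ 𝓒(piCoreOf {p} M) :=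
      piCoreOf_cent_of_disjoint (Set.disjoint_singleton.2 hpq.symm) M
    exact (le_map_subtype_iff h3).2 (le_pResidual_of_not_dvd (by
      rw [Nat.card_congr (subgroupOfEquivOfLe h3).toEquiv]
      exact not_dvd_of_pgroup (pgroup_piCoreOf q M) hpq))
  rw [← nK hM hpM hqM, le_antisymm (le hM cM hpM h2 h1) (le hN cN (hπ' p hp hpM) h1 h2),
    nK hN (hπ' p hp hpM) (hπ' q hq hqM)]

theorem coprime_orderOf_of_odd {n : ℕ} (ho : Odd n) {t : G} (h2 : t * t = 1) :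
    n.Coprime (orderOf t) :=
  (Nat.coprime_two_right.2 ho).coprime_dvd_right (orderOf_dvd_of_pow_eq_one (by rwa [sq]))

/-- if `t` inverts `R / C` then `[Y, t]` centralizes it -/
theorem comm_comm_le_of_cent_le {R C Y : Subgroup G} {t : G} (ho : Odd (Nat.card R))
    (h2 : t * t = 1) (ht : t ∈ 𝓝(R)) (hC : C ⊴ R) (htC : t ∈ 𝓝(C)) (h : R ⊓ 𝓒[t] ≤ C)
    (hY : Y ≤ 𝓝(R)) (hYC : Y ≤ 𝓝(C)) : ⁅R, ⁅Y, zpowers t⁆⁆ ≤ C := by
  let t' : 𝓝(C) := ⟨t, htC⟩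
  have e : zpowers t /ₛ C = zpowers (coset C t') := quo_zpowers t'
  rw [← quo_le_cent_iff (comm_le_of_le hYC (zpowers_le.2 htC)) hC.norm,
    quo_comm hYC (zpowers_le.2 htC), e]
  refine comm_le_cent_of_inv (inv_of_cent_eq_bot (odd_card_quo ho C)
    (by rw [← map_mul, show t' * t' = 1 from Subtype.ext h2, map_one])
    (zpowers_le.1 (e ▸ quo_le_norm (zpowers_le.2 ht))) ?_) (quo_le_norm hY)
  rw [coprime_subcent1_quotient t' (coprime_orderOf_of_odd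
    (ho.of_dvd_nat (card_dvd_of_le hC.le)) h2) hC.le]
  exact quo_eq_bot_of_le h

theorem comm_le_cent_of_nil {Q Y : Subgroup G} {t : G} (hQ : Group.IsNilpotent Q)
    (ho : Odd (Nat.card Q)) (h2 : t * t = 1) (ht : t ∈ 𝓝(Q)) (hY : Y ≤ 𝓝(Q)) (htY : t ∈ 𝓝(Y))
    (hc : (Nat.card Q).Coprime (Nat.card Y)) (h : Q ⊓ 𝓒[t] ≤ 𝓒(Y)) :
    ⁅Y, zpowers t⁆ ≤ 𝓒(Q) := by
  have hle := comm_le_left (zpowers_le.2 htY)
  have n1 := le_norm_subcent hY (left_le_norm_comm Y (zpowers t))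
  have n2 := le_norm_subcent (zpowers_le.2 ht) (right_le_norm_comm Y (zpowers t))
  set C := Q ⊓ 𝓒(⁅Y, zpowers t⁆)
  have n3 := le_norm_subnorm hY n1
  have h1 := comm_comm_le_of_cent_le (ho.of_dvd_nat (card_dvd_of_le inf_le_left)) h2
    (zpowers_le.1 (le_norm_subnorm (zpowers_le.2 ht) n2)) (IsNormalOf.in_subnorm inf_le_left)
    (zpowers_le.1 n2) (le_inf (inf_le_left.trans inf_le_left)
      ((inf_le_inf_right _ inf_le_left).trans (h.trans (cent_anti hle)))) n3 n1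
  have h3 := coprime_comm_comm_eq_bot (hle.trans n3) (coprime_mono hc inf_le_left hle)
    (le_cent_iff_comm.1 (h1.trans inf_le_right))
  exact le_cent_symm ((nil_eq_of_norm_le hQ inf_le_left
    (le_inf inf_le_left (le_cent_symm h3))).ge.trans inf_le_right)

theorem comm_le_pcore [Fact p.Prime] {X Y : Subgroup G} {t : G} (ho : Odd (Nat.card X))
    (h2 : t * t = 1) (ht : t ∈ 𝓝(X)) (hYX : Y ≤ X) (hY : IsPGroup p Y) (htY : t ∈ 𝓝(Y))
    (hn : X ⊓ 𝓒[t] ≤ 𝓝(Y)) : ⁅Y, zpowers t⁆ ≤ piCoreOf {p} X := by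
  set O := piCoreOf {p} X
  have nX : X ≤ 𝓝(O) := (piCoreOf_normalOf _ _).norm
  have nt : zpowers t ≤ 𝓝(O) := le_norm_piCoreOf (zpowers_le.2 ht)
  let t' : 𝓝(O) := ⟨t, nt (mem_zpowers t)⟩
  have e : zpowers t /ₛ O = zpowers (coset O t') := quo_zpowers t'
  have hF : ¬ p ∣ Nat.card 𝓕(X /ₛ O) :=
    (pcore_sylow_fittingOf p _).eq_bot_iff.1 (piCoreOf_quo_piCoreOf _ _)
  have hc := coprime_of_pgroup_of_not_dvd (isPGroup_quo hY O) hF
  have hle := fittingOf_le (X /ₛ O)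
  have nY : Y /ₛ O ≤ 𝓝(𝓕(X /ₛ O)) := (quo_mono hYX).trans (fittingOf_normal _).norm
  have ntX : coset O t' ∈ 𝓝(X /ₛ O) := zpowers_le.1 (e ▸ quo_le_norm (zpowers_le.2 ht))
  have ntY : coset O t' ∈ 𝓝(Y /ₛ O) := zpowers_le.1 (e ▸ quo_le_norm (zpowers_le.2 htY))
  have h1 : 𝓕(X /ₛ O) ⊓ 𝓒[coset O t'] ≤ 𝓝(Y /ₛ O) := (inf_le_inf_right _ hle).trans (by
    rw [coprime_subcent1_quotient t' (coprime_orderOf_of_odd
      (ho.of_dvd_nat (card_dvd_of_le (piCoreOf_normalOf _ _).le)) h2) (piCoreOf_normalOf _ _).le]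
    exact quo_le_norm hn)
  have h3 := comm_le_cent_of_nil (fittingOf_nil _)
    ((odd_card_quo ho O).of_dvd_nat (card_dvd_of_le hle))
    (by rw [← map_mul, show t' * t' = 1 from Subtype.ext h2, map_one])
    (norm_le_norm_fittingOf _ ntX) nY ntY hc (le_cent_iff_comm.2 (eq_bot_iff.2
      (inf_eq_bot_of_coprime_card hc ▸ le_inf ((comm_mono inf_le_left le_rfl).trans
        (comm_le_left nY)) (comm_le_right h1))))
  have h4 := comm_le_left (zpowers_le.2 ntY)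
  rw [← quo_eq_bot_iff ((comm_le_left (zpowers_le.2 htY)).trans (hYX.trans nX)),
    quo_comm (hYX.trans nX) nt, e, eq_bot_iff, ← inf_eq_bot_of_coprime_card hc]
  exact le_inf ((le_inf (h4.trans (quo_mono hYX)) h3).trans
    (cent_sub_fitting (sol_of_odd (odd_card_quo ho O)))) h4

theorem comm_zpowers_le_of_forall {A B : Subgroup G} {g : G} (hg : g ∈ 𝓝(B))
    (h : ∀ a ∈ A, ⁅a, g⁆ ∈ B) : ⁅A, zpowers g⁆ ≤ B := by
  refine comm_le_iff.2 fun a ha x hx => ?_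
  obtain ⟨n, rfl⟩ := mem_powers_iff_mem_zpowers.2 hx
  clear hx
  induction n with
  | zero => simp
  | succ n ih =>
    have := mul_mem (h a ha) ((mem_normalizer_iff.1 hg _).1 ih)
    convert this using 1
    simp only [commutatorElement_def, pow_succ']
    group

theorem wf_comm [Fact p.Prime] {P A : Subgroup G} {t b : G} (hp : p ≠ 2) (hP : IsPGroup p P)
    (hab : IsMulCommutative P) (hA : ¬ p ∣ Nat.card A) (ho : Odd (Nat.card A)) (h2 : t * t = 1)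
    (hinv : ∀ a ∈ A, t * a * t⁻¹ = a⁻¹) (nA : A ≤ 𝓝(P)) (nt : t ∈ 𝓝(P)) (nb : b ∈ 𝓝(P))
    (hb : Odd (orderOf b)) (hbA : b ∈ 𝓝(A)) (h : P ⊓ 𝓒[t] ≤ 𝓒[b]) :
    ⁅A, zpowers b⁆ ≤ 𝓒(P) := by
  have hBA := comm_le_left (zpowers_le.2 hbA)
  set B := ⁅A, zpowers b⁆
  have cA := comm_of_inv hinv
  have ntA : ∀ X ≤ A, zpowers t ≤ 𝓝(X) := fun X hX => zpowers_le.2 (mem_normalizer_fintype
    fun x hx => (hinv x (hX hx)).symm ▸ inv_mem hx)
  have hd := coprime_abelian_cent_dprod (hBA.trans nA)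
    (coprime_mono (coprime_of_pgroup_of_not_dvd hP hA).symm le_rfl hBA) hab
  by_contra hne
  obtain ⟨x₀, ⟨hx₀, hx₁⟩, hmax⟩ := Set.exists_max_image {x | x ∈ ⁅P, B⁆ ∧ x ≠ 1}
    (fun x => Nat.card (A ⊓ 𝓒[x] : Subgroup G)) (Set.toFinite _)
    (exists_ne_one_of_ne_bot fun e => hne (le_cent_iff_comm'.2 e))
  set A₀ := A ⊓ 𝓒[x₀]
  set V := ⁅P, B⁆ ⊓ 𝓒(A₀)
  have hVP : V ≤ P := inf_le_left.trans hd.le_left
  have hV0 : x₀ ∈ V := ⟨hx₀, le_cent1_iff.1 inf_le_right⟩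
  have key : ∀ x ∈ V, x ≠ 1 → ∀ a ∈ A, a * x * a⁻¹ = x → a ∈ A₀ := fun x hx h1 a ha e =>
    (eq_of_le_of_card_le (le_inf inf_le_left (le_cent1_iff.2 hx.2)) (hmax x ⟨hx.1, h1⟩)).ge
      ⟨ha, mem_cent1.2 (mul_inv_eq_iff_eq_mul.1 e)⟩
  have fin : ¬ B ≤ 𝓒(V) := fun e => hx₁ (mem_bot.1 (hd.inf.le
    ⟨hx₀, hVP hV0, le_cent_symm e hV0⟩))
  have nAV : A ≤ 𝓝(V) := le_norm_subcent (le_norm_comm nA (le_norm_of_comm cA hBA))
    (le_norm_of_comm cA inf_le_left)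
  obtain ⟨x, ⟨hx, hxt⟩, h1⟩ := exists_ne_one_of_ne_bot (H := V ⊓ 𝓒[t]) fun e => fin
    (hBA.trans (le_trans (fun a ha => mem_comm_of_inv ho ha (hinv a ha))
      (comm_le_cent_of_inv (inv_of_cent_eq_bot (odd_card_of_pgroup (hP.to_le hVP) hp) h2
        (zpowers_le.1 (le_norm_subcent (le_norm_comm (zpowers_le.2 nt) (ntA B hBA))
          (ntA A₀ inf_le_left))) e) nAV)))
  have cj : ∀ a ∈ A, a * x * a⁻¹ ∈ V := fun a ha => (mem_normalizer_iff.1 (nAV ha) _).1 hx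
  have cm : ∀ u ∈ V, ∀ w ∈ V, u * w = w * u := fun u hu w hw =>
    comm_iff_le_cent.1 hab (hVP hw) u (hVP hu)
  have ca : ∀ u ∈ A, ∀ w ∈ A, u * w = w * u := fun u hu w hw => comm_iff_le_cent.1 cA hw u hu
  have hσ : ∀ a ∈ A, b * a * b⁻¹ ∈ A := fun a ha => (mem_normalizer_iff.1 hbA _).1 ha
  have hxt' : t * x * t⁻¹ = x := mul_inv_eq_iff_eq_mul.2 (mem_cent1.1 hxt).symm
  have hxb : b * x * b⁻¹ = x := mul_inv_eq_iff_eq_mul.2 (mem_cent1.1 (h ⟨hVP hx, hxt⟩)).symm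
  have alt : ∀ a ∈ A, a * (b * a * b⁻¹) ∈ A₀ ∨ a * (b * a * b⁻¹)⁻¹ ∈ A₀ := fun a ha => by
    have hc := hσ a ha
    have e1 : t * (a * x * a⁻¹ * (a⁻¹ * x * a⁻¹⁻¹)) * t⁻¹ = a * x * a⁻¹ * (a⁻¹ * x * a⁻¹⁻¹) := by
      calc _ = t * a * t⁻¹ * (t * x * t⁻¹) * (t * a * t⁻¹)⁻¹ *
            ((t * a * t⁻¹)⁻¹ * (t * x * t⁻¹) * (t * a * t⁻¹)) := by group
        _ = _ := by rw [hinv a ha, hxt', cm _ (cj a ha) _ (cj _ (inv_mem ha)), inv_inv]
    have e2 := mem_cent1.1 (h ⟨hVP (mul_mem (cj a ha) (cj _ (inv_mem ha))),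
      mem_cent1.2 (mul_inv_eq_iff_eq_mul.1 e1).symm⟩)
    have e3 : b * a * b⁻¹ * x * (b * a * b⁻¹)⁻¹ * ((b * a * b⁻¹)⁻¹ * x * (b * a * b⁻¹)⁻¹⁻¹) =
        a * x * a⁻¹ * (a⁻¹ * x * a⁻¹⁻¹) := by
      rw [← mul_inv_eq_iff_eq_mul.2 e2.symm]
      conv_lhs => rw [← hxb]
      group
    set c := b * a * b⁻¹
    by_cases e : c * x * c⁻¹ * (a⁻¹ * x * a⁻¹⁻¹)⁻¹ = 1
    · refine Or.inl (key x hx h1 _ (mul_mem ha hc) ?_)
      calc _ = a * (c * x * c⁻¹) * a⁻¹ := by group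
        _ = x := by rw [mul_inv_eq_one.1 e]; group
    refine Or.inr (key _ (mul_mem (cj c hc) (inv_mem (cj _ (inv_mem ha)))) e _
      (mul_mem ha (inv_mem hc)) ?_)
    calc _ = a * x * a⁻¹ * (a * c⁻¹ * a⁻¹ * x * (a * c⁻¹ * a⁻¹)⁻¹)⁻¹ := by group
      _ = a * x * a⁻¹ * (c⁻¹ * x * c⁻¹⁻¹)⁻¹ := by
        rw [ca a ha _ (inv_mem hc), mul_inv_cancel_right]
      _ = _ := by
        rw [mul_inv_eq_iff_eq_mul, mul_assoc (c * x * c⁻¹),
          cm _ (inv_mem (cj _ (inv_mem ha))) _ (cj _ (inv_mem hc)), ← mul_assoc, e3,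
          mul_inv_cancel_right]
  have nb0 : b ∈ 𝓝(A₀) := mem_normalizer_fintype fun a ha => by
    rcases alt a ha.1 with e | e
    · exact (A₀.mul_mem_cancel_left ha).1 e
    · exact inv_mem_iff.1 ((A₀.mul_mem_cancel_left ha).1 e)
  have h3 : ⁅A, zpowers (b ^ 2)⁆ ≤ A₀ := comm_zpowers_le_of_forall (pow_mem nb0 2) fun a ha => by
    have e0 : ⁅a, b ^ 2⁆ = a * (b * (b * a * b⁻¹) * b⁻¹)⁻¹ := by
      simp only [commutatorElement_def, sq, mul_inv_rev, inv_inv, mul_assoc]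
    rcases alt a ha with e | e
    · convert mul_mem e (inv_mem ((mem_normalizer_iff.1 nb0 _).1 e)) using 1
      rw [e0, ← conj_mul (a := a) (b := b), ca _ (hσ a ha) _ (hσ _ (hσ a ha))]
      simp only [mul_inv_rev, inv_inv, mul_assoc, mul_inv_cancel_left, inv_mul_cancel_left]
    · convert mul_mem e ((mem_normalizer_iff.1 nb0 _).1 e) using 1
      simp only [e0, mul_inv_rev, inv_inv, mul_assoc, mul_inv_cancel_left, inv_mul_cancel_left]
  obtain ⟨k, hk⟩ := exists_pow_eq_self_of_coprime (Nat.coprime_two_left.2 hb)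
  have h4 := pow_mem (mem_zpowers (b ^ 2)) k
  rw [hk] at h4
  exact fin ((comm_mono le_rfl (zpowers_le.2 h4)).trans
    (h3.trans (le_cent_symm inf_le_right)))

theorem wf [Fact p.Prime] {P A : Subgroup G} {t b : G} (hp : p ≠ 2) (hP : IsPGroup p P)
    (hA : ¬ p ∣ Nat.card A) (ho : Odd (Nat.card A)) (h2 : t * t = 1)
    (hinv : ∀ a ∈ A, t * a * t⁻¹ = a⁻¹) (nA : A ≤ 𝓝(P)) (nt : t ∈ 𝓝(P)) (nb : b ∈ 𝓝(P))
    (hb : Odd (orderOf b)) (hbA : b ∈ 𝓝(A)) (hbt : Commute b t) (h : P ⊓ 𝓒[t] ≤ 𝓒[b]) :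
    ⁅A, zpowers b⁆ ≤ 𝓒(P) := by
  have hA' := comm_le_left (zpowers_le.2 hbA)
  refine coprime_cent_of_chief (IsNormalOf.in_norm P) (hA'.trans nA) (coprime_mono
    (coprime_of_pgroup_of_not_dvd hP hA).symm le_rfl hA') fun V U hc hU => ?_
  have nV : 𝓝(P) ≤ 𝓝(V) := hc.normV
  have nU : 𝓝(P) ≤ 𝓝(U) := hc.normU
  let t' : 𝓝(V) := ⟨t, nV nt⟩
  let b' : 𝓝(V) := ⟨b, nV nb⟩
  have et : zpowers t /ₛ V = zpowers (coset V t') := quo_zpowers t'
  have eb : zpowers b /ₛ V = zpowers (coset V b') := quo_zpowers b'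
  have hUp := hP.to_le hU
  rw [← quo_le_cent_iff (hA'.trans (nA.trans nV)) hc.normal.norm,
    quo_comm (nA.trans nV) (zpowers_le.2 (nV nb)), eb]
  refine wf_comm (t := coset V t') hp (isPGroup_quo hUp V)
    ((comm_quo_iff hc.normal.norm).2 (hc.der_le (sol_of_pgroup hUp))) (not_dvd_card_quo hA V)
    (odd_card_quo ho V) (by rw [← map_mul, show t' * t' = 1 from Subtype.ext h2, map_one]) ?_
    (quo_le_norm (nA.trans nU)) (zpowers_le.1 (et ▸ quo_le_norm (zpowers_le.2 (nU nt))))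
    (zpowers_le.1 (eb ▸ quo_le_norm (zpowers_le.2 (nU nb))))
    (hb.of_dvd_nat ((orderOf_map_dvd _ _).trans (orderOf_coe b').symm.dvd))
    (zpowers_le.1 (eb ▸ quo_le_norm (zpowers_le.2 hbA))) ?_
  · intro a ha
    obtain ⟨x, hx, hxA, rfl⟩ := mem_quo.1 ha
    rw [← map_inv, ← map_inv, ← map_mul, ← map_mul]
    exact congrArg _ (Subtype.ext (hinv x hxA))
  rw [coprime_subcent1_quotient t' (coprime_orderOf_of_odd
    (odd_card_of_pgroup (hUp.to_le hc.normal.le) hp) h2) hc.normal.le, ← le_cent_zpowers, ← eb]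
  exact quo_le_cent (le_cent_zpowers.2 ((inf_le_inf_right _ hU).trans h))

end Cfsg.GW

set_option linter.all false in
theorem Cfsg.Rz.GW_Bender_0 : True := by
  have := @_root_.Cfsg.GW.Infects.eq_def.{0}
  have := @_root_.Cfsg.GW.Infects.eq_1.{0}
  have := @_root_.Cfsg.GW.Infects.fun_cases
  trivial
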