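import Cfsg.Agent.GW.L2Defs
import Cfsg.Agent.FT.Main
import Cfsg.Agent.Blk.PrinDih

/-! # Brauer-Suzuki-Wall: generalized dihedral centralizers, counting lemmas -/

set_option autoImplicit false
set_option linter.unusedSectionVars false
set_option linter.unusedVariables false
set_option linter.style.haveILetI false

namespace Cfsg.GW

open Subgroup Cfsg.Agent.FT

universe u

variable {G : Type u} [Group G] [Finite G]

theorem inv_of_fpf {A : Subgroup G} {t : G} (ht : t * t = 1)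
    (hn : ∀ a ∈ A, t * a * t⁻¹ ∈ A) (hc : ∀ a ∈ A, t * a = a * t → a = 1) {a : G} (ha : a ∈ A) :
    t * a * t⁻¹ = a⁻¹ := by
  let φ : A →* A := ((MulAut.conj t).toMonoidHom.comp A.subtype).codRestrict A fun a => hn a a.2
  have h1 : MonoidHom.FixedPointFree φ := fun a h =>
    Subtype.ext (hc a a.2 (mul_inv_eq_iff_eq_mul.1 (congrArg Subtype.val h)))
  have h2 : Function.Involutive φ := fun a => Subtype.ext (by
    show t * (t * a * t⁻¹) * t⁻¹ = a
    rw [show t * (t * a * t⁻¹) * t⁻¹ = (t * t) * a * (t * t)⁻¹ by group, ht]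
    group)
  exact congrArg Subtype.val (congrFun (h1.coe_eq_inv_of_involutive h2) ⟨a, ha⟩)

theorem comm_of_inverts {A : Subgroup G} {t : G} (h : ∀ a ∈ A, t * a * t⁻¹ = a⁻¹) {a b : G}
    (ha : a ∈ A) (hb : b ∈ A) : a * b = b * a := by
  have := h _ (A.mul_mem ha hb)
  rw [show t * (a * b) * t⁻¹ = t * a * t⁻¹ * (t * b * t⁻¹) by group, h a ha, h b hb,
    ← mul_inv_rev] at this
  exact (inv_injective this).symm

theorem eq_one_of_sq_of_odd {y : G} (hy : Odd (orderOf y)) (h : y * y = 1) : y = 1 := by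
  have h1 : orderOf y ∣ 2 := orderOf_dvd_of_pow_eq_one (by rwa [sq])
  rcases (Nat.dvd_prime Nat.prime_two).1 h1 with h2 | h2
  · exact orderOf_eq_one_iff.1 h2
  · rw [h2] at hy; exact absurd hy (by decide)

/-- `C(t)` is generalized dihedral over `A`, `A` is a TI-subgroup, and there is one class of
involutions. -/
structure Gd (A : Subgroup G) (t : G) : Prop where
  ord : orderOf t = 2
  mem : t ∈ A
  comm : ∀ y ∈ A, ∀ z ∈ A, y * z = z * y
  inv : ∀ u ∈ 𝓒[t], u ∉ A → ∀ y ∈ A, u * y * u⁻¹ = y⁻¹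
  sq : ∀ u ∈ 𝓒[t], u ∉ A → u * u = 1
  idx : A.relIndex 𝓒[t] = 2
  uniq : ∀ y ∈ A, orderOf y = 2 → y = t
  ti : ∀ y ∈ A, y ≠ 1 → ∀ g, g * y * g⁻¹ ∈ A → g ∈ 𝓒[t]
  one : ∀ u, orderOf u = 2 → IsConj t u
  odd : ¬ 2 ∣ (𝓒[t] : Subgroup G).index

theorem BswHyp.gd {S : Subgroup G} {x s t : G} (h : BswHyp S x s t) :
    ∃ A : Subgroup G, Gd A t ∧ ∀ y ∈ A, Odd (orderOf y) → y ∈ 𝐎(𝓒[t]) := by
  have : Fact (Nat.Prime 2) := ⟨Nat.prime_two⟩
  have hp := h.dih.pair
  have hS := h.dih.syl.pgroup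
  have hi : ¬ 2 ∣ S.index := by simpa using h.dih.syl.not_dvd
  have ht := h.dih.ord
  have htx : t ∈ zpowers x := by
    rcases h.dih.cases with e | e
    · exact e ▸ mem_zpowers x
    · exact e ▸ mul_mem (mem_zpowers x) (mem_zpowers x)
  have hSC := hp.le_centralizer htx ht
  set K := 𝐎(𝓒[t]) with hK
  have hhall : IsPiHallOf ({2}ᶜ : Set ℕ) K 𝓒[t] :=
    hasNormalPComplement_iff_hall.1 (hp.hasNormalPComplement hS hi htx ht)
  have hKn : K ⊴ 𝓒[t] := piCoreOf_normalOf _ _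
  have hsd : IsSdprod K S 𝓒[t] := IsPiHallOf.isSdprod hhall hKn.2
    (by rw [compl_compl]; exact (h.dih.syl.of_le hSC le_top).piHall)
  have hKS : ∀ y ∈ K, y ∈ S → y = 1 := fun y h1 h2 => mem_bot.1 (hsd.inf ▸ mem_inf.2 ⟨h1, h2⟩)
  have hodd : ∀ y ∈ 𝓒[t], Odd (orderOf y) → y ∈ K := fun y hy ho =>
    IsPiHallOf.mem_of_normal hhall hKn.2 hy fun q hq hd e => by
      rw [Set.mem_singleton_iff.1 e] at hd
      exact (Nat.not_even_iff_odd.2 ho) (even_iff_two_dvd.2 hd)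
  have hKodd : ∀ y ∈ K, Odd (orderOf y) := fun y hy => by
    rw [← Nat.not_even_iff_odd, even_iff_two_dvd]
    exact fun hd => not_dvd_piCoreOf 2 _ (hd.trans (K.orderOf_dvd_natCard hy))
  have hxK : ∀ a ∈ zpowers x, ∀ y ∈ K, a * y = y * a := by
    rintro _ ⟨i, rfl⟩ y hy
    exact ((show Commute x y from h.cent y hy).zpow_left i).eq
  have hxn : zpowers x ≤ 𝓝(K) := (hp.zpowers_le.trans hSC).trans hKn.2
  have hmem : ∀ y, y ∈ zpowers x ⊔ K ↔ ∃ a ∈ zpowers x, ∃ k ∈ K, a * k = y := fun y =>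
    mem_sup_of_le_normalizer hxn
  have hAC : zpowers x ⊔ K ≤ 𝓒[t] := sup_le (hp.zpowers_le.trans hSC) hKn.1
  have hcomm : ∀ y ∈ zpowers x ⊔ K, ∀ z ∈ zpowers x ⊔ K, y * z = z * y := by
    intro y hy z hz
    obtain ⟨a, ha, k, hk, rfl⟩ := (hmem y).1 hy
    obtain ⟨b, hb, l, hl, rfl⟩ := (hmem z).1 hz
    exact (((show Commute a b from hp.comm ha hb).mul_right (hxK a ha l hl)).mul_left
      ((show Commute k b from (hxK b hb k hk).symm).mul_right (comm_of_inverts h.inv hk hl))).eq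
  have hsinv : ∀ y ∈ zpowers x ⊔ K, s * y * s⁻¹ = y⁻¹ := by
    intro y hy
    obtain ⟨a, ha, k, hk, rfl⟩ := (hmem y).1 hy
    rw [show s * (a * k) * s⁻¹ = s * a * s⁻¹ * (s * k * s⁻¹) by group, hp.τ_conj ha, h.inv k hk,
      hxK a ha k hk, mul_inv_rev]
  have hdec : ∀ u ∈ 𝓒[t], u ∉ zpowers x ⊔ K → ∃ y ∈ zpowers x ⊔ K, u = y * s := by
    intro u hu hn
    rw [← hsd.sup, mem_sup_of_le_normalizer' (hSC.trans hKn.2)] at hu
    obtain ⟨k, hk, σ, hσ, rfl⟩ := hu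
    have : σ ∉ zpowers x := fun e => hn (mul_mem (mem_sup_right hk) (mem_sup_left e))
    obtain ⟨a, ha, rfl⟩ := hp.exists_eq_mul hσ this
    exact ⟨k * a, mul_mem (mem_sup_right hk) (mem_sup_left ha), (mul_assoc _ _ _).symm⟩
  have huniq : ∀ y ∈ zpowers x ⊔ K, orderOf y = 2 → y = t := by
    intro y hy ho
    obtain ⟨a, ha, k, hk, rfl⟩ := (hmem y).1 hy
    have h1 := mul_self_of_orderOf_eq_two ho
    have h2 : k * k = (a * a)⁻¹ := by
      rw [eq_inv_iff_mul_eq_one, ← h1, mul_assoc a k, ← mul_assoc k a k, ← hxK a ha k hk,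
        (show Commute (k * k) (a * a) from ((show Commute k a from (hxK a ha k hk).symm).mul_left
          (hxK a ha k hk).symm).mul_right ((show Commute k a from (hxK a ha k hk).symm).mul_left
          (hxK a ha k hk).symm)).eq]
      group
    have h3 : k = 1 := eq_one_of_sq_of_odd (hKodd k hk)
      (hKS _ (mul_mem hk hk) (h2 ▸ inv_mem (hp.zpowers_le (mul_mem ha ha))))
    rw [h3, mul_one] at ho ⊢
    exact eq_of_orderOf_eq_two_of_mem_zpowers ha htx ho ht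
  have hinv : ∀ u ∈ 𝓒[t], u ∉ zpowers x ⊔ K → ∀ y ∈ zpowers x ⊔ K, u * y * u⁻¹ = y⁻¹ := by
    intro u hu hn y hy
    obtain ⟨z, hz, rfl⟩ := hdec u hu hn
    rw [show z * s * y * (z * s)⁻¹ = z * (s * y * s⁻¹) * z⁻¹ by group, hsinv y hy,
      hcomm z hz _ (inv_mem hy), mul_inv_cancel_right]
  refine ⟨zpowers x ⊔ K, ⟨ht, mem_sup_left htx, hcomm, hinv, ?_, ?_, huniq, ?_, ?_, ?_⟩,
    fun y hy => hodd y (hAC hy)⟩
  · intro u hu hn
    obtain ⟨z, hz, rfl⟩ := hdec u hu hn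
    have := hsinv z hz
    rw [hp.inv_eq] at this
    rw [show z * s * (z * s) = z * (s * z * s) by group, this, mul_inv_cancel]
  · refine relIndex_eq_two_iff_exists_notMem_and.2 ⟨s, hSC hp.mem_τ, fun e => ?_, fun b hb => ?_⟩
    · obtain ⟨a, ha, k, hk, e⟩ := (hmem s).1 e
      have : k = 1 := hKS k hk (by
        rw [show k = a⁻¹ * s by rw [← e]; group]
        exact mul_mem (inv_mem (hp.zpowers_le ha)) hp.mem_τ)
      rw [this, mul_one] at e
      exact hp.notMem (e ▸ ha)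
    · by_cases hn : b ∈ zpowers x ⊔ K
      · exact Or.inr hn
      · obtain ⟨z, hz, rfl⟩ := hdec b hb hn
        exact Or.inl (by rwa [mul_assoc, hp.mul_self, mul_one])
  · intro y hy h1 g hg
    have key : g * t * g⁻¹ ∈ zpowers x ⊔ K → g ∈ 𝓒[t] := fun e =>
      mem_cent1.2 (mul_inv_eq_iff_eq_mul.1 (huniq _ e (by rw [orderOf_conj_eq, ht])))
    rcases Nat.even_or_odd (orderOf y) with he | ho
    · obtain ⟨j, hj, hj2⟩ := exists_mem_zpowers_orderOf_two (even_iff_two_dvd.1 he)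
      have e := huniq j (zpowers_le.2 hy hj) hj2
      obtain ⟨i, rfl⟩ := hj
      refine key ?_
      rw [← e, ← conj_zpow]
      exact zpow_mem hg i
    · have ho' : Odd (orderOf (g * y * g⁻¹)) := by rwa [orderOf_conj_eq]
      have h2 : g * y * g⁻¹ ≠ 1 := by simpa using h1
      have h3 : g * t * g⁻¹ ∈ 𝓒[g * y * g⁻¹] := by
        rw [centralizer_singleton_conj, conj_mem_map_conj]
        exact mem_cent1.2 (hcomm t (mem_sup_left htx) y hy)
      refine key (by_contra fun hn => h2 (eq_one_of_sq_of_odd ho' ?_))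
      have h4 := hinv _ (h.ti _ (hodd _ (hAC hg) ho') h2 h3) hn _ hg
      rw [mem_cent1.1 h3, mul_inv_cancel_right] at h4
      exact mul_eq_one_iff_eq_inv.2 h4
  · intro u hu
    obtain ⟨g, -, hg⟩ := h.one u trivial hu
    exact isConj_iff.2 ⟨g, hg⟩
  · exact fun hd => hi (hd.trans (index_dvd_of_le hSC))

/-- the number of ways to write `g` as a product of two conjugates of `t` -/
noncomputable def wInv (t g : G) : ℕ := {u | IsConj t u ∧ IsConj t (u⁻¹ * g)}.ncard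

open Classical in
theorem sum_pairs_eq [Fintype G] (t : G) (θ : G → ℂ) :
    ∑ x ∈ Finset.univ.filter (IsConj t), ∑ y ∈ Finset.univ.filter (IsConj t), θ (x * y) =
      ∑ g, (wInv t g : ℂ) * θ g := by
  have h1 : ∀ x : G, ∑ y ∈ Finset.univ.filter (IsConj t), θ (x * y) =
      ∑ g, if IsConj t (x⁻¹ * g) then θ g else 0 := fun x => by
    rw [Finset.sum_filter, ← Equiv.sum_comp (Equiv.mulLeft x⁻¹)]
    simp
  simp only [h1]
  rw [Finset.sum_comm]
  refine Finset.sum_congr rfl fun g _ => ?_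
  rw [← Finset.sum_filter, Finset.filter_filter, Finset.sum_const, nsmul_eq_mul, wInv,
    Set.ncard_eq_toFinset_card', Set.toFinset_setOf]

theorem wInv_conj (t g y : G) : wInv t (y * g * y⁻¹) = wInv t g := by
  refine (Set.ncard_congr (fun u _ => y * u * y⁻¹) ?_ ?_ ?_).symm
  · rintro u ⟨h1, h2⟩
    refine ⟨h1.trans (isConj_iff.2 ⟨y, rfl⟩), h2.trans (isConj_iff.2 ⟨y, by group⟩)⟩
  · intro a b _ _ e
    simpa using e
  · rintro u ⟨h1, h2⟩
    exact ⟨y⁻¹ * u * y, ⟨h1.trans (isConj_iff.2 ⟨y⁻¹, by group⟩),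
      h2.trans (isConj_iff.2 ⟨y⁻¹, by group⟩)⟩, by group⟩

theorem inv_of_mem_wInv {t g u : G} (ht : orderOf t = 2) (h1 : IsConj t u)
    (h2 : IsConj t (u⁻¹ * g)) : orderOf u = 2 ∧ u * g * u⁻¹ = g⁻¹ := by
  have key : ∀ v, IsConj t v → orderOf v = 2 := fun v hv => by
    obtain ⟨c, rfl⟩ := isConj_iff.1 hv
    rw [orderOf_conj_eq, ht]
  have a1 := mul_self_of_orderOf_eq_two (key _ h1)
  have a2 := mul_self_of_orderOf_eq_two (key _ h2)
  have a3 : u⁻¹ = u := inv_eq_of_mul_eq_one_right a1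
  refine ⟨key _ h1, ?_⟩
  rw [a3] at a2 ⊢
  rw [eq_inv_iff_mul_eq_one, ← a2]; group

theorem wInv_le {t : G} (ht : orderOf t = 2) (g : G) :
    wInv t g ≤ Nat.card (𝓒[g] : Subgroup G) := by
  rcases Set.eq_empty_or_nonempty {u | IsConj t u ∧ IsConj t (u⁻¹ * g)} with h | ⟨v, hv⟩
  · rw [wInv, h]; simp
  · change _ ≤ Nat.card ((𝓒[g] : Subgroup G) : Set G)
    rw [Nat.card_coe_set_eq]
    refine Set.ncard_le_ncard_of_injOn (fun u => v⁻¹ * u) (fun u hu => ?_)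
      (fun a _ b _ e => by simpa using e)
    have h1 := (inv_of_mem_wInv ht hv.1 hv.2).2
    have h2 := (inv_of_mem_wInv ht hu.1 hu.2).2
    refine mem_cent1.2 (mul_inv_eq_iff_eq_mul.1 ?_)
    rw [show v⁻¹ * u * g * (v⁻¹ * u)⁻¹ = v⁻¹ * (u * g * u⁻¹) * v by group, h2, ← h1]; group

theorem exists_inv_of_wInv {t g : G} (ht : orderOf t = 2) (h : wInv t g ≠ 0) :
    ∃ u, orderOf u = 2 ∧ u * g * u⁻¹ = g⁻¹ := by
  obtain ⟨u, h1, h2⟩ := Set.nonempty_of_ncard_ne_zero h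
  exact ⟨u, inv_of_mem_wInv ht h1 h2⟩

/-- the nonidentity elements conjugate into `T` -/
def Cs (T : Subgroup G) (g : G) : Prop := g ≠ 1 ∧ ∃ y, y * g * y⁻¹ ∈ T

theorem ncard_cs {T L : Subgroup G} (h : ∀ a ∈ T, a ≠ 1 → ∀ g : G, g * a * g⁻¹ ∈ T ↔ g ∈ L) :
    {g | Cs T g}.ncard = (Nat.card T - 1) * L.index := by
  have : {g | Cs T g} = classSupport (sharp T) ⊤ := Set.ext fun g => mem_classSupport_sharp.symm
  rw [this, ncard_classSupport_top (L := L), ncard_sharp_eq]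
  intro a ha g
  rw [← h a ha.1 ha.2 g]
  exact ⟨fun e => e.1, fun e => ⟨e, by simpa using ha.2⟩⟩

theorem Cs.conj {T : Subgroup G} {g : G} (h : Cs T g) (x : G) : Cs T (x * g * x⁻¹) := by
  obtain ⟨h1, y, hy⟩ := h
  exact ⟨by simpa using h1, y * x⁻¹, by convert hy using 1; group⟩

theorem cs_conj_iff {T : Subgroup G} {g x : G} : Cs T (x * g * x⁻¹) ↔ Cs T g :=
  ⟨fun h => by convert h.conj x⁻¹ using 1; group, fun h => h.conj x⟩

theorem cs_of_mem {T : Subgroup G} {g : G} (h : g ∈ T) (h1 : g ≠ 1) : Cs T g :=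
  ⟨h1, 1, by simpa using h⟩

theorem CC.comm_mem {T : Subgroup G} (h : CC T) {a b : G} (ha : a ∈ T) (hb : b ∈ T) :
    a * b = b * a := by
  by_cases h1 : b = 1
  · simp [h1]
  · exact mem_cent1.1 (h b hb h1 ▸ ha)

theorem CC.conj {T : Subgroup G} (h : CC T) (g : G) : CC (T :^ g) := by
  intro z hz h1
  obtain ⟨y, hy, rfl⟩ := mem_conj_iff.1 hz
  rw [centralizer_singleton_conj, h y hy (by simpa using h1)]

theorem CC.ti {T : Subgroup G} (h : CC T) {a : G} (ha : a ∈ T) (h1 : a ≠ 1) (g : G) :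
    g * a * g⁻¹ ∈ T ↔ g ∈ 𝓝(T) := by
  refine ⟨fun e => ?_, fun e => conj_mem_of_mem_normalizer e ha⟩
  have := h _ e (by simpa using h1)
  rwa [centralizer_singleton_conj, h a ha h1, map_conj_eq_iff] at this

theorem CC.ncard {T : Subgroup G} (h : CC T) :
    {g | Cs T g}.ncard = (Nat.card T - 1) * 𝓝(T).index :=
  ncard_cs fun a ha h1 g => h.ti ha h1 g

theorem CC.cent_eq {T W : Subgroup G} (h : CC T) (hW : W ≤ T) (h1 : W ≠ ⊥) : 𝓒(W) = T := by
  obtain ⟨⟨w, hw⟩, h2⟩ := ne_bot_iff_exists_ne_one.1 h1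
  refine le_antisymm ((cent_le_cent1 hw).trans (h w (hW hw) (by simpa using h2)).le) fun z hz => ?_
  exact mem_cent_sub.2 fun k hk => h.comm_mem (hW hk) hz

theorem CC.norm_le {T W : Subgroup G} (h : CC T) (hW : W ≤ T) (h1 : W ≠ ⊥) : 𝓝(W) ≤ 𝓝(T) := by
  have := normalizer_le_normalizer_centralizer W
  rwa [h.cent_eq hW h1] at this

theorem CC.eq_of_mem {T T' : Subgroup G} (h : CC T) (h' : CC T') {z : G} (hz : z ∈ T)
    (hz' : z ∈ T') (h1 : z ≠ 1) : T = T' := (h z hz h1).symm.trans (h' z hz' h1)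

namespace Gd

variable {A : Subgroup G} {t : G} (h : Gd A t)
include h

theorem ne_one : t ≠ 1 := fun e => by simpa [e] using h.ord

theorem le : A ≤ 𝓒[t] := fun y hy => mem_cent1.2 (h.comm y hy t h.mem)

theorem card : Nat.card (𝓒[t] : Subgroup G) = 2 * Nat.card A := by
  rw [← card_mul_relIndex h.le, h.idx, mul_comm]

theorem card_eq : Nat.card G = 2 * Nat.card A * (𝓒[t] : Subgroup G).index := by
  rw [← h.card, card_mul_index]

theorem two_dvd : 2 ∣ Nat.card A := h.ord ▸ A.orderOf_dvd_natCard h.mem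

theorem conj_mem {u y : G} (hu : u ∈ 𝓒[t]) (hy : y ∈ A) : u * y * u⁻¹ ∈ A := by
  by_cases e : u ∈ A
  · exact mul_mem (mul_mem e hy) (inv_mem e)
  · rw [h.inv u hu e y hy]; exact inv_mem hy

theorem ti_iff {y : G} (hy : y ∈ A) (h1 : y ≠ 1) (g : G) : g * y * g⁻¹ ∈ A ↔ g ∈ 𝓒[t] :=
  ⟨h.ti y hy h1 g, fun e => h.conj_mem e hy⟩

theorem ncard : {g | Cs A g}.ncard = (Nat.card A - 1) * (𝓒[t] : Subgroup G).index :=
  ncard_cs fun a ha h1 g => h.ti_iff ha h1 g

theorem isConj_iff {u : G} : IsConj t u ↔ orderOf u = 2 := by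
  refine ⟨fun e => ?_, h.one u⟩
  obtain ⟨c, rfl⟩ := _root_.isConj_iff.1 e
  rw [orderOf_conj_eq, h.ord]

theorem cs_of_two {u : G} (hu : orderOf u = 2) : Cs A u := by
  obtain ⟨c, rfl⟩ := _root_.isConj_iff.1 (h.one u hu)
  exact (cs_of_mem h.mem h.ne_one).conj c

theorem cent_le {y : G} (hy : y ∈ A) (h1 : y ≠ 1) : 𝓒[y] ≤ 𝓒[t] := fun g hg =>
  h.ti y hy h1 g (by rwa [mem_cent1.1 hg, mul_inv_cancel_right])

theorem cs_of_mem_cent {g : G} (hg : g ∈ 𝓒[t]) (h1 : g ≠ 1) : Cs A g := by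
  by_cases e : g ∈ A
  · exact cs_of_mem e h1
  · exact h.cs_of_two (orderOf_eq_two_of_mul_self (h.sq g hg e) h1)

/-- an element commuting with a conjugate of an element of `A^#` is conjugate into `A` -/
theorem cs_of_comm {y g : G} (hy : Cs A y) (hc : g * y = y * g) (h1 : g ≠ 1) : Cs A g := by
  obtain ⟨h2, c, hc'⟩ := hy
  refine cs_conj_iff.1 (h.cs_of_mem_cent (h.cent_le hc' (by simpa using h2) (x := c * g * c⁻¹)
    (mem_cent1.2 ?_)) (by simpa using h1))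
  rw [show c * g * c⁻¹ * (c * y * c⁻¹) = c * (g * y) * c⁻¹ by group, hc]; group

theorem orderOf_dvd {g : G} (hg : Cs A g) : orderOf g ∣ Nat.card A := by
  obtain ⟨-, c, hc⟩ := hg
  rw [← orderOf_conj_eq c]
  exact A.orderOf_dvd_natCard hc

theorem card_cent_dvd {g : G} (hg : Cs A g) : Nat.card (𝓒[g] : Subgroup G) ∣ 2 * Nat.card A := by
  obtain ⟨h1, c, hc⟩ := hg
  rw [← card_map_conj c, ← centralizer_singleton_conj, ← h.card]
  exact card_dvd_of_le (h.cent_le hc (by simpa using h1))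

theorem wInv_one : wInv t 1 = (𝓒[t] : Subgroup G).index := by
  rw [← card_isConj_eq_index, wInv, ← Nat.card_coe_set_eq]
  refine Nat.card_congr (Equiv.subtypeEquivRight fun u => ?_)
  simp only [Set.mem_setOf_eq, mul_one, h.isConj_iff, orderOf_inv, and_self]

theorem wInv_of_cs {g : G} (hg : Cs A g) : wInv t g = Nat.card A := by
  obtain ⟨h1, c, hc⟩ := hg
  rw [← wInv_conj t g c]
  have h2 : c * g * c⁻¹ ≠ 1 := by simpa using h1
  generalize c * g * c⁻¹ = y at hc h2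
  have h3 : {u | IsConj t u ∧ IsConj t (u⁻¹ * y)} = ((𝓒[t] : Subgroup G) : Set G) \ A := by
    ext u
    constructor
    · rintro ⟨a1, a2⟩
      obtain ⟨a3, a4⟩ := inv_of_mem_wInv h.ord a1 a2
      refine ⟨h.ti y hc h2 u (a4 ▸ inv_mem hc), fun e => h2 ?_⟩
      have a5 := h.uniq u e a3
      have a6 := h.uniq _ (mul_mem (inv_mem e) hc) (h.isConj_iff.1 a2)
      rw [inv_mul_eq_iff_eq_mul, a5] at a6
      rw [a6, mul_self_of_orderOf_eq_two h.ord]
    · rintro ⟨a1, a2⟩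
      have key : ∀ v ∈ 𝓒[t], v ∉ A → IsConj t v := fun v b1 b2 =>
        h.one v (orderOf_eq_two_of_mul_self (h.sq v b1 b2) fun e => b2 (e ▸ A.one_mem))
      refine ⟨key u a1 a2, key _ (mul_mem (inv_mem a1) (h.le hc)) fun e => a2 ?_⟩
      simpa using mul_mem hc (inv_mem e)
  rw [wInv, h3, Set.ncard_diff (by exact h.le), ← Nat.card_coe_set_eq, ← Nat.card_coe_set_eq]
  have := h.card
  change Nat.card (𝓒[t] : Subgroup G) - Nat.card A = _
  omega

end Gd

end Cfsg.GW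

set_option linter.all false in
theorem Cfsg.Rz.GW_BswA_0 : True := by
  have := @_root_.Cfsg.GW.wInv.eq_def.{0}
  have := @_root_.Cfsg.GW.wInv.fun_cases
  have := @_root_.Cfsg.GW.Cs.eq_def.{0}
  have := @_root_.Cfsg.GW.Cs.eq_1.{0}
  have := @_root_.Cfsg.GW.Cs.fun_cases
  have := @_root_.Cfsg.GW.Gd.mk.congr_simp.{0}
  trivial
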