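import Mathlib.Algebra.BigOperators.Ring.Finset
import Mathlib.Algebra.Order.BigOperators.Ring.Finset
import Mathlib.Tactic.IntervalCases
import Mathlib.Tactic.FieldSimp
import Mathlib.Tactic.Linarith
import Mathlib.Tactic.LinearCombination
import Mathlib.Tactic.Positivity
import Mathlib.RingTheory.Coprime.Lemmas
import Mathlib.Data.Int.GCD
import Mathlib.RingTheory.Int.Basic

/-! # Brauer-Suzuki-Wall: the combinatorics of the exceptional characters -/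

set_option autoImplicit false
set_option linter.unusedSectionVars false
set_option linter.unusedVariables false

namespace Cfsg.GW

open Finset

section Norm

variable {ι : Type*} [DecidableEq ι]

theorem sum_sq_succ {s : Finset ι} {f : ι → ℤ} {k : ℤ} (h : ∑ i ∈ s, f i ^ 2 = k + 1)
    (h0 : 0 ≤ k) (hk : k ≤ 2) : ∃ j ∈ s, f j ^ 2 = 1 ∧ ∑ i ∈ s.erase j, f i ^ 2 = k := by
  obtain ⟨j, hj, h1⟩ := exists_ne_zero_of_sum_ne_zero (h ▸ (by omega : k + 1 ≠ 0))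
  have h2 := add_sum_erase s (fun i => f i ^ 2) hj
  have h3 : 0 ≤ ∑ i ∈ s.erase j, f i ^ 2 := sum_nonneg fun i _ => sq_nonneg _
  have h4 : f j ^ 2 ≤ 3 := by omega
  have h5 : f j ^ 2 = 1 := by
    have : f j ≠ 0 := fun e => h1 (by simp [e])
    have a1 : f j ≤ 1 := by nlinarith
    have a2 : -1 ≤ f j := by nlinarith
    generalize f j = y at *
    interval_cases y <;> simp_all
  exact ⟨j, hj, h5, by omega⟩

theorem eq_zero_of_sum_sq {s : Finset ι} {f : ι → ℤ} (h : ∑ i ∈ s, f i ^ 2 = 0) {i : ι}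
    (hi : i ∈ s) : f i = 0 :=
  pow_eq_zero_iff two_ne_zero |>.1 ((sum_eq_zero_iff_of_nonneg fun i _ => sq_nonneg _).1 h i hi)

variable [Fintype ι]

theorem sum_supp3 {R : Type*} [AddCommMonoid R] {F : ι → R} {a b c : ι} (hab : a ≠ b) (hac : a ≠ c)
    (hbc : b ≠ c) (h : ∀ x, x ≠ a → x ≠ b → x ≠ c → F x = 0) : ∑ x, F x = F a + F b + F c := by
  rw [← sum_subset (subset_univ {a, b, c}) fun x _ hx => by
    simp only [mem_insert, mem_singleton, not_or] at hx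
    exact h x hx.1 hx.2.1 hx.2.2]
  rw [sum_insert (by simp [hab, hac]), sum_pair hbc, add_assoc]

theorem sum_supp4 {R : Type*} [AddCommMonoid R] {F : ι → R} {a b c d : ι} (hab : a ≠ b)
    (hac : a ≠ c) (had : a ≠ d) (hbc : b ≠ c) (hbd : b ≠ d) (hcd : c ≠ d)
    (h : ∀ x, x ≠ a → x ≠ b → x ≠ c → x ≠ d → F x = 0) : ∑ x, F x = F a + F b + F c + F d := by
  rw [← sum_subset (subset_univ {a, b, c, d}) fun x _ hx => by
    simp only [mem_insert, mem_singleton, not_or] at hx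
    exact h x hx.1 hx.2.1 hx.2.2.1 hx.2.2.2]
  rw [sum_insert (by simp [hab, hac, had]), sum_insert (by simp [hbc, hbd]), sum_pair hcd,
    add_assoc, add_assoc]

end Norm

/-- The abstract data: `c l χ` is the multiplicity of `χ` in `(l - 1)^G`, `d` the degrees, `v` the
values at the involution `t`, `e l = l t`. -/
structure Ab {Λ ι : Type*} [Group Λ] [Fintype Λ] [DecidableEq Λ] [Fintype ι] (c : Λ → ι → ℤ)
    (o : ι) (d v : ι → ℤ) (e : Λ → ℤ) (μ : Λ) (κ : ℚ) : Prop where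
  gram : ∀ l m, l ≠ 1 → m ≠ 1 →
    ∑ x, c l x * c m x = 2 + (if l = m then 1 else 0) + if l = m⁻¹ then 1 else 0
  c_o : ∀ l, l ≠ 1 → c l o = -1
  c_one : ∀ x, c 1 x = 0
  c_inv : ∀ l, c l⁻¹ = c l
  deg : ∀ l, ∑ x, c l x * d x = 0
  d_o : d o = 1
  d_pos : ∀ x, 0 < d x
  val : ∀ x, v x = ∑ l, c l x * e l
  v_o : v o = 1
  at_t : ∀ l, ∑ x, c l x * v x = 2 * e l - 2
  e_sq : ∀ l, e l = 1 ∨ e l = -1
  e_one : e 1 = 1
  e_inv : ∀ l, e l⁻¹ = e l
  e_sum : ∑ l, e l = 0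
  cls : ∀ l, l ≠ 1 → ∑ x, (c l x : ℚ) * (v x) ^ 2 / d x = κ
  mu_ne : μ ≠ 1
  mu_iff : ∀ l : Λ, l = l⁻¹ ↔ l = 1 ∨ l = μ

namespace Ab

variable {Λ ι : Type*} [Group Λ] [Fintype Λ] [DecidableEq Λ] [Fintype ι] [DecidableEq ι]
  {c : Λ → ι → ℤ} {o : ι} {d v : ι → ℤ} {e : Λ → ℤ} {μ : Λ} {κ : ℚ}

/-- the support of `c μ` -/
structure Tri (c : Λ → ι → ℤ) (o : ι) (μ : Λ) (i j k : ι) : Prop where
  oi : o ≠ i
  oj : o ≠ j
  ok : o ≠ k
  ij : i ≠ j
  ik : i ≠ k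
  jk : j ≠ k
  si : c μ i ^ 2 = 1
  sj : c μ j ^ 2 = 1
  sk : c μ k ^ 2 = 1
  zero : ∀ x, x ≠ o → x ≠ i → x ≠ j → x ≠ k → c μ x = 0

theorem Tri.swap {i j k : ι} (h : Tri c o μ i j k) : Tri c o μ j i k :=
  ⟨h.oj, h.oi, h.ok, h.ij.symm, h.jk, h.ik, h.sj, h.si, h.sk, fun x a b c d => h.zero x a c b d⟩

theorem Tri.rot {i j k : ι} (h : Tri c o μ i j k) : Tri c o μ k i j :=
  ⟨h.ok, h.oi, h.oj, h.ik.symm, h.jk.symm, h.ij, h.sk, h.si, h.sj,
    fun x a b c d => h.zero x a c d b⟩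

theorem Tri.sum {i j k : ι} (h : Tri c o μ i j k) {R : Type*} [AddCommMonoid R] {F : ι → R}
    (hF : ∀ x, c μ x = 0 → F x = 0) : ∑ x, F x = F o + F i + F j + F k :=
  sum_supp4 h.oi h.oj h.ok h.ij h.ik h.jk fun x a b c d => hF x (h.zero x a b c d)

theorem Tri.cases {i j k x : ι} (h : Tri c o μ i j k) (hx : c μ x ^ 2 = 1) (ho : o ≠ x) :
    x = i ∨ x = j ∨ x = k := by
  by_contra hn
  push Not at hn
  rw [h.zero x ho.symm hn.1 hn.2.1 hn.2.2] at hx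
  simp at hx

theorem Tri.of_sq {i j k x y z : ι} (h : Tri c o μ i j k) (hx : c μ x ^ 2 = 1)
    (hy : c μ y ^ 2 = 1) (hz : c μ z ^ 2 = 1) (ox : o ≠ x) (oy : o ≠ y) (oz : o ≠ z) (xy : x ≠ y)
    (xz : x ≠ z) (yz : y ≠ z) : Tri c o μ x y z := by
  refine ⟨ox, oy, oz, xy, xz, yz, hx, hy, hz, fun w a b c d => h.zero w a ?_ ?_ ?_⟩ <;>
    rintro rfl <;> rcases h.cases hx ox with rfl | rfl | rfl <;>
    rcases h.cases hy oy with rfl | rfl | rfl <;> rcases h.cases hz oz with rfl | rfl | rfl <;>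
    contradiction

/-- the support of `c l` -/
structure Dec (c : Λ → ι → ℤ) (o : ι) (μ l : Λ) (j w : ι) : Prop where
  oj : o ≠ j
  ow : o ≠ w
  sj : c μ j ^ 2 = 1
  zw : c μ w = 0
  cj : c l j = c μ j
  sw : c l w ^ 2 = 1
  zero : ∀ x, x ≠ o → x ≠ j → x ≠ w → c l x = 0

theorem Dec.jw {l : Λ} {j w : ι} (h : Dec c o μ l j w) : j ≠ w := fun e => by
  have := h.sj
  rw [e, h.zw] at this
  simp at this

theorem Dec.sum {l : Λ} {j w : ι} (h : Dec c o μ l j w) {R : Type*} [AddCommMonoid R] {F : ι → R}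
    (hF : ∀ x, c l x = 0 → F x = 0) : ∑ x, F x = F o + F j + F w :=
  sum_supp3 h.oj h.ow h.jw fun x a b c => hF x (h.zero x a b c)

theorem Dec.zero' {l : Λ} {j w x : ι} (h : Dec c o μ l j w) (ho : o ≠ x) (hx : c μ x ^ 2 = 1)
    (hj : x ≠ j) : c l x = 0 :=
  h.zero x ho.symm hj fun e => by rw [e, h.zw] at hx; simp at hx

variable (h : Ab c o d v e μ κ)
include h

theorem mu_inv : μ = μ⁻¹ := (h.mu_iff μ).2 (Or.inr rfl)

theorem exists_tri : ∃ i j k, Tri c o μ i j k := by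
  have h1 := h.gram μ μ h.mu_ne h.mu_ne
  rw [if_pos rfl, if_pos h.mu_inv, ← add_sum_erase _ _ (mem_univ o), h.c_o μ h.mu_ne] at h1
  simp only [← sq] at h1
  obtain ⟨i, hi, si, h2⟩ := sum_sq_succ (s := univ.erase o) (f := c μ) (k := 2) (by omega)
    (by omega) le_rfl
  obtain ⟨j, hj, sj, h3⟩ := sum_sq_succ (k := 1) h2 (by omega) (by omega)
  obtain ⟨k, hk, sk, h4⟩ := sum_sq_succ (k := 0) h3 (by omega) (by omega)
  simp only [mem_erase, mem_univ, and_true] at hi hj hk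
  exact ⟨i, j, k, hi.symm, hj.2.symm, hk.2.2.symm, hj.1.symm, hk.2.1.symm, hk.1.symm, si, sj, sk,
    fun x a b c d => eq_zero_of_sum_sq h4 (by simp [a, b, c, d])⟩

theorem exists_dec {l : Λ} (h1 : l ≠ 1) (h2 : l ≠ μ) : ∃ j w, Dec c o μ l j w := by
  obtain ⟨i, j, k, T⟩ := h.exists_tri
  have hn : l ≠ l⁻¹ := fun e => by rcases (h.mu_iff l).1 e with e | e <;> contradiction
  have a1 := h.gram l l h1 h1
  rw [if_pos rfl, if_neg hn, ← add_sum_erase _ _ (mem_univ o), h.c_o l h1] at a1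
  simp only [← sq] at a1
  have a2 := h.gram l μ h1 h.mu_ne
  rw [if_neg h2, if_neg (h.mu_inv ▸ h2), T.sum (fun x hx => by simp [hx]), h.c_o l h1,
    h.c_o μ h.mu_ne] at a2
  obtain ⟨x, hx, sx, h3⟩ := sum_sq_succ (s := univ.erase o) (f := c l) (k := 1) (by omega)
    (by omega) (by omega)
  obtain ⟨y, hy, sy, h4⟩ := sum_sq_succ (k := 0) h3 (by omega) (by omega)
  simp only [mem_erase, mem_univ, and_true] at hx hy
  have hz : ∀ z, z ≠ o → z ≠ x → z ≠ y → c l z = 0 := fun z a b c =>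
    eq_zero_of_sum_sq h4 (by simp [a, b, c])
  have a3 := h.gram l μ h1 h.mu_ne
  rw [if_neg h2, if_neg (h.mu_inv ▸ h2), sum_supp3 (a := o) (b := x) (c := y) hx.symm hy.2.symm
    hy.1.symm (fun z a b c => by rw [hz z a b c, zero_mul]), h.c_o l h1, h.c_o μ h.mu_ne] at a3
  have hμ : ∀ z, z ≠ o → c μ z = 0 ∨ c μ z ^ 2 = 1 := fun z hz => by
    by_cases a : z = i
    · exact Or.inr (a ▸ T.si)
    by_cases b : z = j
    · exact Or.inr (b ▸ T.sj)
    by_cases c : z = k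
    · exact Or.inr (c ▸ T.sk)
    exact Or.inl (T.zero z hz a b c)
  rcases hμ x hx with bx | bx <;> rcases hμ y hy.2 with by' | by'
  · simp [bx, by'] at a3
  · refine ⟨y, x, hy.2.symm, hx.symm, by', bx, ?_, sx, fun z a b c => hz z a c b⟩
    rw [bx] at a3
    linear_combination (c μ y) * a3 - (c l y) * by'
  · refine ⟨x, y, hx.symm, hy.2.symm, bx, by', ?_, sy, hz⟩
    rw [by'] at a3
    linear_combination (c μ x) * a3 - (c l x) * bx
  · exfalso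
    rw [sq_eq_one_iff] at sx sy bx by'
    rcases sx with sx | sx <;> rcases sy with sy | sy <;> rcases bx with bx | bx <;>
      rcases by' with by' | by' <;> simp [sx, sy, bx, by'] at a3

theorem gram_two {l m : Λ} (h1 : l ≠ 1) (h2 : m ≠ 1) (h3 : l ≠ m) (h4 : l ≠ m⁻¹) :
    ∑ x, c l x * c m x = 2 := by
  rw [h.gram l m h1 h2, if_neg h3, if_neg h4]; rfl

theorem dec_ne {l m : Λ} {j w j' w' : ι} (D : Dec c o μ l j w) (D' : Dec c o μ m j' w')
    (hj : j ≠ j') : l ≠ m ∧ l ≠ m⁻¹ := by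
  have h1 := D'.zero' D.oj D.sj hj
  have h2 : c l j ≠ 0 := fun e => by have := D.sj; rw [← D.cj, e] at this; simp at this
  exact ⟨fun e => h2 (e ▸ h1), fun e => h2 (by rw [e, h.c_inv, h1])⟩

theorem dec_eq {l m : Λ} {j w j' w' : ι} (h1 : l ≠ 1) (h2 : m ≠ 1) (D : Dec c o μ l j w)
    (D' : Dec c o μ m j' w') (hj : j ≠ j') : w = w' ∧ c l w = c m w := by
  have a := h.gram_two h1 h2 (h.dec_ne D D' hj).1 (h.dec_ne D D' hj).2
  rw [D.sum (fun x hx => by simp [hx]), h.c_o l h1, h.c_o m h2, D'.zero' D.oj D.sj hj] at a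
  refine ⟨by_contra fun hn => ?_, by linear_combination (-c l w) * a + (c m w) * D.sw⟩
  rw [D'.zero w D.ow.symm (fun e => by have := D'.sj; rw [← e, D.zw] at this; simp at this) hn]
    at a
  simp at a

theorem dec_deg {l : Λ} {j w : ι} (h1 : l ≠ 1) (D : Dec c o μ l j w) :
    c μ j * d j + c l w * d w = 1 := by
  have a := h.deg l
  rw [D.sum (fun x hx => by simp [hx]), h.c_o l h1, h.d_o, D.cj] at a
  linarith

theorem tri_deg {i j k : ι} (T : Tri c o μ i j k) :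
    c μ i * d i + c μ j * d j + c μ k * d k = 1 := by
  have a := h.deg μ
  rw [T.sum (fun x hx => by simp [hx]), h.c_o μ h.mu_ne, h.d_o] at a
  linarith

theorem dec_cls {l : Λ} {j w : ι} (h1 : l ≠ 1) (D : Dec c o μ l j w) :
    -1 + (c μ j : ℚ) * (v j) ^ 2 / d j + (c l w : ℚ) * (v w) ^ 2 / d w = κ := by
  have a := h.cls l h1
  rw [D.sum (fun x hx => by simp [hx]), h.c_o l h1, h.d_o, h.v_o, D.cj] at a
  rw [← a]; norm_num

theorem tri_cls {i j k : ι} (T : Tri c o μ i j k) :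
    -1 + (c μ i : ℚ) * (v i) ^ 2 / d i + (c μ j : ℚ) * (v j) ^ 2 / d j +
      (c μ k : ℚ) * (v k) ^ 2 / d k = κ := by
  have a := h.cls μ h.mu_ne
  rw [T.sum (fun x hx => by simp [hx]), h.c_o μ h.mu_ne, h.d_o, h.v_o] at a
  rw [← a]; norm_num

theorem dec_unique {l m : Λ} {j w j' w' : ι} (h1 : l ≠ 1) (h1' : l ≠ μ) (h2 : m ≠ 1)
    (h2' : m ≠ μ) (D : Dec c o μ l j w) (D' : Dec c o μ m j' w') : j = j' := by
  by_contra hj
  obtain ⟨rfl, hw⟩ := h.dec_eq h1 h2 D D' hj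
  have hd : ∀ {l m : Λ} {j j' w w' : ι}, l ≠ 1 → m ≠ 1 → Dec c o μ l j w → Dec c o μ m j' w' →
      j ≠ j' → c μ j * d j = c μ j' * d j' := fun h1 h2 D D' hj => by
    obtain ⟨rfl, hw⟩ := h.dec_eq h1 h2 D D' hj
    have a := h.dec_deg h1 D
    have b := h.dec_deg h2 D'
    rw [hw] at a
    linarith
  have hsame : ∀ {l m r : Λ} {j j' w u : ι}, l ≠ 1 → m ≠ 1 → r ≠ 1 → l ≠ μ → Dec c o μ l j w →
      Dec c o μ m j' w → Dec c o μ r j u → j ≠ j' → r = l ∨ r = l⁻¹ := by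
    intro l m r j j' w u h1 h2 h3 h1' D D' D'' hj
    by_contra hn
    push Not at hn
    obtain ⟨rfl, e1⟩ := h.dec_eq h3 h2 D'' D' hj
    obtain ⟨-, e2⟩ := h.dec_eq h1 h2 D D' hj
    have a := h.gram_two h3 h1 hn.1 hn.2
    rw [D''.sum (fun x hx => by simp [hx]), h.c_o l h1, h.c_o r h3, D.cj, D''.cj, e1, ← e2, ← sq,
      ← sq, ← sq, D.sj, D.sw] at a
    norm_num at a
  have hall : ∀ r, r = 1 ∨ r = μ ∨ r = l ∨ r = l⁻¹ ∨ r = m ∨ r = m⁻¹ := by
    intro r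
    by_contra hn
    push Not at hn
    obtain ⟨k, u, D''⟩ := h.exists_dec hn.1 hn.2.1
    have k1 : k ≠ j := by
      rintro rfl
      rcases hsame h1 h2 hn.1 h1' D D' D'' hj with e | e
      · exact hn.2.2.1 e
      · exact hn.2.2.2.1 e
    have k2 : k ≠ j' := by
      rintro rfl
      rcases hsame h2 h1 hn.1 h2' D' D D'' (Ne.symm hj) with e | e
      · exact hn.2.2.2.2.1 e
      · exact hn.2.2.2.2.2 e
    have e1 := hd h1 h2 D D' hj
    have e2 := hd hn.1 h1 D'' D k1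
    obtain ⟨a, b, c', T⟩ := h.exists_tri
    have e3 := h.tri_deg (T.of_sq D.sj D'.sj D''.sj D.oj D'.oj D''.oj hj k1.symm k2.symm)
    omega
  have hl : l ≠ l⁻¹ := fun e => by rcases (h.mu_iff l).1 e with e | e <;> contradiction
  have hm : m ≠ m⁻¹ := fun e => by rcases (h.mu_iff m).1 e with e | e <;> contradiction
  obtain ⟨n1, n2⟩ := h.dec_ne D D' hj
  have hsum : ∀ F : Λ → ℤ, ∑ r, F r = F 1 + F μ + F l + F l⁻¹ + F m + F m⁻¹ := by
    intro F
    have b1 : μ ≠ l⁻¹ := fun e => h1' (by rw [← inv_inv l, ← e, ← h.mu_inv])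
    have b2 : μ ≠ m⁻¹ := fun e => h2' (by rw [← inv_inv m, ← e, ← h.mu_inv])
    have b3 : l⁻¹ ≠ m := fun e => n2 (by rw [← e, inv_inv])
    have : (univ : Finset Λ) = {1, μ, l, l⁻¹, m, m⁻¹} := by
      ext r; simpa using hall r
    rw [this, sum_insert (by simp [h.mu_ne.symm, h1.symm, h2.symm, h1, h2]),
      sum_insert (by simp [h1'.symm, h2'.symm, b1, b2]), sum_insert (by simp [hl, n1, n2]),
      sum_insert (by simp [b3, n1]), sum_pair hm]
    ring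
  have v1 := h.val j
  have v2 := h.val j'
  have v3 := h.e_sum
  rw [hsum, h.c_inv, h.c_inv, h.e_inv, h.e_inv, h.c_one, D.cj, D'.zero' D.oj D.sj hj] at v1
  rw [hsum, h.c_inv, h.c_inv, h.e_inv, h.e_inv, h.c_one, D'.cj,
    D.zero' D'.oj D'.sj (Ne.symm hj)] at v2
  rw [hsum, h.e_inv, h.e_inv, h.e_one] at v3
  have s1 := h.dec_cls h1 D
  have s2 := h.dec_cls h2 D'
  have e1 := hd h1 h2 D D' hj
  have s3 : (c μ j : ℚ) * (v j) ^ 2 / d j = (c μ j' : ℚ) * (v j') ^ 2 / d j' := by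
    rw [hw] at s1; linarith
  have p1 := h.d_pos j
  have p2 := h.d_pos j'
  have q1 : (d j : ℚ) ≠ 0 := by exact_mod_cast p1.ne'
  have q2 : (d j' : ℚ) ≠ 0 := by exact_mod_cast p2.ne'
  rw [div_eq_div_iff q1 q2] at s3
  have s4 : c μ j * v j ^ 2 * d j' = c μ j' * v j' ^ 2 * d j := by exact_mod_cast s3
  have t1 := sq_eq_one_iff.1 D.sj
  have t2 := sq_eq_one_iff.1 D'.sj
  rcases t1 with t1 | t1 <;> rcases t2 with t2 | t2 <;> rw [t1] at v1 e1 s4 <;>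
    rw [t2] at v2 e1 s4 <;> rcases h.e_sq μ with a | a <;> rcases h.e_sq l with b | b <;>
    rcases h.e_sq m with c | c <;> rw [a, b] at v1 v3 <;> rw [a, c] at v2 <;> rw [c] at v3 <;>
    rw [v1, v2] at s4 <;> ring_nf at s4 <;> omega

theorem exists_tri_dec : ∃ i j k, Tri c o μ i j k ∧ ∀ l, l ≠ 1 → l ≠ μ → ∃ w, Dec c o μ l i w := by
  obtain ⟨i, j, k, T⟩ := h.exists_tri
  by_cases hex : ∃ l, l ≠ 1 ∧ l ≠ μ
  · obtain ⟨l, h1, h2⟩ := hex
    obtain ⟨a, w, D⟩ := h.exists_dec h1 h2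
    have key : ∀ m, m ≠ 1 → m ≠ μ → ∃ w, Dec c o μ m a w := fun m h3 h4 => by
      obtain ⟨b, u, D'⟩ := h.exists_dec h3 h4
      exact ⟨u, h.dec_unique h3 h4 h1 h2 D' D ▸ D'⟩
    rcases T.cases D.sj D.oj with rfl | rfl | rfl
    · exact ⟨_, _, _, T, key⟩
    · exact ⟨_, _, _, T.swap, key⟩
    · exact ⟨_, _, _, T.rot, key⟩
  · push Not at hex
    exact ⟨i, j, k, T, fun l h1 h2 => absurd (hex l h1) h2⟩

section Main

variable {i j k : ι} (T : Tri c o μ i j k) (D : ∀ l, l ≠ 1 → l ≠ μ → ∃ w, Dec c o μ l i w)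
include T D

theorem c_i {l : Λ} (h1 : l ≠ 1) : c l i = c μ i := by
  by_cases h2 : l = μ
  · rw [h2]
  · exact (D l h1 h2).choose_spec.cj

theorem c_j {l : Λ} (h2 : l ≠ μ) : c l j = 0 := by
  by_cases h1 : l = 1
  · rw [h1, h.c_one]
  · exact (D l h1 h2).choose_spec.zero' T.oj T.sj T.ij.symm

theorem c_k {l : Λ} (h2 : l ≠ μ) : c l k = 0 := by
  by_cases h1 : l = 1
  · rw [h1, h.c_one]
  · exact (D l h1 h2).choose_spec.zero' T.ok T.sk T.ik.symm

theorem v_i : v i = -c μ i := by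
  have a := h.e_sum
  rw [← add_sum_erase _ _ (mem_univ 1), h.e_one] at a
  rw [h.val, ← add_sum_erase _ _ (mem_univ 1), h.c_one,
    sum_congr rfl fun l hl => by rw [h.c_i T D (mem_erase.1 hl).1], ← mul_sum]
  linear_combination (c μ i) * a

theorem v_j : v j = c μ j * e μ := by
  rw [h.val, sum_eq_single μ (fun l _ hl => by rw [h.c_j T D hl, zero_mul]) (by simp)]

theorem v_k : v k = c μ k * e μ := by
  rw [h.val, sum_eq_single μ (fun l _ hl => by rw [h.c_k T D hl, zero_mul]) (by simp)]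

theorem cls_eq : -1 + ((c μ i * d i : ℤ) : ℚ)⁻¹ + ((c μ j * d j : ℤ) : ℚ)⁻¹ +
    ((c μ k * d k : ℤ) : ℚ)⁻¹ = κ := by
  have key : ∀ x, c μ x ^ 2 = 1 → v x ^ 2 = 1 →
      (c μ x : ℚ) * (v x) ^ 2 / d x = ((c μ x * d x : ℤ) : ℚ)⁻¹ := fun x h1 h2 => by
    have : ((v x : ℚ)) ^ 2 = 1 := by exact_mod_cast h2
    rw [this]
    rcases sq_eq_one_iff.1 h1 with e | e <;> simp [e, div_eq_mul_inv]
  have e2 : e μ ^ 2 = 1 := sq_eq_one_iff.2 (h.e_sq μ)
  rw [← h.tri_cls T, key i T.si (by rw [h.v_i T D, neg_sq, T.si]),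
    key j T.sj (by rw [h.v_j T D, mul_pow, T.sj, e2, mul_one]),
    key k T.sk (by rw [h.v_k T D, mul_pow, T.sk, e2, mul_one])]

theorem deg_eq {l : Λ} (h1 : l ≠ 1) (h2 : l ≠ μ) : c μ j * d j = c μ k * d k := by
  obtain ⟨w, D'⟩ := D l h1 h2
  have a1 := h.at_t l
  rw [D'.sum (fun x hx => by simp [hx]), h.c_o l h1, h.v_o, D'.cj, h.v_i T D] at a1
  have a2 : v w ^ 2 = 4 := by
    have b1 : c l w * v w = 2 * e l := by linear_combination a1 + T.si
    have b2 : e l ^ 2 = 1 := sq_eq_one_iff.2 (h.e_sq l)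
    linear_combination (c l w * v w + 2 * e l) * b1 + 4 * b2 - v w ^ 2 * D'.sw
  have a3 := h.dec_cls h1 D'
  have a4 := h.cls_eq T D
  have a5 := h.dec_deg h1 D'
  have a6 := h.tri_deg T
  have b1 : ((v w : ℚ)) ^ 2 = 4 := by exact_mod_cast a2
  have b2 : ((v i : ℚ)) ^ 2 = 1 := by
    have : v i ^ 2 = 1 := by rw [h.v_i T D, neg_sq, T.si]
    exact_mod_cast this
  have key : ∀ (x y : ℤ) (r : ℚ), x ^ 2 = 1 → (x : ℚ) * r / y = r * ((x * y : ℤ) : ℚ)⁻¹ :=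
    fun x y r h1 => by rcases sq_eq_one_iff.1 h1 with e | e <;> simp [e, div_eq_mul_inv]
  rw [b1, b2, key _ _ _ T.si, key _ _ _ D'.sw] at a3
  have n1 : ∀ x, c μ x ^ 2 = 1 → c μ x * d x ≠ 0 := fun x hx =>
    mul_ne_zero (fun e => by simp [e] at hx) (h.d_pos x).ne'
  have n2 := n1 j T.sj
  have n3 := n1 k T.sk
  have n4 : c l w * d w ≠ 0 :=
    mul_ne_zero (fun e => by have := D'.sw; simp [e] at this) (h.d_pos w).ne'
  have e1 : c l w * d w = c μ j * d j + c μ k * d k := by linarith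
  rw [e1] at a3 n4
  generalize c μ j * d j = y at *
  generalize c μ k * d k = z at *
  have q2 : (y : ℚ) ≠ 0 := by exact_mod_cast n2
  have q3 : (z : ℚ) ≠ 0 := by exact_mod_cast n3
  have q4 : (y : ℚ) + z ≠ 0 := by exact_mod_cast n4
  have a7 : 4 * ((y : ℚ) + z)⁻¹ = (y : ℚ)⁻¹ + (z : ℚ)⁻¹ := by push_cast at a3 a4; linarith
  field_simp at a7
  have a8 : ((y : ℚ) - z) ^ 2 = 0 := by linear_combination -a7
  have : (y : ℚ) = z := sub_eq_zero.1 (pow_eq_zero_iff two_ne_zero |>.1 a8)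
  exact_mod_cast this

end Main

end Ab

/-- the case of a four-group -/
theorem four_case {x y z i : ℤ} (hs : x + y + z = 1) (hx : x ∣ 4 * i) (hy : y ∣ 4 * i)
    (hz : z ∣ 4 * i) (ox : x % 2 = 1) (oy : y % 2 = 1) (oz : z % 2 = 1) (oi : i % 2 = 1)
    (hi : 0 < i) (h : -1 + (x : ℚ)⁻¹ + (y : ℚ)⁻¹ + (z : ℚ)⁻¹ = -8 / i) :
    x = y ∨ x = z ∨ y = z := by
  have q1 : (x : ℚ) ≠ 0 := by exact_mod_cast (by omega : x ≠ 0)
  have q2 : (y : ℚ) ≠ 0 := by exact_mod_cast (by omega : y ≠ 0)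
  have q3 : (z : ℚ) ≠ 0 := by exact_mod_cast (by omega : z ≠ 0)
  have q4 : (i : ℚ) ≠ 0 := by exact_mod_cast hi.ne'
  field_simp at h
  have h1 : (-(x * y * z) + y * z + x * z + x * y) * i = -(8 * x * y * z) := by
    have : ((-(x * y * z) + y * z + x * z + x * y) * i : ℚ) = -(8 * x * y * z) := by
      linear_combination h
    exact_mod_cast this
  obtain ⟨a, rfl⟩ : ∃ a, x = 2 * a + 1 := ⟨x / 2, by omega⟩
  obtain ⟨b, rfl⟩ : ∃ b, y = 2 * b + 1 := ⟨y / 2, by omega⟩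
  obtain ⟨c, rfl⟩ : ∃ c, z = 2 * c + 1 := ⟨z / 2, by omega⟩
  have h2 : i * (a * b * c) = (2 * a + 1) * (2 * b + 1) * (2 * c + 1) := by
    have : c = -1 - a - b := by omega
    subst this
    nlinarith
  have n1 : a ≠ 0 := by
    rintro rfl
    simp only [mul_zero, zero_mul, zero_add, one_mul, zero_eq_mul] at h2
    omega
  have n2 : b ≠ 0 := by
    rintro rfl
    simp only [mul_zero, zero_mul, zero_add, mul_one, zero_eq_mul] at h2
    omega
  have n3 : c ≠ 0 := by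
    rintro rfl
    simp only [mul_zero, zero_mul, zero_add, mul_one, zero_eq_mul] at h2
    omega
  have b1 : ∀ a : ℤ, a ≠ 0 → |2 * a + 1| ≤ 3 * |a| := fun a ha => by
    rcases abs_cases (2 * a + 1) with e | e <;> rcases abs_cases a with f | f <;> omega
  have h3 : i ≤ 27 := by
    have e1 : i * (|a| * |b| * |c|) = |2 * a + 1| * |2 * b + 1| * |2 * c + 1| := by
      rw [← abs_mul, ← abs_mul, ← abs_mul, ← abs_mul, ← h2, abs_mul i, abs_of_pos hi]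
    have e2 : |2 * a + 1| * |2 * b + 1| * |2 * c + 1| ≤ 3 * |a| * (3 * |b|) * (3 * |c|) := by
      gcongr
      exacts [b1 a n1, b1 b n2, b1 c n3]
    have e3 : 0 < |a| * |b| * |c| := by positivity
    nlinarith
  have key : ∀ a : ℤ, 2 * a + 1 ∣ 4 * i → 2 * a + 1 ∣ i := fun a ha =>
    IsCoprime.dvd_of_dvd_mul_left ⟨1 - 2 * a, a * a, by ring⟩ ha
  have k1 := key a hx
  have k2 := key b hy
  have k3 := key c hz
  have l1 := Int.le_of_dvd hi ((abs_dvd _ _).2 k1)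
  have l2 := Int.le_of_dvd hi ((abs_dvd _ _).2 k2)
  rw [abs_le] at l1 l2
  have : c = -1 - a - b := by omega
  subst this
  have a1 : -14 ≤ a := by omega
  have a2 : a ≤ 13 := by omega
  have a3 : -14 ≤ b := by omega
  have a4 : b ≤ 13 := by omega
  clear h h1 q1 q2 q3 q4 hx hy hz b1 key hs ox oy oz
  interval_cases a <;> interval_cases b <;> omega

theorem final_num {a z i : ℤ} (ha : 0 < a) (hi : 0 < i) (hz : a ∣ z - 1) (h1 : z ≠ 0)
    (h : -1 + ((1 - 2 * z : ℤ) : ℚ)⁻¹ + (z : ℚ)⁻¹ + (z : ℚ)⁻¹ = -(2 * a ^ 2) / i) :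
    ∃ ε : ℤ, (ε = 1 ∨ ε = -1) ∧ z = 1 + a * ε ∧ i = (1 + a * ε) * (1 + 2 * a * ε) := by
  obtain ⟨c, hc⟩ := hz
  obtain rfl : z = 1 + a * c := by linarith
  have q1 : ((1 + a * c : ℤ) : ℚ) ≠ 0 := by exact_mod_cast h1
  have q2 : ((1 - 2 * (1 + a * c) : ℤ) : ℚ) ≠ 0 := by exact_mod_cast (by omega : 1 - 2 * (1 + a * c) ≠ 0)
  have q3 : (i : ℚ) ≠ 0 := by exact_mod_cast hi.ne'
  have q4 : (a : ℚ) ≠ 0 := by exact_mod_cast ha.ne'
  field_simp at h
  have h2 : i * c ^ 2 = (1 + a * c) * (1 + 2 * a * c) := by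
    have : (a : ℚ) ^ 2 * (i * c ^ 2) = a ^ 2 * ((1 + a * c) * (1 + 2 * a * c)) := by
      push_cast at h
      linear_combination (1 / 2 : ℚ) * h
    exact_mod_cast mul_left_cancel₀ (pow_ne_zero 2 q4) this
  have h3 : c ∣ 1 := ⟨i * c - 3 * a - 2 * a ^ 2 * c, by linear_combination -h2⟩
  have h4 := Int.isUnit_iff.1 (isUnit_of_dvd_one h3)
  refine ⟨c, h4, rfl, ?_⟩
  rcases h4 with e | e <;> rw [e] at h2 ⊢ <;> linarith

end Cfsg.GW

set_option linter.all false in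
theorem Cfsg.Rz.GW_BswN_0 : True := by
  have := @_root_.Cfsg.GW.Ab.Tri.mk.congr_simp.{0, 0}
  have := @_root_.Cfsg.GW.Ab.mk.congr_simp.{0, 0}
  have := @_root_.Cfsg.GW.Ab.congr_simp.{0, 0}
  have := @_root_.Cfsg.GW.Ab.Dec.mk.congr_simp.{0, 0}
  trivial
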