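import Cfsg.Agent.GW.BswA
import Cfsg.Agent.GW.BswN
import Cfsg.Agent.Char.BrauerApp

/-! # Brauer-Suzuki-Wall: exceptional characters -/

set_option autoImplicit false
set_option linter.unusedSectionVars false
set_option linter.unusedVariables false
set_option linter.style.haveILetI false

namespace Cfsg.GW

open Subgroup Cfsg.Agent.FT
open scoped ComplexConjugate

universe u

variable {G : Type u} [Group G] [Finite G]

/-- `(l - 1)^G` -/
noncomputable def phi (A : Subgroup G) (l : A →* ℂˣ) : G → ℂ :=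
  ind A.subtype ((fun u => (l u : ℂ)) - fun _ => 1)

theorem phi_isGen (A : Subgroup G) (l : A →* ℂˣ) : IsGeneralizedCharacter G (phi A l) :=
  ((isCharacter_linear l).isGen.sub IsCharacter.one.isGen).ind _

theorem phi_of_not_cs {A : Subgroup G} (l : A →* ℂˣ) {g : G} (hg : ¬ Cs A g) : phi A l g = 0 := by
  refine ind_apply_eq_zero' _ fun u hu => ?_
  obtain ⟨c, hc⟩ := isConj_iff.1 hu
  have : g = 1 := by_contra fun e => hg ⟨e, c, hc ▸ u.2⟩
  have : u = 1 := Subtype.ext (by simpa [this] using hc.symm)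
  simp [this]

theorem ip_phi (A : Subgroup G) (l : A →* ℂˣ) {χ : G → ℂ} (hχ : IsCharacter G χ) :
    ip (phi A l) χ = ip (χ ∘ A.subtype) (fun u => (l u : ℂ)) - ip (χ ∘ A.subtype) (fun _ => 1) := by
  rw [phi, ip_ind_left _ _ hχ.isClassFunction, ip_sub_left,
    (isCharacter_linear l).ip_comm (hχ.comp _), IsCharacter.one.ip_comm (hχ.comp _)]

theorem apply_eq_sum_phi {A : Subgroup G} [IsMulCommutative A] [Fintype (A →* ℂˣ)] {χ : G → ℂ}
    (hχ : IsCharacter G χ) (u : A) :
    χ u = ∑ l : A →* ℂˣ, ip (phi A l) χ * l u +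
      ip (χ ∘ A.subtype) (fun _ => 1) * ∑ l : A →* ℂˣ, (l u : ℂ) := by
  have h1 := (hχ.comp A.subtype).isClassFunction.apply_eq_sum u
  rw [← Equiv.sum_comp (IrrCharacter.dualEquiv A)] at h1
  simp only [ip_phi A _ hχ, sub_mul, Finset.sum_sub_distrib, Finset.mul_sum, sub_add_cancel]
  exact h1

theorem ip_phi_one {A : Subgroup G} {l : A →* ℂˣ} (hl : l ≠ 1) :
    ip (phi A l) (fun _ => 1) = -1 := by
  classical
  rw [ip_phi A l IsCharacter.one]
  have h1 := ip_linear_linear (1 : A →* ℂˣ) l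
  have h2 := ip_linear_linear (1 : A →* ℂˣ) 1
  rw [if_neg hl.symm] at h1
  rw [if_pos rfl] at h2
  simp only [MonoidHom.one_apply, Units.val_one] at h1 h2
  change ip (fun _ : A => (1 : ℂ)) _ - ip (fun _ : A => (1 : ℂ)) _ = _
  rw [h1, h2]; simp

theorem ordProj_dvd_of_eq_mul {N m q p : ℕ} (hp : p.Prime) (hN : N = m * q) (h0 : N ≠ 0)
    (hm : ¬ p ∣ m) : p ^ N.factorization p ∣ q := by
  subst hN
  rw [Nat.factorization_mul (left_ne_zero_of_mul h0) (right_ne_zero_of_mul h0), Finsupp.add_apply,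
    Nat.factorization_eq_zero_of_not_dvd hm, zero_add]
  exact Nat.ordProj_dvd q p

namespace Gd

variable {A : Subgroup G} {t : G} (h : Gd A t)
include h

theorem isComm : IsMulCommutative A := isMulCommutative_iff_forall.2 h.comm

theorem phi_apply (l : A →* ℂˣ) (u : A) : phi A l u = l u + (l⁻¹ : A →* ℂˣ) u - 2 := by
  classical
  cases nonempty_fintype G
  by_cases hu : u = 1
  · rw [phi_of_not_cs l fun e => e.1 (by simp [hu]), hu]; norm_num
  have hu' : (u : G) ≠ 1 := fun e => hu (Subtype.ext e)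
  rw [phi, ind_subtype_apply]
  set θ : A → ℂ := (fun u => (l u : ℂ)) - fun _ => 1 with hθ
  have h1 : ∀ x : G, extendByZero A θ (x⁻¹ * u * x) =
      (if x ∈ A then θ u else 0) + if x ∈ 𝓒[t] ∧ x ∉ A then θ u⁻¹ else 0 := by
    intro x
    by_cases a : x ∈ A
    · rw [h.comm _ (inv_mem a) _ u.2, inv_mul_cancel_right, extendByZero_coe]; simp [a]
    by_cases b : x ∈ 𝓒[t]
    · have := h.inv x⁻¹ (inv_mem b) (by simpa using a) u u.2
      rw [inv_inv] at this
      rw [this, ← InvMemClass.coe_inv, extendByZero_coe]; simp [a, b]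
    · rw [extendByZero_of_notMem]
      · simp [a, b]
      · intro e
        exact b (by simpa using h.ti u u.2 hu' x⁻¹ (by simpa using e))
  have c1 : (Finset.univ.filter (· ∈ A)).card = Nat.card A := by
    rw [Nat.card_eq_fintype_card, Fintype.card_subtype]
  have c2 : (Finset.univ.filter (· ∈ (𝓒[t] : Subgroup G))).card = 2 * Nat.card A := by
    rw [← h.card, Nat.card_eq_fintype_card, Fintype.card_subtype]
  have c3 : (Finset.univ.filter fun x => x ∈ (𝓒[t] : Subgroup G) ∧ x ∉ A).card = Nat.card A := by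
    have := Finset.card_filter_add_card_filter_not (s := Finset.univ.filter (· ∈ (𝓒[t] : Subgroup G)))
      (· ∈ A)
    rw [Finset.filter_filter, Finset.filter_filter, c2,
      Finset.filter_congr (q := (· ∈ A)) fun x _ => ⟨fun e => e.2, fun e => ⟨h.le e, e⟩⟩, c1] at this
    omega
  simp only [h1, Finset.sum_add_distrib, ← Finset.sum_filter, Finset.sum_const, c1, c3,
    nsmul_eq_mul]
  have := natCard_cast_ne_zero A
  field_simp
  simp [hθ]
  ring

theorem phi_inv (l : A →* ℂˣ) : phi A l⁻¹ = phi A l := by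
  funext g
  by_cases hg : Cs A g
  · obtain ⟨-, c, hc⟩ := hg
    rw [← (phi_isGen A l).isClassFunction g c, ← (phi_isGen A l⁻¹).isClassFunction g c]
    refine (h.phi_apply _ ⟨_, hc⟩).trans (Eq.trans ?_ (h.phi_apply _ ⟨_, hc⟩).symm)
    rw [show l⁻¹⁻¹ = l from inv_inv l]; ring
  · rw [phi_of_not_cs _ hg, phi_of_not_cs _ hg]

theorem ip_phi_phi [DecidableEq (A →* ℂˣ)] {l m : A →* ℂˣ} (hl : l ≠ 1) (hm : m ≠ 1) :
    ip (phi A l) (phi A m) = 2 + (if l = m then 1 else 0) + if l = m⁻¹ then 1 else 0 := by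
  have e : phi A m ∘ A.subtype = (fun u => (m u : ℂ)) + (fun u => ((m⁻¹ : A →* ℂˣ) u : ℂ)) -
      (fun u => ((1 : A →* ℂˣ) u : ℂ)) - fun u => ((1 : A →* ℂˣ) u : ℂ) := by
    funext u
    simp only [Function.comp_apply, Subgroup.subtype_apply, h.phi_apply, Pi.sub_apply, Pi.add_apply,
      MonoidHom.one_apply, Units.val_one]
    ring
  rw [phi, ip_ind_left _ _ (phi_isGen A m).isClassFunction, e]
  change ip (_ - fun u => ((1 : A →* ℂˣ) u : ℂ)) _ = _
  have hm' : (1 : A →* ℂˣ) ≠ m⁻¹ := fun e => hm ((@inv_eq_one (A →* ℂˣ) _ m).1 e.symm)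
  simp only [ip_sub_left, ip_sub_right, ip_add_right, ip_linear_linear, if_neg hl, if_neg hm.symm,
    if_neg hm', if_true]
  ring

theorem sum_wInv_phi [Fintype G] {l : A →* ℂˣ} (hl : l ≠ 1) :
    ∑ g, (wInv t g : ℂ) * phi A l g = -(Nat.card A * Nat.card G) := by
  have h1 := ip_phi_one hl
  rw [ip_def] at h1
  simp only [map_one, mul_one] at h1
  have h2 : ∀ g, (wInv t g : ℂ) * phi A l g = Nat.card A * phi A l g := fun g => by
    by_cases hg : Cs A g
    · rw [h.wInv_of_cs hg]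
    · rw [phi_of_not_cs _ hg, mul_zero, mul_zero]
  have := natCard_cast_ne_zero G
  simp only [h2, ← Finset.mul_sum]
  field_simp at h1
  rw [h1]; ring

theorem exists_mu : ∃ μ : A →* ℂˣ, μ ≠ 1 ∧ ∀ l : A →* ℂˣ, l = l⁻¹ ↔ l = 1 ∨ l = μ := by
  have := h.isComm
  letI : CommGroup A := { (inferInstance : Group A) with mul_comm := mul_comm' }
  obtain ⟨e⟩ := nonempty_linear_mulEquiv_of_commGroup A
  refine ⟨e.symm ⟨t, h.mem⟩, fun h1 => h.ne_one ?_, fun l => ?_⟩
  · have := congrArg e h1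
    rw [e.apply_symm_apply, map_one] at this
    exact congrArg Subtype.val this
  · have : l = l⁻¹ ↔ l * l = 1 := @eq_inv_iff_mul_eq_one (A →* ℂˣ) _ l l
    rw [this, ← e.injective.eq_iff, map_mul, map_one, e.eq_symm_apply,
      ← e.injective.eq_iff, map_one]
    constructor
    · intro h1
      by_cases h2 : e l = 1
      · exact Or.inl h2
      · exact Or.inr (Subtype.ext (h.uniq _ (e l).2 (orderOf_eq_two_of_mul_self
          (congrArg Subtype.val h1) fun h3 => h2 (Subtype.ext h3))))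
    · rintro (h1 | h1)
      · rw [h1, one_mul]
      · rw [h1]; exact Subtype.ext (mul_self_of_orderOf_eq_two h.ord)

theorem exists_ab [Fintype (A →* ℂˣ)] [DecidableEq (A →* ℂˣ)] :
    ∃ (c : (A →* ℂˣ) → IrrCharacter G → ℤ) (v : IrrCharacter G → ℤ) (e : (A →* ℂˣ) → ℤ)
      (μ : A →* ℂˣ), Ab c (IrrCharacter.one G) (fun χ => charDegree χ.1) v e μ
        (-(2 * (Nat.card A : ℤ) ^ 2) / ((𝓒[t] : Subgroup G).index : ℤ)) ∧
        ∀ l χ, ip (phi A l) χ.1 = c l χ := by
  classical
  cases nonempty_fintype G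
  have := h.isComm
  choose c hc using fun (l : A →* ℂˣ) (χ : IrrCharacter G) =>
    (phi_isGen A l).exists_ip_eq_int χ.2.isCharacter.isGen
  obtain ⟨μ, hμ1, hμ2⟩ := h.exists_mu
  set t' : A := ⟨t, h.mem⟩ with ht'
  have ht1 : t' ≠ 1 := fun e => h.ne_one (congrArg Subtype.val e)
  let e : (A →* ℂˣ) → ℤ := fun l => if l t' = 1 then 1 else -1
  have he : ∀ l, (e l : ℂ) = l t' := fun l => by
    by_cases a : l t' = 1
    · simp [e, a]
    · have : (l t' : ℂ) ^ 2 = 1 := by
        rw [← Units.val_pow_eq_pow_val, ← map_pow, pow_two,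
          show t' * t' = 1 from Subtype.ext (mul_self_of_orderOf_eq_two h.ord), map_one,
          Units.val_one]
      simp [e, a, (sq_eq_one_iff.1 this).resolve_left (by simpa using a)]
  have hs : ∑ l : A →* ℂˣ, (l t' : ℂ) = 0 := by
    rw [sum_linear_apply, if_neg (by rw [_root_.commutator_eq_bot]; simpa using ht1)]
  have hv : ∀ χ : IrrCharacter G, ((∑ l, c l χ * e l : ℤ) : ℂ) = χ t := fun χ => by
    have := apply_eq_sum_phi χ.2.isCharacter t'
    rw [hs, mul_zero, add_zero] at this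
    push_cast
    simp only [he, ← hc]
    exact this.symm
  have hφ : ∀ l g, phi A l g = ∑ χ, (c l χ : ℂ) * χ g := fun l g => by
    simp only [← hc]
    exact (phi_isGen A l).isClassFunction.apply_eq_sum g
  refine ⟨c, fun χ => ∑ l, c l χ * e l, e, μ, ⟨fun l m hl hm => ?_, fun l hl => ?_, fun χ => ?_,
    fun l => ?_, fun l => ?_, by simp, fun χ => by exact_mod_cast χ.charDegree_pos, fun _ => rfl,
    ?_, fun l => ?_, fun l => ?_, by simp [e], fun l => by simp [e], ?_, fun l hl => ?_, hμ1, hμ2⟩,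
    hc⟩
  · have := (phi_isGen A l).isClassFunction.ip_eq_sum (phi_isGen A m).isClassFunction
    simp only [hc, map_intCast] at this
    rw [h.ip_phi_phi hl hm] at this
    apply Int.cast_injective (α := ℂ)
    push_cast
    exact this.symm
  · have := ip_phi_one hl
    apply Int.cast_injective (α := ℂ)
    rw [← hc]; exact_mod_cast this
  · apply Int.cast_injective (α := ℂ)
    rw [← hc, ip_phi A 1 χ.2.isCharacter]
    simp
  · funext χ
    apply Int.cast_injective (α := ℂ)
    rw [← hc, ← hc, h.phi_inv]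
  · have := hφ l 1
    rw [phi_of_not_cs l fun e => e.1 rfl] at this
    apply Int.cast_injective (α := ℂ)
    push_cast
    simp only [← IrrCharacter.apply_one]
    exact this.symm
  · apply Int.cast_injective (α := ℂ)
    rw [hv]; simp
  · apply Int.cast_injective (α := ℂ)
    have h1 := hφ l t
    have h2 := h.phi_apply l t'
    have h3 : ((l⁻¹ : A →* ℂˣ) t' : ℂ) = l t' := by rw [← he, ← he]; simp [e]
    simp only [← hv] at h1
    rw [h3, ← he] at h2
    rw [Int.cast_sum]
    simp only [Int.cast_mul (c l _)]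
    rw [← h1]
    push_cast
    exact h2.trans (by ring)
  · by_cases a : l t' = 1 <;> simp [e, a]
  · apply Int.cast_injective (α := ℂ)
    push_cast
    simp only [he, hs]
  · have h1 := (phi_isGen A l).isClassFunction.sum_class_mul_class t t
    rw [sum_pairs_eq, h.sum_wInv_phi hl, h.card_eq] at h1
    have h2 : ((𝓒[t] : Subgroup G).index : ℂ) ≠ 0 := by exact_mod_cast index_ne_zero_of_finite
    apply Rat.cast_injective (α := ℂ)
    simp only [hc, ← hv, IrrCharacter.apply_one] at h1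
    push_cast at h1 ⊢
    simp only [pow_two, mul_div_assoc]
    field_simp
    field_simp at h1
    linear_combination -h1

end Gd

/-- The output of the character theory: `X = ± ` the Steinberg character. -/
structure Ch [Fintype G] (A : Subgroup G) (t : G) (n q : ℕ) (ε : ℤ) (X : G → ℂ) : Prop where
  eps : ε = 1 ∨ ε = -1
  hn : (n : ℤ) = Nat.card A + ε
  hq : q = Nat.card A + n
  index : (𝓒[t] : Subgroup G).index = n * q
  one : X 1 = ε * q
  cs : ∀ g, Cs A g → X g = 1
  sum : ∑ g, X g = 0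
  wsum : ∑ g, (wInv t g : ℂ) * X g = ε * n ^ 2 * q
  typeQ : ∀ p : ℕ, p.Prime → p ∣ q → ∀ g, p ∣ orderOf g → X g = 0
  typeT : ∀ p : ℕ, p.Prime → p ∣ n → ∀ g, p ∣ orderOf g → ¬ Cs A g → X g = -1

theorem coprime_of_eps {a n q : ℕ} {ε : ℤ} (he : ε = 1 ∨ ε = -1) (hn : (n : ℤ) = a + ε)
    (hq : q = a + n) (h2 : 2 ∣ a) : (2 * a).Coprime n ∧ (2 * a).Coprime q ∧ n.Coprime q := by
  obtain ⟨b, rfl⟩ := h2
  subst hq
  simp only [← Nat.isCoprime_iff_coprime]
  push_cast at hn ⊢
  rw [hn]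
  rcases he with rfl | rfl
  · exact ⟨⟨b, 1 - 2 * b, by ring⟩, ⟨-1, 1, by ring⟩, ⟨2, -1, by ring⟩⟩
  · exact ⟨⟨b, -1 - 2 * b, by ring⟩, ⟨1, -1, by ring⟩, ⟨-2, 1, by ring⟩⟩

theorem Gd.exists_ch [Fintype G] {A : Subgroup G} {t : G} (h : Gd A t) :
    ∃ n q ε X, Ch A t n q ε X := by
  classical
  letI := Fintype.ofFinite (A →* ℂˣ)
  have := h.isComm
  obtain ⟨c, v, e, μ, H, hc⟩ := h.exists_ab
  have hcard : Fintype.card (A →* ℂˣ) = Nat.card A := by
    rw [← Nat.card_eq_fintype_card, card_linear_of_comm fun a b => mul_comm' a b]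
  have hmod : ∀ χ : IrrCharacter G, ∃ m : ℤ,
      (charDegree χ.1 : ℤ) = ∑ l, c l χ + m * Nat.card A := fun χ => by
    obtain ⟨m, hm⟩ := (χ.2.isCharacter.comp A.subtype).isGen.exists_ip_eq_int
      (IsCharacter.one (G := A)).isGen
    have h1 := apply_eq_sum_phi χ.2.isCharacter (1 : A)
    simp only [hm, hc, map_one, Units.val_one, mul_one, Finset.sum_const, Finset.card_univ, hcard,
      nsmul_eq_mul, OneMemClass.coe_one] at h1
    refine ⟨m, Int.cast_injective (α := ℂ) ?_⟩
    push_cast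
    rw [← h1, IrrCharacter.apply_one]
  have hi0 : 0 < ((𝓒[t] : Subgroup G).index : ℤ) := by exact_mod_cast index_pos _
  have ha2 : 2 ≤ Nat.card A := Nat.le_of_dvd Nat.card_pos h.two_dvd
  obtain ⟨i, j, k, T, D, hjk⟩ : ∃ i j k, Ab.Tri c (IrrCharacter.one G) μ i j k ∧
      (∀ l, l ≠ 1 → l ≠ μ → ∃ w, Ab.Dec c (IrrCharacter.one G) μ l i w) ∧
      c μ j * charDegree j.1 = c μ k * charDegree k.1 := by
    obtain ⟨i, j, k, T, D⟩ := H.exists_tri_dec
    by_cases hex : ∃ l, l ≠ 1 ∧ l ≠ μ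
    · obtain ⟨l, h1, h2⟩ := hex
      exact ⟨i, j, k, T, D, H.deg_eq T D h1 h2⟩
    push Not at hex
    have hu : (Finset.univ : Finset (A →* ℂˣ)) = {1, μ} := by
      ext l; simpa [or_iff_not_imp_left] using hex l
    have ha : Nat.card A = 2 := by
      rw [← hcard, ← Finset.card_univ, hu, Finset.card_pair H.mu_ne.symm]
    have hG := h.card_eq
    have key : ∀ x : IrrCharacter G, c μ x ^ 2 = 1 →
        c μ x * charDegree x.1 ∣ 4 * ((𝓒[t] : Subgroup G).index : ℤ) ∧
          (c μ x * charDegree x.1) % 2 = 1 := fun x hx => by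
      obtain ⟨m, hm⟩ := hmod x
      rw [hu, Finset.sum_pair H.mu_ne.symm, H.c_one, ha] at hm
      have h1 := x.charDegree_dvd_card
      rw [hG, ha] at h1
      have h2 : (charDegree x.1 : ℤ) ∣ 4 * ((𝓒[t] : Subgroup G).index : ℤ) := by exact_mod_cast h1
      rcases sq_eq_one_iff.1 hx with e | e <;> rw [e] at hm ⊢ <;> refine ⟨by simpa using h2, ?_⟩ <;>
        push_cast at hm <;> omega
    have h3 := H.cls_eq T D
    rw [ha] at h3
    have h4 := h.odd
    have D' : ∀ x l, l ≠ 1 → l ≠ μ → ∃ w, Ab.Dec c (IrrCharacter.one G) μ l x w :=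
      fun x l h1 h2 => absurd (hex l h1) h2
    rcases four_case (H.tri_deg T) (key i T.si).1 (key j T.sj).1 (key k T.sk).1 (key i T.si).2
      (key j T.sj).2 (key k T.sk).2 (by omega) hi0 (by rw [h3]; norm_num) with e | e | e
    · exact ⟨k, i, j, T.rot, D' k, e⟩
    · exact ⟨j, i, k, T.swap, D' j, e⟩
    · exact ⟨i, j, k, T, D, e⟩
  have d1 := H.tri_deg T
  have d2 := H.cls_eq T D
  obtain ⟨m, hm⟩ := hmod j
  rw [Finset.sum_eq_single μ (fun l _ hl => H.c_j T D hl) (by simp)] at hm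
  rw [← hjk] at d1 d2
  have d3 : c μ i * charDegree i.1 = 1 - 2 * (c μ j * charDegree j.1) := by linarith
  rw [d3] at d2
  have pj := H.d_pos j
  have pi := H.d_pos i
  have pk := H.d_pos k
  obtain ⟨ε, he, e1, e2⟩ := final_num (a := Nat.card A) (z := c μ j * charDegree j.1)
    (by omega) hi0 ⟨m * c μ j, by rw [hm]; linear_combination T.sj⟩
    (mul_ne_zero (fun e => by simpa [e] using T.sj) pj.ne') d2
  have hn : (charDegree j.1 : ℤ) = Nat.card A + ε := by
    rcases he with rfl | rfl <;> rcases sq_eq_one_iff.1 T.sj with e | e <;> rw [e] at e1 <;> omega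
  have hn' : charDegree k.1 = charDegree j.1 := by
    rw [hjk] at e1
    rcases he with rfl | rfl <;> rcases sq_eq_one_iff.1 T.sk with e | e <;> rw [e] at e1 <;> omega
  have hq : charDegree i.1 = Nat.card A + charDegree j.1 ∧ c μ i = -ε := by
    rw [e1] at d3
    rcases he with rfl | rfl <;> rcases sq_eq_one_iff.1 T.si with e | e <;> rw [e] at d3 ⊢ <;> omega
  have hε : ε ^ 2 = 1 := sq_eq_one_iff.2 he
  have hidx : (𝓒[t] : Subgroup G).index = charDegree j.1 * charDegree i.1 := by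
    apply Nat.cast_injective (R := ℤ)
    rw [e2, hq.1]
    push_cast
    rw [hn]
    linear_combination (2 * (Nat.card A : ℤ) ^ 2 - 1) * hε
  obtain ⟨co1, co2, co3⟩ := coprime_of_eps he hn hq.1 h.two_dvd
  have hG := h.card_eq
  rw [hidx] at hG
  have hε' : (ε : ℂ) ^ 2 = 1 := by exact_mod_cast hε
  have hcs : ∀ g, Cs A g → (ε : ℂ) * i g = 1 := by
    rintro g ⟨h1, y, hy⟩
    have h2 : (⟨_, hy⟩ : A) ≠ 1 := fun e => h1 (by simpa using congrArg Subtype.val e)
    have h3 := apply_eq_sum_phi i.2.isCharacter ⟨_, hy⟩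
    have h4 : ∑ l : A →* ℂˣ, (l ⟨_, hy⟩ : ℂ) = 0 := by
      rw [sum_linear_apply, if_neg (by rw [_root_.commutator_eq_bot]; simpa using h2)]
    rw [h4, mul_zero, add_zero, ← Finset.add_sum_erase _ _ (Finset.mem_univ 1), hc, H.c_one,
      Finset.sum_congr rfl fun l hl => by rw [hc, H.c_i T D (Finset.mem_erase.1 hl).1],
      ← Finset.mul_sum, hq.2] at h3
    rw [← Finset.add_sum_erase _ _ (Finset.mem_univ 1)] at h4
    rw [← i.isClassFunction g y]
    simp only [MonoidHom.one_apply, Units.val_one] at h4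
    push_cast at h3
    linear_combination (ε : ℂ) * h3 - (ε : ℂ) ^ 2 * h4 + hε'
  refine ⟨charDegree j.1, charDegree i.1, ε, fun g => ε * i g, he, hn, hq.1, hidx,
    by rw [i.apply_one], hcs, ?_, ?_, fun p hp hd g hg => ?_, fun p hp hd g hg hn => ?_⟩
  · have h1 := IrrCharacter.ip_of_ne T.oi.symm
    rw [ip_def] at h1
    have := natCard_cast_ne_zero G
    rw [← Finset.mul_sum]
    change _ * ∑ g, i g * conj 1 = 0 at h1
    simp only [map_one, mul_one, mul_eq_zero, inv_eq_zero, this, false_or] at h1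
    rw [h1, mul_zero]
  · have h1 := i.isClassFunction.sum_class_mul_class t t
    rw [sum_pairs_eq, Finset.sum_eq_single i (fun χ _ hχ => by
      rw [IrrCharacter.ip_of_ne hχ.symm, zero_mul]) (by simp), i.ip_self, hidx, i.apply_one] at h1
    have h2 := hcs t (cs_of_mem h.mem h.ne_one)
    have h3 : (charDegree i.1 : ℂ) ≠ 0 := by exact_mod_cast pi.ne'
    simp only [mul_left_comm _ (ε : ℂ), ← Finset.mul_sum]
    change (ε : ℂ) * ∑ g, (wInv t g : ℂ) * i.1 g = _
    rw [h1]
    have h4 : i t * i t = 1 := by linear_combination (ε * i t + 1) * h2 - i t * i t * hε'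
    rw [h4]
    push_cast
    field_simp
  · have : Fact p.Prime := ⟨hp⟩
    rw [i.eq_zero_of_defect_zero p (ordProj_dvd_of_eq_mul hp (by rw [hG, ← mul_assoc])
      Nat.card_pos.ne' fun e => ?_) hg, mul_zero]
    exact hp.one_lt.ne' (Nat.eq_one_of_dvd_coprimes (co2.mul_left co3) e hd)
  · have : Fact p.Prime := ⟨hp⟩
    have h1 : p ^ (Nat.card G).factorization p ∣ charDegree j.1 :=
      ordProj_dvd_of_eq_mul (m := 2 * Nat.card A * charDegree i.1) hp (by rw [hG]; ring)
        Nat.card_pos.ne' fun e =>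
          hp.one_lt.ne' (Nat.eq_one_of_dvd_coprimes (co1.mul_left co3.symm) e hd)
    have h2 := j.eq_zero_of_defect_zero p h1 hg
    have h3 := k.eq_zero_of_defect_zero p (hn' ▸ h1) hg
    have h4 := (phi_isGen A μ).isClassFunction.apply_eq_sum g
    simp only [hc] at h4
    rw [phi_of_not_cs _ hn, T.sum (fun x hx => by simp [hx]), h2, h3, H.c_o μ H.mu_ne, hq.2] at h4
    simp only [IrrCharacter.one_apply] at h4
    push_cast at h4
    linear_combination h4

end Cfsg.GW

set_option linter.all false in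
theorem Cfsg.Rz.GW_BswB_0 : True := by
  have := @_root_.Cfsg.GW.Ch.mk.congr_simp.{0}
  have := @_root_.Cfsg.GW.phi.eq_def.{0}
  have := @_root_.Cfsg.GW.phi.fun_cases
  trivial
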