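import Cfsg.Agent.GW.BswB

/-! # Brauer-Suzuki-Wall: the elements not conjugate into `A` -/

set_option autoImplicit false
set_option linter.unusedSectionVars false
set_option linter.unusedVariables false
set_option linter.style.haveILetI false

namespace Cfsg.GW

open Subgroup Cfsg.Agent.FT

universe u

variable {G : Type u} [Group G] [Finite G]

/-- nonidentity elements not conjugate into `A` with centralizer order dividing `m` -/
def Ty (A : Subgroup G) (m : ℕ) (g : G) : Prop :=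
  g ≠ 1 ∧ ¬ Cs A g ∧ Nat.card (𝓒[g] : Subgroup G) ∣ m

theorem orderOf_dvd_card_cent (g : G) : orderOf g ∣ Nat.card (𝓒[g] : Subgroup G) :=
  (𝓒[g] : Subgroup G).orderOf_dvd_natCard (mem_cent1.2 rfl)

theorem Ty.conj {A : Subgroup G} {m : ℕ} {g : G} (h : Ty A m g) (x : G) : Ty A m (x * g * x⁻¹) :=
  ⟨by simpa using h.1, fun e => h.2.1 (cs_conj_iff.1 e),
    by rw [centralizer_singleton_conj, card_map_conj]; exact h.2.2⟩

theorem Ty.orderOf_dvd {A : Subgroup G} {m : ℕ} {g : G} (h : Ty A m g) : orderOf g ∣ m :=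
  (orderOf_dvd_card_cent g).trans h.2.2

theorem exists_prime_dvd_orderOf {g : G} (h : g ≠ 1) : ∃ p : ℕ, p.Prime ∧ p ∣ orderOf g :=
  Nat.exists_prime_and_dvd (mt orderOf_eq_one_iff.1 h)

theorem cc_of_comm {T : Subgroup G} (h1 : ∀ a ∈ T, ∀ b ∈ T, a * b = b * a)
    (h2 : ∀ z ∈ T, z ≠ 1 → Nat.card (𝓒[z] : Subgroup G) ≤ Nat.card T) : CC T := fun z hz e =>
  (eq_of_le_of_card_le (fun y hy => mem_cent1.2 (h1 y hy z hz)) (h2 z hz e)).symm

theorem CC.exists_conj {T T' : Subgroup G} (h : CC T) (h' : CC T') {p : ℕ} (hp : p.Prime)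
    (hd : p ∣ Nat.card T) (hi : ¬ p ∣ T.index) (hi' : ¬ p ∣ T'.index) : ∃ y, T :^ y = T' := by
  have : Fact p.Prime := ⟨hp⟩
  obtain ⟨P, hP⟩ := exists_sylow p T
  obtain ⟨P', hP'⟩ := exists_sylow p T'
  obtain ⟨y, -, hy⟩ := (hP.of_relIndex le_top (by simpa using hi)).exists_conj_eq
    (hP'.of_relIndex le_top (by simpa using hi'))
  have h0 := hP.ne_bot_iff.2 hd
  refine ⟨y, ?_⟩
  rw [← h.cent_eq hP.le h0, ← centralizer_map_conj, hy,
    h'.cent_eq hP'.le (by rw [← hy]; exact mt map_conj_eq_bot_iff.1 h0)]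

theorem ncard_isConj (g : G) : {y | IsConj g y}.ncard = (𝓒[g] : Subgroup G).index := by
  rw [← card_isConj_eq_index, ← Nat.card_coe_set_eq]; rfl

theorem mem_norm_cent_of_inv {u g : G} (h : u * g * u⁻¹ = g⁻¹) {z : G} (hz : z ∈ 𝓒[g]) :
    u * z * u⁻¹ ∈ 𝓒[g] := by
  have h1 : u * z * u⁻¹ ∈ 𝓒[u * g * u⁻¹] := by
    rwa [centralizer_singleton_conj, conj_mem_map_conj]
  rw [h] at h1
  exact mem_cent1.2 (Commute.inv_right_iff.1 (mem_cent1.1 h1))

theorem mem_of_odd_of_sq_mem {T : Subgroup G} {y : G} (hy : Odd (orderOf y)) (h : y * y ∈ T) :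
    y ∈ T := by
  obtain ⟨k, hk⟩ := hy
  have : (y * y) ^ (k + 1) = y := by
    rw [← sq, ← pow_mul, show 2 * (k + 1) = orderOf y + 1 by omega, pow_succ, pow_orderOf_eq_one,
      one_mul]
  exact this ▸ pow_mem h _

section

variable [Fintype G] {A : Subgroup G} {t : G} {n q : ℕ} {ε : ℤ} {X : G → ℂ} (h : Gd A t)
  (c : Ch A t n q ε X)
include h c

theorem Ch.coprime : (2 * Nat.card A).Coprime n ∧ (2 * Nat.card A).Coprime q ∧ n.Coprime q :=
  coprime_of_eps c.eps c.hn c.hq h.two_dvd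

theorem Ch.card : Nat.card G = 2 * Nat.card A * (n * q) := by rw [h.card_eq, c.index]

theorem Ch.n_pos : 0 < n := by
  have := index_pos (𝓒[t] : Subgroup G)
  rw [c.index] at this
  exact Nat.pos_of_mul_pos_right this

theorem Ch.two_le : 2 ≤ Nat.card A := Nat.le_of_dvd Nat.card_pos h.two_dvd

theorem Ch.sq : q ^ 2 = 4 * Nat.card A * n + 1 := by
  have h1 := c.hn
  have h2 := c.hq
  zify at h2 ⊢
  rw [h2, h1]
  rcases c.eps with e | e <;> rw [e] <;> ring

theorem Ch.cs_of_prime {z : G} (hz : (orderOf z).Prime) (hd : orderOf z ∣ 2 * Nat.card A) :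
    Cs A z := by
  by_cases h2 : orderOf z = 2
  · exact h.cs_of_two h2
  have : Fact (orderOf z).Prime := ⟨hz⟩
  obtain ⟨P, hP⟩ := exists_sylow (orderOf z) A
  have hi : A.index = 2 * (n * q) := by
    have := A.card_mul_index
    rw [c.card h, mul_comm 2, mul_assoc] at this
    exact Nat.eq_of_mul_eq_mul_left Nat.card_pos this
  obtain ⟨co1, co2, -⟩ := c.coprime h
  have hP' := hP.of_relIndex le_top (by
    rw [relIndex_top_right, hi]
    intro e
    rcases (Nat.Prime.dvd_mul hz).1 e with e | e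
    · exact h2 ((Nat.prime_dvd_prime_iff_eq hz Nat.prime_two).1 e)
    · exact hz.one_lt.ne' (Nat.eq_one_of_dvd_coprimes (co1.mul_right co2) hd e))
  obtain ⟨y, -, hy⟩ := hP'.exists_conj_le (pgroup_of_card (Nat.card_zpowers z)) le_top
  exact ⟨fun e => hz.one_lt.ne' (by rw [e, orderOf_one]), y,
    hP.le (hy (conj_mem_map_conj.2 (mem_zpowers z)))⟩

theorem Ch.card_cent_dvd {g : G} (h1 : g ≠ 1) (hg : ¬ Cs A g) :
    Nat.card (𝓒[g] : Subgroup G) ∣ n * q := by
  have : (Nat.card (𝓒[g] : Subgroup G)).Coprime (2 * Nat.card A) := by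
    refine Nat.coprime_of_dvd fun p hp a b => ?_
    have : Fact p.Prime := ⟨hp⟩
    obtain ⟨z, hz, rfl⟩ := exists_mem_orderOf_eq_prime a
    exact hg (h.cs_of_comm (c.cs_of_prime h hp b) (mem_cent1.1 hz).symm h1)
  exact this.dvd_of_dvd_mul_left (c.card h ▸ card_subgroup_dvd_card _)

theorem Ch.not_both {g : G} (hg : ¬ Cs A g) {p r : ℕ} (hp : p.Prime) (hr : r.Prime) (h1 : p ∣ n)
    (h2 : r ∣ q) (h3 : p ∣ orderOf g) (h4 : r ∣ orderOf g) : False := by
  have := (c.typeQ r hr h2 g h4).symm.trans (c.typeT p hp h1 g h3 hg)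
  norm_num at this

theorem Ch.ty_aux {m m' : ℕ} (hm : n * q = m * m') (co : m.Coprime m')
    (hb : ∀ g, ¬ Cs A g → ∀ p r : ℕ, p.Prime → r.Prime → p ∣ m → r ∣ m' → p ∣ orderOf g →
      r ∣ orderOf g → False) {g : G} (hg : ¬ Cs A g) {p : ℕ} (hp : p.Prime) (h1 : p ∣ m)
    (h2 : p ∣ orderOf g) : Ty A m g := by
  have hg1 : g ≠ 1 := fun e => hp.one_lt.ne' (by simpa [e] using h2)
  have : (Nat.card (𝓒[g] : Subgroup G)).Coprime m' := by
    refine Nat.coprime_of_dvd fun r hr a b => ?_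
    have : Fact r.Prime := ⟨hr⟩
    obtain ⟨z, hz, rfl⟩ := exists_mem_orderOf_eq_prime a
    have hc : Commute g z := (mem_cent1.1 hz).symm
    have h3 : (orderOf g).Coprime (orderOf z) :=
      ((Nat.Prime.coprime_iff_not_dvd hr).2 fun e => hb g hg p _ hp hr h1 b h2 e).symm
    have h4 := hc.orderOf_mul_eq_mul_orderOf_of_coprime h3
    exact hb (g * z) (fun e => hg (h.cs_of_comm e ((Commute.refl g).mul_right hc).eq hg1)) p _ hp
      hr h1 b (h4 ▸ h2.mul_right _) (h4 ▸ dvd_mul_left _ _)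
  exact ⟨hg1, hg, this.dvd_of_dvd_mul_right (hm ▸ c.card_cent_dvd h hg1 hg)⟩

theorem Ch.tyT {g : G} (hg : ¬ Cs A g) {p : ℕ} (hp : p.Prime) (h1 : p ∣ n)
    (h2 : p ∣ orderOf g) : Ty A n g :=
  c.ty_aux h rfl (c.coprime h).2.2 (fun g hg p r => c.not_both h hg) hg hp h1 h2

theorem Ch.tyQ {g : G} (hg : ¬ Cs A g) {p : ℕ} (hp : p.Prime) (h1 : p ∣ q)
    (h2 : p ∣ orderOf g) : Ty A q g :=
  c.ty_aux h (mul_comm _ _) (c.coprime h).2.2.symm
    (fun g hg p r hp hr a b d e => c.not_both h hg hr hp b a e d) hg hp h1 h2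

theorem Ch.cases {g : G} (h1 : g ≠ 1) (hg : ¬ Cs A g) : Ty A n g ∨ Ty A q g := by
  obtain ⟨p, hp, hd⟩ := exists_prime_dvd_orderOf h1
  exact ((Nat.Prime.dvd_mul hp).1 (hd.trans ((orderOf_dvd_card_cent g).trans
    (c.card_cent_dvd h h1 hg)))).imp (fun e => c.tyT h hg hp e hd) fun e => c.tyQ h hg hp e hd

theorem Ch.tyT_of_mem {g z : G} (hg : Ty A n g) (hz : z ∈ 𝓒[g]) (h1 : z ≠ 1) : Ty A n z := by
  obtain ⟨p, hp, hd⟩ := exists_prime_dvd_orderOf h1
  exact c.tyT h (fun e => hg.2.1 (h.cs_of_comm e (mem_cent1.1 hz).symm hg.1)) hp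
    (hd.trans ((orderOf_dvd_natCard _ hz).trans hg.2.2)) hd

theorem Ch.tyQ_of_mem {g z : G} (hg : Ty A q g) (hz : z ∈ 𝓒[g]) (h1 : z ≠ 1) : Ty A q z := by
  obtain ⟨p, hp, hd⟩ := exists_prime_dvd_orderOf h1
  exact c.tyQ h (fun e => hg.2.1 (h.cs_of_comm e (mem_cent1.1 hz).symm hg.1)) hp
    (hd.trans ((orderOf_dvd_natCard _ hz).trans hg.2.2)) hd

theorem Ch.tyQ_of_dvd {g : G} (h1 : g ≠ 1) (hg : orderOf g ∣ q) : Ty A q g := by
  obtain ⟨p, hp, hd⟩ := exists_prime_dvd_orderOf h1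
  exact c.tyQ h (fun e => hp.one_lt.ne' (Nat.eq_one_of_dvd_coprimes (c.coprime h).2.1
    (hd.trans ((h.orderOf_dvd e).mul_left 2)) (hd.trans hg))) hp (hd.trans hg) hd

theorem Ch.not_ty {g : G} (h1 : Ty A n g) (h2 : Ty A q g) : False :=
  h1.1 (orderOf_eq_one_iff.1
    (Nat.eq_one_of_dvd_coprimes (c.coprime h).2.2 h1.orderOf_dvd h2.orderOf_dvd))

theorem Ch.X_T {g : G} (hg : Ty A n g) : X g = -1 := by
  obtain ⟨p, hp, hd⟩ := exists_prime_dvd_orderOf hg.1
  exact c.typeT p hp (hd.trans hg.orderOf_dvd) g hd hg.2.1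

theorem Ch.X_Q {g : G} (hg : Ty A q g) : X g = 0 := by
  obtain ⟨p, hp, hd⟩ := exists_prime_dvd_orderOf hg.1
  exact c.typeQ p hp (hd.trans hg.orderOf_dvd) g hd

open Classical in
theorem Ch.sum_split (F : G → ℂ) : ∑ g, F g = F 1 + ∑ g with Cs A g, F g +
    ∑ g with Ty A n g, F g + ∑ g with Ty A q g, F g := by
  have : ∀ g, F g = (if g = 1 then F g else 0) + (if Cs A g then F g else 0) +
      (if Ty A n g then F g else 0) + if Ty A q g then F g else 0 := fun g => by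
    by_cases h1 : g = 1
    · rw [if_pos h1, if_neg fun e => e.1 h1, if_neg fun e => e.1 h1, if_neg fun e => e.1 h1]; simp
    by_cases h2 : Cs A g
    · rw [if_neg h1, if_pos h2, if_neg fun e => e.2.1 h2, if_neg fun e => e.2.1 h2]; simp
    rcases c.cases h h1 h2 with e | e
    · rw [if_neg h1, if_neg h2, if_pos e, if_neg (c.not_ty h e)]; simp
    · rw [if_neg h1, if_neg h2, if_pos e, if_neg fun e' => c.not_ty h e' e]; simp
  rw [Finset.sum_congr rfl fun g _ => this g]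
  simp only [Finset.sum_add_distrib, Finset.sum_filter, Finset.sum_ite_eq', Finset.mem_univ,
    if_true]

theorem Ch.counts : {g | Ty A n g}.ncard + Nat.card A * q = Nat.card A * q * n ∧
    {g | Ty A q g}.ncard + 1 = q ^ 2 ∧ ∀ g, Ty A n g → wInv t g = n := by
  classical
  have e0 : ∀ P : G → Prop, {g | P g}.ncard = (Finset.univ.filter P).card := fun P => by
    rw [Set.ncard_eq_toFinset_card', Set.toFinset_setOf]
  have hA := h.ncard
  rw [e0, c.index] at hA
  have h2 := c.two_le h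
  have hA' : ((Finset.univ.filter (Cs A)).card : ℂ) = (Nat.card A - 1) * (n * q) := by
    rw [hA]; push_cast [Nat.cast_sub (by omega : 1 ≤ Nat.card A)]; ring
  have s1 := c.sum_split h fun _ => 1
  have s2 := c.sum_split h X
  have s3 := c.sum_split h fun g => wInv t g * X g
  simp only [Finset.sum_const, Finset.card_univ, ← Nat.card_eq_fintype_card, nsmul_eq_mul,
    mul_one, hA', c.card h] at s1
  rw [c.sum, c.one, Finset.sum_congr rfl fun g hg => c.cs g (Finset.mem_filter.1 hg).2,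
    Finset.sum_congr rfl fun g hg => c.X_T h (Finset.mem_filter.1 hg).2,
    Finset.sum_congr rfl fun g hg => c.X_Q h (Finset.mem_filter.1 hg).2] at s2
  rw [c.wsum, c.one, h.wInv_one, c.index, Finset.sum_congr rfl fun g hg => by
      rw [c.cs g (Finset.mem_filter.1 hg).2, h.wInv_of_cs (Finset.mem_filter.1 hg).2],
    Finset.sum_congr (s₁ := Finset.univ.filter (Ty A n)) rfl fun g hg => by
      rw [c.X_T h (Finset.mem_filter.1 hg).2],
    Finset.sum_congr (s₁ := Finset.univ.filter (Ty A q)) rfl fun g hg => by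
      rw [c.X_Q h (Finset.mem_filter.1 hg).2]] at s3
  simp only [Finset.sum_const, nsmul_eq_mul, mul_one, hA', mul_zero, mul_neg,
    Finset.sum_neg_distrib] at s2 s3
  have hn : (n : ℂ) = Nat.card A + ε := by exact_mod_cast c.hn
  have hq : (q : ℂ) = Nat.card A + n := by exact_mod_cast c.hq
  have he : (ε : ℂ) ^ 2 = 1 := by exact_mod_cast sq_eq_one_iff.2 c.eps
  have r1 : ((Finset.univ.filter (Ty A n)).card : ℂ) + Nat.card A * q = Nat.card A * q * n := by
    linear_combination s2 - q * hn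
  refine ⟨by rw [e0]; exact_mod_cast r1, ?_, fun g hg => ?_⟩
  · rw [e0]
    have : ((Finset.univ.filter (Ty A q)).card : ℂ) + 1 = q ^ 2 := by
      push_cast at s1
      linear_combination -s1 - r1 - q * hq
    exact_mod_cast this
  · have r2 : ∑ g with Ty A n g, (wInv t g : ℂ) = (Finset.univ.filter (Ty A n)).card * n := by
      push_cast at s3
      linear_combination s3 - n * r1 + (ε * n * q) * hq - (Nat.card A * n * q) * hn
    have r3 : ∑ g with Ty A n g, wInv t g = ∑ g with Ty A n g, n := by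
      rw [Finset.sum_const, smul_eq_mul]; exact_mod_cast r2
    exact (Finset.sum_eq_sum_iff_of_le fun g hg => (wInv_le h.ord g).trans
      (Nat.le_of_dvd (c.n_pos h) (Finset.mem_filter.1 hg).2.2.2)).1 r3 g (by simpa using hg)

theorem Ch.comm_of_inverts {g u : G} (h1 : g ≠ 1) (hg : ¬ Cs A g) (hu : orderOf u = 2)
    (hi : u * g * u⁻¹ = g⁻¹) : ∀ a ∈ 𝓒[g], ∀ b ∈ 𝓒[g], a * b = b * a := fun a ha b hb =>
  GW.comm_of_inverts (fun z hz => inv_of_fpf (mul_self_of_orderOf_eq_two hu)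
    (fun _ => mem_norm_cent_of_inv hi) (fun y hy e => by_contra fun h2 =>
      hg (h.cs_of_comm (h.cs_of_comm (h.cs_of_two hu) e.symm h2) (mem_cent1.1 hy).symm h1)) hz)
    ha hb

theorem Ch.card_T {g : G} (hg : Ty A n g) : Nat.card (𝓒[g] : Subgroup G) = n :=
  le_antisymm (Nat.le_of_dvd (c.n_pos h) hg.2.2) ((c.counts h).2.2 g hg ▸ wInv_le h.ord g)

theorem Ch.cc_T {g : G} (hg : Ty A n g) : CC 𝓒[g] := by
  obtain ⟨u, hu, hi⟩ := exists_inv_of_wInv h.ord
    (by rw [(c.counts h).2.2 g hg]; exact (c.n_pos h).ne')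
  exact cc_of_comm (c.comm_of_inverts h hg.1 hg.2.1 hu hi) fun z hz e => by
    rw [c.card_T h hg, c.card_T h (c.tyT_of_mem h hg hz e)]

theorem Ch.ttype {g : G} (hg : Ty A n g) : TType n 𝓒[g] := by
  have hi : ∀ g, Ty A n g → (𝓒[g] : Subgroup G).index = 2 * Nat.card A * q := fun g hg => by
    have := (𝓒[g] : Subgroup G).card_mul_index
    rw [c.card_T h hg, c.card h] at this
    exact Nat.eq_of_mul_eq_mul_left (c.n_pos h) (by rw [this]; ring)
  obtain ⟨p, hp, hd⟩ := exists_prime_dvd_orderOf hg.1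
  obtain ⟨co1, co2, co3⟩ := c.coprime h
  have hp' : ¬ p ∣ 2 * Nat.card A * q := fun e => hp.one_lt.ne'
    (Nat.eq_one_of_dvd_coprimes (co1.mul_left co3.symm) e (hd.trans hg.orderOf_dvd))
  have h1 : {y | Ty A n y} = {y | Cs 𝓒[g] y} := by
    ext y
    constructor
    · intro hy
      obtain ⟨x, hx⟩ := (c.cc_T h hg).exists_conj (c.cc_T h hy) hp
        (hd.trans (orderOf_dvd_card_cent g)) (hi g hg ▸ hp') (hi y hy ▸ hp')
      refine ⟨hy.1, x⁻¹, ?_⟩
      rw [inv_inv, ← mem_map_conj, hx]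
      exact mem_cent1.2 rfl
    · rintro ⟨h2, x, hx⟩
      have := (c.tyT_of_mem h hg hx (by simpa using h2)).conj x⁻¹
      simpa [mul_assoc] using this
  have h2 := (c.counts h).1
  rw [h1, (c.cc_T h hg).ncard, c.card_T h hg] at h2
  have h3 : 1 < n := lt_of_lt_of_le hp.one_lt (Nat.le_of_dvd (c.n_pos h) (hd.trans hg.orderOf_dvd))
  obtain ⟨m, rfl⟩ : ∃ m, n = m + 1 := ⟨n - 1, by omega⟩
  have h4 : (𝓝((𝓒[g] : Subgroup G))).index = Nat.card A * q :=
    Nat.eq_of_mul_eq_mul_left (show 0 < m by omega) (by simp at h2; linarith)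
  refine ⟨c.cc_T h hg, c.card_T h hg, ?_⟩
  have h5 := (𝓝((𝓒[g] : Subgroup G))).card_mul_index
  have h6 := index_pos 𝓝((𝓒[g] : Subgroup G))
  rw [c.card h, h4] at *
  exact Nat.eq_of_mul_eq_mul_right h6 (by rw [h5]; ring)

end

end Cfsg.GW

set_option linter.all false in
theorem Cfsg.Rz.GW_BswC_0 : True := by
  have := @_root_.Cfsg.GW.Ty.eq_def.{0}
  have := @_root_.Cfsg.GW.Ty.eq_1.{0}
  have := @_root_.Cfsg.GW.Ty.fun_cases
  trivial
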