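import Cfsg.Agent.GW.AS
import Cfsg.Agent.GW.Bender

/-!
# `D`-groups

Work in `N̄ = N /ₛ 𝐎(N)` (`IsD8.quo`; `O(N̄) = 1`; `C_N̄(t̄)` is the image of `C_N(t)`,
`coprime_subcent1_quotient`).

`exists_AS`: `O_2(N) = 1` (a characteristic involution is central, and `C_N(t)` is solvable; if
`O_2(N) = V₄` then `C_N(V)` and `N/C_N(V) ≤ S₃` are solvable). A minimal normal subgroup is a product
of nonabelian simple groups, each with a four-group (`exists_base`), so it is simple; `C_N(L)` meets `L`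
trivially, has odd order (`mem_four`), so is trivial. `AS.perfect_le`: `N/L` has Sylow `2`-subgroups
of order `≤ 2`, so it is solvable.
Solvable case, `O(N) = 1`: `E = F(N) = O_2(N)` is self-centralizing, an odd `X ≠ 1` acts faithfully,
so `E = V₄` (the other subgroups of `D₈` have a characteristic series with factors of order `2`).
If `1 ≠ z ∈ E` normalizes `X` then `[z,X] ≤ E ∩ X = 1` and `X` centralizes `E`. Such `z` exists in
`C_E(t)` (`star`), resp. in `E ∩ V` (`exists_mem_four`).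
`DG.star`: `[Y,t] ≤ O(N)` from the quotient, then `comm_le_pcore` for `X = O(N)`, `[Y,t]`.
`DG.diamond`: `J ∩ O(N)` is Sylow in `O(N)` (`coprime_sylow_ge` in `O(N) J`); `J̄` is maximal in `N̄`.
`DG.exists_LT`: `C_N(O(N))` is normal and contains `t`, so its image contains `L̄`; let `L` be the last
term of the derived series of `N` (or of the preimage `L*` of `L̄`): `L O(N) = L*`, `[L, O(N)] = 1`,
`Z = L ∩ O(N) = Z(L)`. Involutions of `L*` lie in `L` and correspond bijectively to those of `L̄`.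
`O(C_L(a))` is abelian (cyclic over the centre), `= Z × Kc L a`, `Kc L a ≅ K(ā)`.
-/

set_option autoImplicit false

namespace Cfsg.GW

open Subgroup Cfsg.Agent.FT
open scoped commutatorElement

universe u

variable {G : Type u} [Group G] [Finite G] {N L : Subgroup G} {p : ℕ} {s t : G}

theorem sol_of_not_four_dvd {M : Subgroup G} (h : ¬ 4 ∣ Nat.card M) : Group.IsSolvable M := by
  have : Fact (Nat.Prime 2) := ⟨Nat.prime_two⟩
  obtain ⟨S, hS⟩ := exists_sylow 2 M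
  refine sol_of_npc (npc_of_cyclic hS ?_)
  obtain ⟨k, hk⟩ := hS.pgroup.exists_card_eq
  have h1 : k ≤ 1 := by
    by_contra h2
    exact h ((pow_dvd_pow 2 (show 2 ≤ k by omega)).trans (hk ▸ card_dvd_of_le hS.le))
  exact isCyclic_of_card_dvd_prime (p := 2) (hk ▸ by simpa using pow_dvd_pow 2 h1)

theorem IsD8.sol_quo (h : IsD8 N) {K : Subgroup G} (hK : K ⊴ N) (h4 : 4 ∣ Nat.card K) :
    Group.IsSolvable (N /ₛ K) :=
  sol_of_not_four_dvd fun e => h.1 (card_mul_card_quo hK ▸ Nat.mul_dvd_mul h4 e)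

theorem perfect_le_of_sol_quo {M K X : Subgroup G} (hK : M ≤ 𝓝(K))
    (hs : Group.IsSolvable (M /ₛ K)) (hX : X ≤ M) (hp : ⁅X, X⁆ = X) : X ≤ K := by
  refine (quo_eq_bot_iff (hX.trans hK)).1 (by_contra fun e => ?_)
  have := der_lt (sol_of_le hs (quo_mono hX)) e
  rw [← quo_comm (hX.trans hK) (hX.trans hK), hp] at this
  exact lt_irrefl _ this

theorem IsD8.exists_four (h : IsD8 L) (hs : ¬ Group.IsSolvable L) :
    ∃ S x s t, DihOf L S x s t := by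
  have : Fact (Nat.Prime 2) := ⟨Nat.prime_two⟩
  obtain ⟨S, hS⟩ := exists_sylow 2 L
  exact ⟨S, h.exists_dihOf_sylow hS fun e => hs (sol_of_npc (npc_of_cyclic hS e))⟩

theorem not_sol_of_simple (h1 : IsSimpleGroup L) (h2 : ¬ IsMulCommutative L) :
    ¬ Group.IsSolvable L := fun e => h2 ⟨⟨IsSimpleGroup.comm_iff_isSolvable.2 e⟩⟩

theorem exists_AS (h : IsD8 N) (h0 : 𝐎(N) = ⊥) (hs : ¬ Group.IsSolvable N) : ∃ L, AS N L := by
  have : Fact (Nat.Prime 2) := ⟨Nat.prime_two⟩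
  obtain ⟨L, hL, hL0, hn, hmin⟩ := exists_minnormal (A := N) (M := N) le_normalizer
    (by rintro rfl; exact hs inferInstance)
  have hLn : L ⊴ N := ⟨hL, hn⟩
  have hns : ¬ Group.IsSolvable L := by
    intro hsol
    obtain ⟨q, hq, hel⟩ := minnormal_solvable_abelem hn hsol hmin
    have he : 2 ∣ Nat.card L := by_contra fun e =>
      hL0 (le_bot_iff.1 (h0 ▸ le_core_of_normal hLn (odd_iff_not_two_dvd.2 e)))
    obtain ⟨z, hz, hz2⟩ := exists_mem_orderOf_eq_prime he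
    have hC := sol_of_npc (h.npc_cent (hL hz) hz2)
    by_cases h4 : 4 ∣ Nat.card L
    · have hK : N ⊓ 𝓒(L) ⊴ N := IsNormalOf.cent hn
      exact hs (isSolvable_of_quo hK.2 (sol_of_le hC (inf_le_inf_left _ (cent_le_cent1 hz)))
        (h.sol_quo hK (h4.trans (card_dvd_of_le (le_inf hL (comm_iff_le_cent.1 hel.1))))))
    · refine hs (sol_of_le hC (le_inf le_rfl fun g hg => mem_cent1.2 ?_))
      have : Fact q.Prime := ⟨hq⟩
      have hq2 : q = 2 := (hel.orderOf_eq hz (ne_one_of_ord hz2)).symm.trans hz2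
      subst hq2
      have h1 := hLn.conj_mem hg hz
      by_contra hne
      refine h4 (IsFour.card (t := z) (s := g * z * g⁻¹) ⟨hz2, by rw [orderOf_conj_eq, hz2],
        isMulCommutative_iff_forall.1 hel.1 _ hz _ h1,
        fun e => hne (mul_inv_eq_iff_eq_mul.1 e.symm)⟩ ▸ card_dvd_of_le (four_le_iff.2 ⟨hz, h1⟩))
  have hab : ¬ IsMulCommutative L := fun e => hns (sol_of_nil (nil_of_comm e))
  have hperf : ⁅L, L⁆ = L := (hmin _ (der_le L) (le_norm_comm hn hn)).resolve_left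
    fun e => hab (comm_iff_der.2 e)
  have hsimp : IsSimpleGroup L := by
    refine isSimpleGroup_subgroup_iff.2 ⟨hL0, fun T hT hTn => or_iff_not_imp_left.2 fun h1 => ?_⟩
    have h2 : ¬ Group.IsSolvable T := fun e => by
      have h3 := IsNormalOf.inf_fittingOf_ne_bot ⟨hT, hTn⟩ e h1
      have h4 := (hmin _ (fittingOf_le L) (hLn.fittingOf).2).resolve_left
        fun e => h3 (by rw [e, bot_inf_eq])
      exact hns (sol_of_nil (fittingOf_eq_self_iff.1 h4))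
    exact le_antisymm hT (perfect_le_of_sol_quo hTn ((h.of_le hL).sol_quo ⟨hT, hTn⟩
      (by_contra fun e => h2 (sol_of_not_four_dvd e))) le_rfl hperf)
  refine ⟨L, h, hLn, hsimp, hab, le_bot_iff.1 (h0 ▸ le_core_of_normal (IsNormalOf.cent hn)
    (odd_iff_not_two_dvd.2 fun e => ?_))⟩
  obtain ⟨z, hz, hz2⟩ := exists_mem_orderOf_eq_prime e
  obtain ⟨S, x, s, t, hd⟩ := (h.of_le hL).exists_four hns
  have h1 := hd.syl.le hd.t_mem'
  have h2 := hd.syl.le hd.s_mem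
  have h3 := four_le_iff.2 ⟨h1, h2⟩ (h.mem_four hd.isFour (hL h1) (hL h2) hz.1
    (isPElt_two_of_orderOf hz2) (mem_cent_sub.1 hz.2 _ h1).symm (mem_cent_sub.1 hz.2 _ h2).symm)
  rcases hmin _ inf_le_left (le_norm_center hn) with e | e
  · exact ne_one_of_ord hz2 (mem_bot.1 (e ▸ mem_inf.2 ⟨h3, hz.2⟩))
  · exact hab (comm_iff_le_cent.2 (e.ge.trans inf_le_right))

theorem AS.perfect_le (h : AS N L) {X : Subgroup G} (hX : X ≤ N) (hp : ⁅X, X⁆ = X) : X ≤ L :=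
  perfect_le_of_sol_quo h.normal.2 (h.d8.sol_quo h.normal (by_contra fun e =>
    not_sol_of_simple h.simple h.nonab (sol_of_not_four_dvd e))) hX hp

theorem AS.known (h : AS N L) (ih : IH.{u} (Nat.card N + 1)) :
    A7r L ∨ ∃ a n q, L2r L a n q :=
  known_rel (h.d8.of_le h.normal.1) (ih L (Nat.lt_succ_of_le (card_le_of_le h.normal.1)) h.simple
    h.nonab (h.d8.of_le h.normal.1))

theorem IsD8.le_core_of_cent (h : IsD8 N) (hsol : Group.IsSolvable N) (ht : t ∈ N)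
    (ho : orderOf t = 2) {X : Subgroup G} (hX : X ≤ N ⊓ 𝓒[t]) (ho' : Odd (Nat.card X)) :
    X ≤ 𝐎(N) := by
  have : Fact (Nat.Prime 2) := ⟨Nat.prime_two⟩
  have := p'core_cent_pgroup (p := 2) hsol (zpowers_le.2 ht)
    (pgroup_of_card (by rw [Nat.card_zpowers, ho]))
  rw [centralizer_zpowers] at this
  exact (le_core_of_npc (h.npc_cent ht ho) hX ho').trans this

theorem IsD8.le_core_of_four (h : IsD8 N) (hsol : Group.IsSolvable N) (ht : t ∈ N) (hs : s ∈ N)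
    (h4 : IsFour t s) {X : Subgroup G} (hX : X ≤ N) (ho : Odd (Nat.card X))
    (hn : four t s ≤ 𝓝(X)) : X ≤ 𝐎(N) := by
  have key : ∀ v ∈ N, orderOf v = 2 → X ⊓ 𝓒[v] ≤ 𝐎(N) := fun v hv h2 =>
    h.le_core_of_cent hsol hv h2 (inf_le_inf_right _ hX) (ho.of_dvd_nat (card_dvd_of_le inf_le_left))
  exact le_of_four ho h4 (hn (left_mem_four t s)) (hn (right_mem_four t s)) (key t ht h4.ord_left)
    (key s hs h4.ord_right) (key _ (mul_mem ht hs) h4.mul.ord_right)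

section Quo

variable {O : Subgroup G}

theorem orderOf_coset {y : G} (hy : y ∈ 𝓝(O)) (h : ∀ z ∈ zpowers y, z ∈ O → z = 1) :
    orderOf (coset O ⟨y, hy⟩) = orderOf y := by
  refine orderOf_eq_orderOf_iff.2 fun n => ?_
  rw [← map_pow, coset_eq_one]
  exact ⟨h _ (pow_mem (mem_zpowers y) n), fun e => by
    change y ^ n ∈ O; rw [e]; exact O.one_mem⟩

theorem eq_one_of_mem_odd (hO : Odd (Nat.card O)) {z : G} (hz : z ∈ O) (h : z * z = 1) : z = 1 :=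
  eq_one_of_odd (odd_orderOf hO hz) h

theorem orderOf_coset_two (hO : Odd (Nat.card O)) (hy : t ∈ 𝓝(O)) (h : orderOf t = 2) :
    orderOf (coset O ⟨t, hy⟩) = 2 := by
  rw [orderOf_coset hy fun z hz h1 => ?_, h]
  rcases eq_one_or_of_mul_self (mul_self_of_orderOf_eq_two h) hz with e | e
  · exact e
  · exact eq_one_of_mem_odd hO h1 (e ▸ mul_self_of_orderOf_eq_two h)

theorem IsFour.coset (h : IsFour t s) (hO : Odd (Nat.card O)) (ht : t ∈ 𝓝(O)) (hs : s ∈ 𝓝(O)) :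
    IsFour (coset O ⟨t, ht⟩) (coset O ⟨s, hs⟩) := by
  refine ⟨orderOf_coset_two hO ht h.ord_left, orderOf_coset_two hO hs h.ord_right,
    Commute.map (Subtype.ext h.comm.eq) _, fun e => h.mul_ne_one ?_⟩
  rw [coset_eq_iff, inv_eq_of_mul_eq_one_right h.tt] at e
  exact eq_one_of_mem_odd hO e h.mul_mul

theorem quo_four (ht : t ∈ 𝓝(O)) (hs : s ∈ 𝓝(O)) :
    four t s /ₛ O = four (coset O ⟨t, ht⟩) (coset O ⟨s, hs⟩) := by
  rw [four, four, quo_sup (zpowers_le.2 ht) (zpowers_le.2 hs), ← quo_zpowers, ← quo_zpowers]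

theorem quo_cent_two (hO : Odd (Nat.card O)) (hle : O ≤ N) (ht : t ∈ 𝓝(O)) (h : orderOf t = 2) :
    (N /ₛ O) ⊓ 𝓒[coset O ⟨t, ht⟩] = (N ⊓ 𝓒[t]) /ₛ O :=
  coprime_subcent1_quotient ⟨t, ht⟩
    (coprime_orderOf_of_odd hO (mul_self_of_orderOf_eq_two h)) hle

theorem quo_le_cent1 {Y : Subgroup G} (ht : t ∈ 𝓝(O)) (h : Y ≤ 𝓒[t]) :
    Y /ₛ O ≤ 𝓒[coset O ⟨t, ht⟩] := (quo_mono h).trans (mim_cent1_le ⟨t, ht⟩)

theorem comm_le_of_quo_le_cent1 {Y : Subgroup G} (ht : t ∈ 𝓝(O)) (hY : Y ≤ 𝓝(O))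
    (h : Y /ₛ O ≤ 𝓒[coset O ⟨t, ht⟩]) : ⁅Y, zpowers t⁆ ≤ O := by
  rw [← centralizer_zpowers, ← quo_zpowers, quo_le_cent_iff hY (zpowers_le.2 ht),
    commutator_comm] at h
  exact h

end Quo

theorem DG.quo (h : DG N) : DG (N /ₛ 𝐎(N)) :=
  ⟨h.d8.quo (piCoreOf_normalOf _ N).2 (odd_core N), h.ih.mono (Nat.succ_le_succ (card_quo_le _ _))⟩

theorem DG.exists_AS (h : DG N) (hs : ¬ Group.IsSolvable N) :
    ∃ L, AS (N /ₛ 𝐎(N)) L ∧ (A7r L ∨ ∃ a n q, L2r L a n q) := by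
  obtain ⟨L, hL⟩ := GW.exists_AS h.quo.d8 (piCoreOf_quo_piCoreOf _ N) fun e =>
    hs (isSolvable_of_quo (piCoreOf_normalOf _ N).2 (sol_of_odd (odd_core N)) e)
  exact ⟨L, hL, hL.known h.quo.ih⟩

theorem IsD8.eq_bot_of_norm (h : IsD8 N) (hsol : Group.IsSolvable N) (h0 : 𝐎(N) = ⊥) (ht : t ∈ N)
    (ho : orderOf t = 2) {Y : Subgroup G} (hY : Y ≤ N) (hYo : Odd (Nat.card Y))
    (hn : N ⊓ 𝓒[t] ≤ 𝓝(Y)) : Y = ⊥ := by
  have : Fact (Nat.Prime 2) := ⟨Nat.prime_two⟩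
  set E := piCoreOf {2} N with hE
  have hEn : E ⊴ N := piCoreOf_normalOf _ N
  have hE0 : E ≠ ⊥ := by
    rw [hE, ← fittingOf_eq_pcore h0]
    exact fittingOf_ne_bot hsol fun e => ne_one_of_ord ho (mem_bot.1 (e ▸ ht))
  have hP : IsPGroup 2 (zpowers t ⊔ E : Subgroup G) := pgroup_sup
    (pgroup_of_card (by rw [Nat.card_zpowers, ho])) (pgroup_piCoreOf 2 N)
    ((zpowers_le.2 ht).trans hEn.2)
  have h1 := meet_center_nil (nil_of_pgroup hP)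
    (hEn.mono le_sup_right (sup_le (zpowers_le.2 ht) hEn.1)) hE0
  obtain ⟨z, hz, hz2⟩ := exists_mem_orderOf_eq_prime (p := 2) (H := E ⊓ 𝓒(zpowers t ⊔ E)) (by
    obtain ⟨k, hk⟩ := ((pgroup_piCoreOf 2 N).to_le
      (inf_le_left : E ⊓ 𝓒(zpowers t ⊔ E) ≤ E)).exists_card_eq
    exact hk ▸ dvd_pow_self 2 (by rintro rfl; exact h1 (card_eq_one.1 hk)))
  have h2 : z ∈ 𝓝(Y) := hn ⟨hEn.1 hz.1, cent_le_cent1 (mem_sup_left (mem_zpowers t)) hz.2⟩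
  have h3 : E ⊓ Y = ⊥ := inf_eq_bot_of_coprime ((pgroup_piCoreOf 2 N).exists_card_eq.elim
    fun k hk => hk ▸ (Nat.coprime_two_left.2 hYo).pow_left k)
  refine le_bot_iff.1 (h0 ▸ h.le_core_of_cent hsol (hEn.1 hz.1) hz2 (le_inf hY ?_) hYo)
  rw [← centralizer_zpowers, le_cent_iff_comm, ← le_bot_iff, ← h3]
  exact le_inf ((commutator_mono le_rfl (zpowers_le.2 hz.1)).trans (comm_le_right (hY.trans hEn.2)))
    (comm_le_left (zpowers_le.2 h2))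

theorem DG.star [Fact p.Prime] (h : DG N) (ht : t ∈ N) (ho : orderOf t = 2) (hp : p ≠ 2)
    {Y : Subgroup G} (hY : Y ≤ N) (hYp : IsPGroup p Y) (hn : N ⊓ 𝓒[t] ≤ 𝓝(Y)) :
    ⁅Y, zpowers t⁆ ≤ piCoreOf {p} N := by
  have hO : 𝐎(N) ⊴ N := piCoreOf_normalOf _ N
  have hYo := odd_of_pgroup hp hYp
  have h2 := mul_self_of_orderOf_eq_two ho
  have htY : t ∈ 𝓝(Y) := hn ⟨ht, mem_cent1.2 rfl⟩
  have hn' : (N /ₛ 𝐎(N)) ⊓ 𝓒[coset 𝐎(N) ⟨t, hO.2 ht⟩] ≤ 𝓝(Y /ₛ 𝐎(N)) := by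
    rw [quo_cent_two (odd_core N) hO.1 _ ho]; exact quo_le_norm hn
  have ho' := orderOf_coset_two (odd_core N) (hO.2 ht) ho
  have h1 : ⁅Y, zpowers t⁆ ≤ 𝐎(N) := by
    refine comm_le_of_quo_le_cent1 (hO.2 ht) (hY.trans hO.2) ?_
    by_cases hs : Group.IsSolvable N
    · rw [h.quo.d8.eq_bot_of_norm (isSolvable_quo hs _) (piCoreOf_quo_piCoreOf _ N)
        (coset_mem_quo ht) ho' (quo_mono hY) (odd_card_quo hYo _) hn']
      exact bot_le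
    · obtain ⟨L, hL, hk⟩ := h.exists_AS hs
      exact hL.star hk (coset_mem_quo ht) ho' hp (quo_mono hY) (isPGroup_quo hYp _) hn'
  have h3 : N ⊓ 𝓒[t] ≤ 𝓝(⁅Y, zpowers t⁆) := le_norm_comm hn
    (inf_le_right.trans ((centralizer_zpowers t).ge.trans (cent_le_norm _)))
  rw [← comm_comm_eq hYo h2 htY]
  exact (comm_le_pcore (odd_core N) h2 (hO.2 ht) h1 (hYp.to_le (comm_le_left (zpowers_le.2 htY)))
    (h3 ⟨ht, mem_cent1.2 rfl⟩) ((inf_le_inf_right _ hO.1).trans h3)).trans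
    (piCoreOf_le_of_normal hO)

theorem DG.diamond [Fact p.Prime] (h : DG N) (ht : t ∈ N) (hs : s ∈ N) (h4 : IsFour t s)
    (hp : p ≠ 2) {J Y : Subgroup G} (hJ : J ≤ N) (hJp : IsPGroup p J) (nJ : four t s ≤ 𝓝(J))
    (hmax : ∀ J', J' ≤ N → IsPGroup p J' → four t s ≤ 𝓝(J') → J ≤ J' → J' = J) (hY : Y ≤ N)
    (hYp : IsPGroup p Y) (nY : four t s ≤ 𝓝(Y)) (hYt : ⁅Y, zpowers t⁆ = Y) (hYs : Y ≤ 𝓒[s]) :
    ∃ N', 𝐎(N) ⊔ J ⊔ Y ≤ N' ∧ N' ≤ N ∧ IsSylowOf p J N' := by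
  have : Fact (Nat.Prime 2) := ⟨Nat.prime_two⟩
  have hO : 𝐎(N) ⊴ N := piCoreOf_normalOf _ N
  have hV : four t s ≤ 𝓝(𝐎(N)) := (four_le_iff.2 ⟨ht, hs⟩).trans hO.2
  have key : ∀ J' : Subgroup (Coset 𝐎(N)), J' ≤ N /ₛ 𝐎(N) → IsPGroup p J' →
      four t s /ₛ 𝐎(N) ≤ 𝓝(J') → J /ₛ 𝐎(N) ≤ J' → IsSylowOf p J (cosetPre 𝐎(N) J') := by
    intro J' a b c d
    have h1 : Odd (Nat.card (cosetPre 𝐎(N) J')) := by
      rw [card_cosetPre]; exact (odd_core N).mul (odd_of_pgroup hp b)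
    obtain ⟨P, hP, e, f⟩ := coprime_sylow_ge (p := p) (coprimeAction (le_norm_cosetPre hV c)
      (by rw [h4.card]; exact (Nat.coprime_two_right.2 h1).pow_right 2) (Or.inl (sol_of_odd h1)))
      ((quo_le_iff (hJ.trans hO.2)).1 d) hJp nJ
    rwa [hmax P (hP.le.trans (cosetPre_le_of_le hO.1 a)) hP.pgroup e f] at hP
  have h1 := key _ (quo_mono hJ) (isPGroup_quo hJp _) (quo_le_norm nJ) le_rfl
  rw [cosetPre_quo (hJ.trans hO.2)] at h1
  by_cases hsol : Group.IsSolvable N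
  · exact ⟨J ⊔ 𝐎(N), sup_le (sup_comm _ _).le ((h.d8.le_core_of_four hsol ht hs h4 hY
      (odd_of_pgroup hp hYp) nY).trans le_sup_right), sup_le hJ hO.1, h1⟩
  obtain ⟨L, hL, hk⟩ := h.exists_AS hsol
  obtain ⟨N', a, b, c⟩ := hL.diamond hk (coset_mem_quo (x := ⟨t, hO.2 ht⟩) ht)
    (coset_mem_quo (x := ⟨s, hO.2 hs⟩) hs) (h4.coset (odd_core N) _ _) hp (quo_mono hJ)
    (isPGroup_quo hJp _) (quo_four (hO.2 ht) (hO.2 hs) ▸ quo_le_norm nJ)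
    (fun J' a b c d => by
      have := (key J' a b (quo_four (hO.2 ht) (hO.2 hs) ▸ c) d).quo (cosetPre_le_norm J')
      rw [quo_cosetPre] at this
      exact this.eq_of_le b d le_rfl)
    (quo_mono hY) (isPGroup_quo hYp _) (quo_four (hO.2 ht) (hO.2 hs) ▸ quo_le_norm nY)
    (by rw [← quo_zpowers, ← quo_comm (hY.trans hO.2) (zpowers_le.2 (hO.2 ht)), hYt])
    (quo_le_cent1 _ hYs)
  have d : J ≤ cosetPre 𝐎(N) N' := (quo_le_iff (hJ.trans hO.2)).1 (le_sup_left.trans a)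
  refine ⟨cosetPre 𝐎(N) N', sup_le (sup_le (le_cosetPre _) d)
    ((quo_le_iff (hY.trans hO.2)).1 (le_sup_right.trans a)), cosetPre_le_of_le hO.1 b,
    h1.of_relIndex (sup_le d (le_cosetPre _)) ?_⟩
  rw [← relIndex_quo le_sup_right (cosetPre_le_norm _), quo_sup_self (hJ.trans hO.2), quo_cosetPre]
  exact c.not_dvd

section Lift

variable {O : Subgroup G} {a b : G}

theorem exists_lift (hO : Odd (Nat.card O)) {c : Coset O} (hc : c ∈ L /ₛ O) (h : orderOf c = 2) :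
    ∃ (a : G) (ha : a ∈ 𝓝(O)), a ∈ L ∧ orderOf a = 2 ∧ coset O ⟨a, ha⟩ = c := by
  obtain ⟨y, hy, h1, rfl⟩ := mem_quo.1 hc
  have h2 := mul_self_of_orderOf_eq_two h
  have h3 : coset O ⟨y ^ Nat.card O, pow_mem hy _⟩ = coset O ⟨y, hy⟩ := by
    obtain ⟨k, hk⟩ := hO
    rw [show (⟨y ^ Nat.card O, pow_mem hy _⟩ : 𝓝(O)) = ⟨y, hy⟩ ^ Nat.card O from rfl, map_pow, hk,
      pow_succ, pow_mul, sq, h2, one_pow, one_mul]
  refine ⟨_, _, pow_mem h1 _, orderOf_eq_two_of_mul_self ?_ fun e => ne_one_of_ord h ?_, h3⟩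
  · rw [← map_mul, coset_eq_one] at h2
    rw [← (Commute.refl y).mul_pow]
    exact congrArg Subtype.val (pow_card_eq_one' (x := (⟨y * y, h2⟩ : O)))
  · rw [← h3, coset_eq_one]
    exact (congrArg (· ∈ O) e).mpr O.one_mem

theorem eq_of_coset_eq (hO : Odd (Nat.card O)) (hc : a ∈ 𝓒(O)) (ha : orderOf a = 2)
    (hb : orderOf b = 2) {ha' : a ∈ 𝓝(O)} {hb' : b ∈ 𝓝(O)}
    (h : coset O ⟨a, ha'⟩ = coset O ⟨b, hb'⟩) : a = b := by
  have h1 : a⁻¹ * b ∈ O := coset_eq_iff.1 h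
  have h2 := mem_cent_sub.1 hc _ h1
  refine inv_mul_eq_one.1 (eq_one_of_mem_odd hO h1 ?_)
  have h3 := mul_self_of_orderOf_eq_two ha
  rw [inv_eq_of_mul_eq_one_right h3] at h2 ⊢
  calc a * b * (a * b) = a * b * a * b := by group
    _ = a * a * (b * b) := by rw [h2]; group
    _ = 1 := by rw [h3, mul_self_of_orderOf_eq_two hb, one_mul]

theorem conj_eq_of_coset (hO : Odd (Nat.card O)) (hc : b ∈ 𝓒(O)) (ha : orderOf a = 2)
    (hb : orderOf b = 2) {g : G} {ha' : a ∈ 𝓝(O)} {hb' : b ∈ 𝓝(O)} {hg : g ∈ 𝓝(O)}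
    (h : coset O ⟨g, hg⟩ * coset O ⟨a, ha'⟩ * (coset O ⟨g, hg⟩)⁻¹ = coset O ⟨b, hb'⟩) :
    g * a * g⁻¹ = b := by
  rw [← map_inv, ← map_mul, ← map_mul] at h
  exact (eq_of_coset_eq hO hc hb ((orderOf_conj_eq g a).trans ha) h.symm).symm

theorem isFour_of_coset (hO : Odd (Nat.card O)) (hc : b ∈ 𝓒(O)) (ha : orderOf a = 2)
    (hb : orderOf b = 2) {ha' : a ∈ 𝓝(O)} {hb' : b ∈ 𝓝(O)}
    (h : IsFour (coset O ⟨a, ha'⟩) (coset O ⟨b, hb'⟩)) : IsFour a b :=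
  ⟨ha, hb, mul_inv_eq_iff_eq_mul.1 (conj_eq_of_coset hO hc hb hb (hg := ha')
    (mul_inv_eq_iff_eq_mul.2 h.comm.eq)), fun e => h.ne (by subst e; rfl)⟩

theorem quo_core (hO : Odd (Nat.card O)) {M : Subgroup G} (hM : M ≤ 𝓝(O)) :
    𝐎(M) /ₛ O = 𝐎(M /ₛ O) := by
  refine le_antisymm (quo_piCoreOf_le _ _ _) ?_
  have h1 : M ⊓ cosetPre O 𝐎(M /ₛ O) ≤ 𝐎(M) := le_core_of_normal ⟨inf_le_left,
    le_normalizer_inf le_normalizer (le_norm_cosetPre hM (piCoreOf_normalOf _ _).2)⟩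
    (Odd.of_dvd_nat (by rw [card_cosetPre]; exact hO.mul (odd_core _)) (card_dvd_of_le inf_le_right))
  have h2 := quo_mono (N := O) h1
  rwa [quo_inf_cosetPre, inf_eq_right.2 (piCoreOf_le _)] at h2

theorem quo_Kof (hO : Odd (Nat.card O)) (hL : L ≤ 𝓒(O)) (ha : a ∈ L) (ho : orderOf a = 2)
    {ha' : a ∈ 𝓝(O)} : Kof L a /ₛ O = Kof (L /ₛ O) (coset O ⟨a, ha'⟩) := by
  rw [quo_core hO (inf_le_left.trans (le_norm_of_le_cent hL))]
  congr 1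
  refine le_antisymm (le_inf (quo_mono inf_le_left) (quo_le_cent1 _ inf_le_right)) fun y hy => ?_
  obtain ⟨g, hg, h1, rfl⟩ := mem_quo.1 hy.1
  exact coset_mem_quo ⟨h1, mem_cent1.2 (mul_inv_eq_iff_eq_mul.1 (conj_eq_of_coset hO (hL ha) ho ho
    (mul_inv_eq_iff_eq_mul.2 (mem_cent1.1 hy.2))))⟩

theorem inf_cent1_normal (h : L ⊴ N) (a : G) : L ⊓ 𝓒[a] ⊴ N ⊓ 𝓒[a] :=
  ⟨inf_le_inf_right _ h.1, le_normalizer_inf (inf_le_left.trans h.2) (le_norm_cent1 inf_le_right)⟩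

theorem comm_core_le (h : L ⊴ N) (hs : s ∈ L ⊓ 𝓒[a]) : ⁅𝐎(N ⊓ 𝓒[a]), zpowers s⁆ ≤ Kof L a := by
  have h1 := inf_cent1_normal h a
  rw [Kof, piCoreOf_normal_eq h1]
  exact le_inf (comm_le_left ((zpowers_le.2 (h1.1 hs)).trans (piCoreOf_normalOf _ _).2))
    ((comm_mono (piCoreOf_le _) (zpowers_le.2 hs)).trans (comm_le_right h1.2))

theorem le_cent1_of_comm_le {X : Subgroup G} (ho : Odd (Nat.card X)) (h2 : orderOf s = 2)
    (hs : s ∈ 𝓝(X)) (h : ⁅X, zpowers s⁆ ≤ 𝓒[s]) : X ≤ 𝓒[s] := by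
  rw [← centralizer_zpowers, le_cent_iff_comm] at h ⊢
  rw [← comm_comm_eq ho (mul_self_of_orderOf_eq_two h2) hs, h]

theorem exists_cover {L' : Subgroup (Coset O)} (hO : O ⊴ N) (h : AS (N /ₛ O) L') (ht : t ∈ N)
    (hc : t ∈ 𝓒(O)) (h0 : t ∉ O) : ∃ L, L ⊴ N ∧ ⁅L, L⁆ = L ∧ L ≤ 𝓒(O) ∧ L /ₛ O = L' := by
  have hC : N ⊓ 𝓒(O) ⊴ N := IsNormalOf.cent hO.2
  have hs := (isSimpleGroup_subgroup_iff.1 h.simple).2
  have h1 : L' ≤ (N ⊓ 𝓒(O)) /ₛ O := by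
    rcases hs (L' ⊓ ((N ⊓ 𝓒(O)) /ₛ O)) inf_le_left
      (((hC.quo O).inf_left h.normal.1).2) with e | e
    · have h2 : (N ⊓ 𝓒(O)) /ₛ O ≤ ⊥ := h.cent ▸ le_inf (hC.quo O).1 (le_cent_iff_comm.2
        (le_bot_iff.1 (e ▸ le_inf (comm_le_right ((hC.quo O).1.trans h.normal.2))
          (comm_le_left (h.normal.1.trans (hC.quo O).2)))))
      exact absurd ((quo_eq_bot_iff (hC.1.trans hO.2)).1 (le_bot_iff.1 h2) ⟨ht, hc⟩) h0
    · exact e.ge.trans inf_le_right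
  have hp : ⁅L', L'⁆ = L' := (hs _ (der_le _) (le_norm_comm le_normalizer le_normalizer)).resolve_left
    fun e => h.nonab (comm_iff_der.2 e)
  have hM : (N ⊓ 𝓒(O)) ⊓ cosetPre O L' ⊴ N := hC.inf (normal_cosetPre_of hO h.normal)
  have hMq : ((N ⊓ 𝓒(O)) ⊓ cosetPre O L') /ₛ O = L' := by
    rw [quo_inf_cosetPre, inf_eq_right.2 h1]
  have hMc : (N ⊓ 𝓒(O)) ⊓ cosetPre O L' ≤ 𝓒(O) := inf_le_left.trans inf_le_right
  generalize (N ⊓ 𝓒(O)) ⊓ cosetPre O L' = M at hM hMq hMc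
  have hn := hM.1.trans hO.2
  have hq : ⁅M, M⁆ /ₛ O = L' := by rw [quo_comm hn hn, hMq, hp]
  have hc' := (der_le M).trans hMc
  have h3 : M ≤ ⁅M, M⁆ ⊔ O := (quo_le_quo_iff hn ((der_le M).trans hn)).1 (by rw [hq, hMq])
  have h4 : O ≤ 𝓝(⁅⁅M, M⁆, ⁅M, M⁆⁆) := le_norm_of_le_cent (le_cent_symm ((der_le _).trans hc'))
  have h5 : ⁅M, M⁆ ≤ 𝓝(⁅⁅M, M⁆, ⁅M, M⁆⁆) := left_le_norm_comm _ _
  refine ⟨⁅M, M⁆, hM.comm hM, le_antisymm (der_le _) ((comm_mono h3 le_rfl).trans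
    (comm_sup_le h5 h4 ((comm_mono le_rfl h3).trans (comm_sup_le' h5 h4 le_rfl ?_)) ?_)), hc', hq⟩
  · rw [le_cent_iff_comm.1 hc']; exact bot_le
  · rw [le_cent_iff_comm'.1 hMc]; exact bot_le

variable {a' n q : ℕ}

theorem Kc_le (L : Subgroup G) (a : G) : Kc L a ≤ Kof L a :=
  comm_le_left (piCoreOf_normalOf _ _).2

theorem mem_Kc_of_inv (hs : s ∈ L ⊓ 𝓒[a]) {y : G} (hy : y ∈ Kof L a) (h : s * y * s⁻¹ = y⁻¹) :
    y ∈ Kc L a := comm_mono le_rfl (zpowers_le.2 hs) (mem_comm_of_inv (odd_core _) hy h)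

theorem Kc_inf (h8 : IsD8 L) (hO : Odd (Nat.card O)) (hL : L ≤ 𝓒(O)) (h : L2r (L /ₛ O) a' n q)
    (ha : a ∈ L) (ho : orderOf a = 2) : Kc L a ⊓ O = ⊥ := by
  have : Fact (Nat.Prime 2) := ⟨Nat.prime_two⟩
  have hn := le_norm_of_le_cent hL
  have hW : Kof L a ≤ L := (piCoreOf_le _).trans inf_le_left
  have hab : IsMulCommutative (Kof L a) := comm_of_isCyclic_quo (hW.trans hL) (by
    rw [quo_Kof hO hL ha ho (ha' := hn ha)]
    exact h.cycK _ (coset_mem_quo ha) (orderOf_coset_two hO _ ho))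
  obtain ⟨S, hS⟩ := exists_sylow 2 (L ⊓ 𝓒[a])
  have h1 := sdprod_of_npc (h8.npc_cent ha ho) hS
  have h2 : Kc L a ≤ ⁅Kof L a, S⁆ := (comm_mono le_rfl h1.sup.ge).trans (comm_sup_le'
    (left_le_norm_comm _ _) (right_le_norm_comm _ _) (by rw [comm_iff_der.1 hab]; exact bot_le) le_rfl)
  rw [← le_bot_iff, ← (coprime_abelian_cent_dprod h1.norm (coprime_of_pgroup_of_not_dvd hS.pgroup
    (odd_iff_not_two_dvd.1 (odd_core _))) hab).inf]
  exact le_inf (inf_le_left.trans h2) (le_inf (inf_le_left.trans (Kc_le L a))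
    (inf_le_right.trans (le_cent_symm (hS.le.trans (inf_le_left.trans hL)))))

theorem quo_Kc (hO : Odd (Nat.card O)) (hL : L ≤ 𝓒(O)) (h : L2r (L /ₛ O) a' n q)
    (ha : a ∈ L) (ho : orderOf a = 2) {ha' : a ∈ 𝓝(O)} :
    Kc L a /ₛ O = Kof (L /ₛ O) (coset O ⟨a, ha'⟩) := by
  have hn := le_norm_of_le_cent hL
  refine le_antisymm (quo_Kof hO hL ha ho ▸ quo_mono (Kc_le L a)) fun y hy => ?_
  obtain ⟨S, x, c, hd⟩ := h.toSimp.exists_dihOf (coset_mem_quo (x := ⟨a, ha'⟩) ha)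
    (orderOf_coset_two hO _ ho)
  have hc := hd.syl.le hd.s_mem
  have h1 := mem_comm_of_inv (odd_core _) hy (h.inv _ (coset_mem_quo ha) _ hc hd.isFour y hy)
  obtain ⟨s, hs', hs, os, rfl⟩ := exists_lift hO hc hd.isFour.ord_right
  have h4 := isFour_of_coset hO (hL hs) ho os hd.isFour
  rw [← Kof, ← quo_Kof hO hL ha ho, ← quo_zpowers, ← quo_comm ((piCoreOf_le _).trans
    (inf_le_left.trans hn)) (zpowers_le.2 hs')] at h1
  exact quo_mono (comm_mono le_rfl (zpowers_le.2 (mem_inf.2 ⟨hs, mem_cent1.2 h4.comm.eq.symm⟩))) h1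

theorem Kc_inv (h8 : IsD8 L) (hO : Odd (Nat.card O)) (hL : L ≤ 𝓒(O)) (h : L2r (L /ₛ O) a' n q)
    (ha : a ∈ L) (hs : s ∈ L) (h4 : IsFour a s) {y : G} (hy : y ∈ Kc L a) :
    s * y * s⁻¹ = y⁻¹ := by
  have hn := le_norm_of_le_cent hL
  have hy' : y ∈ 𝓝(O) := hn (piCoreOf_le _ (Kc_le L a hy)).1
  have h1 := h.inv _ (coset_mem_quo (x := ⟨a, hn ha⟩) ha) _ (coset_mem_quo (x := ⟨s, hn hs⟩) hs)
    (h4.coset hO _ _) _ (quo_Kc hO hL h ha h4.ord_left ▸ coset_mem_quo (x := ⟨y, hy'⟩) hy)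
  rw [← mul_eq_one_iff_eq_inv, ← map_inv, ← map_mul, ← map_mul, ← map_mul, coset_eq_one] at h1
  rw [← mul_eq_one_iff_eq_inv, ← mem_bot, ← Kc_inf h8 hO hL h ha h4.ord_left]
  exact ⟨mul_mem (conj_mem_of_mem_normalizer (right_le_norm_comm _ _
    ⟨hs, mem_cent1.2 h4.comm.eq.symm⟩) hy) hy, h1⟩

theorem lt_of_l2r (h : AS (N /ₛ 𝐎(N)) (L /ₛ 𝐎(N))) (h8 : IsD8 N) (hn : L ⊴ N) (hp : ⁅L, L⁆ = L)
    (hL : L ≤ 𝓒(𝐎(N))) (h2 : L2r (L /ₛ 𝐎(N)) a' n q) {k : ℕ}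
    (hk : ∀ v ∈ L /ₛ 𝐎(N), orderOf v = 2 → Nat.card (Kof (L /ₛ 𝐎(N)) v) = k)
    (hk' : a' = 2 * k ∨ a' = 4 * k) : LT N L k (n * q) (2 * q) := by
  classical
  have hO := odd_core N
  have hN : 𝐎(N) ⊴ N := piCoreOf_normalOf _ N
  generalize hO' : 𝐎(N) = O at *
  have nL := hn.1.trans hN.2
  have h8' := h8.of_le hn.1
  have nK : ∀ a, Kc L a ≤ 𝓝(O) := fun a =>
    (Kc_le L a).trans ((piCoreOf_le _).trans (inf_le_left.trans nL))
  have hi := fun a (ha : a ∈ L) => Kc_inf h8' hO hL h2 ha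
  have hq := fun a (ha : a ∈ L) ho => quo_Kc hO hL h2 ha ho (ha' := nL ha)
  have ord : ∀ a ∈ L, orderOf a = 2 → ∀ y, (hy : y ∈ Kc L a) →
      orderOf (coset O ⟨y, nK a hy⟩) = orderOf y := fun a ha ho y hy =>
    orderOf_coset _ fun z hz h1 => mem_bot.1 (hi a ha ho ▸ mem_inf.2 ⟨zpowers_le.2 hy hz, h1⟩)
  have inj : Set.InjOn (fun a : G => if h : a ∈ 𝓝(O) then coset O ⟨a, h⟩ else 1)
      {a | a ∈ L ∧ orderOf a = 2} := fun a ha b hb e => by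
    simp only [dif_pos (nL ha.1), dif_pos (nL hb.1)] at e
    exact eq_of_coset_eq hO (hL ha.1) ha.2 hb.2 e
  refine ⟨hn, hp, ?_, fun X hX hXp => ?_, fun u hu v hv ou ov => ?_,
    fun a ha s hs h4 X hX nX hnil oX => ?_, fun a ha ho => ?_, fun a ha ho => ?_,
    fun a ha s hs h4 y hy => Kc_inv h8' hO hL h2 ha hs h4 hy, fun a ha s hs h4 => ?_,
    fun a ha b hb oa ob y hy y' hy' h0 e => ?_, ?_, fun p pp a ha ho y hy oy => ?_,
    (h2.ineq hk').1, (h2.ineq hk').2⟩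
  · rw [hO']
    exact le_antisymm ((quo_eq_bot_iff (inf_le_left.trans hN.2)).1 (le_bot_iff.1 (h.cent ▸
      le_inf (quo_mono inf_le_left) (quo_le_cent inf_le_right)))) (le_inf hN.1 (le_cent_symm hL))
  · have h1 := h.perfect_le (quo_mono hX) (by rw [← quo_comm (hX.trans hN.2) (hX.trans hN.2), hXp])
    refine perfect_le_of_sol_quo (sup_le (hN.1.trans hn.2) le_normalizer) ?_
      (((quo_le_quo_iff (hX.trans hN.2) nL).1 h1).trans (sup_comm _ _).le) hXp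
    rw [quo_sup_self (hN.1.trans hn.2)]
    exact isSolvable_quo (sol_of_odd hO) _
  · obtain ⟨c, hc, e⟩ := h2.one _ (coset_mem_quo (x := ⟨u, nL hu⟩) hu) _
      (coset_mem_quo (x := ⟨v, nL hv⟩) hv) (orderOf_coset_two hO _ ou) (orderOf_coset_two hO _ ov)
    obtain ⟨g, hg, h1, rfl⟩ := mem_quo.1 hc
    exact ⟨g, h1, conj_eq_of_coset hO (hL hv) ou ov e⟩
  · have ha' := coset_mem_quo (x := ⟨a, hN.2 ha⟩) ha
    have oa := orderOf_coset_two hO (hN.2 ha) h4.ord_left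
    have e := quo_cent_two hO hN.1 (hN.2 ha) h4.ord_left
    have h1 := h.f3 h2 ha' oa (e ▸ quo_mono hX) (e ▸ quo_le_norm nX) (isNilpotent_quo hnil _)
      (odd_card_quo oX _)
    have hX' := hX.trans (inf_le_left.trans hN.2)
    rw [hO']
    refine ⟨(quo_eq_bot_iff (inf_le_left.trans hX')).1 (le_bot_iff.1 ?_), fun h0 =>
      isCyclic_of_quo hX' h0 (isCyclic_of_le' (h.cyc_K h2 ha' oa) h1)⟩
    rw [← cent_eq_bot_of_inv (odd_core _) (h.inv_K h2 ha' (coset_mem_quo (x := ⟨s, hN.2 hs⟩) hs)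
      (h4.coset hO _ _))]
    exact le_inf ((quo_mono inf_le_left).trans h1) (quo_le_cent1 _ inf_le_right)
  · exact isCyclic_of_quo (nK a) (hi a ha ho)
      (hq a ha ho ▸ h2.cycK _ (coset_mem_quo ha) (orderOf_coset_two hO _ ho))
  · rw [← card_quo_of_inf_eq_bot (nK a) (inf_comm _ O ▸ hi a ha ho), hq a ha ho]
    exact hk _ (coset_mem_quo ha) (orderOf_coset_two hO _ ho)
  · have hs' : s ∈ L ⊓ 𝓒[a] := ⟨hs, mem_cent1.2 h4.comm.eq.symm⟩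
    have h1 := inf_cent1_normal hn a
    refine le_antisymm (comm_le_of_inv (odd_core _) h4.ss ((piCoreOf_normalOf _ _).2 (h1.1 hs'))
      fun z hz e => mem_Kc_of_inv hs' (comm_core_le hn hs' (mem_comm_of_inv (odd_core _) hz e)) e)
      fun y hy => mem_comm_of_inv (odd_core _) (piCoreOf_le_of_normal h1 (Kc_le L a hy))
        (Kc_inv h8' hO hL h2 ha hs h4 hy)
  · refine eq_of_coset_eq hO (hL ha) oa ob (h2.eq_of_mem_K (coset_mem_quo (x := ⟨a, nL ha⟩) ha)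
      (coset_mem_quo (x := ⟨b, nL hb⟩) hb) (orderOf_coset_two hO _ oa) (orderOf_coset_two hO _ ob)
      (hq a ha oa ▸ coset_mem_quo (x := ⟨y, nK a hy⟩) hy) ?_ fun e' => h0 ?_)
    · rw [(coset_eq_iff (x := ⟨y, nK a hy⟩) (y := ⟨y', nK b hy'⟩)).2 (hO' ▸ e), ← hq b hb ob]
      exact coset_mem_quo hy'
    · rw [← orderOf_eq_one_iff, ← ord a ha oa y hy, e', orderOf_one]
  · rw [← h2.ncard_inv, ← inj.ncard_image]
    congr 1
    ext c
    refine ⟨?_, fun hc => ?_⟩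
    · rintro ⟨a, ha, rfl⟩
      simp only [dif_pos (nL ha.1)]
      exact ⟨coset_mem_quo ha.1, orderOf_coset_two hO _ ha.2⟩
    · obtain ⟨a, ha', ha, oa, rfl⟩ := exists_lift hO hc.1 hc.2
      exact ⟨a, ⟨ha, oa⟩, dif_pos ha'⟩
  · refine le_trans (Set.ncard_le_ncard_of_injOn _ (fun b hb => ?_)
      (inj.mono fun b hb => by exact ⟨hb.1, hb.2.1⟩)) (h2.bad pp (coset_mem_quo (x := ⟨a, nL ha⟩) ha)
      (orderOf_coset_two hO _ ho) (hq a ha ho ▸ coset_mem_quo (x := ⟨y, nK a hy⟩) hy)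
      ((ord a ha ho y hy).trans oy))
    obtain ⟨hb, ob, y', hy', oy', h1⟩ := hb
    simp only [dif_pos (nL hb)]
    refine ⟨coset_mem_quo hb, orderOf_coset_two hO _ ob, _,
      hq b hb ob ▸ coset_mem_quo (x := ⟨y', nK b hy'⟩) hy', (ord b hb ob y' hy').trans oy', ?_⟩
    rw [← quo_zpowers, ← quo_zpowers, ← quo_sup (zpowers_le.2 (nK a hy)) (zpowers_le.2 (nK b hy'))]
    exact odd_card_quo h1 _

end Lift

theorem DG.exists_LT (h : DG N) (hsol : ¬ Group.IsSolvable N) (ht : t ∈ N) (hs : s ∈ N)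
    (h4 : IsFour t s) (hc : 𝐎(N) ≤ 𝓒[t]) :
    (∃ s₁ ∈ N, IsFour t s₁ ∧ 𝐎(N ⊓ 𝓒[t]) ≤ 𝓒[s₁]) ∨
      ∃ L k i β, LT N L k i β ∧ (t ∈ L ∨ s ∈ L ∨ t * s ∈ L) := by
  have : Fact (Nat.Prime 2) := ⟨Nat.prime_two⟩
  have hO := odd_core N
  have hN : 𝐎(N) ⊴ N := piCoreOf_normalOf _ N
  obtain ⟨L', hL', hk⟩ := h.exists_AS hsol
  obtain ⟨L, hn, hp, hL, rfl⟩ := exists_cover hN hL' ht (le_cent1_iff.1 hc)
    fun e => ne_one_of_ord h4.ord_left (eq_one_of_mem_odd hO e h4.tt)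
  have ht' := coset_mem_quo (x := ⟨t, hN.2 ht⟩) ht
  have ot := orderOf_coset_two hO (hN.2 ht) h4.ord_left
  rcases hk with h7 | ⟨a, n, q, h2⟩
  · have htL := hL'.mem_of_eight h7.eight ht' ot
    obtain ⟨c, hc', h4', hK⟩ := h7.cent _ htL ot
    obtain ⟨s₁, hs', hs₁, os, rfl⟩ := exists_lift hO hc' h4'.ord_right
    have h5 := isFour_of_coset hO (hL hs₁) h4.ord_left os h4'
    have h6 : s₁ ∈ N ⊓ 𝓒[t] := ⟨hn.1 hs₁, mem_cent1.2 h5.comm.eq.symm⟩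
    have h7 : _ ∈ (L /ₛ 𝐎(N)) ⊓ 𝓒[_] := ⟨hc', mem_cent1.2 h4'.comm.eq.symm⟩
    have h8 := le_cent1_of_comm_le (odd_core _) h4'.ord_right ((piCoreOf_normalOf _ _).2
      ((inf_cent1_normal hL'.normal _).1 h7)) ((comm_core_le hL'.normal h7).trans hK)
    have h9 : N ⊓ 𝓒[t] ≤ 𝓝(𝐎(N)) := inf_le_left.trans hN.2
    rw [quo_cent_two hO hN.1 _ h4.ord_left, ← quo_core hO h9] at h8
    exact Or.inl ⟨s₁, h6.1, h5, le_cent1_of_comm_le (odd_core _) os ((piCoreOf_normalOf _ _).2 h6)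
      ((comm_le_of_quo_le_cent1 hs' ((piCoreOf_le _).trans h9) h8).trans (le_cent1_iff.2 (hL hs₁)))⟩
  · have he : 2 ∣ Nat.card (L /ₛ 𝐎(N)) := by rw [h2.card, mul_assoc, mul_assoc]; exact dvd_mul_right _ _
    obtain ⟨v, hv, ov⟩ := exists_mem_orderOf_eq_prime he
    have h1 := h2.card_K hv ov
    exact Or.inr ⟨L, _, _, _, lt_of_l2r hL' h.d8 hn hp hL h2 (fun w hw ow => by
      have := h2.card_K hw ow; omega) (h1.imp And.left And.left), h.d8.exists_mem_four h4 ht hs hn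
      fun e => odd_iff_not_two_dvd.1 e (he.trans (card_quo_dvd _ _))⟩

end Cfsg.GW
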