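import Cfsg.Agent.FT.BG01
import Cfsg.Agent.Grp.DihSylow

/-! # Gorenstein-Walter for Sylow `2`-subgroups of order `4` and `8`: definitions -/

set_option autoImplicit false

namespace Cfsg.GW

open Subgroup Cfsg.Agent.FT

universe u

/-- the largest normal subgroup of odd order of `M` -/
scoped notation:max "𝐎(" M ")" => Cfsg.piCoreOf ({2}ᶜ : Set ℕ) M

/-- The Sylow `2`-subgroups of `G` embed in the dihedral group of order `8`. -/
def IsD8 (G : Type u) [Group G] : Prop :=
  ¬ 16 ∣ Nat.card G ∧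
    ∀ Q : Subgroup G, Nat.card Q = 8 → ∃ a ∈ Q, ∃ b ∈ Q, a * a = 1 ∧ ¬ Commute a b

/-- The centre of every `2`-subgroup has index at most `4`. -/
def CIdx4 (G : Type u) [Group G] : Prop :=
  ∀ Q : Subgroup G, IsPGroup 2 Q → (center Q).index ≤ 4

/-- `G` is `A₇` or `PSL₂(q)` with `q` odd. -/
def Known (G : Type u) [Group G] : Prop :=
  Nonempty (G ≃* alternatingGroup (Fin 7)) ∨
    ∃ (F : Type) (_ : Field F) (_ : Fintype F), Odd (Fintype.card F) ∧
      Nonempty (G ≃* Matrix.ProjectiveSpecialLinearGroup (Fin 2) F)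

variable {G : Type u} [Group G]

/-- `S = ⟨x, s⟩` is a Sylow `2`-subgroup of `M`, a four-group (`x = t`) or dihedral of order `8`
(`x ^ 2 = t`). The four-subgroups of `S` are `four t s` and `four t (x * s)`. -/
structure DihOf (M S : Subgroup G) (x s t : G) : Prop where
  syl : IsSylowOf 2 S M
  pair : IsDihPair S x s
  ord : orderOf t = 2
  cases : x = t ∨ x * x = t

/-- all involutions of `M` are conjugate to `t` in `M` -/
def OneCl (M : Subgroup G) (t : G) : Prop :=
  ∀ u ∈ M, orderOf u = 2 → ∃ g ∈ M, g * t * g⁻¹ = u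

/-- the subgroup generated by two elements (a four-group in all uses) -/
def four (t s : G) : Subgroup G := zpowers t ⊔ zpowers s

/-- `t`, `s` are distinct commuting involutions -/
structure IsFour (t s : G) : Prop where
  ord_left : orderOf t = 2
  ord_right : orderOf s = 2
  comm : Commute t s
  ne : t ≠ s

/-- The basic setting: a nonabelian simple group with Sylow `2`-subgroup `S`. -/
structure Base (S : Subgroup G) (x s t : G) : Prop where
  simple : IsSimpleGroup G
  nonab : ¬ IsMulCommutative G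
  dih : DihOf ⊤ S x s t
  one : OneCl ⊤ t

end Cfsg.GW

set_option linter.all false in
theorem Cfsg.Rz.GW_Defs_0 : True := by
  have := @_root_.Cfsg.GW.IsFour.mk.congr_simp.{0}
  have := @_root_.Cfsg.GW.CIdx4.eq_def.{0}
  have := @_root_.Cfsg.GW.CIdx4.eq_1.{0}
  have := @_root_.Cfsg.GW.CIdx4.fun_cases
  have := @_root_.Cfsg.GW.four.eq_def.{0}
  have := @_root_.Cfsg.GW.four.eq_1.{0}
  have := @_root_.Cfsg.GW.four.fun_cases
  have := @_root_.Cfsg.GW.«term𝐎(_)».eq_def
  have := @_root_.Cfsg.GW.«term𝐎(_)».eq_1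
  have := @_root_.Cfsg.GW.«term𝐎(_)».fun_cases
  have := @_root_.Cfsg.GW.Base.mk.congr_simp.{0}
  have := @_root_.Cfsg.GW.Known.eq_def.{0}
  have := @_root_.Cfsg.GW.Known.eq_1.{0}
  have := @_root_.Cfsg.GW.Known.fun_cases
  have := @_root_.Cfsg.GW.OneCl.eq_def.{0}
  have := @_root_.Cfsg.GW.OneCl.eq_1.{0}
  have := @_root_.Cfsg.GW.OneCl.fun_cases
  have := @_root_.Cfsg.GW.IsD8.eq_def.{0}
  have := @_root_.Cfsg.GW.IsD8.eq_1.{0}
  have := @_root_.Cfsg.GW.IsD8.fun_cases
  have := @_root_.Cfsg.GW.DihOf.mk.congr_simp.{0}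
  trivial
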