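import Cfsg.Agent.GW.NonAbA
import Cfsg.Agent.Blk.ZStar

/-!
# Sylow `2`-subgroups with centre of index four in perfect groups: `P = D₈ × C`
-/

set_option autoImplicit false
set_option linter.unusedSectionVars false

namespace Cfsg.GW

open Subgroup

universe u

local notation "C(" Q ")" => Subgroup.centralizer (SetLike.coe (Q : Subgroup _))
local notation "N(" Q ")" => Subgroup.normalizer (SetLike.coe (Q : Subgroup _))

variable {G : Type u} [Group G] [Finite G] {P A B F : Subgroup G}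
  {a b c g k m n s t u v w x y z : G}

/-- the elements of `A` all of whose `N(A)`-conjugates are central in `P` -/
def cenCore (P A : Subgroup G) : Subgroup G where
  carrier := {a | a ∈ A ∧ ∀ n ∈ N(A), n * a * n⁻¹ ∈ C(P)}
  mul_mem' ha hb := ⟨mul_mem ha.1 hb.1, fun n hn => by
    rw [← conj_mul]; exact mul_mem (ha.2 n hn) (hb.2 n hn)⟩
  one_mem' := ⟨one_mem _, fun n _ => by simp⟩
  inv_mem' ha := ⟨inv_mem ha.1, fun n hn => by rw [← conj_inv]; exact inv_mem (ha.2 n hn)⟩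

theorem cenCore_cent (hc : c ∈ cenCore P A) : c ∈ C(P) := by simpa using hc.2 1 (one_mem _)

theorem cenCore_conj (hn : n ∈ N(A)) (hc : c ∈ cenCore P A) : n * c * n⁻¹ ∈ cenCore P A :=
  ⟨conj_mem_of_mem_normalizer hn hc.1, fun k hk => by
    convert hc.2 _ (mul_mem hk hn) using 1; group⟩

/-- `N(A)` moves `z` to `t`. -/
structure Act (P A : Subgroup G) (z t : G) : Prop extends Syl4 P z, Half P A where
  ex : ∃ n ∈ N(A), n * z * n⁻¹ = t
  ne' : t ≠ z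

namespace Act

variable (h : Act P A z t)
include h

theorem t_mem : t ∈ A := by
  obtain ⟨n, hn, rfl⟩ := h.ex
  exact conj_mem_of_mem_normalizer hn (h.z_mem h.toSyl4)

theorem t_ncent : t ∉ C(P) := by
  obtain ⟨n, hn, e⟩ := h.ex
  exact e ▸ h.conj_notMem_cent h.toSyl4 hn (e ▸ h.ne')

theorem t_sq : t * t = 1 := by
  obtain ⟨n, hn, rfl⟩ := h.ex
  rw [conj_mul, h.sq]; group

theorem t_comm : t * z = z * t := h.cent t (h.le h.t_mem)

theorem map_conj (hm : m ∈ N(P)) :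
    Act P (A.map (MulAut.conj m).toMonoidHom) z (m * t * m⁻¹) := by
  obtain ⟨n, hn, e⟩ := h.ex
  refine ⟨h.toSyl4, h.toHalf.map_conj hm, ⟨m * n * m⁻¹, ?_, ?_⟩, fun e' => h.ne' ?_⟩
  · rw [normalizer_map_conj]; exact conj_mem_map_conj.2 hn
  · rw [← e]
    conv_lhs => rw [← h.fix hm]
    group
  · simpa using e'.trans (h.fix hm).symm

theorem orb (hn : n ∈ N(A)) : n * z * n⁻¹ = z ∨ n * z * n⁻¹ = t ∨ n * z * n⁻¹ = z * t := by
  refine (em _).imp_right fun e1 => (em _).imp_right fun e2 => ?_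
  obtain ⟨k, hk, e⟩ := h.ex
  obtain ⟨s, hs, hs'⟩ := h.exists_notMem h.toSyl4
  have h1 := h.act_of_notMem h.toSyl4 hn hs hs' h.t_mem (by
    have := h.conj_notMem_cent h.toSyl4 (mul_mem (inv_mem hn) hk) fun e' => e2 (by
      rw [← e', ← e]; group)
    convert this using 2
    rw [← e]; group)
  have h2 := h.mul_cent h.toSyl4 h.t_mem (conj_mem_of_mem_normalizer hn (h.z_mem h.toSyl4))
    h.t_ncent (h.conj_notMem_cent h.toSyl4 hn e1)
  have h3 : n * s * n⁻¹ * k * z * (n * s * n⁻¹ * k)⁻¹ = t * (n * z * n⁻¹) := by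
    rw [← h1, ← e]; group
  have h4 := of_not_not (mt (h.conj_notMem_cent h.toSyl4 (mul_mem (mul_mem (mul_mem hn
    (h.le_norm hs)) (inv_mem hn)) hk)) (not_not.2 (h3 ▸ h2)))
  rw [h3, ← eq_inv_mul_iff_mul_eq, inv_eq_of_mul_eq_one_right h.t_sq] at h4
  rw [h4, h.t_comm]

theorem exists_mul : ∃ n ∈ N(A), n * z * n⁻¹ = z * t := by
  obtain ⟨k, hk, e⟩ := h.ex
  obtain ⟨s, hs, hs'⟩ := h.exists_notMem h.toSyl4
  refine ⟨s * k, mul_mem (h.le_norm hs) hk, ?_⟩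
  rw [← h.t_comm, ← h.conj_eq' h.toSyl4 hs hs' h.t_mem h.t_ncent, ← e]
  group

theorem orb' (hn : n ∈ N(A)) (hx : x = z ∨ x = t ∨ x = z * t) :
    n * x * n⁻¹ = z ∨ n * x * n⁻¹ = t ∨ n * x * n⁻¹ = z * t := by
  obtain ⟨k, hk, rfl⟩ : ∃ k ∈ N(A), k * z * k⁻¹ = x := by
    rcases hx with rfl | rfl | rfl
    exacts [⟨1, one_mem _, by group⟩, h.ex, h.exists_mul]
  rw [show n * (k * z * k⁻¹) * n⁻¹ = n * k * z * (n * k)⁻¹ by group]
  exact h.orb (mul_mem hn hk)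

theorem z_notMem : z ∉ cenCore P A := fun e => by
  obtain ⟨k, hk, e'⟩ := h.ex
  exact h.t_ncent (e' ▸ e.2 k hk)

theorem mem_cenCore (hk : k ∈ N(A)) (e : k * z * k⁻¹ = t) (hc : c ∈ P) (hc' : c ∈ C(P))
    (hc'' : k⁻¹ * c * k ∈ C(P)) : c ∈ cenCore P A := by
  have hcA := h.mem_of_cent h.toSyl4 hc hc'
  have key : ∀ n ∈ N(A), n * z * n⁻¹ = z → ∀ a ∈ A, a ∈ C(P) → n * a * n⁻¹ ∈ C(P) :=
    fun n hn hz a ha ha' => by
      obtain ⟨m, hm, e⟩ := h.exists_norm h.toSyl4 hn hz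
      exact e a ha ▸ conj_mem_cent hm ha'
  have hk' : k⁻¹ * c * k ∈ A := by simpa using conj_mem_of_mem_normalizer (inv_mem hk) hcA
  refine ⟨hcA, fun n hn => ?_⟩
  rcases h.orb (inv_mem hn) with e' | e' | e'
  · exact key n hn (by rw [← e']; nth_rw 2 [e']; group) c hcA hc'
  · convert key _ (mul_mem hn hk) (by
      rw [show n * k * z * (n * k)⁻¹ = n * (k * z * k⁻¹) * n⁻¹ by group, e, ← e']; group)
      _ hk' hc'' using 1
    group
  · obtain ⟨s, hs, hs'⟩ := h.exists_notMem h.toSyl4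
    convert key _ (mul_mem (mul_mem hn (h.le_norm hs)) hk) (by
      rw [show n * s * k * z * (n * s * k)⁻¹ = n * (s * (k * z * k⁻¹) * s⁻¹) * n⁻¹ by group, e,
        h.conj_eq' h.toSyl4 hs hs' h.t_mem h.t_ncent, h.t_comm, ← e']; group) _ hk' hc'' using 1
    conv_lhs => rw [← conj_eq_of_mem_cent hc' hs]
    group

theorem cent_cases (hc : c ∈ P) (hc' : c ∈ C(P)) : c ∈ cenCore P A ∨ z * c ∈ cenCore P A := by
  obtain ⟨k, hk, e⟩ := h.ex
  refine (em _).imp (h.mem_cenCore hk e hc hc') fun e' =>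
    h.mem_cenCore hk e (mul_mem h.mem hc) (mul_mem h.cent hc') ?_
  have h1 := h.conj_notMem_cent h.toSyl4 (inv_mem hk) fun e'' => h.ne' (by
    rw [← e]; nth_rw 1 [← e'']; group)
  have := h.mul_cent h.toSyl4 (conj_mem_of_mem_normalizer (inv_mem hk) (h.z_mem h.toSyl4))
    (conj_mem_of_mem_normalizer (inv_mem hk) (h.mem_of_cent h.toSyl4 hc hc')) h1 (by simpa using e')
  simpa [mul_assoc] using this

theorem sq_mem' (hc : c ∈ P) (hc' : c ∈ C(P)) : c * c ∈ cenCore P A := by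
  rcases h.cent_cases hc hc' with e | e
  · exact mul_mem e e
  · convert mul_mem e e using 1
    rw [mul_assoc, ← mul_assoc c, h.cent c hc, ← mul_assoc, ← mul_assoc, h.sq, one_mul]

theorem exists_norm' (hn : n ∈ N(A)) :
    ∃ m ∈ N(P), ∀ c ∈ cenCore P A, n * c * n⁻¹ = m * c * m⁻¹ := by
  by_cases e : n * z * n⁻¹ = z
  · obtain ⟨m, hm, e'⟩ := h.exists_norm h.toSyl4 hn e
    exact ⟨m, hm, fun c hc => e' c hc.1⟩
  obtain ⟨s, hs, hs'⟩ := h.exists_notMem h.toSyl4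
  have hz := h.z_mem h.toSyl4
  have h1 := h.conj_eq' h.toSyl4 hs hs' (conj_mem_of_mem_normalizer hn hz)
    (h.conj_notMem_cent h.toSyl4 hn e)
  have h2 := h.act_of_notMem h.toSyl4 hn hs hs' hz (by
    simpa using h.conj_notMem_cent h.toSyl4 (inv_mem hn) fun e' => e (by
      nth_rw 1 [← e']; group))
  have h3 : n * s * n⁻¹ * (n * z * n⁻¹) * (n * s * n⁻¹)⁻¹ = n * z * n⁻¹ :=
    h.act_of_mem h.toSyl4 hs (by simpa [mul_assoc] using h.cent)
  obtain ⟨m, hm, e'⟩ := h.exists_norm h.toSyl4 (mul_mem (mul_mem (mul_mem (mul_mem hn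
    (h.le_norm hs)) (inv_mem hn)) (h.le_norm hs)) hn) (by
      rw [show n * s * n⁻¹ * s * n * z * (n * s * n⁻¹ * s * n)⁻¹ =
        n * s * n⁻¹ * (s * (n * z * n⁻¹) * s⁻¹) * (n * s * n⁻¹)⁻¹ by group, h1, ← conj_mul, h2, h3,
        h.comm' hz (conj_mem_of_mem_normalizer hn hz), ← mul_assoc, conj_mul, h.sq]
      group)
  refine ⟨m, hm, fun c hc => ?_⟩
  rw [← e' c hc.1, show n * s * n⁻¹ * s * n * c * (n * s * n⁻¹ * s * n)⁻¹ =
    n * s * n⁻¹ * (s * (n * c * n⁻¹) * s⁻¹) * (n * s * n⁻¹)⁻¹ by group,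
    conj_eq_of_mem_cent (cenCore_cent (cenCore_conj hn hc)) hs,
    h.act_of_mem h.toSyl4 hs (by simpa [mul_assoc] using cenCore_cent hc)]

/-- At most two of the abelian maximal subgroups are active. -/
theorem eq_or_eq {D : Subgroup G} {t' t'' : G} (h' : Act P B z t') (hAB : A ≠ B)
    (h'' : Act P D z t'') : D = A ∨ D = B := by
  by_contra! e
  have n1 : t' ∉ A := fun e' => hAB (h.eq_of_mem h.toSyl4 h'.toHalf e' h'.t_mem h'.t_ncent)
  have n2 : t'' ∉ A := fun e' =>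
    e.1 (h''.eq_of_mem h.toSyl4 h.toHalf h''.t_mem e' h''.t_ncent)
  have n3 : t'' ∉ B := fun e' =>
    e.2 (h''.eq_of_mem h.toSyl4 h'.toHalf h''.t_mem e' h''.t_ncent)
  have m2 := h'.le h'.t_mem
  have m3 := h''.le h''.t_mem
  have h1 := h.mul _ m2 _ m3 n1 n2
  have h2 : t' * t'' ∉ C(P) := fun e' => n3 ((mul_mem_cancel_left h'.t_mem).1
    (h'.mem_of_cent h.toSyl4 (mul_mem m2 m3) e'))
  have h3 := h.sq_mem' (mul_mem (h.le h.t_mem) (mul_mem m2 m3))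
    (h.mul_cent h.toSyl4 h.t_mem h1 h.t_ncent h2)
  rw [mul_assoc, ← mul_assoc (t' * t''), h.comm' h1 h.t_mem, ← mul_assoc t, ← mul_assoc t, h.t_sq,
    one_mul, h.mul_sq m2 m3 (mt (h'.mem_iff h.toSyl4 h'.t_mem h'.t_ncent m3).2 n3), h'.t_sq,
    h''.t_sq, one_mul, one_mul] at h3
  exact h.z_notMem h3

theorem norm_le {t' : G} (h' : Act P B z t') (hAB : A ≠ B) : N(P) ≤ N(A) := fun m hm => by
  have key : ∀ m ∈ N(P), m * m ∈ N(A) := fun m hm => by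
    rcases h.eq_or_eq h' hAB (h.map_conj hm) with e | e
    · exact mul_mem (map_conj_eq_iff.1 e) (map_conj_eq_iff.1 e)
    · rw [← map_conj_eq_iff, ← map_conj_map_conj, e]
      exact (h.eq_or_eq h' hAB (h'.map_conj hm)).resolve_right fun e' =>
        hAB (map_conj_inj.1 (e.trans e'.symm))
  refine (mem_iff_pPart_mem (p := 2)).2 ⟨h.le_norm ?_, mem_of_isPRegular_of_mul_self_mem
    (isPRegular_pPrimePart (p := 2) m) (key _ (pPrimePart_mem (p := 2) hm))⟩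
  obtain ⟨y, hy, hy'⟩ := exists_map_conj_le_of_not_dvd_relIndex h.pg (h.not_dvd le_normalizer)
    (isPElt_iff_isPGroup_zpowers.1 (isPElt_pPart (p := 2) m)) (zpowers_le.2 (pPart_mem (p := 2) hm))
  simpa [mul_assoc] using conj_mem_of_mem_normalizer (inv_mem hy)
    (map_conj_le_iff.1 hy' _ (mem_zpowers _))

theorem conj_mem_sup {Y : Subgroup G} (hY : Y ≤ cenCore P A)
    (hY' : ∀ m ∈ N(P), ∀ c ∈ Y, m * c * m⁻¹ ∈ Y) (hn : n ∈ N(A))
    (hx : x ∈ zpowers t ⊔ (zpowers z ⊔ Y)) : n * x * n⁻¹ ∈ zpowers t ⊔ (zpowers z ⊔ Y) := by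
  have h1 : t ∈ zpowers t ⊔ (zpowers z ⊔ Y) := mem_sup_left (mem_zpowers t)
  have h2 : z ∈ zpowers t ⊔ (zpowers z ⊔ Y) := mem_sup_right (mem_sup_left (mem_zpowers z))
  have h3 : ∀ x, x = z ∨ x = t ∨ x = z * t → n * x * n⁻¹ ∈ zpowers t ⊔ (zpowers z ⊔ Y) :=
    fun x hx => by
      rcases h.orb' hn hx with e | e | e <;> rw [e]
      exacts [h2, h1, mul_mem h2 h1]
  obtain ⟨m, hm, e⟩ := h.exists_norm' hn
  exact (sup_le (zpowers_le.2 (h3 t (.inr (.inl rfl)))) (sup_le (zpowers_le.2 (h3 z (.inl rfl)))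
    fun c hc => mem_comap.2 (mem_sup_right (mem_sup_right (show n * c * n⁻¹ ∈ Y from
      e c (hY hc) ▸ hY' m hm c hc)))) : _ ≤ comap (MulAut.conj n).toMonoidHom _) hx

end Act

theorem Syl4.fus' (h : Syl4 P z) {S : G → Prop}
    (h1 : ∀ n ∈ N(P), ∀ x ∈ P, S x → S (n * x * n⁻¹))
    (h2 : ∀ A t, Act P A z t → ∀ n ∈ N(A), ∀ x ∈ A, S x → S (n * x * n⁻¹))
    (hx : x ∈ P) (hg : g * x * g⁻¹ ∈ P) (hS : S x) : S (g * x * g⁻¹) := by
  refine h.fus h1 (fun A H n hn x hx hS => ?_) hx hg hS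
  by_cases e : n * z * n⁻¹ = z
  · obtain ⟨m, hm, e'⟩ := H.exists_norm h hn e
    exact e' x hx ▸ h1 m hm x (H.le hx) hS
  · exact h2 A _ ⟨h, H, ⟨n, hn, rfl⟩, e⟩ n hn x hx hS

theorem le_of_focal (hf : P.focalSubgroup = P) (I : Idx2 F P)
    (h : ∀ x ∈ F, ∀ g : G, g * x * g⁻¹ ∈ P → g * x * g⁻¹ ∈ F) : P ≤ F :=
  hf.ge.trans (focalSubgroup_le_iff.2 fun x hx g hg => (em _).elim
    (fun e => mul_mem e (inv_mem (h x e g hg))) fun e => I.mul_inv hx hg e fun e' => e (by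
      simpa [mul_assoc] using h _ e' g⁻¹ (by simpa [mul_assoc] using hx)))

theorem Act.exists_ne (h : Act P A z t) (hf : P.focalSubgroup = P) :
    ∃ B t', Act P B z t' ∧ A ≠ B := by
  by_contra! e
  obtain ⟨s, hs, hs'⟩ := h.exists_notMem h.toSyl4
  refine hs' (le_of_focal hf h.toIdx2 (fun x hx g hg => h.fus' (S := (· ∈ A))
    (fun m hm x _ hx => ?_) (fun B t' h' n hn x _ hx => ?_) (h.le hx) hg hx) hs)
  · exact e _ _ (h.map_conj hm) ▸ conj_mem_map_conj.2 hx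
  · exact conj_mem_of_mem_normalizer (e _ _ h' ▸ hn) hx

theorem Act.cenCore_le {t' : G} (h : Act P A z t) (h' : Act P B z t') (hAB : A ≠ B)
    (hf : P.focalSubgroup = P) : cenCore P A ≤ cenCore P B := by
  set Y := cenCore P A ⊓ cenCore P B
  have hY : ∀ m ∈ N(P), ∀ c ∈ Y, m * c * m⁻¹ ∈ Y := fun m hm c hc =>
    ⟨cenCore_conj (h.norm_le h' hAB hm) hc.1, cenCore_conj (h'.norm_le h hAB.symm hm) hc.2⟩
  have hZ : zpowers z ⊔ Y ≤ P ⊓ C(P) := sup_le (zpowers_le.2 ⟨h.mem, h.cent⟩) fun c hc =>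
    ⟨h.le hc.1.1, cenCore_cent hc.1⟩
  have mZ : ∀ c, c ∈ zpowers z ⊔ Y ↔ c ∈ Y ∨ z * c ∈ Y := fun c => mem_zpowers_sup_iff
    (h.sq ▸ one_mem _) (mem_normalizer_of_forall_conj_mem (hY z (le_normalizer h.mem)))
  have key : ∀ {A B t t'}, Act P A z t → Act P B z t' → A ≠ B →
      (zpowers t ⊔ (zpowers z ⊔ Y) ≤ A) ∧ t' ∉ A ∧ ∀ x ∈ zpowers t' ⊔ (zpowers t ⊔ (zpowers z ⊔ Y)),
        x ∈ A → x ∈ zpowers t ⊔ (zpowers z ⊔ Y) := by
    intro A B t t' h h' hAB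
    have h1 : zpowers t ⊔ (zpowers z ⊔ Y) ≤ A := sup_le (zpowers_le.2 h.t_mem) fun c hc =>
      h.mem_of_cent h.toSyl4 (hZ hc).1 (hZ hc).2
    have h2 : t' ∉ A := fun e' => hAB (h.eq_of_mem h.toSyl4 h'.toHalf e' h'.t_mem h'.t_ncent)
    refine ⟨h1, h2, fun x hx hx' => ((mem_zpowers_sup_iff (h'.t_sq ▸ one_mem _)
      (mem_normalizer_of_forall_conj_mem fun a ha => ?_)).1 hx).resolve_right fun e =>
        h2 ((mul_mem_cancel_right hx').1 (h1 e))⟩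
    rcases h.conj t' (h'.le h'.t_mem) a (h.le (h1 ha)) with e | e <;> rw [e]
    exacts [ha, mul_mem ha (mem_sup_right (mem_sup_left (mem_zpowers z)))]
  obtain ⟨a1, a2, a3⟩ := key h h' hAB
  obtain ⟨b1, b2, b3⟩ := key h' h hAB.symm
  rw [sup_left_comm] at b3
  set F := zpowers t' ⊔ (zpowers t ⊔ (zpowers z ⊔ Y)) with hF
  have f1 : zpowers t ⊔ (zpowers z ⊔ Y) ≤ F := le_sup_right
  have f2 : zpowers t' ⊔ (zpowers z ⊔ Y) ≤ F := sup_le_sup_left le_sup_right _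
  have f3 : t ∈ F := f1 (mem_sup_left (mem_zpowers t))
  have f4 : t' ∈ F := mem_sup_left (mem_zpowers t')
  have f5 : F ≤ P := sup_le (zpowers_le.2 (h'.le h'.t_mem)) (a1.trans h.le)
  have f6 : ∀ v ∈ P, ∃ d ∈ F, d * v ∈ C(P) := fun v hv => by
    have : ∀ v ∈ A, ∃ d ∈ F, d * v ∈ C(P) := fun v hv => (em _).elim
      (fun e => ⟨1, one_mem _, by rwa [one_mul]⟩) fun e =>
      ⟨t, f3, h.mul_cent h.toSyl4 h.t_mem hv h.t_ncent e⟩
    refine (em _).elim (this v) fun e => ?_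
    obtain ⟨d, hd, hd'⟩ := this _ (h.mul _ (h'.le h'.t_mem) _ hv a2 e)
    exact ⟨d * t', mul_mem hd f4, by rwa [mul_assoc]⟩
  have f7 : ∀ c ∈ P, c ∈ C(P) → ∀ d ∈ P, d ∈ C(P) → c ∉ zpowers z ⊔ Y → d ∉ zpowers z ⊔ Y →
      c * d ∈ zpowers z ⊔ Y := fun c hc hc' d hd hd' e e' => by
    rw [mZ, not_or] at e e'
    have e1 : z * c * (z * d) = c * d := by
      rw [mul_assoc, ← mul_assoc c, h.cent c hc, ← mul_assoc, ← mul_assoc, h.sq, one_mul]
    have e3 : c * (z * d) = z * (c * d) := by rw [← mul_assoc, h.cent c hc, mul_assoc]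
    have k1 : ∀ {X : Subgroup G}, z * c ∈ X → z * d ∈ X → c * d ∈ X := fun a b => e1 ▸ mul_mem a b
    have k2 : ∀ {X : Subgroup G}, z * c ∈ X → d ∈ X → z * (c * d) ∈ X := fun a b =>
      mul_assoc z c d ▸ mul_mem a b
    have k3 : ∀ {X : Subgroup G}, c ∈ X → z * d ∈ X → z * (c * d) ∈ X := fun a b => e3 ▸ mul_mem a b
    have k4 : ∀ c ∈ P, c ∈ C(P) → c ∉ Y ∧ z * c ∉ Y → c ∈ cenCore P A ∧ z * c ∈ cenCore P B ∨
        z * c ∈ cenCore P A ∧ c ∈ cenCore P B := fun c hc hc' e =>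
      (h.cent_cases hc hc').imp (fun c1 => ⟨c1, (h'.cent_cases hc hc').resolve_left fun c2 =>
        e.1 ⟨c1, c2⟩⟩) fun c1 => ⟨c1, (h'.cent_cases hc hc').resolve_right fun c2 => e.2 ⟨c1, c2⟩⟩
    rw [mZ]
    rcases k4 c hc hc' e with ⟨c1, c2⟩ | ⟨c1, c2⟩ <;> rcases k4 d hd hd' e' with ⟨d1, d2⟩ | ⟨d1, d2⟩
    exacts [.inl ⟨mul_mem c1 d1, k1 c2 d2⟩, .inr ⟨k3 c1 d1, k2 c2 d2⟩, .inr ⟨k2 c1 d1, k3 c2 d2⟩,
      .inl ⟨k1 c1 d1, mul_mem c2 d2⟩]
  have I : Idx2 F P := ⟨f5, fun v hv w hw hv' hw' => by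
    obtain ⟨d, hd, hd'⟩ := f6 v hv
    obtain ⟨e, he, he'⟩ := f6 w hw
    have := f7 _ (mul_mem (f5 hd) hv) hd' _ (mul_mem (f5 he) hw) he'
      (fun e => hv' ((mul_mem_cancel_left hd).1 (f1 (mem_sup_right e))))
      (fun e => hw' ((mul_mem_cancel_left he).1 (f1 (mem_sup_right e))))
    rw [← mul_assoc, ← hd' e (f5 he), mul_assoc, mul_assoc] at this
    exact (mul_mem_cancel_left hd).1 ((mul_mem_cancel_left he).1 (f1 (mem_sup_right this)))⟩
  have hP := le_of_focal hf I fun x hx g hg => h.fus' (S := (· ∈ F)) (fun m hm x _ hx =>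
    (sup_le (zpowers_le.2 (f2 (h'.conj_mem_sup inf_le_right hY (h'.norm_le h hAB.symm hm)
      (mem_sup_left (mem_zpowers _))))) fun a ha =>
      f1 (h.conj_mem_sup inf_le_left hY (h.norm_le h' hAB hm) ha) :
        F ≤ comap (MulAut.conj m).toMonoidHom F) hx) (fun D t'' h'' n hn x hx' hx => by
      rcases h.eq_or_eq h' hAB h'' with rfl | rfl
      · exact f1 (h.conj_mem_sup inf_le_left hY hn (a3 x hx hx'))
      · exact f2 (h'.conj_mem_sup inf_le_right hY hn (b3 x hx hx'))) (f5 hx) hg hx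
  intro c hc
  rcases (mem_zpowers_sup_iff (h.t_sq ▸ one_mem _) (centralizer_le_normalizer _ fun a ha =>
    ((hZ ha).2 t (h.le h.t_mem)).symm)).1 (a3 c (hP (h.le hc.1)) hc.1) with e | e
  · exact ((mZ c).1 e).elim (·.2) fun e => absurd ((mul_mem_cancel_right hc).1 e.1) h.z_notMem
  · exact absurd ((mul_mem_cancel_right (cenCore_cent hc)).1 (hZ e).2) h.t_ncent

/-- `P` is the direct product of the dihedral group `⟨s, t⟩` and the strongly closed `Y`. -/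
structure Split (P Y : Subgroup G) (z s t : G) : Prop extends Syl4 P z where
  s_mem : s ∈ P
  t_mem : t ∈ P
  s_sq : s * s = 1
  t_sq : t * t = 1
  st : t * s ≠ s * t
  le : Y ≤ P
  le' : Y ≤ C(P)
  notMem : z ∉ Y
  cases' : ∀ c ∈ P, c ∈ C(P) → c ∈ Y ∨ z * c ∈ Y
  closed : ∀ x ∈ Y, ∀ g : G, g * x * g⁻¹ ∈ P → g * x * g⁻¹ ∈ Y
  orb : ∀ g : G, g * z * g⁻¹ ∈ P → (g * z * g⁻¹ = z ∨ g * z * g⁻¹ = s ∨ g * z * g⁻¹ = z * s) ∨
    g * z * g⁻¹ = z ∨ g * z * g⁻¹ = t ∨ g * z * g⁻¹ = z * t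

theorem Syl4.exists_split (h : Syl4 P z) (hf : P.focalSubgroup = P) (hg : g * z * g⁻¹ ∈ P)
    (hg' : g * z * g⁻¹ ≠ z) : ∃ Y s t, Split P Y z s t := by
  obtain ⟨A, s, h1⟩ : ∃ A s, Act P A z s := by
    by_contra! e
    exact hg' (h.fus' (S := (· = z)) (fun n hn x _ hx => hx ▸ h.fix hn)
      (fun A t h' => absurd h' (e A t)) h.mem hg rfl)
  obtain ⟨B, t, h2, hAB⟩ := h1.exists_ne hf
  have hC := le_antisymm (h1.cenCore_le h2 hAB hf) (h2.cenCore_le h1 hAB.symm hf)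
  have n1 : t ∉ A := fun e' => hAB (h1.eq_of_mem h h2.toHalf e' h2.t_mem h2.t_ncent)
  have n2 : s ∉ B := fun e' => hAB (h1.eq_of_mem h h2.toHalf h1.t_mem e' h1.t_ncent)
  refine ⟨cenCore P A, s, t, h, h1.le h1.t_mem, h2.le h2.t_mem, h1.t_sq, h2.t_sq,
    mt (h1.mem_iff h h1.t_mem h1.t_ncent (h2.le h2.t_mem)).2 n1, fun c hc => h1.le hc.1,
    fun c => cenCore_cent, h1.z_notMem, fun c => h1.cent_cases, fun x hx g hg =>
    h.fus' (S := (· ∈ cenCore P A)) (fun m hm x _ => cenCore_conj (h1.norm_le h2 hAB hm))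
      (fun D t'' h'' n hn x _ hx => ?_) (h1.le hx.1) hg hx, fun g hg =>
    h.fus' (S := fun x => (x = z ∨ x = s ∨ x = z * s) ∨ x = z ∨ x = t ∨ x = z * t)
      (fun m hm x _ => Or.imp (h1.orb' (h1.norm_le h2 hAB hm)) (h2.orb' (h2.norm_le h1 hAB.symm hm)))
      (fun D t'' h'' n hn x hx' hx => ?_) h.mem hg (.inl (.inl rfl))⟩
  · rcases h1.eq_or_eq h2 hAB h'' with rfl | rfl
    · exact cenCore_conj hn hx
    · exact hC ▸ cenCore_conj hn (hC ▸ hx)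
  · rcases h1.eq_or_eq h2 hAB h'' with rfl | rfl
    · refine .inl (h1.orb' hn (hx.elim id ?_))
      rintro (e | e | e)
      exacts [.inl e, absurd (e ▸ hx') n1,
        absurd ((mul_mem_cancel_left (h1.z_mem h)).1 (e ▸ hx')) n1]
    · refine .inr (h2.orb' hn (hx.elim ?_ id))
      rintro (e | e | e)
      exacts [.inl e, absurd (e ▸ hx') n2,
        absurd ((mul_mem_cancel_left (h2.z_mem h)).1 (e ▸ hx')) n2]

end Cfsg.GW

set_option linter.all false in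
theorem Cfsg.Rz.GW_NonAbB_0 : True := by
  have := @_root_.Cfsg.GW.Split.mk.congr_simp.{0}
  have := @_root_.Cfsg.GW.cenCore.eq_def.{0}
  have := @_root_.Cfsg.GW.cenCore.eq_1.{0}
  have := @_root_.Cfsg.GW.cenCore.fun_cases
  have := @_root_.Cfsg.GW.Act.mk.congr_simp.{0}
  trivial
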