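import Cfsg.Agent.GW.Defs
import Cfsg.Agent.Blk.BrSuz

/-!
# Brauer-Suzuki for `Q₈` and the `Z*`-theorem for the class `CIdx4`

Both are special cases of `Cfsg.brauerSuzuki` and `Cfsg.zstar` in `Blk/BrSuz`.
-/

set_option autoImplicit false
set_option linter.unusedVariables false
set_option linter.style.haveILetI false

namespace Cfsg.GW

open Subgroup

universe u

theorem index_center_le_of_injective {A B : Type u} [Group A] [Group B] [Finite B] {f : A →* B}
    (hf : Function.Injective f) : (center A).index ≤ (center B).index := by
  haveI := Finite.of_injective f hf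
  refine (index_antitone (show (center B).comap f ≤ center A from fun a ha =>
    mem_center_iff.2 fun g => hf (by simpa using mem_center_iff.1 ha (f g)))).trans ?_
  rw [index_comap, ← relIndex_top_right]
  exact relIndex_le_of_le_right le_top (by simpa using index_ne_zero_of_finite)

theorem index_center_le_of_surjective {A B : Type u} [Group A] [Group B] [Finite A] {f : A →* B}
    (hf : Function.Surjective f) : (center B).index ≤ (center A).index := by
  rw [← index_comap_of_surjective _ hf]
  exact index_antitone fun a ha => mem_center_iff.2 fun g => by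
    obtain ⟨g, rfl⟩ := hf g
    rw [← map_mul, ← map_mul, mem_center_iff.1 ha g]

theorem CIdx4.of_sylow {G : Type u} [Group G] [Finite G] (P : Sylow 2 G)
    (h : (center (P : Subgroup G)).index ≤ 4) : CIdx4 G := by
  intro Q hQ
  obtain ⟨T, hT⟩ := hQ.exists_le_sylow
  exact (index_center_le_of_injective (f := (T.equiv P).toMonoidHom.comp (inclusion hT))
    ((T.equiv P).injective.comp (inclusion_injective hT))).trans h

theorem CIdx4.subgroup {G : Type u} [Group G] [Finite G] (h : CIdx4 G) (H : Subgroup G) :
    CIdx4 H := by
  intro Q hQ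
  exact (index_center_le_of_injective (f := (Q.equivMapOfInjective _ H.subtype_injective).toMonoidHom)
    (MulEquiv.injective _)).trans (h _ (hQ.map H.subtype))

theorem CIdx4.quotient {G : Type u} [Group G] [Finite G] (h : CIdx4 G) (N : Subgroup G)
    [N.Normal] : CIdx4 (G ⧸ N) := by
  obtain ⟨P⟩ := (inferInstance : Nonempty (Sylow 2 G))
  exact CIdx4.of_sylow (P.mapSurjective (QuotientGroup.mk'_surjective N))
    ((index_center_le_of_surjective ((QuotientGroup.mk' N).subgroupMap_surjective P)).trans
      (h _ P.isPGroup'))

/-- Brauer-Suzuki for a quaternion Sylow subgroup of order `8`. -/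
theorem bs_q8 {G : Type u} [Group G] [Finite G] (P : Sylow 2 G)
    (h8 : Nat.card (P : Subgroup G) = 8) (hna : ¬ IsMulCommutative (P : Subgroup G))
    (hO : pPrimeCore 2 G = ⊥) {z : G} (hz : z * z = 1) (h1 : z ≠ 1)
    (hu : ∀ v, v * v = 1 → v ≠ 1 → Commute z v → v = z) : z ∈ center G := by
  exact brauerSuzuki G hO hz h1 hu

/-- Glauberman's `Z*`-theorem for the class `CIdx4`. -/
theorem zstar4 {G : Type u} [Group G] [Finite G] (hG : CIdx4 G) {u : G} (hu : IsIsolInv u)
    (g : G) : u * (g * u * g⁻¹) ∈ pPrimeCore 2 G := by
  exact zstar hu g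

end Cfsg.GW
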