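import Cfsg.Agent.GW.Three
import Cfsg.Agent.GW.ZStar4
import Cfsg.Agent.GW.NonAbB
import Cfsg.Agent.Char.BrauerInd

/-!
# Nonabelian Sylow `2`-subgroup with centre of index `4` in a simple group

`P' = ⟨z⟩` has order 2, `Z = Z(P)`, squares are central, `A₁,A₂,A₃` = the (abelian) subgroups of
index 2 containing `Z`; `C_P(a) = Aᵢ` for `a ∈ Aᵢ \ Z`.
Fusion of elements of `P` is generated by `N(P)` and the `N(Aᵢ)` (Sylow in `C(b)`: if `a^g = b` with
`|C_P(b)|` maximal in its class then `C_P(a)^{g c} ≤ C_P(b)`; if `Aᵢ^g = Aⱼ` then `P^{g n} = P` for some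
`n ∈ N(Aⱼ)`; central elements: `exists_mem_normalizer_conj_eq`).
`z` is not isolated (else `zstar4` makes it central in the simple group), so some `A = Aⱼ` is
*active*: `N(A)` moves `z`. `Γ = N(A)/C(A)` has Sylow subgroup `⟨s⟩ = P/A` of order 2, `[A,s] = ⟨z⟩`,
`C_A(s) = Z`. For a conjugate `s' ≠ s` (with `z'`, `Z'`), `ρ = s s'` has odd order `≠ 1`,
`[A,ρ] ≤ ⟨z,z'⟩`, so `z' ≠ z`, `[A,ρ] = V = ⟨z,z'⟩`, `A = V × C`, `C = C_A(ρ) = Z ⊓ Z'`, and `s`
swaps `z'`, `zz'`. The orbit of `z` together with `1` is closed under products and `s` moves every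
element `≠ z` of it, so it is `V` (else `z'z''` is fixed). So `N(A)` normalizes `V` and `C`,
`Z = ⟨z⟩ × C`, `a² ∈ Z²` for `a ∈ A`, `N(A) = ⟨ρ⟩ (N(A) ⊓ N(P)) C(A)`. For inactive `A`:
`N(A) = (N(A) ⊓ N(P)) C(A)`. `P/C` is dihedral of order 8, so the `Aᵢ` with `Aᵢ/C` cyclic is not
active, hence `N(P)` normalizes each `Aᵢ`. Focal subgroup theorem (`G` perfect): two `A₁, A₂` are
active, `D = V₁V₂` is dihedral of order 8, `P = D × C₁`, and `P = D [Z,N(P)]`, so
`C₁ = C₂ = [Z,N(P)] =: C`. Consequently (`π : P → D` the projection): conjugate elements of `P` have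
projections of the same order, `C` is strongly closed, and the conjugates of `z` in `P` lie in `D`.
If `C ≠ 1` take an involution `c ∈ C`. `θ(g) = 2, -2, 0` if `π(g₂)` has order `1, 2, 4` is a
generalized character (on `D` it is `η + λ - 1`, `η` of degree 2, `ker λ` cyclic; Brauer's
characterization) of norm `< 4`. Apply `false_of_three` with `v = z`, `T` = involutions not conjugate
into `C`: for involutions `a, b` the 2-part `d` of `ab` is inverted by `a`; for `b ~ c`, `⟨a,d⟩` is a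
dihedral 2-group containing a conjugate of `b`, which is central in any Sylow subgroup containing
it (strong closure), so `d² = 1`, `a d ~ b` or `d = 1`. `z` is isolated in `C(d)` for `d = (z y)₂`,
`y ~ c` (conjugates of `z` in `P` lie in `D`, `z d ∈ C`); use `zstar4` in `C(d)`.
So `C = 1`, `P = D`.
-/

set_option autoImplicit false
set_option linter.unusedSectionVars false

namespace Cfsg.GW

open Subgroup

universe u

local notation "C(" Q ")" => Subgroup.centralizer (SetLike.coe (Q : Subgroup _))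
local notation "N(" Q ")" => Subgroup.normalizer (SetLike.coe (Q : Subgroup _))

section

variable {G : Type u} [Group G] [Finite G] {P A Y : Subgroup G} {a b c g k s t u v x y z : G}

theorem isGen_of_idx2 (I : Idx2 A P) (hx : x ∈ P) (hx' : x ∉ A) {f : G → ℂ}
    (h0 : ∀ g, g ∉ A → f g = 0) (hf : IsGeneralizedCharacter A fun a => f a) :
    IsGeneralizedCharacter P fun g => f g + f (x⁻¹ * g * x) := by
  classical
  have h1 := hf.comp (subgroupOfEquivOfLe I.le).toMonoidHom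
  have h2 : ∀ g : P, extendByZero (A.subgroupOf P)
      ((fun a : A => f a) ∘ (subgroupOfEquivOfLe I.le).toMonoidHom) g = f g := fun g => by
    by_cases e : g ∈ A.subgroupOf P
    · rw [extendByZero_of_mem _ _ e]; rfl
    · rw [extendByZero_of_notMem _ _ e, h0 g e]
  have h3 : ((⟨x, hx⟩ : P) : P ⧸ A.subgroupOf P) ≠ (1 : P) := fun e =>
    hx' (by simpa [mem_subgroupOf] using QuotientGroup.eq.1 e)
  have h4 : ∀ q : P ⧸ A.subgroupOf P, q ≠ (1 : P) → q = (⟨x, hx⟩ : P) := fun q hq => by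
    obtain ⟨q, rfl⟩ := QuotientGroup.mk_surjective q
    exact QuotientGroup.eq.2 (I.inv_mul q.2 hx (fun e => hq (QuotientGroup.eq.2
      (by simpa [mem_subgroupOf] using e))) hx')
  haveI := Fintype.ofFinite (P ⧸ A.subgroupOf P)
  convert h1.ind (A.subgroupOf P).subtype using 1
  ext g
  rw [ind_subtype_apply_eq_sum_section _ h1.isClassFunction
    (fun q => if q = (1 : P) then 1 else ⟨x, hx⟩) (fun q => by
      split_ifs with e
      exacts [e.symm, (h4 q e).symm]),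
    Fintype.sum_eq_add _ _ h3.symm fun q hq => (hq.2 (h4 q hq.1)).elim]
  rw [if_pos rfl, if_neg h3, h2, h2]
  simp

open Classical in
theorem isGen_ite_of_idx2 (I : Idx2 A P) (hx : x ∈ P) (hx' : x ∉ A) :
    IsGeneralizedCharacter P fun g => if (g : G) ∈ A then 2 else 0 := by
  convert isGen_of_idx2 I hx hx' (f := fun g => if g ∈ A then 1 else 0) (fun g hg => if_neg hg)
    (by simpa using IsCharacter.one.isGen) using 2 with g
  by_cases e : (g : G) ∈ A
  · have := I.conj_mem (inv_mem hx) e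
    rw [inv_inv] at this
    simp [e, this, one_add_one_eq_two]
  · have := I.conj_notMem (inv_mem hx) e
    rw [inv_inv] at this
    simp [e, this]

theorem exists_conj_mul_pPart (ha : a * a = 1) (hb : b * b = 1) :
    IsConj b (a * pPart 2 (a * b)) ∧ IsPGroup 2 (zpowers a ⊔ zpowers (pPart 2 (a * b)) :
      Subgroup G) ∧ a * pPrimePart 2 (a * b) * a⁻¹ = (pPrimePart 2 (a * b))⁻¹ := by
  have h0 := conj_mul_eq_inv ha hb
  have h1 := conj_eq_inv_of_mem_zpowers h0 (pPart_mem_zpowers (p := 2) (a * b))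
  have h2 : a * pPart 2 (a * b) * (a * pPart 2 (a * b)) = 1 := by
    rw [← mul_assoc]
    nth_rw 3 [← inv_eq_of_mul_eq_one_right ha]
    rw [h1, inv_mul_cancel]
  refine ⟨?_, (isPElt_iff_isPGroup_zpowers.1 (isPElt_iff_pow_eq_one.2 ⟨1, (pow_two a).trans ha⟩ :
    IsPElt 2 a)).to_sup_of_normal_right' (isPElt_iff_isPGroup_zpowers.1 (isPElt_pPart (p := 2) _))
    (zpowers_le.2 (mem_normalizer_of_forall_conj_mem fun x hx => ?_)),
    conj_eq_inv_of_mem_zpowers h0 (pPrimePart_mem_zpowers (p := 2) _)⟩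
  · obtain ⟨t, -, ht⟩ := exists_conj_of_isPRegular_mul h2 hb (by
      have : a * pPart 2 (a * b) * b = pPrimePart 2 (a * b) := by
        rw [← inv_mul_cancel_right (a * pPart 2 (a * b)) a, h1, mul_assoc,
          inv_mul_eq_iff_eq_mul, pPart_mul_pPrimePart]
      exact this ▸ isPRegular_pPrimePart (p := 2) _)
    generalize a * pPart 2 (a * b) = w at ht ⊢
    exact isConj_iff.2 ⟨t, by rw [← ht]; group⟩
  · rw [conj_eq_inv_of_mem_zpowers h1 hx]
    exact inv_mem hx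

open Classical in
/-- The class function with values `2, -2, 0` on elements of order `1, 2, 4` modulo `Y`. -/
noncomputable def modFun (Y : Subgroup G) (x : G) : ℂ :=
  if ∃ g : G, g * x * g⁻¹ ∈ Y then 2 else if ∃ g : G, g * (x * x) * g⁻¹ ∈ Y then -2 else 0

theorem exists_conj_mem_iff : (∃ g : G, g * (k * x * k⁻¹) * g⁻¹ ∈ Y) ↔ ∃ g : G, g * x * g⁻¹ ∈ Y :=
  ⟨fun ⟨g, hg⟩ => ⟨g * k, by convert hg using 1; group⟩,
    fun ⟨g, hg⟩ => ⟨g * k⁻¹, by convert hg using 1; group⟩⟩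

theorem modFun_conj : IsClassFunction G (modFun Y) := fun x k => by
  rw [modFun, modFun, conj_mul, exists_conj_mem_iff, exists_conj_mem_iff]

namespace Split

variable (h : Split P Y z s t)
include h

theorem iff_mem (hx : x ∈ P) : (∃ g : G, g * x * g⁻¹ ∈ Y) ↔ x ∈ Y :=
  ⟨fun ⟨g, hg⟩ => by simpa [mul_assoc] using h.closed _ hg g⁻¹ (by simpa [mul_assoc] using hx),
    fun e => ⟨1, by simpa⟩⟩

open Classical in
theorem modFun_eq (hx : x ∈ P) :
    modFun Y x = if x ∈ Y then 2 else if x * x ∈ Y then -2 else 0 := by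
  simp only [modFun, h.iff_mem hx, h.iff_mem (mul_mem hx hx)]

theorem sq_mem (hc : c ∈ P) (hc' : c ∈ C(P)) : c * c ∈ Y := by
  rcases h.cases' c hc hc' with e | e
  · exact mul_mem e e
  · convert mul_mem e e using 1
    rw [mul_assoc, ← mul_assoc c, h.cent c hc, ← mul_assoc, ← mul_assoc, h.sq, one_mul]

theorem s_ncent : s ∉ C(P) := fun e => h.st (e t h.t_mem)

theorem t_ncent : t ∉ C(P) := fun e => h.st (e s h.s_mem).symm

theorem st_sq : s * t * (s * t) = z := by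
  rw [h.mul_sq h.s_mem h.t_mem h.st, h.s_sq, h.t_sq, one_mul, one_mul]

theorem mul_sq_of_cent (hu : u ∈ P) (hx : x ∈ P) (hc : u * x ∈ C(P)) : u * u * (x * x) ∈ Y := by
  convert h.sq_mem (mul_mem hu hx) hc using 1
  rw [mul_assoc u x, hc x hx, mul_assoc, mul_assoc]

theorem isGen : IsGeneralizedCharacter P fun g => modFun Y g := by
  classical
  have hst := mul_mem h.s_mem h.t_mem
  have n1 : s * (s * t) ≠ s * t * s := fun e => h.st (by simpa [mul_assoc] using e.symm)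
  have n2 : t * (s * t) ≠ s * t * t := fun e => h.st (by simpa [← mul_assoc] using e)
  have H1 := h.half h.s_mem h.s_ncent
  have H3 := h.half hst fun e => n1 (e s h.s_mem)
  set A₁ := P ⊓ C(zpowers s)
  set A₃ := P ⊓ C(zpowers (s * t))
  have s1 : s ∈ A₁ := ⟨h.s_mem, mem_cent_zpowers.2 rfl⟩
  have s3 : s * t ∈ A₃ := ⟨hst, mem_cent_zpowers.2 rfl⟩
  have t1 : t ∉ A₁ := fun e => h.st (mem_cent_zpowers.1 e.2)
  have s3' : s ∉ A₃ := fun e => n1 (mem_cent_zpowers.1 e.2)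
  have t3 : t ∉ A₃ := fun e => n2 (mem_cent_zpowers.1 e.2)
  have a13 : ∀ g ∈ A₁, g ∈ A₃ → g ∈ C(P) := fun g e e' => by_contra fun e'' =>
    s3' (H1.eq_of_mem h.toSyl4 H3 e e' e'' ▸ s1)
  have mK : ∀ g, g ∈ zpowers s ⊔ Y ↔ g ∈ Y ∨ s * g ∈ Y := fun g => mem_zpowers_sup_iff
    (h.s_sq ▸ one_mem _) (centralizer_le_normalizer _ fun a ha => (h.le' ha s h.s_mem).symm)
  set K := zpowers s ⊔ Y
  have hK : K ≤ A₁ := sup_le (zpowers_le.2 s1) fun c hc =>
    H1.mem_of_cent h.toSyl4 (h.le hc) (h.le' hc)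
  have kc : ∀ g ∈ K, g ∈ C(P) → g ∈ Y := fun g hg hg' => ((mK g).1 hg).resolve_right fun e =>
    h.s_ncent ((mul_mem_cancel_right hg').1 (h.le' e))
  have zK : z ∉ K := fun e => h.notMem (kc z e h.cent)
  have kz : ∀ g ∈ A₁, g ∉ K → z * g ∈ K := fun g hg hg' => by
    rw [mK, not_or] at hg'
    by_cases e : g ∈ C(P)
    · exact mem_sup_right ((h.cases' g hg.1 e).resolve_left hg'.1)
    · refine (mK _).2 (.inr ?_)
      rw [← mul_assoc, h.cent s h.s_mem, mul_assoc]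
      exact (h.cases' _ (mul_mem h.s_mem hg.1)
        (H1.mul_cent h.toSyl4 s1 hg h.s_ncent e)).resolve_left hg'.2
  have IK : Idx2 K A₁ := ⟨hK, fun v hv w hw hv' hw' => by
    convert mul_mem (kz v hv hv') (kz w hw hw') using 1
    rw [mul_assoc, ← mul_assoc v, h.cent v hv.1, ← mul_assoc, ← mul_assoc, h.sq, one_mul]⟩
  have g1 := isGen_of_idx2 H1.toIdx2 h.t_mem t1 (f := fun g => if g ∈ K then 2 else 0)
    (fun g hg => if_neg (mt (@hK g) hg)) (isGen_ite_of_idx2 IK (H1.z_mem h.toSyl4) zK)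
  convert ((g1.sub (isGen_ite_of_idx2 H1.toIdx2 h.t_mem t1)).add
    (isGen_ite_of_idx2 H3.toIdx2 h.t_mem t3)).sub (IsCharacter.one.isGen.add IsCharacter.one.isGen)
    using 1
  ext ⟨g, hg⟩
  simp only [Pi.sub_apply, Pi.add_apply, h.modFun_eq hg]
  by_cases c1 : g ∈ C(P)
  · have e : t⁻¹ * g * t = g := by rw [mul_assoc, ← c1 t h.t_mem, inv_mul_cancel_left]
    rw [e, if_pos (H1.mem_of_cent h.toSyl4 hg c1), if_pos (H3.mem_of_cent h.toSyl4 hg c1)]
    by_cases c2 : g ∈ Y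
    · rw [if_pos c2, if_pos (mem_sup_right c2)]; norm_num
    · rw [if_neg c2, if_pos (h.sq_mem hg c1), if_neg fun e => c2 (kc g e c1)]; norm_num
  rw [if_neg fun e => c1 (h.le' e)]
  by_cases c2 : g ∈ A₁
  · have e := H1.conj_eq' h.toSyl4 (inv_mem h.t_mem) (mt inv_mem_iff.1 t1) c2 c1
    have e' := h.mul_sq_of_cent h.s_mem hg (H1.mul_cent h.toSyl4 s1 c2 h.s_ncent c1)
    rw [inv_inv] at e
    rw [h.s_sq, one_mul] at e'
    rw [e, if_pos c2, if_pos e', if_neg fun e => c1 (a13 g c2 e), h.cent g hg]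
    by_cases c3 : g ∈ K
    · rw [if_pos c3, if_neg fun e => zK ((mul_mem_cancel_right c3).1 e)]; norm_num
    · rw [if_neg c3, if_pos (kz g c2 c3)]; norm_num
  have e := H1.conj_notMem (inv_mem h.t_mem) c2
  rw [inv_inv] at e
  rw [if_neg c2, if_neg (mt (@hK g) c2), if_neg (mt (@hK _) e)]
  by_cases c3 : g ∈ A₃
  · have e' := h.mul_sq_of_cent hst hg
      (H3.mul_cent h.toSyl4 s3 c3 (fun e => n1 (e s h.s_mem)) c1)
    rw [h.st_sq] at e'
    rw [if_pos c3, if_neg fun e => h.notMem ((mul_mem_cancel_right e).1 e')]; norm_num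
  · have e' := h.mul_sq_of_cent h.t_mem hg
      (a13 _ (H1.mul _ h.t_mem _ hg t1 c2) (H3.mul _ h.t_mem _ hg t3 c3))
    rw [h.t_sq, one_mul] at e'
    rw [if_neg c3, if_pos e']; norm_num

theorem exists_conj_le {Q : Subgroup G} (hQ : IsPGroup 2 Q) : ∃ k : G, ∀ x ∈ Q, k * x * k⁻¹ ∈ P := by
  obtain ⟨k, -, hk⟩ := exists_map_conj_le_of_not_dvd_relIndex h.pg (h.not_dvd le_top) hQ le_top
  exact ⟨k, map_conj_le_iff.1 hk⟩

theorem isGen' : IsGeneralizedCharacter G fun g => modFun Y (pPart 2 g) :=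
  modFun_conj.isGen_comp_pPart 2 fun Q hQ => by
    obtain ⟨k, hk⟩ := h.exists_conj_le hQ
    convert h.isGen.comp (((MulAut.conj k).toMonoidHom.comp Q.subtype).codRestrict P
      fun x => hk x x.2) using 1
    exact funext fun x => (modFun_conj _ k).symm

theorem ip_le : (ip (fun g => modFun Y (pPart 2 g)) fun g => modFun Y (pPart 2 g)).re ≤ 3 := by
  cases nonempty_fintype G
  obtain ⟨n, hn⟩ := h.isGen'.exists_ip_eq_int h.isGen'
  have h1 : (ip (fun g => modFun Y (pPart 2 g)) fun g => modFun Y (pPart 2 g)).re < 4 := by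
    rw [ip_self_eq, Complex.ofReal_re, inv_mul_lt_iff₀ (by exact_mod_cast Nat.card_pos),
      Nat.card_eq_fintype_card, ← nsmul_eq_mul, ← Finset.card_univ, ← Finset.sum_const]
    have hst := mul_mem h.s_mem h.t_mem
    refine Finset.sum_lt_sum (fun g _ => ?_) ⟨s * t, Finset.mem_univ _, ?_⟩
    · unfold modFun
      split_ifs <;> norm_num
    · rw [pPart_eq_self_iff.2 (isPElt_of_mem h.pg hst), h.modFun_eq hst, h.st_sq, if_neg h.notMem,
        if_neg fun e => h.notMem (h.st_sq ▸ mul_mem e e)]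
      norm_num
  rw [hn, Complex.intCast_re] at h1 ⊢
  exact_mod_cast (show n ≤ 3 by have : n < 4 := by exact_mod_cast h1
                                omega)

theorem mem_of_isConj (hc : c ∈ Y) (e : IsConj c x) (hx : x ∈ P) : x ∈ Y := by
  obtain ⟨g, rfl⟩ := isConj_iff.1 e
  exact h.closed c hc g hx

theorem exists_pPart (ha : a * a = 1) (hc : c ∈ Y) (hc2 : c * c = 1) (hb : IsConj c b) :
    ∃ k : G, k * a * k⁻¹ ∈ P ∧ ∃ y ∈ Y, y * y = 1 ∧ k * pPart 2 (a * b) * k⁻¹ = k * a * k⁻¹ * y := by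
  have sq : ∀ x, IsConj c x → x * x = 1 := fun x hx => by
    obtain ⟨g, rfl⟩ := isConj_iff.1 hx
    rw [conj_mul, hc2]; group
  obtain ⟨h1, h2, -⟩ := exists_conj_mul_pPart ha (sq b hb)
  obtain ⟨k, hk⟩ := h.exists_conj_le h2
  have h3 := (hb.trans h1).trans (isConj_iff.2 ⟨k, rfl⟩)
  exact ⟨k, hk a (mem_sup_left (mem_zpowers _)), _, h.mem_of_isConj hc h3 (hk _ (mul_mem
    (mem_sup_left (mem_zpowers _)) (mem_sup_right (mem_zpowers _)))), sq _ h3,
    by rw [conj_mul, ← mul_assoc a, ha, one_mul]⟩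

theorem modFun_mul (ha : a * a = 1) (hc : c ∈ Y) (hc2 : c * c = 1) (hb : IsConj c b) :
    modFun Y (pPart 2 (a * b)) = modFun Y a := by
  obtain ⟨k, hk, y, hy, hy2, e⟩ := h.exists_pPart ha hc hc2 hb
  rw [← modFun_conj _ k, ← modFun_conj a k, e, h.modFun_eq hk, h.modFun_eq (mul_mem hk (h.le hy)),
    mul_assoc _ y, ← h.le' hy _ (mul_mem hk (h.le hy)), mul_assoc _ y, hy2, mul_one]
  rw [mul_mem_cancel_right hy]

theorem eq_of_mul_mem (hx : x ∈ P) (hy : y ∈ P) (hx' : IsConj z x) (hy' : IsConj z y)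
    (e : x * y ∈ Y) : x = y := by
  obtain ⟨g, rfl⟩ := isConj_iff.1 hx'
  obtain ⟨k, rfl⟩ := isConj_iff.1 hy'
  have h1 := h.orb g hx
  have h2 := h.orb k hy
  generalize g * z * g⁻¹ = x at *
  generalize k * z * k⁻¹ = y at *
  have c1 : x * y = y * x := by
    have := h.le' e x hx
    rwa [mul_assoc, mul_right_inj] at this
  have c2 : x ∈ C(P) ↔ y ∈ C(P) := ⟨fun e' => (mul_mem_cancel_left e').1 (h.le' e),
    fun e' => (mul_mem_cancel_right e').1 (h.le' e)⟩
  have zs := h.cent s h.s_mem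
  have zt := h.cent t h.t_mem
  have n1 : z * s ∉ C(P) := mt (mul_mem_cancel_left h.cent).1 h.s_ncent
  have n2 : z * t ∉ C(P) := mt (mul_mem_cancel_left h.cent).1 h.t_ncent
  have m : ∀ u, u * u = 1 → u * z = z * u → u * (z * u) ∉ Y ∧ z * u * u ∉ Y := fun u e1 e2 => by
    rw [← mul_assoc, e2, mul_assoc, e1, mul_one]; exact ⟨h.notMem, h.notMem⟩
  have k : ∀ u v, (u = s ∨ u = z * s) → (v = t ∨ v = z * t) → u * v ≠ v * u := by
    rintro u v (rfl | rfl) (rfl | rfl) e <;> apply h.st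
    · exact e.symm
    · rw [← mul_assoc, zs, mul_assoc, mul_assoc, mul_right_inj] at e; exact e.symm
    · rw [← mul_assoc, zt, mul_assoc, mul_assoc, mul_right_inj] at e; exact e.symm
    · rw [mul_assoc, mul_assoc, mul_right_inj, ← mul_assoc, ← mul_assoc, zs, zt, mul_assoc,
        mul_assoc, mul_right_inj] at e
      exact e.symm
  have c : ∀ u, (u = z ∨ u = s ∨ u = z * s) ∨ u = z ∨ u = t ∨ u = z * t →
      (u ∈ C(P) ∧ u = z) ∨ u ∉ C(P) ∧ ((u = s ∨ u = z * s) ∨ u = t ∨ u = z * t) := by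
    rintro u ((e | e | e) | e | e | e)
    exacts [.inl ⟨e ▸ h.cent, e⟩, .inr ⟨e ▸ h.s_ncent, .inl (.inl e)⟩, .inr ⟨e ▸ n1, .inl (.inr e)⟩,
      .inl ⟨e ▸ h.cent, e⟩, .inr ⟨e ▸ h.t_ncent, .inr (.inl e)⟩, .inr ⟨e ▸ n2, .inr (.inr e)⟩]
  rcases c x h1 with ⟨a1, a2⟩ | ⟨a1, a2 | a2⟩ <;> rcases c y h2 with ⟨b1, b2⟩ | ⟨b1, b2 | b2⟩
  · rw [a2, b2]
  · exact absurd (c2.1 a1) b1
  · exact absurd (c2.1 a1) b1
  · exact absurd (c2.2 b1) a1
  · rcases a2 with rfl | rfl <;> rcases b2 with b2 | b2 <;> rw [b2] at e ⊢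
    exacts [absurd e (m _ h.s_sq zs).1, absurd e (m _ h.s_sq zs).2]
  · exact absurd c1 (k _ _ a2 b2)
  · exact absurd (c2.2 b1) a1
  · exact absurd c1.symm (k _ _ b2 a2)
  · rcases a2 with rfl | rfl <;> rcases b2 with b2 | b2 <;> rw [b2] at e ⊢
    exacts [absurd e (m _ h.t_sq zt).1, absurd e (m _ h.t_sq zt).2]

theorem eq_bot [IsSimpleGroup G] (hna : ¬ IsMulCommutative G) (hG : CIdx4 G) : Y = ⊥ := by
  by_contra hY
  obtain ⟨c, hc2⟩ := exists_prime_orderOf_dvd_card' 2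
    (dvd_card_of_isPGroup_of_ne_bot (h.pg.to_le h.le) hY)
  rw [← orderOf_coe] at hc2
  obtain ⟨c, hc⟩ := c
  have c2 : c * c = 1 := by rw [← sq, ← hc2, pow_orderOf_eq_one]
  have two : ∀ u : G, u * u = 1 → pPart 2 u = u := fun u hu =>
    pPart_eq_self_iff.2 (isPElt_iff_pow_eq_one.2 ⟨1, (pow_two u).trans hu⟩)
  have v1 : modFun Y (pPart 2 1) = 2 := by rw [pPart_one, h.modFun_eq (one_mem _), if_pos (one_mem _)]
  have v2 : ∀ u, u * u = 1 ∧ ¬ (∃ g : G, g * u * g⁻¹ ∈ Y) → modFun Y u = -2 := fun u hu => by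
    rw [modFun, if_neg hu.2, if_pos ⟨1, by simp [hu.1]⟩]
  have hz : z * z = 1 ∧ ¬ ∃ g : G, g * z * g⁻¹ ∈ Y := ⟨h.sq, mt (h.iff_mem h.mem).1 h.notMem⟩
  have v3 : modFun Y (pPart 2 z) = -2 := by rw [two z h.sq, v2 z hz]
  haveI : Fact (Nat.Prime 2) := ⟨Nat.prime_two⟩
  refine false_of_three hna h.isGen' (fun g => by simp) h.ip_le hc2
    (orderOf_eq_prime ((pow_two z).trans h.sq) h.ne)
    (by rw [v1, two c c2, h.modFun_eq (h.le hc), if_pos hc]) (fun a b ha hb => ?_)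
    (T := {u | u * u = 1 ∧ ¬ ∃ g : G, g * u * g⁻¹ ∈ Y}) hz (fun u hu => ⟨?_, fun y hy => ?_⟩)
    (fun y hy => ?_) (by rw [v1, v3]; norm_num) (by rw [v1, v3]; norm_num)
  · obtain ⟨g, rfl⟩ := isConj_iff.1 ha
    rw [h.modFun_mul (by rw [conj_mul, c2]; group) hc c2 hb, modFun_conj, v1,
      h.modFun_eq (h.le hc), if_pos hc]
  · rw [v3, two u hu.1, v2 u hu]
  · rw [h.modFun_mul hu.1 hc c2 hy, v3, v2 u hu]
  obtain ⟨k, hk, w, hw, hw2, e⟩ := h.exists_pPart h.sq hc c2 hy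
  obtain ⟨h1, -, h3⟩ := exists_conj_mul_pPart h.sq (show y * y = 1 by
    obtain ⟨g, rfl⟩ := isConj_iff.1 hy
    rw [conj_mul, c2]; group)
  have h4 := isPRegular_pPrimePart (p := 2) (z * y)
  have h5 := pPrimePart_mem_centralizer_pPart (p := 2) (z * y)
  generalize pPrimePart 2 (z * y) = o at *
  generalize pPart 2 (z * y) = d at *
  have e1 := h.le' hw _ hk
  have d2 : d * d = 1 := by
    rw [← conj_eq_one_iff (a := k), ← conj_mul, e, mul_assoc _ w, ← mul_assoc w, ← e1, mul_assoc _ w,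
      hw2, mul_one, conj_mul, h.sq]
    group
  have zd : z ∈ centralizer {d} := by
    rw [mem_centralizer_singleton_iff, ← (MulAut.conj k).injective.eq_iff]
    simp only [map_mul, MulAut.conj_apply]
    rw [e, mul_assoc _ w, ← e1]
  refine ⟨⟨d2, fun e' => ?_⟩, ⟨o, h5⟩, ?_, rfl⟩
  · rw [← exists_conj_mem_iff (k := k), e, h.iff_mem (mul_mem hk (h.le hw)),
      mul_mem_cancel_right hw, ← h.iff_mem hk, exists_conj_mem_iff] at e'
    exact hz.2 e'
  have iso : IsIsolInv (⟨z, zd⟩ : centralizer ({d} : Set G)) := by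
    refine isIsolInv_of_forall (Subtype.ext h.sq) fun v hv hv' => Subtype.ext ?_
    obtain ⟨g, rfl⟩ := isConj_iff.1 hv
    have v1 : IsConj z (g * z * (g : G)⁻¹) := isConj_iff.2 ⟨g, rfl⟩
    have v2 : IsConj c (g * z * (g : G)⁻¹ * d) := (hy.trans h1).trans (isConj_iff.2 ⟨g, by
      rw [← conj_mul, conj_eq_iff_comm.2 (mem_centralizer_singleton_iff.1 g.2)]⟩)
    have v3 : z * (g * z * (g : G)⁻¹) = g * z * (g : G)⁻¹ * z := congrArg Subtype.val hv'.eq
    have v4 := mem_centralizer_singleton_iff.1 (g * ⟨z, zd⟩ * g⁻¹).2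
    have v5 : g * z * (g : G)⁻¹ * (g * z * (g : G)⁻¹) = 1 := by rw [conj_mul, h.sq]; group
    simp only [coe_mul, coe_inv] at v4 ⊢
    generalize (g : G) * z * (g : G)⁻¹ = v at *
    have pg : ∀ u : G, u * u = 1 → IsPGroup 2 (zpowers u) := fun u hu =>
      isPElt_iff_isPGroup_zpowers.1 (isPElt_iff_pow_eq_one.2 ⟨1, (pow_two u).trans hu⟩)
    obtain ⟨l, hl⟩ := h.exists_conj_le (((pg z h.sq).to_sup_of_normal_right' (pg v v5)
      (zpowers_le.2 (centralizer_le_normalizer _ (mem_cent_zpowers.2 v3)))).to_sup_of_normal_right'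
      (pg d d2) ((sup_le (zpowers_le.2 (mem_cent_zpowers.2 (mem_centralizer_singleton_iff.1 zd)))
        (zpowers_le.2 (mem_cent_zpowers.2 v4))).trans (centralizer_le_normalizer _)))
    have l1 := hl z (mem_sup_left (mem_sup_left (mem_zpowers _)))
    have l2 := hl v (mem_sup_left (mem_sup_right (mem_zpowers _)))
    have l3 := hl d (mem_sup_right (mem_zpowers _))
    refine (MulAut.conj l).injective (h.eq_of_mul_mem l2 l1 (v1.trans (isConj_iff.2 ⟨l, rfl⟩))
      (isConj_iff.2 ⟨l, rfl⟩) ?_)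
    convert mul_mem (h.mem_of_isConj hc (v2.trans (isConj_iff.2 ⟨l, rfl⟩))
      (by rw [← conj_mul]; exact mul_mem l2 l3)) (h.mem_of_isConj hc
      ((hy.trans h1).trans (isConj_iff.2 ⟨l, rfl⟩)) (by rw [← conj_mul]; exact mul_mem l1 l3)) using 1
    rw [MulAut.conj_apply, MulAut.conj_apply, conj_mul, conj_mul,
      mem_centralizer_singleton_iff.1 zd, mul_assoc v d, ← mul_assoc d, d2,
      one_mul]
  refine mem_of_isPRegular_of_mul_self_mem (isPRegular_coe_iff.1 h4) ?_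
  convert inv_mem (zstar4 (hG.subgroup _) iso ⟨o, h5⟩) using 1
  refine Subtype.ext ?_
  simp only [coe_mul, coe_inv]
  rw [← mul_assoc, ← mul_assoc]
  nth_rw 2 [← inv_eq_of_mul_eq_one_right h.sq]
  rw [h3, mul_inv_rev, inv_inv]

end Split

end

theorem isD8_of_index_four {G : Type u} [Group G] [Finite G] [IsSimpleGroup G]
    (P : Sylow 2 G) (hna : ¬ IsMulCommutative (P : Subgroup G))
    (hZ : (center (P : Subgroup G)).index = 4) : Nat.card (P : Subgroup G) = 8 ∧ IsD8 G := by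
  obtain ⟨z, hz⟩ := exists_isZ4 hna hZ
  have h : Syl4 P z := ⟨hz, P.isPGroup', P.not_dvd_index⟩
  have hG := CIdx4.of_sylow P hZ.le
  have hna' : ¬ IsMulCommutative G := fun e => hna inferInstance
  have hO : pPrimeCore 2 G = ⊥ := (IsSimpleGroup.eq_bot_or_eq_top_of_normal _ inferInstance).resolve_right
    fun e => not_dvd_card_pPrimeCore (p := 2) (G := G) (by
      rw [e, card_top]
      exact (dvd_card_of_isPGroup_of_ne_bot P.isPGroup' fun e => h.ne (mem_bot.1 (e ▸ h.mem))).trans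
        (card_subgroup_dvd_card _))
  have hZ' : center G = ⊥ := (IsSimpleGroup.eq_bot_or_eq_top_of_normal _ inferInstance).resolve_right
    fun e => hna' ⟨⟨fun a b => mem_center_iff.1 (e.ge (mem_top b)) a⟩⟩
  have hR : pResidual 2 G = ⊤ := (IsSimpleGroup.eq_bot_or_eq_top_of_normal _ inferInstance).resolve_left
    fun e => by
      have := pResidual_eq_bot_iff.1 e
      exact absurd hZ' (this.center_nontrivial.1.elim fun a ⟨b, hab⟩ e =>
        hab (Subtype.ext ((mem_bot.1 (e ▸ a.2)).trans (mem_bot.1 (e ▸ b.2)).symm)))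
  obtain ⟨g, hg, hg'⟩ : ∃ g : G, g * z * g⁻¹ ∈ (P : Subgroup G) ∧ g * z * g⁻¹ ≠ z := by
    by_contra! e
    refine h.ne (mem_bot.1 (hZ' ▸ mem_center_iff.2 fun g => conj_eq_iff_comm.1 ?_))
    have := zstar4 hG (isIsolInv_of_forall h.sq fun v hv hv' => ?_) g
    · rw [hO, mem_bot] at this
      exact mul_left_cancel (this.trans h.sq.symm)
    obtain ⟨k, rfl⟩ := isConj_iff.1 hv
    obtain ⟨l, hl, hl'⟩ := exists_map_conj_le_of_not_dvd_relIndex h.pg
      (h.not_dvd (le_cent_zpowers h.cent)) (isPElt_iff_isPGroup_zpowers.1 (isPElt_conj_iff.2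
        (isPElt_of_mem h.pg h.mem) : IsPElt 2 (k * z * k⁻¹)))
      (zpowers_le.2 (mem_cent_zpowers.2 hv'.eq.symm))
    have := e (l * k) (by convert map_conj_le_iff.1 hl' _ (mem_zpowers _) using 1; group)
    refine (MulAut.conj l).injective ?_
    simp only [MulAut.conj_apply]
    rw [conj_eq_iff_comm.2 (mem_cent_zpowers.1 hl)]
    exact Eq.trans (by group) this
  obtain ⟨Y, s, t, hs⟩ := h.exists_split (focalSubgroup_eq_of_pResidual_eq_top hR P) hg hg'
  obtain rfl := hs.eq_bot hna' hG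
  have h8 : Nat.card (P : Subgroup G) = 8 := by
    rw [h.card_eq' hs.s_mem hs.s_ncent, (Nat.card_eq_two_iff' (1 : ((P : Subgroup G) ⊓ C(P) :
      Subgroup G))).2 ⟨⟨z, h.mem, h.cent⟩, fun e => h.ne (congrArg Subtype.val e), fun c hc =>
      Subtype.ext (mul_left_cancel ((mem_bot.1 ((hs.cases' c c.2.1 c.2.2).resolve_left fun e =>
        hc (Subtype.ext e))).trans h.sq.symm))⟩]
  refine ⟨h8, fun e => P.not_dvd_index ?_, fun Q hQ => ?_⟩
  · rw [← card_mul_index (P : Subgroup G), h8] at e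
    omega
  · obtain ⟨k, hk⟩ := exists_map_conj_le_sylow (IsPGroup.of_card (p := 2) (n := 3) hQ) P
    have e := eq_of_le_of_card_ge hk (by rw [card_map_conj, hQ, h8])
    refine ⟨_, mem_map_conj.1 (e ▸ hs.s_mem), _, mem_map_conj.1 (e ▸ hs.t_mem), ?_, fun e' => hs.st ?_⟩
    · rw [mul_assoc, mul_assoc, mul_assoc, mul_inv_cancel_left, ← mul_assoc s, hs.s_sq]; simp
    · simpa [← mul_assoc] using (show t * (s * k) = s * (t * k) by simpa [mul_assoc] using e'.eq.symm)

end Cfsg.GW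

set_option linter.all false in
theorem Cfsg.Rz.GW_NonAb_0 : True := by
  have := @_root_.Cfsg.GW.modFun.eq_def.{0}
  have := @_root_.Cfsg.GW.modFun.fun_cases.{0}
  trivial
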