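import Cfsg.Agent.GW.Abel
import Cfsg.Agent.GW.NonAb
import Cfsg.Prelude.Def_CaseTheorems

/-!
# Reduction of S4594 to the Gorenstein-Walter theorem

`Z₂ = P ⊓ Z(G) ≤ P' = ⟨z⟩` by `inf_commutator_inf_center_le`. Let `Ḡ = G/Z(G)` (nonabelian simple),
`P̄` the image of `P`. If `P̄` is nonabelian its centre has index 4, so `|P̄| = 8` and `IsD8 Ḡ`
(`isD8_of_index_four`), `z ∉ Z₂`, `Z₂ = 1`. If `P̄` is abelian, `Z₂ = ⟨z⟩` and `card_eq_four_of_comm`
applies to `T₀ =` image of `Z(P)` (`N(P̄)` is the image of `N(P)`), so `P̄` is a four-group.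
If `Ḡ ≅ A₇` then `|P̄| = 8`, so `Z(G)` has odd order; for an odd prime `p` and a Sylow `R`:
`R ⊓ Z(G) ≤ R'`; `R/(R ⊓ Z)` has order dividing `p` (`p ≠ 3`, then `R` is abelian) or is elementary
of order 9 (`|A₇| = 2520`, no element of order 9; then `|R'| ≤ 3`). So `|Z(G)| ∈ {1,3}`.
-/

set_option autoImplicit false

namespace Cfsg.GW

open Subgroup

universe u

local notation "C(" Q ")" => Subgroup.centralizer (SetLike.coe (Q : Subgroup _))
local notation "N(" Q ")" => Subgroup.normalizer (SetLike.coe (Q : Subgroup _))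

theorem sylow_inf_center_le {G : Type u} [Group G] [Finite G] (hq : IsQuasisimple G) {p : ℕ}
    [Fact p.Prime] (P : Sylow p G) :
    (P : Subgroup G) ⊓ center G ≤ (commutator (P : Subgroup G)).map (P : Subgroup G).subtype := by
  have := inf_commutator_inf_center_le (Sylow.coprime_card_index' P)
  rwa [hq.1.commutator_eq_top, inf_top_eq, ← map_subtype_commutator] at this

theorem not_isMulCommutative_quotient {G : Type u} [Group G] (hq : IsQuasisimple G) :
    ¬ IsMulCommutative (G ⧸ center G) := fun e => by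
  have h1 := Subgroup.Normal.quotient_commutative_iff_commutator_le.1 e
  rw [hq.1.commutator_eq_top, top_le_iff] at h1
  haveI := hq.2.toNontrivial
  obtain ⟨a, ha⟩ := exists_ne (1 : G ⧸ center G)
  obtain ⟨a, rfl⟩ := QuotientGroup.mk_surjective a
  exact ha ((QuotientGroup.eq_one_iff a).2 (h1.ge (mem_top a)))

theorem reduce_eight {G : Type u} [Group G] [Finite G] (hq : IsQuasisimple G) (P : Sylow 2 G)
    (hna : ¬ IsMulCommutative (P : Subgroup G)) (hZ : (center (P : Subgroup G)).index = 4) :
    Nat.card (P : Subgroup G) = 8 ∧ IsD8 (G ⧸ center G) ∧ ¬ IsMulCommutative (G ⧸ center G) := by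
  have hna' := not_isMulCommutative_quotient hq
  haveI := hq.2
  obtain ⟨z, h⟩ := exists_isZ4 hna hZ
  set π := QuotientGroup.mk' (center G)
  have hπ : Function.Surjective π := QuotientGroup.mk'_surjective _
  have hc := card_map_mul_card_inf_ker π (P : Subgroup G)
  rw [QuotientGroup.ker_mk', inf_comm] at hc
  have h2 : Nat.card ((P : Subgroup G) ⊓ center G : Subgroup G) ∣ 2 := by
    have := card_dvd_of_le (sylow_inf_center_le hq P)
    rwa [card_map_subtype, card_commutator_of_index_center Nat.prime_two hna (hZ ▸ dvd_rfl)] at this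
  have hP : ((P.mapSurjective hπ : Sylow 2 _) : Subgroup (G ⧸ center G)) =
    (P : Subgroup G).map π := rfl
  rcases (Nat.dvd_prime Nat.prime_two).1 h2 with e | e
  · rw [e, mul_one] at hc
    let ε : (P : Subgroup G) ≃* (P.mapSurjective hπ : Sylow 2 _) := MulEquiv.ofBijective
      (π.subgroupMap P) ((Nat.bijective_iff_surjective_and_card _).2
        ⟨π.subgroupMap_surjective P, hc.symm⟩)
    obtain ⟨h8, hD⟩ := isD8_of_index_four (P.mapSurjective hπ)
      (fun e => hna ⟨⟨fun a b => ε.injective (by rw [map_mul, map_mul, e.1.1])⟩⟩)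
      (by
        rw [← hZ, ← index_comap_of_surjective _ (f := ε.toMonoidHom) ε.surjective]
        congr 1
        ext a
        simp only [mem_comap, mem_center_iff, ε.surjective.forall, MulEquiv.coe_toMonoidHom,
          ← map_mul, ε.injective.eq_iff])
    exact ⟨hc.symm.trans h8, hD, hna'⟩
  have hz : z ∈ center G := by
    by_contra hz
    obtain ⟨y, hy, -⟩ := (Nat.card_eq_two_iff' (1 : ((P : Subgroup G) ⊓ center G :
      Subgroup G))).1 e
    have : commutator (P : Subgroup G) ≤ (zpowers z).subgroupOf P :=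
      commutator_le.2 fun a _ b _ => mem_subgroupOf.2 (by
        rcases h.conj a a.2 b b.2 with e | e <;>
          simp [commutatorElement_def, e, h.cent b b.2])
    obtain ⟨k, hk⟩ := ((subgroupOf_map_subtype _ _).le
      (map_mono this (sylow_inf_center_le hq P y.2))).1
    obtain ⟨j, rfl | rfl⟩ := Int.even_or_odd' k <;>
      simp only [zpow_add_one, zpow_mul, zpow_two, h.sq, one_zpow, one_mul] at hk
    exacts [hy (Subtype.ext hk.symm), hz (hk ▸ y.2.2)]
  have hle : π.ker ≤ C(P) := by rw [QuotientGroup.ker_mk']; exact center_le_centralizer _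
  have h4 := card_eq_four_of_comm hna' (P.mapSurjective hπ) (isMulCommutative_iff_forall.2 (by
      rintro _ ⟨a, ha, rfl⟩ _ ⟨b, hb, rfl⟩
      rw [← mul_inv_eq_iff_eq_mul, ← map_inv, ← map_mul, ← map_mul]
      rcases h.conj a ha b hb with e | e <;> rw [e]
      rw [map_mul, show π z = 1 from (QuotientGroup.eq_one_iff z).2 hz, mul_one]))
    (T₀ := ((P : Subgroup G) ⊓ C(P)).map π) (map_mono inf_le_left) (by
      have h5 := card_map_mul_card_inf_ker π ((P : Subgroup G) ⊓ C(P))
      rw [inf_left_comm, inf_eq_left.2 hle, QuotientGroup.ker_mk', e] at h5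
      have h6 := card_mul_relIndex (map_mono (f := π) (inf_le_left (a := (P : Subgroup G))
        (b := C(P))))
      obtain ⟨a, ha, b, hb, hab⟩ := h.exists_ne
      have h7 := h.card_eq' ha fun e => hab (e b hb)
      rw [e, h7, ← h5, ← h6] at hc
      exact Nat.eq_of_mul_eq_mul_left (Nat.mul_pos (Nat.card_pos
        (α := ((P : Subgroup G) ⊓ C(P)).map π)) two_pos) (by rw [hP]; linarith))
    (fun n hn => by
      obtain ⟨n, rfl⟩ := hπ n
      have h5 : n ∈ N(P) := mem_normalizer_of_forall_conj_mem fun a ha => by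
        obtain ⟨b, hb, hb'⟩ := conj_mem_of_mem_normalizer hn (mem_map_of_mem π ha)
        rw [← map_inv, ← map_mul, ← map_mul] at hb'
        obtain ⟨c, hc, e⟩ := (QuotientGroup.mk'_eq_mk' _).1 hb'
        have h6 : IsPElt 2 c := by
          rw [eq_inv_mul_of_mul_eq e]
          refine (isPElt_of_mem P.isPGroup' hb).inv.mul_of_commute
            (isPElt_conj_iff.2 (isPElt_of_mem P.isPGroup' ha)) ?_
          rw [← e]
          exact ((Commute.refl b).mul_right (mem_center_iff.1 hc b)).inv_left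
        obtain ⟨x, hx⟩ := h6.exists_conj_mem P
        rw [mem_center_iff.1 hc x, mul_inv_cancel_right] at hx
        exact e ▸ mul_mem hb hx
      refine mem_normalizer_of_forall_conj_mem ?_
      rintro _ ⟨a, ha, rfl⟩
      exact ⟨_, ⟨conj_mem_of_mem_normalizer h5 ha.1, conj_mem_cent h5 ha.2⟩, by simp⟩)
    (by
      rintro _ ⟨a, ha, rfl⟩
      exact ⟨a * a, ⟨mul_mem ha ha, h.sq_cent ha⟩, map_mul ..⟩)
  have h8 : ¬ 8 ∣ Nat.card (G ⧸ center G) := fun e => (P.mapSurjective hπ).not_dvd_index (by
    rw [← card_mul_index (P.mapSurjective hπ : Subgroup (G ⧸ center G)), h4] at e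
    omega)
  exact ⟨by rw [← hc, e, ← hP, h4], ⟨fun e => h8 (Dvd.dvd.trans (by norm_num) e),
    fun Q hQ => (h8 (hQ ▸ card_subgroup_dvd_card Q)).elim⟩, hna'⟩

theorem center_of_alt7 {G : Type u} [Group G] [Finite G] (hq : IsQuasisimple G) (P : Sylow 2 G)
    (h8 : Nat.card (P : Subgroup G) = 8)
    (e : Nonempty (G ⧸ center G ≃* alternatingGroup (Fin 7))) :
    Nonempty (G ≃* alternatingGroup (Fin 7)) ∨ Nat.card (center G) = 3 := by
  obtain ⟨e⟩ := e
  have hA : (center G).index = 2520 := by
    rw [index_eq_card, Nat.card_congr e.toEquiv, nat_card_alternatingGroup, Nat.card_eq_fintype_card,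
      Fintype.card_fin]
    rfl
  have key : ∀ p : ℕ, p.Prime → p ≠ 2 → ∀ k, p ^ k ∣ Nat.card (center G) → p ^ k ∣ 3 := by
    intro p hp h2 k hk
    haveI := Fact.mk hp
    obtain ⟨R⟩ : Nonempty (Sylow p G) := inferInstance
    obtain ⟨K, hK⟩ := Sylow.exists_subgroup_card_pow_prime p hk
    have h1 : K.map (center G).subtype ≤ (R : Subgroup G) ⊓ center G := by
      refine le_inf ?_ (map_subtype_le K)
      rintro _ ⟨c, hc, rfl⟩
      obtain ⟨x, hx⟩ := (isPElt_coe_iff.2 (isPElt_of_mem (IsPGroup.of_card hK) hc)).exists_conj_mem R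
      rwa [mem_center_iff.1 c.2 x, mul_inv_cancel_right] at hx
    have h3 := card_dvd_of_le (h1.trans (sylow_inf_center_le hq R))
    rw [card_map_subtype, card_map_subtype, hK] at h3
    by_cases hc : IsMulCommutative (R : Subgroup G)
    · rw [commutator_eq_bot, card_bot] at h3
      exact h3.trans (one_dvd _)
    have h4 : (center (R : Subgroup G)).index ∣ 2520 :=
      (index_dvd_of_le (H := (center G).subgroupOf R) fun a ha => mem_center_iff.2 fun b =>
        Subtype.ext (mem_center_iff.1 (mem_subgroupOf.1 ha) b)).trans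
        (hA ▸ relIndex_dvd_index_of_normal _ _)
    obtain ⟨j, hj⟩ := R.isPGroup'.index (center (R : Subgroup G))
    have h5 : p ^ 2 ∣ 2520 := (IsPGroup.sq_dvd_index_center R.isPGroup' hc).trans h4
    obtain rfl : p = 3 := by
      have h6 : p ∣ 2 ^ 3 * 3 ^ 2 * 5 * 7 := (dvd_pow_self p two_ne_zero).trans h5
      rcases (Nat.Prime.dvd_mul hp).1 h6 with h6 | h6
      · rcases (Nat.Prime.dvd_mul hp).1 h6 with h6 | h6
        · rcases (Nat.Prime.dvd_mul hp).1 h6 with h6 | h6
          · exact absurd ((Nat.prime_dvd_prime_iff_eq hp Nat.prime_two).1 (hp.dvd_of_dvd_pow h6)) h2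
          · exact (Nat.prime_dvd_prime_iff_eq hp Nat.prime_three).1 (hp.dvd_of_dvd_pow h6)
        · rw [(Nat.prime_dvd_prime_iff_eq hp Nat.prime_five).1 h6] at h5; omega
      · rw [(Nat.prime_dvd_prime_iff_eq hp (by norm_num)).1 h6] at h5; omega
    rwa [card_commutator_of_index_center hp hc (by
      rw [hj] at h4 ⊢
      refine pow_dvd_pow 3 (not_lt.1 fun e => ?_)
      exact absurd ((pow_dvd_pow 3 e).trans h4) (by norm_num))] at h3
  have h2 : ¬ 2 ∣ Nat.card (center G) := fun e => P.not_dvd_index (by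
    have h1 := card_mul_index (center G)
    rw [← card_mul_index (P : Subgroup G), h8, hA] at h1
    omega)
  have h3 : Nat.card (center G) ∣ 3 := (Nat.dvd_iff_prime_pow_dvd_dvd _ _).2 fun p k hp hk => by
    by_cases e : p = 2
    · obtain rfl | hk0 := eq_or_ne k 0
      · simp
      · exact absurd ((dvd_pow_self 2 hk0).trans (e ▸ hk)) h2
    · exact key p hp e k hk
  refine ((Nat.dvd_prime Nat.prime_three).1 h3).imp_left fun h1 => ⟨?_⟩
  exact ((QuotientGroup.quotientBot).symm.trans
    (QuotientGroup.quotientMulEquivOfEq (card_eq_one.1 h1).symm)).trans e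

end Cfsg.GW
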