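import Cfsg.Agent.GW.KillD

/-!
# `GW/Kill`: the four-group
-/

set_option autoImplicit false
set_option linter.unusedSectionVars false
set_option linter.style.haveILetI false

namespace Cfsg.GW

open Subgroup Finset Cfsg.Agent.FT
open scoped ComplexConjugate

universe u v

variable {G : Type u} [Group G] [Finite G] {M : Ideal AlgInt} {S : Subgroup G} {s t : G}
  {B : Set (IrrCharacter G)} {l m : (𝓒[t] : Subgroup G) →* ℂˣ}

local notation "θ[" t ", " l "]" => secInd 2 (MonoidHom.comp (Subgroup.subtype 𝓒[t])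
  (MonoidHom.id _)) t (((4 : ℕ) : ℂ) • fun k => (MonoidHom.comp l (MonoidHom.id _) k : ℂ))

theorem DihOf.fact_four (h : DihOf ⊤ S t s t) :
    2 ^ (Nat.card (𝓒[t] : Subgroup G)).factorization 2 = 4 := by
  rw [h.pair.factorization_centralizer_J h.syl.pgroup h.not_dvd_index h.t_mem h.ord, h.ord]

theorem DihOf.blockPart_col (h : DihOf ⊤ S t s t) (hM : IsPModular 2 M)
    (hB : Induces M (𝓒[t] : Subgroup G).subtype (linB M l) B) : blockPart B θ[t, l] = θ[t, l] :=
  h.isSec_t.blockPart_secInd_of_induces hM hB (blockPart_linB hM l _)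

theorem Base.v4_count [Fintype B] (h : Base S t s t) (hM : IsPModular 2 M)
    (hl : ∀ a, IsPElt 2 a → l a = 1) (hB : Induces M (𝓒[t] : Subgroup G).subtype (linB M l) B)
    {d c : B → ℤ} (hd' : ∀ χ : B, ip θ[t, l] χ.1.1 = d χ) (hc : ∀ χ : B, χ.1 t = c χ) :
    8 * ((𝓒[s] : Subgroup G).relIndex 𝐎(𝓒[t]) : ℚ) ^ 2 = (𝓒[t] : Subgroup G).index *
      ∑ χ : B, (d χ : ℚ) * (c χ * c χ / (charDegree χ.1.1 : ℤ)) := by
  classical
  haveI := Fintype.ofFinite G
  have hd := h.dih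
  have st := hd.isSec_t
  have e1 := col_count (hd.blockPart_col hM hB) hd' hc
  have c1 : IsClassFunction G fun g => (4 : ℕ) * secOne 2 t g := fun g k => by
    beta_reduce
    rw [isClassFunction_secOne 2 t g k]
  have s1 : secOne 2 t t = 1 := secOne_of_mem (self_mem_pSection (isPElt_two_of_orderOf hd.ord))
  have s6 : secOne 2 t 1 = 0 := secOne_apply_of_odd hd.t_ne_one (by simp)
  have p2 : t * t = 1 := mul_self_of_orderOf_eq_two hd.ord
  rw [h.sum_twist (isClassFunction_secInd _ _ _) c1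
    (fun g hg => secInd_apply_of_odd st hd.t_ne_one _ hg)
    (fun g hg => by simp [secOne_apply_of_odd hd.t_ne_one hg]) hl
    (fun y hy => secInd_linear_apply hd.ord (mem_zpowers t) st hl _ y hy),
    hd.pair.sum_pairs hd.syl.pgroup hd.not_dvd_index hd.t_mem hd.ord h.isConj c1
      (by simp [s6]) (fun g => by rw [secOne_pPartK t g]) (Or.inl rfl)
      (N := 2) two_ne_zero (c := 2) (fun a ha => by
        rcases eq_one_or_eq_of_mem_zpowers_of_orderOf_two hd.ord ha with rfl | rfl <;>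
          simp [sum_range_succ, s1, s6, p2] <;> norm_num)] at e1
  have h4 : Nat.card S = 4 := by rw [hd.pair.card_eq, hd.ord]
  have r1 := hd.relIndex_cent
  have r2 := hd.swap.relIndex_cent
  rw [hd.relIndex_swap hd.sdprod_top.le_left, h4] at r2
  rw [h4] at r1
  have i0 : (0 : ℚ) < (𝓒[t] : Subgroup G).index := by exact_mod_cast index_pos _
  generalize (𝓒[s] : Subgroup G).relIndex 𝐎(𝓒[t]) = e at *
  obtain r1 : (centralizer ({t, s} : Set G)).relIndex 𝓒[t] = e := by omega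
  obtain r2 : (centralizer ({t, t * s} : Set G)).relIndex 𝓒[t] = e := by omega
  rw [r1, r2] at e1
  have e2 : ((𝓒[t] : Subgroup G).index : ℚ) * 2 * (e + e) ^ 2 =
      ((𝓒[t] : Subgroup G).index : ℚ) ^ 2 * ∑ χ : B, (d χ : ℚ) *
        (c χ * c χ / (charDegree χ.1.1 : ℤ)) := by exact_mod_cast e1
  exact mul_left_cancel₀ i0.ne' (by linear_combination e2)

theorem DihOf.ip_col_irr (h : DihOf ⊤ S t s t) (hM : IsPModular 2 M) (χ : IrrCharacter G) :
    ip θ[t, l] χ.1 = conj (blockPart (linB M l) (secFun (𝓒[t] : Subgroup G).subtype t χ.1) 1) := by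
  have e : pRegularPart 2 (((4 : ℕ) : ℂ) • fun k => (l k : ℂ)) =
      blockPart (linB M l) (pRegularPart 2 (((4 : ℕ) : ℂ) • fun k => (l k : ℂ))) := by
    rw [(isPBlock_linB l).blockPart_pRegularPart hM (isClassFunction_linear _ _), blockPart_linB hM]
  rw [ip_secInd_irr]
  refine (congrArg (ip · _) e).trans ?_
  rw [ip_blockPart_left _ (isClassFunction_pRegularPart (isClassFunction_linear _ _))
    (h.isSec_t.isClassFunction_secFun χ.isClassFunction)]
  exact ip_col h.npc h.fact_four fun y hy =>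
    blockPart_apply_of_forall (fun ψ hψ => h.npc.apply_of_mem_linB hM hψ hy) _

theorem DihOf.ip_col_col (h : DihOf ⊤ S t s t) (hM : IsPModular 2 M) (hne : linB M l ≠ linB M m) :
    ip θ[t, l] θ[t, m] = ((0 : ℤ) : ℂ) := by
  rw [h.isSec_t.ip_secInd_secInd _ (isClassFunction_linear _ _), ip_smul_right]
  have e : pRegularPart 2 (((4 : ℕ) : ℂ) • fun k => (l k : ℂ)) =
      blockPart (linB M l) (pRegularPart 2 (((4 : ℕ) : ℂ) • fun k => (l k : ℂ))) := by
    rw [(isPBlock_linB l).blockPart_pRegularPart hM (isClassFunction_linear _ _), blockPart_linB hM]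
  have h2 := ip_blockPart_of_notMem (A := linB M l)
    (pRegularPart 2 (((4 : ℕ) : ℂ) • fun k => (l k : ℂ))) (ψ := IrrCharacter.ofLinear m)
    fun hm => hne ((isPBlock_linB l).eq_of_mem (isPBlock_linB m) hM hm (hM.mem_linB m))
  rw [← e] at h2
  exact (congrArg _ h2).trans (by simp)

theorem ip_three {K : Type v} [Group K] [Finite K] {a b c : K →* ℂˣ} (hab : b ≠ a) (hac : c ≠ a)
    {φ : K → ℂ} {x y z : ℂ} (h : ∀ k, φ k = x * a k + y * b k + z * c k) :
    ip φ (fun k => a k) = x := by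
  classical
  have : φ = x • (fun k => (a k : ℂ)) + y • (fun k => (b k : ℂ)) + z • fun k => (c k : ℂ) :=
    funext h
  rw [this, ip_add_left, ip_add_left, ip_smul_left, ip_smul_left, ip_smul_left, ip_linear_linear,
    ip_linear_linear, ip_linear_linear]
  simp [hab, hac]

theorem exists_parity {K : Type v} [Group K] [Finite K] (χ : IrrCharacter G) (j : K →* G)
    (a : K →* ℂˣ) {v w : G} (hv : orderOf v = 2) (hw : orderOf w = 2)
    (cv : ∀ k, Commute v (j k)) (cw : ∀ k, Commute w (j k)) : ∃ x y : ℤ, x % 2 = y % 2 ∧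
      ip (fun k => χ (v * j k)) (fun k => a k) = x ∧
      ip (fun k => χ (w * j k)) (fun k => a k) = y := by
  obtain ⟨n, hn⟩ := (χ.isCharacter.comp j).exists_ip_eq_nat (isCharacter_linear a)
  obtain ⟨n₁, h1⟩ := exists_ip_add χ.isCharacter j hv cv (isCharacter_linear a)
  obtain ⟨n₂, h2⟩ := exists_ip_add χ.isCharacter j hw cw (isCharacter_linear a)
  rw [hn] at h1 h2
  exact ⟨2 * n₁ - n, 2 * n₂ - n, by omega, by push_cast; linear_combination h1,
    by push_cast; linear_combination h2⟩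

theorem Base.v4_bound (h : Base S t s t) {π : 𝓒[t] →* (𝐎(𝓒[t]) ⊓ 𝓒[s] : Subgroup G)}
    (hπ : ∀ b, π (inclusion (inf_le_left.trans h.dih.sdprod_top.le_left) b) = b)
    {m : (𝐎(𝓒[t]) ⊓ 𝓒[s] : Subgroup G) →* ℂˣ} (hm : m ≠ 1) : ∃ γ : ℚ,
      8 * ((𝓒[s] : Subgroup G).relIndex 𝐎(𝓒[t]) : ℚ) ^ 2 = (𝓒[t] : Subgroup G).index * γ ∧
      (γ ≤ 3 / 5 ∨ ∃ d : ℤ, d % 4 = 3 ∧ γ = 8 / d) := by
  classical
  obtain ⟨M, hM⟩ := exists_isPModular Nat.prime_two
  have hd := h.dih
  have st := hd.isSec_t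
  have ho := odd_cent_core t s
  set ι := inclusion (inf_le_left.trans h.dih.sdprod_top.le_left :
    𝐎(𝓒[t]) ⊓ 𝓒[s] ≤ (𝓒[t] : Subgroup G))
  have hreg : ∀ b, IsPRegular 2 (ι b) := fun b =>
    IsPRegular.map (fun e => ho.not_two_dvd_nat (e.trans (orderOf_dvd_natCard _))) ι
  have hl : ∀ (m : (𝐎(𝓒[t]) ⊓ 𝓒[s] : Subgroup G) →* ℂˣ) a, IsPElt 2 a → m.comp π a = 1 :=
    fun m a ha => by rw [MonoidHom.comp_apply, map_eq_one_of_odd ho π ha, map_one]
  obtain ⟨ρ, hρ, e1, h3, hN⟩ := hd.exists_rho' h.one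
  obtain ⟨α, hα⟩ := hd.exists_act hρ
  have hB₀ : ∃ B, Induces M (𝓒[t] : Subgroup G).subtype (linB M (m.comp π)) B :=
    st.exists_induces hM (isPBlock_linB _)
  obtain ⟨B, hB₀⟩ := hB₀
  haveI := Fintype.ofFinite B
  have step : ∀ m : (𝐎(𝓒[t]) ⊓ 𝓒[s] : Subgroup G) →* ℂˣ,
      Induces M (𝓒[t] : Subgroup G).subtype (linB M (m.comp π)) B →
      Induces M (𝓒[t] : Subgroup G).subtype (linB M ((m.comp α).comp π)) B := fun m hm =>
    hd.induces_conj hM hm hρ fun y y' hy e => congrArg m (hd.act_retr hπ hρ hα y y' hy e)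
  have hB₁ := step _ hB₀
  have hB₂ := step _ hB₁
  have hall : ∀ b, Induces M (𝓒[t] : Subgroup G).subtype b B → b = linB M (m.comp π) ∨
      b = linB M ((m.comp α).comp π) ∨ b = linB M (((m.comp α).comp α).comp π) := fun b hb => by
    obtain ⟨g, hg, e⟩ := hd.exists_eq_linB hM hB₀ hb
    obtain ⟨β, hβ⟩ := hd.exists_act hg
    rw [e ((m.comp β).comp π) fun y y' hy e => congrArg m (hd.act_retr hπ hg hβ y y' hy e)]
    obtain ⟨c, hc, rfl | rfl | rfl⟩ := hN g hg
    · exact Or.inl (by congr 2; exact MonoidHom.ext fun y => hd.comp_act m hc (hβ y))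
    · refine Or.inr (Or.inl (by
        congr 2; exact MonoidHom.ext fun y => hd.comp_act m hc (by rw [hβ, hα]; group)))
    · refine Or.inr (Or.inr (by
        congr 2
        exact MonoidHom.ext fun y => hd.comp_act m hc (by rw [hβ, hα, hα]; simp [mul_assoc])))
  have cyc : ((m.comp α).comp α).comp α = m :=
    MonoidHom.ext fun y => hd.comp_act m h3 (by rw [hα, hα, hα]; simp [mul_assoc])
  obtain ⟨y, hy⟩ : ∃ y, m y ≠ 1 := by
    by_contra hc
    push Not at hc
    exact hm (MonoidHom.ext hc)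
  have hn := h.one_lt hM hB₀ (hreg y) (by rwa [MonoidHom.comp_apply, hπ])
  choose c hc using hd.exists_int_t
  have norm : ∀ l : (𝓒[t] : Subgroup G) →* ℂˣ, ip θ[t, l] θ[t, l] = ((4 : ℤ) : ℂ) := fun l =>
    ip_col_self st hd.npc _ hd.fact_four
  have deg : ∀ l : (𝓒[t] : Subgroup G) →* ℂˣ, θ[t, l] 1 = 0 := fun l =>
    secInd_apply_of_odd st hd.t_ne_one _ (by simp)
  by_cases h01 : m.comp α = m
  · have cθ : ∀ χ : B, ip θ[t, m.comp π] χ.1.1 = c χ := fun χ => by
      rw [ip_secInd_irr, ip_col hd.npc hd.fact_four (a := c χ), map_intCast]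
      intro y hy
      rw [secFun_apply, ← hc]
      refine st.irr_apply_of_forall hM hB₀.right hy (fun b hb ξ hξ =>
        hd.npc.apply_of_mem_linB hM ?_ hy) χ.2
      have := hall b hb
      rw [h01, h01, or_self, or_self] at this
      exact this ▸ hξ
    have b₀ := hd.blockPart_col hM hB₀
    exact ⟨_, h.v4_count hM (hl m) hB₀ cθ fun χ => hc χ, Or.inl (v4_arith_one hn
      (col_ip b₀ cθ cθ (norm _)) (col_deg b₀ cθ (deg _)) fun χ => h.four_dvd χ (hc χ))⟩
  have h12 : (m.comp α).comp α ≠ m.comp α := fun e => h01 (by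
    rw [e, e] at cyc; exact cyc)
  have h02 : (m.comp α).comp α ≠ m := fun e => h01 (by rwa [e] at cyc)
  have inj : ∀ {a b : (𝐎(𝓒[t]) ⊓ 𝓒[s] : Subgroup G) →* ℂˣ}, a ≠ b →
      linB M (a.comp π) ≠ linB M (b.comp π) := fun hab e => hab (MonoidHom.ext fun y => by
    simpa only [MonoidHom.comp_apply, hπ] using linB_inj hM hd.npc e (hreg y))
  let D : ((𝐎(𝓒[t]) ⊓ 𝓒[s] : Subgroup G) →* ℂˣ) → B → ℂ := fun a χ =>
    blockPart (linB M (a.comp π)) (secFun (𝓒[t] : Subgroup G).subtype t χ.1.1) 1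
  have val : ∀ (χ : B) (y : (𝓒[t] : Subgroup G)), IsPRegular 2 y → χ.1 (t * y) =
      D m χ * m (π y) + D (m.comp α) χ * m.comp α (π y) +
        D ((m.comp α).comp α) χ * (m.comp α).comp α (π y) := fun χ y hy => by
    have e := (isSec_centralizer (isPElt_two_of_orderOf hd.ord)).irr_apply_eq_sum hM hB₀.right χ.2 hy
    have e2 : (univ.filter fun b : Blocks (𝓒[t] : Subgroup G) M =>
        Induces M (𝓒[t] : Subgroup G).subtype b.1 B) = {⟨_, hB₀.left⟩, ⟨_, hB₁.left⟩,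
          ⟨_, hB₂.left⟩} := by
      ext b
      simp only [mem_filter, mem_univ, true_and, mem_insert, mem_singleton, Subtype.ext_iff]
      exact ⟨hall _, fun e => by rcases e with e | e | e <;> rw [e] <;> assumption⟩
    rw [e2, sum_insert (by
      simp only [mem_insert, mem_singleton, Subtype.ext_iff, not_or]
      exact ⟨inj (Ne.symm h01), inj h02.symm⟩),
      sum_pair (fun e => inj h12.symm (congrArg Subtype.val e))] at e
    have e3 : ∀ (l : (𝓒[t] : Subgroup G) →* ℂˣ) φ, blockPart (linB M l) φ y =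
        blockPart (linB M l) φ 1 * l y := fun l φ =>
      blockPart_apply_of_forall (fun ψ hψ => hd.npc.apply_of_mem_linB hM hψ hy) _
    rw [e3, e3, e3, ← add_assoc] at e
    exact e
  have int : ∀ χ : B, ∃ d₀ d₁ d₂ : ℤ, D m χ = d₀ ∧ D (m.comp α) χ = d₁ ∧
      D ((m.comp α).comp α) χ = d₂ ∧ d₀ % 2 = d₁ % 2 ∧ d₁ % 2 = d₂ % 2 := fun χ => by
    have vt : ∀ k : (𝐎(𝓒[t]) ⊓ 𝓒[s] : Subgroup G), χ.1 (t * (Subgroup.subtype _) k) =
        D m χ * m k + D (m.comp α) χ * m.comp α k +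
          D ((m.comp α).comp α) χ * (m.comp α).comp α k := fun k => by
      have := val χ _ (hreg k)
      rw [hπ] at this
      exact this
    have vs : ∀ k : (𝐎(𝓒[t]) ⊓ 𝓒[s] : Subgroup G), χ.1 (s * (Subgroup.subtype _) k) =
        D m χ * m.comp α k + D (m.comp α) χ * (m.comp α).comp α k +
          D ((m.comp α).comp α) χ * m k := fun k => by
      have := vt (α k)
      rw [Subgroup.subtype_apply, hα, ← χ.1.isClassFunction _ ρ,
        show ρ * (t * (ρ⁻¹ * k * ρ)) * ρ⁻¹ = ρ * t * ρ⁻¹ * k by group, e1] at this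
      rw [Subgroup.subtype_apply, this, ← DFunLike.congr_fun cyc k]
      rfl
    have ct : ∀ k : (𝐎(𝓒[t]) ⊓ 𝓒[s] : Subgroup G), Commute t ((Subgroup.subtype _) k) := fun k =>
      (mem_cent1.1 (ι k).2).symm
    have cs : ∀ k : (𝐎(𝓒[t]) ⊓ 𝓒[s] : Subgroup G), Commute s ((Subgroup.subtype _) k) := fun k =>
      (mem_cent1.1 k.2.2).symm
    obtain ⟨x₁, y₁, p1, a1, b1⟩ := exists_parity χ.1 _ (m.comp α) hd.ord hd.isFour.ord_right ct cs
    obtain ⟨x₂, y₂, p2, a2, b2⟩ := exists_parity χ.1 _ ((m.comp α).comp α) hd.ord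
      hd.isFour.ord_right ct cs
    rw [ip_three (Ne.symm h01) h12 fun k => (vt k).trans (by rw [add_comm (D m χ * _)])] at a1
    rw [ip_three h12 (Ne.symm h01) vs] at b1
    rw [ip_three h02.symm h12.symm fun k => (vt k).trans (by rw [add_comm, ← add_assoc])] at a2
    rw [ip_three h12.symm h02.symm fun k => (vs k).trans (by rw [add_comm (D m χ * _)])] at b2
    have : x₁ = y₂ := by exact_mod_cast a1.symm.trans b2
    exact ⟨y₁, x₁, x₂, b1, a1, a2, p1.symm, by omega⟩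
  choose d₀ d₁ d₂ f₀ f₁ f₂ p1 p2 using int
  have c₀ : ∀ χ : B, ip θ[t, m.comp π] χ.1.1 = d₀ χ := fun χ =>
    (hd.ip_col_irr hM _).trans ((congrArg conj (f₀ χ)).trans (map_intCast _ _))
  have c₁ : ∀ χ : B, ip θ[t, (m.comp α).comp π] χ.1.1 = d₁ χ := fun χ =>
    (hd.ip_col_irr hM _).trans ((congrArg conj (f₁ χ)).trans (map_intCast _ _))
  have c₂ : ∀ χ : B, ip θ[t, ((m.comp α).comp α).comp π] χ.1.1 = d₂ χ := fun χ =>
    (hd.ip_col_irr hM _).trans ((congrArg conj (f₂ χ)).trans (map_intCast _ _))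
  have hc' : ∀ χ : B, χ.1 t = (d₀ χ + d₁ χ + d₂ χ : ℤ) := fun χ => by
    simpa [f₀, f₁, f₂] using val χ 1 isPRegular_one
  have b₀ := hd.blockPart_col hM hB₀
  have b₁ := hd.blockPart_col hM hB₁
  have b₂ := hd.blockPart_col hM hB₂
  obtain ⟨d, r, e⟩ := v4_arith_three (fun χ => one_pos.trans (hn χ)) (col_ip b₀ c₀ c₀ (norm _))
    (col_ip b₁ c₁ c₁ (norm _)) (col_ip b₂ c₂ c₂ (norm _))
    (col_ip b₀ c₀ c₁ (hd.ip_col_col hM (inj (Ne.symm h01))))
    (col_ip b₀ c₀ c₂ (hd.ip_col_col hM (inj h02.symm)))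
    (col_ip b₁ c₁ c₂ (hd.ip_col_col hM (inj h12.symm))) (col_deg b₀ c₀ (deg _))
    (col_deg b₁ c₁ (deg _)) (col_deg b₂ c₂ (deg _)) p1 p2 fun χ => h.four_dvd χ (hc' χ)
  refine ⟨_, h.v4_count hM (hl m) hB₀ c₀ hc', Or.inr ⟨d, r, ?_⟩⟩
  rw [← e]
  push_cast
  rfl

end Cfsg.GW
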