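import Cfsg.Agent.GW.NumB
import Cfsg.Agent.GW.KillV

/-!
# Killing `C_U(S)`

`H = C(t) = U ⋊ S`, `U = K ⋊ B`, `K = [U,s]`, `B = C_U(s)`. If `B ≠ 1`, let `λ ≠ 1` be a linear
character of `H` with kernel `⊇ K S`, `B'` the block of `G` induced by the block of `λ`. The blocks of
`H` inducing `B'` are the blocks of the `N(S)`-conjugates of `λ` (`KillB`). Counting pairs of
involutions with the columns of `B'` bounds `|U:B|²/|G:H|` (`KillD`, `KillV`), and the comparison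
with the principal block (`NumB`) gives a contradiction (`KillN`).
-/

set_option autoImplicit false

namespace Cfsg.GW

open Subgroup Cfsg.Agent.FT
open scoped commutatorElement

universe u

variable {G : Type u} [Group G] [Finite G] {S : Subgroup G} {x s t : G}

theorem Base.kill (h : Base S x s t) (hx : 𝐎(𝓒[t]) ≤ 𝓒[x])
    (hK : ∀ y ∈ ⁅𝐎(𝓒[t]), zpowers s⁆, s * y * s⁻¹ = y⁻¹) : 𝐎(𝓒[t]) ⊓ 𝓒[s] = ⊥ := by
  by_contra hne
  haveI := h.simple
  have hs : IsSimpleGroup (⊤ : Subgroup G) := topEquiv.isSimpleGroup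
  obtain ⟨π, hπ⟩ := h.dih.exists_retr hx hK
  have ho := odd_cent_core t s
  obtain ⟨m, hm⟩ : ∃ m : (𝐎(𝓒[t]) ⊓ 𝓒[s] : Subgroup G) →* ℂˣ, m ≠ 1 := by
    haveI := sol_of_odd ho
    haveI := (nontrivial_iff_ne_bot _).2 hne
    exact exists_linear_ne_one_of_commutator_ne_top
      (IsSolvable.commutator_lt_top_of_nontrivial _).ne
  have i0 : (0 : ℚ) < (𝓒[t] : Subgroup G).index := by exact_mod_cast index_pos _
  rcases h.dih.cases with rfl | hx2
  · obtain ⟨γ, e, hγ⟩ := h.v4_bound hπ hm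
    obtain ⟨m₁, m₂, m₃, r1, r2, r3, hs0, e1, h1, h2⟩ := v4_data h.dih h.one
    simp only [top_inf_eq, relIndex_top_right] at e1 h1 h2
    have h3 : ¬ (m₁ = 1 ∨ m₂ = 1 ∨ m₃ = 1) := fun hc => by
      obtain ⟨N, hN, h4, h5⟩ := h1 hc
      rcases IsSimpleGroup.eq_bot_or_eq_top_of_normal N (IsNormalOf.top_iff.1 hN) with h6 | h6
      · exact h.dih.t_ne_one (mem_bot.1 (h6 ▸ h5 (mem_cent1.2 rfl)))
      · exact h4 h6
    have h4 := mt (h2 hs) hne
    have e2 : (1 : ℚ) + 1 / m₁ + 1 / m₂ + 1 / m₃ = γ := mul_left_cancel₀ i0.ne' (e1.trans e)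
    rcases hγ with h5 | ⟨d, h5, rfl⟩
    · have := (v4_lower (m₁ := m₁) (m₂ := m₂) (m₃ := m₃) (by omega) (by omega) (by omega) hs0).1
      linarith
    · exact v4_final r1 r2 r3 (by omega) (by omega) (by omega) hs0 h5 e2
  · obtain ⟨y, hy⟩ : ∃ y, m y ≠ 1 := by
      by_contra hc
      push Not at hc
      exact hm (MonoidHom.ext hc)
    have key := h.d8_bound hx2 hx (l := m.comp π)
      (fun a ha => by rw [MonoidHom.comp_apply, map_eq_one_of_odd ho π ha, map_one])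
      (IsPRegular.map (fun e => ho.not_two_dvd_nat (e.trans (orderOf_dvd_natCard y))) _)
      (by rwa [MonoidHom.comp_apply, hπ])
    obtain ⟨m₁, m₂, m₃, r1, r1', r2, r3, hs0, e1, e2, h1, -⟩ := d8_data h.dih hx2 h.one
    simp only [top_inf_eq, relIndex_top_right] at e1 e2 h1
    rw [h.dih.relIndex_swap hx] at e1 e2
    refine hne (h1 hs (Or.inr (Or.inl (Or.inr (d8_final r1 r1' r2 r3 hs0 rfl ?_ ?_))))).1
    · exact mul_left_cancel₀ i0.ne' (by linear_combination e2 - (m₁ * (m₁ + 1) : ℚ) * e1)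
    · exact le_of_mul_le_mul_left (by linarith) i0

end Cfsg.GW
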