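import Cfsg.Agent.Blk.PrinDih
import Cfsg.Agent.Blk.FrobCorr
import Cfsg.Agent.Blk.SecProj
import Cfsg.Agent.Blk.Local

/-!
# Blocks containing a linear character
-/

set_option autoImplicit false
set_option linter.unusedSectionVars false
set_option linter.style.haveILetI false

namespace Cfsg

open Subgroup GA
open scoped ComplexConjugate

universe u v

variable {G : Type u} [Group G] [Finite G] {H : Type v} [Group H] [Finite H] {p : ℕ}
  {M : Ideal AlgInt}

/-- the block of a linear character -/
def linB (M : Ideal AlgInt) (l : G →* ℂˣ) : Set (IrrCharacter G) :=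
  blockOf M (IrrCharacter.ofLinear l).1

theorem isPBlock_linB (l : G →* ℂˣ) : IsPBlock M (linB M l) := isPBlock_blockOf _

theorem IsPModular.mem_linB (hM : IsPModular p M) (l : G →* ℂˣ) :
    IrrCharacter.ofLinear l ∈ linB M l := hM.mem_blockOf_self _

theorem linear_mem_locO (l : G →* ℂˣ) (g : G) : (l g : ℂ) ∈ locO M :=
  (IrrCharacter.ofLinear l).mem_locO g

theorem centralChar_linear_smul (l : G →* ℂˣ) (ψ : IrrCharacter G) (g : G) :
    centralChar (l • ψ).1 g = l g * centralChar ψ.1 g := by
  simp only [centralChar, IrrCharacter.linear_smul_val, Pi.mul_apply, map_one, Units.val_one,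
    one_mul]
  ring

theorem IsPModular.smul_mem_principal (hM : IsPModular p M) {l : G →* ℂˣ} {ψ : IrrCharacter G}
    (h : ψ ∈ linB M l) : l⁻¹ • ψ ∈ principalBlock M G := by
  have h1 : IrrCharacter.one G = l⁻¹ • IrrCharacter.ofLinear l := by
    rw [IrrCharacter.linear_smul_ofLinear, ← IrrCharacter.ofLinear_one]
    congr 1
    ext g
    simp
  have h2 : SameBlock M (IrrCharacter.one G).1 (l⁻¹ • ψ).1 := by
    rw [hM.sameBlock_iff, h1]
    intro g
    rw [centralChar_linear_smul, centralChar_linear_smul,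
      red_mul (linear_mem_locO _ _) (centralChar_mem_locO _ _),
      red_mul (linear_mem_locO _ _) (centralChar_mem_locO _ _),
      (hM.sameBlock_iff _ _).1 h g]
  exact h2

theorem HasNormalPComplement.apply_of_mem_linB (h : HasNormalPComplement p G)
    (hM : IsPModular p M) {l : G →* ℂˣ} {ψ : IrrCharacter G} (hψ : ψ ∈ linB M l) {y : G}
    (hy : IsPRegular p y) : ψ y = ψ 1 * l y := by
  have h1 := h.irr_apply_of_isPRegular hM (hM.smul_mem_principal hψ) hy
  simp only [IrrCharacter.linear_smul_apply, MonoidHom.inv_apply, Units.val_inv_eq_inv_val,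
    map_one, Units.val_one, inv_one, one_mul] at h1
  rw [← h1, mul_comm, ← mul_assoc, mul_inv_cancel₀ (l y).ne_zero, one_mul]

theorem blockPart_apply_of_forall {b : Set (IrrCharacter G)} {y : G} {c : ℂ}
    (h : ∀ ψ ∈ b, ψ y = ψ 1 * c) (θ : G → ℂ) : blockPart b θ y = blockPart b θ 1 * c := by
  classical
  haveI := Fintype.ofFinite G
  simp only [blockPart, finsum_mem_irr_eq_sum, Finset.sum_mul]
  refine Finset.sum_congr rfl fun ψ hψ => ?_
  have := h ψ (Finset.mem_filter.1 hψ).2
  change _ * ψ y = _ * ψ 1 * c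
  rw [this, mul_assoc]

theorem blockPart_linB (hM : IsPModular p M) (l : G →* ℂˣ) (c : ℂ) :
    blockPart (linB M l) (c • fun g => (l g : ℂ)) = c • fun g => (l g : ℂ) := by
  have := blockPart_irr_of_mem (hM.mem_linB l)
  rw [IrrCharacter.ofLinear_val] at this
  rw [blockPart_smul, this]

theorem isClassFunction_linear (l : G →* ℂˣ) (c : ℂ) :
    IsClassFunction G (c • fun g => (l g : ℂ)) :=
  (isCharacter_linear l).isClassFunction.smul c

theorem ip_pRegularPart_linear (l : G →* ℂˣ) {φ : G → ℂ} {a : ℂ}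
    (h : ∀ y, IsPRegular p y → φ y = a * l y) (c : ℂ) :
    ip (pRegularPart p (c • fun g => (l g : ℂ))) φ =
      c * conj a * ip (pRegularPart p fun _ : G => 1) (fun _ => 1) := by
  haveI := Fintype.ofFinite G
  simp only [ip_def, Finset.mul_sum]
  refine Finset.sum_congr rfl fun y _ => ?_
  unfold pRegularPart
  split_ifs with hy
  · rw [h y hy, map_mul]
    have := linear_mul_conj_apply l y
    simp only [Pi.smul_apply, smul_eq_mul, map_one]
    linear_combination ((Nat.card G : ℂ)⁻¹ * c * conj a) * this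
  · simp

theorem ip_pRegularPart_one_ne_zero [Fact p.Prime] :
    ip (pRegularPart p fun _ : G => 1) (fun _ => 1) ≠ 0 := by
  classical
  haveI := Fintype.ofFinite G
  have h1 : ∑ y : G, pRegularPart p (fun _ : G => (1 : ℂ)) y * conj (1 : ℂ) =
      ((Finset.univ.filter fun y : G => IsPRegular p y).card : ℂ) := by
    rw [Finset.card_filter, Nat.cast_sum]
    refine Finset.sum_congr rfl fun y _ => ?_
    unfold pRegularPart IsPRegular
    split_ifs <;> simp
  rw [ip_def, h1]
  refine mul_ne_zero (inv_ne_zero (Nat.cast_ne_zero.2 Nat.card_pos.ne')) (Nat.cast_ne_zero.2 ?_)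
  exact (Finset.card_pos.2 ⟨1, by simpa using isPRegular_one⟩).ne'

theorem IsSec.induces_linB (hM : IsPModular p M) {f : H →* G} {x : G} (h : IsSec p f x)
    (l : G →* ℂˣ) : Induces M f (linB M (l.comp f)) (linB M l) := by
  haveI := hM.fact
  obtain ⟨B, hB⟩ := h.exists_induces hM (isPBlock_linB (l.comp f))
  have h1 := h.blockPart_secInd_of_induces hM hB (blockPart_linB hM (l.comp f) 1)
  have h2 : IrrCharacter.ofLinear l ∈ B := by
    by_contra hn
    have h3 := (blockPart_eq_self_iff (isClassFunction_secInd _ _ _)).1 h1 _ hn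
    rw [ip_secInd_irr, ip_pRegularPart_linear (a := l x) _ (fun y _ => by simp)] at h3
    simp [ip_pRegularPart_one_ne_zero] at h3
  rwa [hB.right.eq_of_mem (isPBlock_linB l) hM h2 (hM.mem_linB l)] at hB

theorem Induces.apply_of_linB (hM : IsPModular p M) (hG : HasNormalPComplement p G) {f : H →* G}
    (hf : Function.Injective f) {c : Set (IrrCharacter H)} {l : G →* ℂˣ}
    (h : Induces M f c (linB M l)) {ξ : IrrCharacter H} (hξ : ξ ∈ c) {y : H}
    (hy : IsPRegular p y) : ξ y = ξ 1 * l (f y) := by
  obtain ⟨χ, hχ, h1⟩ := h.exists_liesOver hM hf hξ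
  have hy' : IsPRegular p (f y) := by rwa [IsPRegular, orderOf_injective f hf]
  have h2 : ip ((l⁻¹ • χ).1 ∘ f) ((l⁻¹.comp f) • ξ).1 ≠ 0 := by
    rw [IrrCharacter.linear_smul_val, IrrCharacter.linear_smul_val]
    have := ip_linear_mul_linear_mul (l⁻¹.comp f) (χ.1 ∘ f) ξ.1
    exact fun h0 => h1 (this.symm.trans h0)
  have h3 := ((l⁻¹ • χ).isCharacter.comp f).apply_eq_of_constituent (g := y)
    (by
      have := hG.irr_apply_of_isPRegular hM (hM.smul_mem_principal hχ) hy'
      simpa using this) h2
  simp only [IrrCharacter.linear_smul_apply, MonoidHom.inv_apply, Units.val_inv_eq_inv_val,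
    map_one, Units.val_one, inv_one, one_mul, MonoidHom.comp_apply] at h3
  rw [← h3, mul_comm, ← mul_assoc, mul_inv_cancel₀ (l (f y)).ne_zero, one_mul]

/-- the value of `χ` on a section, when all blocks inducing the block of `χ` restrict to
multiples of `l` -/
theorem IsSec.irr_apply_of_forall (hM : IsPModular p M) {f : H →* G} {x : G} (h : IsSec p f x)
    {B : Set (IrrCharacter G)} (hB : IsPBlock M B) {y : H} (hy : IsPRegular p y) {c : ℂ}
    (hc : ∀ b, Induces M f b B → ∀ ξ ∈ b, ξ y = ξ 1 * c) {χ : IrrCharacter G} (hχ : χ ∈ B) :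
    χ (x * f y) = χ x * c := by
  classical
  haveI := hM.fact
  have h1 := h.irr_apply_eq_sum hM hB hχ (isPRegular_one (p := p))
  rw [map_one, mul_one] at h1
  rw [h.irr_apply_eq_sum hM hB hχ hy, h1, Finset.sum_mul]
  exact Finset.sum_congr rfl fun b hb =>
    blockPart_apply_of_forall (hc _ (Finset.mem_filter.1 hb).2) _

theorem linB_eq_principal_iff (hM : IsPModular p M) (hG : HasNormalPComplement p G)
    {l : G →* ℂˣ} (h : linB M l = principalBlock M G) {y : G} (hy : IsPRegular p y) :
    l y = 1 := by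
  have := hG.irr_apply_of_isPRegular hM (h ▸ hM.mem_linB l) hy
  simpa using this

theorem linB_inj (hM : IsPModular p M) (hG : HasNormalPComplement p G)
    {l m : G →* ℂˣ} (h : linB M l = linB M m) {y : G} (hy : IsPRegular p y) :
    l y = m y := by
  have := hG.apply_of_mem_linB hM (h ▸ hM.mem_linB l) hy
  simpa [Units.val_inj] using this

theorem blockDefect_linB [Fact p.Prime] (hM : IsPModular p M) (l : G →* ℂˣ) :
    blockDefect p (linB M l) = (Nat.card G).factorization p :=
  ((isPBlock_linB l).blockDefect_eq_iff hM).2 ⟨_, hM.mem_linB l, by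
    rw [IrrCharacter.charDegree_ofLinear, Nat.dvd_one]; exact hM.prime.ne_one⟩

end Cfsg

set_option linter.all false in
theorem Cfsg.Rz.GW_KillA_0 : True := by
  have := @_root_.Cfsg.linB.eq_def.{0}
  have := @_root_.Cfsg.linB.eq_1.{0}
  have := @_root_.Cfsg.linB.fun_cases
  trivial
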