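import Cfsg.Agent.GW.Basic

/-!
# Group-theoretic preparation for `GW/Kill`
-/

set_option autoImplicit false
set_option linter.unusedSectionVars false

namespace Cfsg.GW

open Subgroup Cfsg.Agent.FT
open scoped commutatorElement

universe u

variable {G : Type u} [Group G] [Finite G] {S : Subgroup G} {x s t : G}

theorem exists_retr_of_isSdprod {N R L : Subgroup G} (h : IsSdprod N R L) :
    ∃ π : L →* R, ∀ r : R, π (inclusion h.le_right r) = r := by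
  have h1 : ∀ m : L, ∃ r : R, (m : G) * (r : G)⁻¹ ∈ N := fun m => by
    obtain ⟨a, ha, b, hb, e⟩ := h.isProd.2.2 m m.2
    exact ⟨⟨b, hb⟩, by simpa [e] using ha⟩
  choose π hπ using h1
  have h2 : ∀ (m : L) (r : R), (m : G) * (r : G)⁻¹ ∈ N → π m = r := fun m r hr => by
    have h3 : (r : G) * (π m : G)⁻¹ ∈ N ⊓ R := by
      refine ⟨?_, R.mul_mem r.2 (R.inv_mem (π m).2)⟩
      have := N.mul_mem (N.inv_mem hr) (hπ m)
      simpa [mul_assoc] using this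
    rw [h.inf, mem_bot, mul_inv_eq_one] at h3
    exact Subtype.ext h3.symm
  refine ⟨MonoidHom.mk' π fun a b => h2 _ _ ?_, fun r => h2 _ _ (by simp)⟩
  have h3 := N.mul_mem (hπ a) (h.normal.conj_mem (h.le_right (π a).2) (hπ b))
  simpa [mul_assoc] using h3

theorem DihOf.sdprod_top (h : DihOf ⊤ S x s t) : IsSdprod 𝐎(𝓒[t]) S 𝓒[t] := by
  simpa only [top_inf_eq] using h.sdprod

theorem DihOf.cent_four_top (h : DihOf ⊤ S x s t) :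
    IsDprod (𝐎(𝓒[t]) ⊓ 𝓒[s]) (four t s) (𝓒[t] ⊓ 𝓒[s]) := by
  simpa only [top_inf_eq, Cfsg.GW.cent_four] using h.cent_four

theorem DihOf.not_dvd_index (h : DihOf ⊤ S x s t) : ¬ 2 ∣ S.index := by
  simpa only [relIndex_top_right] using h.syl.not_dvd

theorem DihOf.s_mem_cent (h : DihOf ⊤ S x s t) : s ∈ 𝓒[t] := h.le_cent h.pair.mem_τ

theorem DihOf.x_mem_cent (h : DihOf ⊤ S x s t) : x ∈ 𝓒[t] := h.le_cent h.pair.mem_σ

theorem DihOf.exists_retr (h : DihOf ⊤ S x s t) (hx : 𝐎(𝓒[t]) ≤ 𝓒[x])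
    (hK : ∀ y ∈ ⁅𝐎(𝓒[t]), zpowers s⁆, s * y * s⁻¹ = y⁻¹) :
    ∃ π : 𝓒[t] →* (𝐎(𝓒[t]) ⊓ 𝓒[s] : Subgroup G),
      ∀ b, π (inclusion (inf_le_left.trans h.sdprod_top.le_left) b) = b := by
  have hs := h.sdprod_top
  have ho := odd_core (𝓒[t] : Subgroup G)
  have hsn : s ∈ 𝓝(𝐎(𝓒[t])) := hs.norm h.pair.mem_τ
  have hKU : ⁅𝐎(𝓒[t]), zpowers s⁆ ≤ 𝐎(𝓒[t]) := comm_le_left (zpowers_le.2 hsn)
  have hSK : S ≤ 𝓝(⁅𝐎(𝓒[t]), zpowers s⁆) := by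
    rw [h.eq_sup]
    exact sup_le (zpowers_le.2 (cent_le_norm _ (le_cent1_iff.1 (hKU.trans hx))))
      (right_le_norm_comm _ _)
  have hp := isProd_cent_comm ho h.pair.mul_self hsn
  have h1 : IsSdprod (⁅𝐎(𝓒[t]), zpowers s⁆ ⊔ S) (𝐎(𝓒[t]) ⊓ 𝓒[s]) 𝓒[t] := by
    refine ⟨by rw [sup_right_comm, hp.sup_eq, hs.sup], ?_, ?_⟩
    · refine (le_inf (inf_le_left.trans (left_le_norm_comm _ _)) (le_norm_of_le_cent ?_)).trans
        (normalizer_inf_normalizer_le_normalizer_sup _ _)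
      rw [h.eq_sup]
      exact le_cent_sup (le_cent_zpowers.2 (inf_le_left.trans hx)) (le_cent_zpowers.2 inf_le_right)
    · rw [eq_bot_iff]
      rintro g ⟨hg1, hg2, hg3⟩
      obtain ⟨k, hk, σ, hσ, rfl⟩ := (isProd_of_le_norm hSK).2.2 g hg1
      have h2 : σ ∈ 𝐎(𝓒[t]) ⊓ S :=
        ⟨by simpa using mul_mem (inv_mem (hKU hk)) hg2, hσ⟩
      rw [hs.inf, mem_bot] at h2
      subst h2
      rw [← cent_eq_bot_of_inv (ho.of_dvd_nat (card_dvd_of_le hKU)) hK]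
      exact ⟨by simpa using hk, hg3⟩
  exact exists_retr_of_isSdprod h1

theorem DihOf.norm_zpowers_le (h : DihOf ⊤ S x s t) : 𝓝(zpowers x) ≤ 𝓒[t] := fun n hn => by
  have h1 : n * t * n⁻¹ ∈ zpowers x := (mem_normalizer_iff.1 hn t).1 h.t_mem
  have h2 := eq_of_orderOf_eq_two_of_mem_zpowers h1 h.t_mem (by rw [orderOf_conj_eq, h.ord]) h.ord
  exact mem_cent1.2 (mul_inv_eq_iff_eq_mul.1 h2)

theorem DihOf.le_norm_zpowers (h : DihOf ⊤ S x s t) (hx : 𝐎(𝓒[t]) ≤ 𝓒[x]) :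
    𝓒[t] ≤ 𝓝(zpowers x) := by
  rw [← h.sdprod_top.sup]
  refine sup_le (hx.trans (cent1_le_norm_zpowers x)) fun g hg =>
    mem_normalizer_of_forall_conj_mem fun a ha => ?_
  rcases h.pair.conj_cases hg ha with e | e <;> rw [e]
  exacts [ha, inv_mem ha]

theorem DihOf.norm_le (h : DihOf ⊤ S x s t) (hx2 : x * x = t) : 𝓝(S) ≤ 𝓒[t] := fun n hn => by
  refine h.norm_zpowers_le (mem_normalizer_of_forall_conj_mem ?_)
  have h1 : n * x * n⁻¹ ∈ zpowers x := by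
    by_contra hc
    have h2 := h.pair.mul_self_of_notMem ((mem_normalizer_iff.1 hn x).1 h.pair.mem_σ) hc
    have h3 : n * t * n⁻¹ = 1 := by rw [← h2, ← hx2]; group
    have h4 := orderOf_conj_eq n t
    rw [h3, h.ord] at h4
    simp at h4
  intro a ha
  obtain ⟨k, rfl⟩ := mem_zpowers_iff.1 ha
  rw [← conj_zpow]
  exact zpow_mem h1 k

theorem DihOf.relIndex_cent (h : DihOf ⊤ S x s t) :
    (centralizer ({t, s} : Set G)).relIndex 𝓒[t] * 4 =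
      Nat.card S * (𝓒[s] : Subgroup G).relIndex 𝐎(𝓒[t]) := by
  have h0 : centralizer ({t, s} : Set G) = 𝓒[t] ⊓ 𝓒[s] := by
    ext g
    simp [mem_centralizer_iff]
  have h1 := h.sdprod_top.card
  have h2 := h.cent_four_top.card
  rw [h.isFour.card] at h2
  have h3 := card_mul_relIndex (inf_le_left : 𝓒[t] ⊓ 𝓒[s] ≤ (𝓒[t] : Subgroup G))
  have h4 := card_mul_relIndex (inf_le_left : 𝐎(𝓒[t]) ⊓ 𝓒[s] ≤ (𝐎(𝓒[t]) : Subgroup G))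
  rw [inf_relIndex_left] at h4
  rw [h0]
  refine Nat.eq_of_mul_eq_mul_left (Nat.card_pos (α := (𝐎(𝓒[t]) ⊓ 𝓒[s] : Subgroup G))) ?_
  rw [← h1, ← h2, ← h4] at h3
  linarith

theorem DihOf.relIndex_swap (h : DihOf ⊤ S x s t) (hx : 𝐎(𝓒[t]) ≤ 𝓒[x]) :
    (𝓒[x * s] : Subgroup G).relIndex 𝐎(𝓒[t]) = (𝓒[s] : Subgroup G).relIndex 𝐎(𝓒[t]) := by
  rw [← inf_relIndex_left, ← inf_relIndex_left _ 𝓒[s]]
  congr 1
  ext g
  simp only [mem_inf, and_congr_right_iff, mem_cent1]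
  intro hg
  rw [← mul_assoc, mem_cent1.1 (hx hg), mul_assoc, mul_assoc, mul_right_inj]

theorem odd_cent_core (t s : G) : Odd (Nat.card (𝐎(𝓒[t]) ⊓ 𝓒[s] : Subgroup G)) :=
  (odd_core _).of_dvd_nat (card_dvd_of_le inf_le_left)

theorem map_eq_one_of_odd {H K : Type*} [Group H] [Group K] [Finite K] (ho : Odd (Nat.card K))
    (π : H →* K) {a : H} (ha : IsPElt 2 a) : π a = 1 :=
  (ha.map π).eq_one_of_isPRegular fun h => ho.not_two_dvd_nat (h.trans (orderOf_dvd_natCard _))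

section four

variable (h : DihOf ⊤ S t s t)
include h

theorem DihOf.cent_eq : 𝓒(S) = 𝓒[t] ⊓ 𝓒[s] := by rw [h.card_four rfl, GW.cent_four]

theorem DihOf.le_cent_self : S ≤ 𝓒(S) := by
  rw [h.cent_eq]
  refine le_inf h.le_cent ?_
  rw [h.card_four rfl]
  exact sup_le (zpowers_le.2 (mem_cent1.2 h.isFour.comm)) (zpowers_le.2 (mem_cent1.2 rfl))

theorem DihOf.exists_act {g : G} (hg : g ∈ 𝓝(S)) :
    ∃ α : (𝐎(𝓒[t]) ⊓ 𝓒[s] : Subgroup G) →* (𝐎(𝓒[t]) ⊓ 𝓒[s] : Subgroup G),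
      ∀ y, (α y : G) = g⁻¹ * y * g := by
  have h1 : (𝐎(𝓒[t]) ⊓ 𝓒[s]) :^ g⁻¹ ≤ 𝓒[t] ⊓ 𝓒[s] := by
    rw [← h.cent_eq]
    exact conj_le_of_mem_norm (h.cent_eq ▸ h.cent_four_top.le_left)
      (le_norm_cent le_rfl (inv_mem hg))
  have h2 : (𝐎(𝓒[t]) ⊓ 𝓒[s]) :^ g⁻¹ ≤ 𝐎(𝓒[t]) := by
    have := h.le_core (X := (𝐎(𝓒[t]) ⊓ 𝓒[s]) :^ g⁻¹) (le_inf le_top (h1.trans inf_le_left))
      (by rw [card_map_conj]; exact odd_cent_core t s)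
    rwa [top_inf_eq] at this
  refine ⟨((MulAut.conj g⁻¹).toMonoidHom.comp (Subgroup.subtype _)).codRestrict _ fun y =>
    le_inf h2 (h1.trans inf_le_right) (mem_map_of_mem _ y.2), fun y => ?_⟩
  simp

theorem DihOf.exists_mul_of_cent {g : G} (hg : g ∈ 𝓒(S)) :
    ∃ b ∈ 𝐎(𝓒[t]) ⊓ 𝓒[s], ∃ v ∈ S, g = b * v := by
  rw [h.cent_eq] at hg
  simpa only [← h.card_four rfl] using h.cent_four_top.isProd.2.2 g hg

theorem DihOf.act_retr {π : 𝓒[t] →* (𝐎(𝓒[t]) ⊓ 𝓒[s] : Subgroup G)}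
    (hπ : ∀ b, π (inclusion (inf_le_left.trans h.sdprod_top.le_left) b) = b) {g : G}
    (hg : g ∈ 𝓝(S)) {α : (𝐎(𝓒[t]) ⊓ 𝓒[s] : Subgroup G) →* (𝐎(𝓒[t]) ⊓ 𝓒[s] : Subgroup G)}
    (hα : ∀ y, (α y : G) = g⁻¹ * y * g) (y y' : (𝓒[t] : Subgroup G)) (hy : (y : G) ∈ 𝓒[s])
    (e : g * y' * g⁻¹ = y) : α (π y) = π y' := by
  obtain ⟨b, hb, v, hv, e1⟩ := h.exists_mul_of_cent (g := y) (h.cent_eq ▸ ⟨y.2, hy⟩)
  have hv' : g⁻¹ * v * g ∈ S := by simpa using (mem_normalizer_iff.1 (inv_mem hg) v).1 hv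
  have h0 : ∀ v (hv : v ∈ S), π ⟨v, h.le_cent hv⟩ = 1 := fun v hv =>
    map_eq_one_of_odd (odd_cent_core t s) π (isPElt_coe_iff.1 (isPElt_of_mem h.syl.pgroup hv))
  have h1 : y = inclusion (inf_le_left.trans h.sdprod_top.le_left) ⟨b, hb⟩ * ⟨v, h.le_cent hv⟩ :=
    Subtype.ext e1
  have h2 : y' = inclusion (inf_le_left.trans h.sdprod_top.le_left) (α ⟨b, hb⟩) *
      ⟨_, h.le_cent hv'⟩ := Subtype.ext (by
    rw [coe_mul, coe_inclusion, hα]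
    calc (y' : G) = g⁻¹ * (g * y' * g⁻¹) * g := by group
      _ = _ := by rw [e, e1]; group)
  rw [h1, h2, map_mul π, map_mul π, hπ, hπ, h0 _ hv, h0 _ hv', mul_one, mul_one]

theorem DihOf.comp_act {A : Type*} [CommGroup A] (m : (𝐎(𝓒[t]) ⊓ 𝓒[s] : Subgroup G) →* A) {c : G}
    (hc : c ∈ 𝓒(S)) {y z : (𝐎(𝓒[t]) ⊓ 𝓒[s] : Subgroup G)} (e : (z : G) = c⁻¹ * y * c) :
    m z = m y := by
  obtain ⟨b, hb, v, hv, rfl⟩ := h.exists_mul_of_cent hc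
  have h1 : z = (⟨b, hb⟩ : (𝐎(𝓒[t]) ⊓ 𝓒[s] : Subgroup G))⁻¹ * y * ⟨b, hb⟩ := by
    refine Subtype.ext (e.trans ?_)
    have h2 := (h.cent_eq ▸ h.cent_four_top.le_left : _ ≤ 𝓒(S))
      ((⟨b, hb⟩ : (𝐎(𝓒[t]) ⊓ 𝓒[s] : Subgroup G))⁻¹ * y * ⟨b, hb⟩).2 v hv
    calc (b * v)⁻¹ * y * (b * v) = v⁻¹ * ((b⁻¹ * y * b) * v) := by group
      _ = _ := by
        simp only [coe_mul, coe_inv] at h2 ⊢
        rw [← h2, inv_mul_cancel_left]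
  rw [h1, map_mul, map_mul, map_inv, inv_mul_cancel_comm]

theorem DihOf.mem_cent_of_fix {g : G} (hg : g ∈ 𝓝(S)) (e : g * t * g⁻¹ = t) : g ∈ 𝓒(S) := by
  have h1 : g ∈ 𝓒[t] := mem_cent1.2 (mul_inv_eq_iff_eq_mul.1 e)
  have h2 : ⁅g, s⁆ ∈ 𝐎(𝓒[t]) ⊓ S :=
    ⟨h.sdprod_top.der_le (comm_iff_le_cent.2 h.le_cent_self)
      (commutator_mem_commutator h1 h.s_mem_cent),
      S.mul_mem ((mem_normalizer_iff.1 hg s).1 h.pair.mem_τ) (S.inv_mem h.pair.mem_τ)⟩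
  rw [h.sdprod_top.inf, mem_bot, commutatorElement_eq_one_iff_mul_comm] at h2
  exact h.cent_eq ▸ ⟨h1, mem_cent1.2 h2⟩

theorem DihOf.exists_rho' (h1 : OneCl ⊤ t) : ∃ ρ ∈ 𝓝(S), ρ * t * ρ⁻¹ = s ∧ ρ * ρ * ρ ∈ 𝓒(S) ∧
    ∀ g ∈ 𝓝(S), ∃ c ∈ 𝓒(S), g = c ∨ g = ρ * c ∨ g = ρ * ρ * c := by
  have h4 := h.isFour
  obtain ⟨ρ, -, e1, e2⟩ := h.exists_rho (h1 s trivial h4.ord_right)
  have ht : t ∈ S := h.pair.mem_σ
  have hs : s ∈ S := h.pair.mem_τ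
  have hρ : ρ ∈ 𝓝(S) := mem_normalizer_of_map_conj_le (by
    conv_lhs => rw [h.eq_sup, Subgroup.map_sup, MonoidHom.map_zpowers, MonoidHom.map_zpowers]
    exact sup_le (zpowers_le.2 (e1 ▸ hs : ρ * t * ρ⁻¹ ∈ S))
      (zpowers_le.2 (e2 ▸ mul_mem ht hs : ρ * s * ρ⁻¹ ∈ S)))
  have e3 : ρ * ρ * t * (ρ * ρ)⁻¹ = t * s := by rw [← e2, ← e1]; group
  refine ⟨ρ, hρ, e1, h.mem_cent_of_fix (mul_mem (mul_mem hρ hρ) hρ) ?_, fun g hg => ?_⟩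
  · calc ρ * ρ * ρ * t * (ρ * ρ * ρ)⁻¹ = ρ * (ρ * ρ * t * (ρ * ρ)⁻¹) * ρ⁻¹ := by group
      _ = ρ * t * ρ⁻¹ * (ρ * s * ρ⁻¹) := by rw [e3]; group
      _ = t := by rw [e1, e2, h4.comm.eq, ← mul_assoc, h.pair.mul_self, one_mul]
  · have h2 : g * t * g⁻¹ ∈ four t s := h.card_four rfl ▸ (mem_normalizer_iff.1 hg t).1 ht
    rcases h4.mem_four.1 h2 with e | e | e | e
    · have := orderOf_conj_eq g t
      rw [e, h.ord] at this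
      simp at this
    · exact ⟨g, h.mem_cent_of_fix hg e, Or.inl rfl⟩
    · refine ⟨ρ⁻¹ * g, h.mem_cent_of_fix (mul_mem (inv_mem hρ) hg) ?_, Or.inr (Or.inl (by group))⟩
      calc ρ⁻¹ * g * t * (ρ⁻¹ * g)⁻¹ = ρ⁻¹ * (g * t * g⁻¹) * ρ := by group
        _ = t := by rw [e, ← e1]; group
    · refine ⟨(ρ * ρ)⁻¹ * g, h.mem_cent_of_fix (mul_mem (inv_mem (mul_mem hρ hρ)) hg) ?_,
        Or.inr (Or.inr (by group))⟩
      calc (ρ * ρ)⁻¹ * g * t * ((ρ * ρ)⁻¹ * g)⁻¹ = (ρ * ρ)⁻¹ * (g * t * g⁻¹) * (ρ * ρ) := by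
            simp [mul_assoc]
        _ = t := by rw [e, ← e3]; group

end four

end Cfsg.GW
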