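import Cfsg.Agent.GW.KillA
import Cfsg.Agent.GW.KillG

/-!
# The blocks of `C(t)` inducing a given block of full defect
-/

set_option autoImplicit false
set_option linter.unusedSectionVars false
set_option linter.style.haveILetI false

namespace Cfsg

open Subgroup GA Cfsg.Agent.FT

universe u v

variable {G : Type u} [Group G] [Finite G] {H : Type v} [Group H] [Finite H] {p : ℕ}
  {M : Ideal AlgInt}

theorem Induces.isMaxPair_of_range [Fact p.Prime] (hM : IsPModular p M) {f : H →* G}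
    (hf : Function.Injective f) {P : Subgroup G} (hr : f.range = 𝓒(P))
    {c : Set (IrrCharacter H)} {B : Set (IrrCharacter G)} (hP : IsDefectGroup p M B P)
    (h : Induces M f c B) : IsMaxPair p (blockIdem M B) P (emb f (blockIdem M c)) := by
  refine ⟨⟨h.right.isBlockIdem hM, ⟨hP.isPGroup, ?_⟩,
    (induces_iff_Br_of_range_eq hM hf hP.isPGroup hr h.left h.right).1 h⟩,
    (h.right.isDefectGroup_iff hM P).1 hP⟩
  rw [← hr, MonoidHom.range_eq_map]
  exact (isPrimIdem_emb_iff hf).2 (h.left.isBlockIdem hM)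

theorem Induces.exists_conj [Fact p.Prime] (hM : IsPModular p M) {f : H →* G}
    (hf : Function.Injective f) {P : Subgroup G} (hr : f.range = 𝓒(P))
    {c c' : Set (IrrCharacter H)} {B : Set (IrrCharacter G)} (hP : IsDefectGroup p M B P)
    (h : Induces M f c B) (h' : Induces M f c' B) :
    ∃ g ∈ 𝓝(P), ∃ ε : H ≃* H, (∀ y, g * f (ε y) * g⁻¹ = f y) ∧
      c' = IrrCharacter.comapEquiv ε '' c := by
  haveI := hM.charP
  have h1 := h.isMaxPair_of_range hM hf hr hP
  have h2 := h'.isMaxPair_of_range hM hf hr hP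
  obtain ⟨g, hg, he⟩ := h1.exists_cj_eq h2
  have hg' : g ∈ 𝓝(P) := cjS_eq_self_iff.1 hg
  have h3 : IsLoc p M P (emb f (blockIdem M c')) P ((MulAut.conj g).toMonoidHom.comp f) c := by
    refine ⟨(MulAut.conj g).injective.comp hf, ?_, h.left, ?_⟩
    · rw [MonoidHom.range_comp, hr]
      exact conj_eq_of_mem_norm (le_norm_cent le_rfl hg')
    · rw [← emb_emb, emb_conj, he]
      exact BPLe.refl _ _
  have h4 : IsLoc p M P (emb f (blockIdem M c')) P f c' := ⟨hf, hr, h'.left, BPLe.refl _ _⟩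
  obtain ⟨ε, h5, h6⟩ := h3.exists_equiv h4 hM h2.pair
  exact ⟨g, hg', ε, fun y => DFunLike.congr_fun h5 y, h6⟩

namespace GW

variable {S : Subgroup G} {x s t : G} {B : Set (IrrCharacter G)}
  {b : Set (IrrCharacter (𝓒[t] : Subgroup G))} {l : (𝓒[t] : Subgroup G) →* ℂˣ}

theorem DihOf.syl_cent (h : DihOf ⊤ S x s t) : IsSylowOf 2 S 𝓒[t] :=
  h.syl.of_le h.le_cent le_top

theorem DihOf.fact_eq (h : DihOf ⊤ S x s t) :
    (Nat.card (𝓒[t] : Subgroup G)).factorization 2 = (Nat.card G).factorization 2 := by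
  have h1 := h.syl.card_eq
  rw [h.syl_cent.card_eq, card_top] at h1
  exact Nat.pow_right_injective le_rfl h1

theorem DihOf.isDefectGroup (h : DihOf ⊤ S x s t) (hM : IsPModular 2 M)
    (hB : Induces M (𝓒[t] : Subgroup G).subtype (linB M l) B) : IsDefectGroup 2 M B S := by
  have h1 := hB.blockDefect_le hM (subtype_injective _)
  rw [blockDefect_linB hM, h.fact_eq] at h1
  exact (hB.right.isDefectGroup_iff_of_full hM (le_antisymm (blockDefect_le B) h1) S).2
    h.syl.exists_sylow_top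

theorem DihOf.isDefectGroup_sub (h : DihOf ⊤ S x s t) (hM : IsPModular 2 M) (hb : IsPBlock M b)
    (hd : blockDefect 2 b = (Nat.card (𝓒[t] : Subgroup G)).factorization 2) :
    IsDefectGroup 2 M b (S.subgroupOf 𝓒[t]) := by
  obtain ⟨R, hR⟩ := h.syl_cent.exists_sylow
  exact (hb.isDefectGroup_iff_of_full hM hd _).2 ⟨R, by rw [← hR, map_subtype_subgroupOf]⟩

theorem DihOf.isDefectGroup_of_induces (h : DihOf ⊤ S x s t) (hM : IsPModular 2 M)
    (hx : 𝐎(𝓒[t]) ≤ 𝓒[x]) (hB : IsDefectGroup 2 M B S)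
    (hb : Induces M (𝓒[t] : Subgroup G).subtype b B) :
    IsDefectGroup 2 M b (S.subgroupOf 𝓒[t]) := by
  refine h.isDefectGroup_sub hM hb.left ?_
  by_contra hne
  have hlt := lt_of_le_of_ne (blockDefect_le (p := 2) b) hne
  obtain ⟨D, hD⟩ := hb.left.exists_isDefectGroup hM
  have hle : zpowers x ≤ 𝓒[t] := h.pair.zpowers_le.trans h.le_cent
  haveI : ((zpowers x).subgroupOf 𝓒[t]).Normal :=
    IsNormalOf.normal ⟨hle, h.le_norm_zpowers hx⟩
  have h1 : (zpowers x).subgroupOf 𝓒[t] ≤ D := hD.le_of_normal hb.left hM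
    (isPGroup_subgroupOf (h.syl.pgroup.to_le h.pair.zpowers_le) _)
  have h2 := h.pair.card_eq
  have h3 := hD.card_eq hb.left hM
  have h4 : 2 ^ (blockDefect 2 b + 1) ≤ Nat.card S := by
    rw [h.syl_cent.card_eq]; exact Nat.pow_le_pow_right two_pos hlt
  have h5 : (zpowers x).subgroupOf 𝓒[t] = D := by
    refine eq_of_le_of_card_le h1 ?_
    rw [card_subgroupOf_of_le hle, Nat.card_zpowers, h3]
    rw [pow_succ] at h4
    omega
  subst h5
  obtain ⟨B', h6, h7⟩ := hD.exists_induced hM hb.left h.norm_zpowers_le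
  obtain rfl := hb.unique hM h6
  have h8 := h7.card_eq hb.right hM
  rw [← hB.card_eq hb.right hM, Nat.card_zpowers] at h8
  have := orderOf_pos x
  omega

theorem DihOf.eq_linB (h : DihOf ⊤ S x s t) (hM : IsPModular 2 M) (hx2 : x * x = t)
    (hx : 𝐎(𝓒[t]) ≤ 𝓒[x]) (hB : Induces M (𝓒[t] : Subgroup G).subtype (linB M l) B)
    (hb : Induces M (𝓒[t] : Subgroup G).subtype b B) : b = linB M l :=
  have h1 := h.isDefectGroup hM hB
  hb.correspondent_unique hM hB (h.norm_le hx2) h1 (h.isDefectGroup_of_induces hM hx h1 hb)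
    (h.isDefectGroup_of_induces hM hx h1 hB)

theorem DihOf.range_eq (h : DihOf ⊤ S t s t) :
    ((𝓒[t] : Subgroup G).subtype.comp
      (𝓒[(⟨s, h.s_mem_cent⟩ : (𝓒[t] : Subgroup G))] : Subgroup _).subtype).range = 𝓒(S) := by
  rw [show 𝓒(S) = 𝓒[t] ⊓ 𝓒[s] by rw [h.card_four rfl, GW.cent_four]]
  ext g
  simp only [MonoidHom.mem_range, mem_inf]
  constructor
  · rintro ⟨y, rfl⟩
    exact ⟨y.1.2, mem_cent1.2 (congrArg Subtype.val (mem_cent1.1 y.2))⟩
  · rintro ⟨h1, h2⟩
    exact ⟨⟨⟨g, h1⟩, mem_cent1.2 (Subtype.ext (mem_cent1.1 h2))⟩, rfl⟩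

theorem DihOf.isSec_s (h : DihOf ⊤ S x s t) :
    IsSec 2 (𝓒[(⟨s, h.s_mem_cent⟩ : (𝓒[t] : Subgroup G))] : Subgroup _).subtype
      ⟨s, h.s_mem_cent⟩ :=
  isSec_centralizer ⟨1, by rw [← Subgroup.orderOf_coe]; exact h.isFour.ord_right⟩

/-- the case of a four-group -/
theorem DihOf.exists_eq_linB (h : DihOf ⊤ S t s t) (hM : IsPModular 2 M)
    (hB : Induces M (𝓒[t] : Subgroup G).subtype (linB M l) B)
    (hb : Induces M (𝓒[t] : Subgroup G).subtype b B) : ∃ g ∈ 𝓝(S),
      ∀ m : (𝓒[t] : Subgroup G) →* ℂˣ, (∀ y y' : (𝓒[t] : Subgroup G), (y : G) ∈ 𝓒[s] →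
        g * y' * g⁻¹ = y → m y = l y') → b = linB M m := by
  have h1 := h.isDefectGroup hM hB
  have h2 := h.isDefectGroup_of_induces hM h.sdprod_top.le_left h1 hb
  obtain ⟨c', hc', -⟩ := h2.exists_induces_centralizer hM hb.left
    (u := ⟨s, h.s_mem_cent⟩) h.pair.mem_τ fun y hy => mem_cent1.2 (Subtype.ext (by
      have : S ≤ 𝓒[s] := by
        rw [h.card_four rfl]
        exact sup_le (zpowers_le.2 (mem_cent1.2 h.isFour.comm)) (zpowers_le.2 (mem_cent1.2 rfl))
      exact mem_cent1.1 (this hy)))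
  obtain ⟨g, hg, ε, hε, rfl⟩ := ((h.isSec_s.induces_linB hM l).trans hM hB).exists_conj hM
    (fun _ _ e => Subtype.ext (Subtype.ext e)) h.range_eq h1 (hc'.trans hM hb)
  refine ⟨g, hg, fun m hm => hc'.unique hM ?_⟩
  convert h.isSec_s.induces_linB hM m
  rw [linB, linB, image_comapEquiv_blockOf]
  congr 1
  funext y
  exact congrArg Units.val
    (hm y.1 (ε y).1 (mem_cent1.2 (congrArg Subtype.val (mem_cent1.1 y.2))) (hε y)).symm

/-- conjugate characters induce the same block -/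
theorem DihOf.induces_conj (h : DihOf ⊤ S t s t) (hM : IsPModular 2 M)
    (hB : Induces M (𝓒[t] : Subgroup G).subtype (linB M l) B) {g : G} (hg : g ∈ 𝓝(S))
    {m : (𝓒[t] : Subgroup G) →* ℂˣ} (hm : ∀ y y' : (𝓒[t] : Subgroup G), (y : G) ∈ 𝓒[s] →
        g * y' * g⁻¹ = y → m y = l y') :
    Induces M (𝓒[t] : Subgroup G).subtype (linB M m) B := by
  have h1 := (h.isSec_s.induces_linB hM l).trans hM hB
  have hf := (subtype_injective (𝓒[t] : Subgroup G)).comp
    (subtype_injective (𝓒[(⟨s, h.s_mem_cent⟩ : (𝓒[t] : Subgroup G))] : Subgroup _))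
  obtain ⟨ε, hε⟩ := exists_equiv_comp_eq ((MulAut.conj g).injective.comp hf) hf
    (f := (MulAut.conj g).toMonoidHom.comp ((Subgroup.subtype _).comp (Subgroup.subtype _)))
    (f' := (Subgroup.subtype _).comp (Subgroup.subtype _)) (by
      rw [MonoidHom.range_comp (MulAut.conj g).toMonoidHom, h.range_eq]
      exact (conj_eq_of_mem_norm (le_norm_cent le_rfl hg)).symm)
  refine (h.isSec_s.induces_linB hM m).of_trans hM ?_
  have h2 := (h1.comp_equiv hM ε).congr (f' := (Subgroup.subtype _).comp (Subgroup.subtype _))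
    fun y =>
    isConj_iff.2 ⟨g, DFunLike.congr_fun hε y⟩
  convert h2
  rw [linB, linB, image_comapEquiv_blockOf]
  congr 1
  funext y
  exact congrArg Units.val (hm y.1 (ε y).1 (mem_cent1.2 (congrArg Subtype.val (mem_cent1.1 y.2)))
    (DFunLike.congr_fun hε y))

end GW

end Cfsg
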