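import Cfsg.Agent.GW.KillB
import Cfsg.Agent.Char.SimpleLin

/-!
# Character-theoretic tools for `GW/Kill`
-/

set_option autoImplicit false
set_option linter.unusedSectionVars false
set_option linter.style.haveILetI false

namespace Cfsg.GW

open Subgroup Finset Cfsg.Agent.FT
open scoped ComplexConjugate

universe u v

variable {G : Type u} [Group G] [Finite G] {K : Type v} [Group K] [Finite K]
  {M : Ideal AlgInt} {S : Subgroup G} {x s t : G} {B : Set (IrrCharacter G)}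

theorem sum_zpowers_range (a : G) [Fintype (zpowers a)] (F : G → ℂ) :
    ∑ y : zpowers a, F y = ∑ k ∈ range (orderOf a), F (a ^ k) := by
  rw [sum_range]
  exact (Fintype.sum_equiv (finEquivZPowers (isOfFinOrder_of_finite a)) _ _ fun k => rfl).symm

theorem exists_ip_add {χ : G → ℂ} (hχ : IsCharacter G χ) (j : K →* G) {v : G}
    (hv : orderOf v = 2) (hc : ∀ k, Commute v (j k)) {ψ : K → ℂ} (hψ : IsCharacter K ψ) :
    ∃ n : ℕ, ip (χ ∘ j) ψ + ip (fun k => χ (v * j k)) ψ = 2 * n := by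
  haveI := Fintype.ofFinite K
  haveI := Fintype.ofFinite (zpowers v)
  obtain ⟨n, hn⟩ := (hχ.comp ((zpowers v).subtype.noncommCoprod j fun a k => by
    obtain ⟨m, hm⟩ := mem_zpowers_iff.1 a.2
    rw [Subgroup.subtype_apply, ← hm]
    exact (hc k).zpow_left m)).exists_ip_eq_nat (hψ.comp (MonoidHom.snd _ _))
  refine ⟨n, ?_⟩
  rw [ip_def, Fintype.sum_prod_type, Nat.card_prod, Nat.card_zpowers, hv] at hn
  simp only [Function.comp_apply, MonoidHom.noncommCoprod_apply, Subgroup.subtype_apply,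
    MonoidHom.coe_snd] at hn
  rw [sum_zpowers_range v fun a => ∑ k, χ (a * j k) * conj (ψ k), hv] at hn
  simp only [sum_range_succ, range_zero, sum_empty, zero_add, pow_zero, one_mul, pow_one] at hn
  rw [← hn, ip_def, ip_def]
  push_cast
  simp only [Function.comp_apply]
  ring

theorem sum_dih {P : Subgroup G} {σ τ : G} (h : IsDihPair P σ τ) [Fintype P] (F : G → ℂ) :
    ∑ g : P, F g = ∑ k ∈ range (orderOf σ), (F (σ ^ k) + F (σ ^ k * τ)) := by
  haveI := Fintype.ofFinite (zpowers σ)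
  rw [← sum_zpowers_range σ fun a => F a + F (a * τ), sum_add_distrib]
  refine Eq.trans ?_ (Fintype.sum_sum_type fun a : zpowers σ ⊕ zpowers σ =>
    a.elim (fun a : zpowers σ => F a) fun a : zpowers σ => F (a * τ))
  symm
  refine Fintype.sum_bijective (fun a : zpowers σ ⊕ zpowers σ => a.elim
    (fun a : zpowers σ => (⟨a, h.zpowers_le a.2⟩ : P))
    fun a : zpowers σ => ⟨a * τ, mul_mem (h.zpowers_le a.2) h.mem_τ⟩)
    ⟨?_, fun g => ?_⟩ _ _ (by rintro (a | a) <;> rfl)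
  · rintro (a | a) (b | b) e <;> simp only [Sum.elim_inl, Sum.elim_inr, Subtype.mk.injEq] at e
    · exact congrArg _ (Subtype.ext e)
    · exact (h.mul_τ_notMem b.2 (e ▸ a.2)).elim
    · exact (h.mul_τ_notMem a.2 (e ▸ b.2)).elim
    · exact congrArg _ (Subtype.ext (mul_right_cancel e))
  · by_cases hg : (g : G) ∈ zpowers σ
    · exact ⟨Sum.inl ⟨g, hg⟩, rfl⟩
    · obtain ⟨a, ha, e⟩ := h.exists_eq_mul g.2 hg
      exact ⟨Sum.inr ⟨a, ha⟩, Subtype.ext e.symm⟩

theorem Base.isConj (h : Base S x s t) (u : G) (hu : orderOf u = 2) : IsConj t u :=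
  have ⟨g, _, e⟩ := h.one u trivial hu
  isConj_iff.2 ⟨g, e⟩

theorem Base.apply_inv (h : Base S x s t) (χ : IrrCharacter G) {u : G} (hu : orderOf u = 2) :
    χ u = χ t := (χ.isClassFunction.eq_of_isConj (h.isConj u hu)).symm

theorem exists_sum_eq (χ : IrrCharacter G) (P : Subgroup G) [Fintype P] :
    ∃ n : ℕ, ∑ g : P, χ g = Nat.card P * n := by
  obtain ⟨n, hn⟩ := (χ.isCharacter.comp P.subtype).exists_ip_eq_nat IsCharacter.one
  refine ⟨n, ?_⟩
  rw [← hn, ip_def, ← mul_assoc, mul_inv_cancel₀ (Nat.cast_ne_zero.2 Nat.card_pos.ne')]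
  simp

theorem Base.four_dvd (h : Base S x s t) (χ : IrrCharacter G) {c : ℤ} (hc : χ t = c) :
    4 ∣ (charDegree χ.1 : ℤ) + 3 * c := by
  haveI := Fintype.ofFinite (zpowers s)
  have h4 := h.dih.isFour
  obtain ⟨n, hn⟩ := exists_ip_add χ.isCharacter (zpowers s).subtype h4.ord_left (fun k => by
    obtain ⟨m, hm⟩ := mem_zpowers_iff.1 k.2
    rw [Subgroup.subtype_apply, ← hm]
    exact h4.comm.zpow_right m) IsCharacter.one
  simp only [ip_def, Function.comp_apply, Subgroup.subtype_apply, map_one, mul_one,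
    Nat.card_zpowers] at hn
  rw [sum_zpowers_range s χ.1, sum_zpowers_range s fun a => χ.1 (t * a), h4.ord_right] at hn
  simp only [sum_range_succ, range_zero, sum_empty, zero_add, pow_zero, mul_one, pow_one] at hn
  rw [h.apply_inv χ h4.ord_right, h.apply_inv χ h4.mul.ord_right, hc, χ.apply_one] at hn
  refine ⟨n, ?_⟩
  have : ((charDegree χ.1 : ℂ)) + 3 * c = 4 * n := by
    push_cast at hn
    linear_combination 2 * hn
  exact_mod_cast this

theorem DihOf.pow_three (h : DihOf ⊤ S x s t) (hx2 : x * x = t) : x ^ 3 = x⁻¹ := by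
  rw [eq_inv_iff_mul_eq_one, ← pow_succ]
  have := pow_orderOf_eq_one x
  rwa [(h.card_eight hx2).2.1] at this

theorem Base.eight_dvd (h : Base S x s t) (hx2 : x * x = t) (χ : IrrCharacter G) {a c : ℤ}
    (ha : χ x = a) (hc : χ t = c) : 8 ∣ (charDegree χ.1 : ℤ) + 5 * c + 2 * a := by
  haveI := Fintype.ofFinite S
  obtain ⟨n, hn⟩ := exists_sum_eq χ S
  obtain ⟨h8, h4, -⟩ := h.dih.card_eight hx2
  have hp := h.dih.pair
  have h1 : ∀ k : ℕ, χ (x ^ k * s) = c := fun k => by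
    have h2 := hp.mul_τ_notMem (pow_mem (mem_zpowers x) k)
    rw [h.apply_inv χ (orderOf_eq_two_of_mul_self (hp.mul_self_of_notMem
      (mul_mem (pow_mem hp.mem_σ k) hp.mem_τ) h2) fun e => h2 (e ▸ one_mem _)), hc]
  rw [sum_dih hp χ.1, h8, h4] at hn
  simp only [sum_range_succ, range_zero, sum_empty, zero_add, h1] at hn
  rw [pow_zero, pow_one, pow_two, hx2, h.dih.pow_three hx2, ← χ.isClassFunction.eq_of_isConj
    (hp.isConj_inv (mem_zpowers x)), ha, hc, χ.apply_one] at hn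
  refine ⟨n, ?_⟩
  have : ((charDegree χ.1 : ℂ)) + 5 * c + 2 * a = 8 * n := by
    push_cast at hn
    linear_combination hn
  exact_mod_cast this

theorem DihOf.exists_int_x (h : DihOf ⊤ S x s t) (hx2 : x * x = t) (χ : IrrCharacter G) :
    ∃ a : ℤ, χ x = a := by
  refine χ.isCharacter.isGen.exists_int_of_forall_pow fun k hk => ?_
  have h4 := (h.card_eight hx2).2.1
  rw [← pow_mod_orderOf, h4]
  rw [h4] at hk
  have h2 : ¬ 2 ∣ k := fun h2 => by
    have := Nat.dvd_gcd h2 (by norm_num : 2 ∣ 4)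
    rw [hk] at this
    omega
  rcases (by omega : k % 4 = 1 ∨ k % 4 = 3) with e | e <;> rw [e]
  · rw [pow_one]
  · rw [h.pow_three hx2]
    exact (χ.isClassFunction.eq_of_isConj (h.pair.isConj_inv (mem_zpowers x))).symm

theorem DihOf.exists_int_t (h : DihOf ⊤ S x s t) (χ : IrrCharacter G) : ∃ c : ℤ, χ t = c :=
  have ⟨m, hm, _⟩ := χ.isCharacter.exists_int_of_sq_eq_one (g := t)
    (by rw [← h.ord, pow_orderOf_eq_one])
  ⟨m, hm⟩

section col

variable [Fintype B] {θ φ : G → ℂ} {d e : B → ℤ}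

theorem col_ip (h : blockPart B θ = θ) (hd : ∀ χ : B, ip θ χ.1.1 = d χ)
    (he : ∀ χ : B, ip φ χ.1.1 = e χ) {N : ℤ} (hN : ip θ φ = N) : ∑ χ, d χ * e χ = N := by
  rw [ip_eq_sum_block h] at hN
  have : ∀ χ : B, ip χ.1.1 φ = e χ := fun χ => by rw [← conj_ip, he, map_intCast]
  simp only [hd, this] at hN
  exact_mod_cast hN

theorem col_sum (h : blockPart B θ = θ) (hd : ∀ χ : B, ip θ χ.1.1 = d χ)
    (F : IrrCharacter G → ℂ) : ∑ χ, ip θ χ.1 * F χ = ∑ χ : B, d χ * F χ := by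
  rw [← sum_block_eq_sum (B := B) fun χ hχ => by rw [← h, ip_blockPart_of_notMem _ hχ, zero_mul]]
  simp only [hd]

theorem col_deg (h : blockPart B θ = θ) (hd : ∀ χ : B, ip θ χ.1.1 = d χ) (h1 : θ 1 = 0) :
    ∑ χ : B, d χ * (charDegree χ.1.1 : ℤ) = 0 := by
  have hθ : IsClassFunction G θ := h ▸ isClassFunction_blockPart _ _
  rw [hθ.apply_eq_sum, col_sum h hd] at h1
  simp only [IrrCharacter.apply_one] at h1
  exact_mod_cast h1

open Classical in
theorem col_count [Fintype G] (h : blockPart B θ = θ) (hd : ∀ χ : B, ip θ χ.1.1 = d χ)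
    {c : B → ℤ} (hc : ∀ χ : B, χ.1 t = c χ) :
    ∑ a ∈ univ.filter (IsConj t), ∑ b ∈ univ.filter (IsConj t), θ (a * b) =
      (((𝓒[t] : Subgroup G).index : ℚ) ^ 2 *
        ∑ χ : B, (d χ : ℚ) * (c χ * c χ / (charDegree χ.1.1 : ℤ)) : ℚ) := by
  have hθ : IsClassFunction G θ := h ▸ isClassFunction_blockPart _ _
  rw [hθ.sum_class_mul_class, col_sum h hd]
  simp only [hc, IrrCharacter.apply_one]
  push_cast
  ring

end col

theorem secInd_linear_apply {v : G} (ht : orderOf t = 2) (htv : t ∈ zpowers v)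
    {j : K →* (𝓒[t] : Subgroup G)} (hs : IsSec 2 ((𝓒[t] : Subgroup G).subtype.comp j) v)
    {l : (𝓒[t] : Subgroup G) →* ℂˣ} (hl : ∀ a, IsPElt 2 a → l a = 1) (q : ℂ)
    (y : (𝓒[t] : Subgroup G)) (hy : t ∈ zpowers (y : G)) :
    secInd 2 ((𝓒[t] : Subgroup G).subtype.comp j) v (q • fun k => (l.comp j k : ℂ)) y =
      l y * (q * secOne 2 v y) := by
  classical
  by_cases h : (y : G) ∈ pSection 2 v
  · obtain ⟨g, hg⟩ := isConj_iff.1 (mem_pSection.1 h)
    have h1 : t ∈ zpowers (pPart 2 (y : G)) := by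
      obtain ⟨k, -, hk⟩ := mem_image.1 (mem_zpowers_iff_mem_range_orderOf.1 hy)
      have e2 : pPart 2 (y : G) ^ k = t := by
        rw [← pPart_pow, hk, pPart_eq_self_iff.2 (isPElt_two_of_orderOf ht)]
      exact ⟨k, by simpa using e2⟩
    have h2 : g * t * g⁻¹ ∈ zpowers v := by
      obtain ⟨k, hk⟩ := mem_zpowers_iff.1 h1
      rw [← hk, ← conj_zpow, hg]
      exact zpow_mem (mem_zpowers _) _
    have h3 : g ∈ 𝓒[t] := mem_cent1.2 (mul_inv_eq_iff_eq_mul.1
      (eq_of_orderOf_eq_two_of_mem_zpowers h2 htv (by rw [orderOf_conj_eq, ht]) ht))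
    obtain ⟨u, hu, e⟩ := hs.exists_of_pPart_eq (g := g * y * g⁻¹) (by rw [pPart_conj, hg])
    obtain ⟨z, hz⟩ := hs.exists_eq
    have h4 : l y = l (j u) := by
      have h5 : (⟨g, h3⟩ * y * ⟨g, h3⟩⁻¹ : (𝓒[t] : Subgroup G)) = j z * j u :=
        Subtype.ext (e.trans (by rw [← hz]; rfl))
      have h6 := congrArg l h5
      rwa [map_mul, map_mul, map_inv, mul_inv_cancel_comm, map_mul,
        hl _ ((hs.isPElt_of_eq hz).map j), one_mul] at h6
    rw [← isClassFunction_secInd _ _ _ (y : G) g, e, hs.secInd_apply (isClassFunction_linear _ _) hu,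
      secOne_of_mem h, h4]
    simp [mul_comm]
  · rw [hs.secInd_apply_of_notMem _ h, secOne_of_notMem h]
    simp

open Classical in
theorem Base.sum_twist [Fintype G] (h : Base S x s t) {θ θ₁ : G → ℂ} (hθ : IsClassFunction G θ)
    (hθ₁ : IsClassFunction G θ₁) (hv : ∀ g, ¬ 2 ∣ orderOf g → θ g = 0)
    (hv₁ : ∀ g, ¬ 2 ∣ orderOf g → θ₁ g = 0) {l : (𝓒[t] : Subgroup G) →* ℂˣ}
    (hl : ∀ a, IsPElt 2 a → l a = 1)
    (e : ∀ y : (𝓒[t] : Subgroup G), t ∈ zpowers (y : G) → θ y = l y * θ₁ y) :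
    ∑ a ∈ univ.filter (IsConj t), ∑ b ∈ univ.filter (IsConj t), θ (a * b) =
      ∑ a ∈ univ.filter (IsConj t), ∑ b ∈ univ.filter (IsConj t), θ₁ (a * b) := by
  rw [sum_invol_pairs hθ hv h.dih.ord h.isConj, sum_invol_pairs hθ₁ hv₁ h.dih.ord h.isConj]
  congr 1
  refine sum_congr rfl fun a ha => sum_congr rfl fun b hb => ?_
  split_ifs with hab
  · have o : ∀ a ∈ univ.filter (IsConj t), orderOf a = 2 := fun a ha => by
      obtain ⟨c, rfl⟩ := isConj_iff.1 (mem_filter.1 ha).2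
      rw [orderOf_conj_eq, h.dih.ord]
    obtain ⟨h1, h2⟩ := mem_centralizer_of_mem_zpowers_mul (mul_self_of_orderOf_eq_two (o a ha))
      (mul_self_of_orderOf_eq_two (o b hb)) h.dih.ord hab
    have := e (⟨a, h1⟩ * ⟨b, h2⟩) hab
    rw [map_mul, hl _ (isPElt_coe_iff.1 (isPElt_two_of_orderOf (o a ha))),
      hl _ (isPElt_coe_iff.1 (isPElt_two_of_orderOf (o b hb)))] at this
    simpa using this
  · rfl

theorem secInd_apply_of_odd {f : K →* G} {v : G} (hs : IsSec 2 f v) (h1 : v ≠ 1) (u : K → ℂ)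
    {g : G} (hg : ¬ 2 ∣ orderOf g) : secInd 2 f v u g = 0 :=
  hs.secInd_apply_of_notMem u (by
    rw [mem_pSection, pPart_eq_one_iff.2 hg, isConj_one_right]; exact h1)

theorem secOne_apply_of_odd {v : G} (h1 : v ≠ 1) {g : G} (hg : ¬ 2 ∣ orderOf g) :
    secOne 2 v g = 0 :=
  secOne_of_notMem (by rw [mem_pSection, pPart_eq_one_iff.2 hg, isConj_one_right]; exact h1)

theorem secOne_pPartK (v g : G) : secOne 2 v g = secOne 2 v (pPart 2 g) := by
  by_cases h : g ∈ pSection 2 v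
  · rw [secOne_of_mem h, secOne_of_mem (by rwa [mem_pSection, pPart_pPart])]
  · rw [secOne_of_notMem h, secOne_of_notMem (by rwa [mem_pSection, pPart_pPart])]

theorem Base.one_lt (h : Base S x s t) (hM : IsPModular 2 M) {l : (𝓒[t] : Subgroup G) →* ℂˣ}
    (hB : Induces M (𝓒[t] : Subgroup G).subtype (linB M l) B) {y : (𝓒[t] : Subgroup G)}
    (hy : IsPRegular 2 y) (hl : l y ≠ 1) (χ : B) : 1 < (charDegree χ.1.1 : ℤ) := by
  haveI := h.simple
  have h1 : χ.1 ≠ IrrCharacter.one G := fun e => hl (linB_eq_principal_iff hM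
    (h.dih.pair.hasNormalPComplement h.dih.syl.pgroup h.dih.not_dvd_index h.dih.t_mem h.dih.ord)
    ((hB.eq_principal_iff hM (subtype_injective _)).1 (hB.right.eq_of_mem isPBlock_principalBlock
      hM χ.2 (e ▸ hM.one_mem_principalBlock))) hy)
  exact_mod_cast IrrCharacter.one_lt_charDegree_of_isSimpleGroup h.nonab h1

end Cfsg.GW
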