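import Cfsg.Agent.S4481

/-!
# Arithmetic for `GW/Kill`
-/

set_option autoImplicit false

namespace Cfsg.GW

open Finset

variable {ι : Type*} [Fintype ι]

theorem eq_zero_of_sq_le {a : ι → ℤ} {i : ι} (h : ∑ j, a j * a j ≤ a i * a i) {j : ι}
    (hj : j ≠ i) : a j = 0 := by
  classical
  rw [← add_sum_erase _ _ (mem_univ i), add_le_iff_nonpos_right] at h
  have h1 := single_le_sum (f := fun j => a j * a j) (fun j _ => mul_self_nonneg _)
    (mem_erase.2 ⟨hj, mem_univ j⟩)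
  exact mul_self_eq_zero.1 (le_antisymm (h1.trans h) (mul_self_nonneg _))

theorem cases_of_norm_four {a n : ι → ℤ} (hn : ∀ i, 0 < n i) (h : ∑ i, a i * a i = 4)
    (h0 : ∑ i, a i * n i = 0) (i : ι) : a i = 0 ∨ a i = 1 ∨ a i = -1 := by
  by_contra hc
  have h1 : 4 ≤ a i * a i := by
    rcases le_total 0 (a i) with h2 | h2
    · have : 2 ≤ a i := by omega
      nlinarith
    · have : a i ≤ -2 := by omega
      nlinarith
  rw [sum_eq_single i (fun j _ hj => by rw [eq_zero_of_sq_le (h.le.trans h1) hj, zero_mul])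
    (by simp), mul_eq_zero] at h0
  have := hn i
  omega

theorem one_div_le_of {m k : ℤ} (hk : 0 < k) (h : m < 0 ∨ k ≤ m) : (1 : ℚ) / m ≤ 1 / k := by
  have hk' : (0 : ℚ) < k := by exact_mod_cast hk
  rcases h with h | h
  · exact (one_div_neg.2 (by exact_mod_cast h)).le.trans (one_div_pos.2 hk').le
  · exact one_div_le_one_div_of_le hk' (by exact_mod_cast h)

theorem le_one_div_of {m k : ℤ} (hk : 0 < k) (h : 0 < m ∨ m ≤ -k) : -(1 / k) ≤ (1 : ℚ) / m := by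
  have := one_div_le_of (m := -m) hk (by omega)
  push_cast at this
  rw [div_neg] at this
  linarith

theorem d8_core {m₁ m₂ m₃ : ℤ} (h1 : m₁ % 8 = 1) (h2 : m₂ % 8 = 1) (h1' : m₁ ≠ 1) (h2' : m₂ ≠ 1)
    (h : m₁ + m₂ + m₃ = 0) : (1 : ℚ) / m₁ + 1 / m₂ + 4 * (1 / m₃) ≤ 7 / 9 := by
  have a1 := one_div_le_of (m := m₁) (k := 9) (by norm_num) (by omega)
  have a2 := one_div_le_of (m := m₂) (k := 9) (by norm_num) (by omega)
  have a3 := one_div_le_of (m := m₃) (k := 6) (by norm_num) (by omega)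
  have b : ∀ m : ℤ, m < 0 → (1 : ℚ) / m < 0 := fun m hm => one_div_neg.2 (by exact_mod_cast hm)
  norm_num at a1 a2 a3 b ⊢
  rcases (by omega : m₁ < 0 ∨ m₂ < 0 ∨ m₃ < 0) with h3 | h3 | h3 <;>
    have := inv_lt_zero.2 (show ((_ : ℤ) : ℚ) < 0 by exact_mod_cast h3) <;> linarith

theorem d8_arith {a c n : ι → ℤ} (hn : ∀ i, 1 < n i) (ha : ∑ i, a i * a i = 4)
    (hc : ∑ i, c i * c i = 8) (hac : ∑ i, a i * c i = 0) (han : ∑ i, a i * n i = 0)
    (hcn : ∑ i, c i * n i = 0) (h8 : ∀ i, 8 ∣ n i + 5 * c i + 2 * a i)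
    (h4 : ∀ i, 4 ∣ n i + 3 * c i) :
    ∑ i, ((c i : ℚ) + a i) * (c i * c i / n i) ≤ 14 / 9 := by
  classical
  have h1 : ∀ i, ∃ w : ℤ, c i = 2 * w - a i := fun i => ⟨(c i + a i) / 2, by
    have := h8 i; have := h4 i; omega⟩
  choose w hw using h1
  have hwa : ∑ i, w i * a i = 2 := by
    have : ∑ i, a i * c i = 2 * ∑ i, w i * a i - ∑ i, a i * a i := by
      rw [mul_sum, ← sum_sub_distrib]; exact sum_congr rfl fun i _ => by rw [hw]; ring
    omega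
  have hww : ∑ i, w i * w i = 3 := by
    have : ∑ i, c i * c i = 4 * ∑ i, w i * w i - 4 * ∑ i, w i * a i + ∑ i, a i * a i := by
      rw [mul_sum, mul_sum, ← sum_sub_distrib, ← sum_add_distrib]
      exact sum_congr rfl fun i _ => by rw [hw]; ring
    omega
  have hwn : ∑ i, w i * n i = 0 := by
    have : ∑ i, c i * n i = 2 * ∑ i, w i * n i - ∑ i, a i * n i := by
      rw [mul_sum, ← sum_sub_distrib]; exact sum_congr rfl fun i _ => by rw [hw]; ring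
    omega
  have hcase := cases_of_norm_four (fun i => one_pos.trans (hn i)) ha han
  obtain ⟨T, -, hT, h2, h3⟩ := Agent.S4481.supp univ w 3 le_rfl hww
  have hs : ∀ {R : Type} [CommRing R] (F : ι → R),
      ∑ i, (w i : R) * F i = ∑ i ∈ T, (w i : R) * F i := fun F =>
    (sum_subset (subset_univ _) fun i hi hi' => by rw [h3 i hi hi']; simp).symm
  have e : ∑ i, ((c i : ℚ) + a i) * (c i * c i / n i) =
      2 * ∑ i ∈ T, ((2 - w i * a i : ℤ) : ℚ) ^ 2 * (1 / (w i * n i : ℤ)) := by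
    rw [← sum_congr (s₁ := T) rfl (f := fun i => (w i : ℚ) * (c i * c i / n i)), ← hs, mul_sum]
    · exact sum_congr rfl fun i _ => by rw [hw]; push_cast; ring
    · intro i hi
      rw [hw]
      rcases h2 i hi with h | h <;> rw [h] <;> push_cast <;> ring
  have f1 : ∀ i ∈ T, w i * a i = 0 ∨ w i * a i = -1 ∨
      w i * a i = 1 ∧ w i * n i % 8 = 1 ∧ w i * n i ≠ 1 := fun i hi => by
    have := h8 i; have := hn i; have := hw i
    rcases h2 i hi with h | h <;> rcases hcase i with h' | h' | h' <;> rw [h, h'] <;> omega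
  rw [e]
  have g1 := hs (R := ℤ) a
  have g2 := hs (R := ℤ) n
  simp only [Int.cast_id] at g1 g2
  rw [g1] at hwa
  rw [g2] at hwn
  obtain ⟨i, j, k, hij, hik, hjk, rfl⟩ := card_eq_three.1 hT
  rw [sum_insert (by simp [hij, hik]), sum_pair hjk] at hwa hwn ⊢
  have fi := f1 i (by simp)
  have fj := f1 j (by simp)
  have fk := f1 k (by simp)
  generalize w i * a i = a₁, w j * a j = a₂, w k * a k = a₃, w i * n i = m₁, w j * n j = m₂,
    w k * n k = m₃ at *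
  rcases (by omega : a₁ = 1 ∧ a₂ = 1 ∧ a₃ = 0 ∨ a₁ = 1 ∧ a₂ = 0 ∧ a₃ = 1 ∨
    a₁ = 0 ∧ a₂ = 1 ∧ a₃ = 1) with ⟨rfl, rfl, rfl⟩ | ⟨rfl, rfl, rfl⟩ | ⟨rfl, rfl, rfl⟩
  · have := d8_core (m₁ := m₁) (m₂ := m₂) (m₃ := m₃) (by omega) (by omega) (by omega) (by omega)
      (by omega)
    push_cast; linarith
  · have := d8_core (m₁ := m₁) (m₂ := m₃) (m₃ := m₂) (by omega) (by omega) (by omega) (by omega)
      (by omega)
    push_cast; linarith
  · have := d8_core (m₁ := m₂) (m₂ := m₃) (m₃ := m₁) (by omega) (by omega) (by omega) (by omega)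
      (by omega)
    push_cast; linarith

theorem d8_final {m₁ m₂ m₃ : ℤ} {α : ℚ} (h1 : m₁ % 8 = 1) (h1' : m₁ ≠ 1) (h2 : m₂ % 8 = 3)
    (h3 : m₃ % 8 = 3) (h : 1 + m₁ + m₂ + m₃ = 0) (e1 : 1 + 1 / m₁ + 1 / m₂ + 1 / m₃ = α)
    (e2 : ((m₁ : ℚ) - 1) ^ 2 = α * (m₁ * (m₁ + 1))) (hα : α ≤ 7 / 9) : m₂ = -5 := by
  have h9 : m₁ = 9 := by
    by_contra hne
    have h4 : (0 : ℚ) ≤ m₁ * (m₁ + 1) := by
      have : 0 ≤ m₁ * (m₁ + 1) := by nlinarith [mul_self_nonneg (2 * m₁ + 1), (by omega : m₁ ≤ -7 ∨ 17 ≤ m₁)]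
      exact_mod_cast this
    have h5 := mul_le_mul_of_nonneg_right hα h4
    rw [← e2] at h5
    have h6 : 9 * (m₁ - 1) ^ 2 ≤ 7 * (m₁ * (m₁ + 1)) := by
      have : (9 : ℚ) * (m₁ - 1) ^ 2 ≤ 7 * (m₁ * (m₁ + 1)) := by linarith
      exact_mod_cast this
    rcases (by omega : m₁ ≤ -7 ∨ 17 ≤ m₁) with h7 | h7 <;> nlinarith
  subst h9
  obtain rfl : m₃ = -10 - m₂ := by omega
  have a2 : (m₂ : ℚ) ≠ 0 := by exact_mod_cast (by omega : m₂ ≠ 0)
  have a3 : ((-10 - m₂ : ℤ) : ℚ) ≠ 0 := by exact_mod_cast (by omega : -10 - m₂ ≠ 0)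
  have h5 : α = 32 / 45 := by push_cast at e2; linarith
  rw [h5] at e1
  field_simp at e1
  push_cast at e1
  have h6 : ((m₂ : ℚ) + 5) ^ 2 = 0 := by linarith
  have h7 : (m₂ : ℚ) = -5 := by linarith [pow_eq_zero_iff (two_ne_zero) |>.1 h6]
  exact_mod_cast h7

theorem v4_arith_one {c n : ι → ℤ} (hn : ∀ i, 1 < n i) (hc : ∑ i, c i * c i = 4)
    (hcn : ∑ i, c i * n i = 0) (h4 : ∀ i, 4 ∣ n i + 3 * c i) :
    ∑ i, (c i : ℚ) * (c i * c i / n i) ≤ 3 / 5 := by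
  classical
  have hcase := cases_of_norm_four (fun i => one_pos.trans (hn i)) hc hcn
  obtain ⟨k, hk⟩ : ∃ k, c k = -1 := by
    by_contra hne
    have h1 : ∑ i, c i * c i ≤ ∑ i, c i * n i := sum_le_sum fun i _ => by
      have := hn i
      rcases hcase i with h | h | h
      · simp [h]
      · rw [h]; omega
      · exact (hne ⟨i, h⟩).elim
    omega
  have h1 : ∑ i, (c i : ℚ) * (c i * c i / n i) ≤
      ∑ i, (((c i * c i : ℤ) : ℚ) / 5 - if i = k then 1 / 5 else 0) := sum_le_sum fun i _ => by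
    have h0 : (0 : ℚ) < n i := by exact_mod_cast one_pos.trans (hn i)
    have h2 := one_div_pos.2 h0
    have := hn i
    have := h4 i
    split_ifs with h5
    · subst h5; rw [hk]; push_cast; linarith
    · rcases hcase i with h | h | h <;> rw [h]
      · simp
      · simpa using one_div_le_of (m := n i) (k := 5) (by norm_num) (by omega)
      · push_cast; linarith
  rw [sum_sub_distrib, ← sum_div, ← Int.cast_sum, hc] at h1
  norm_num at h1 ⊢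
  linarith

theorem v4_arith_three {d₀ d₁ d₂ n : ι → ℤ} (hn : ∀ i, 0 < n i) (h0 : ∑ i, d₀ i * d₀ i = 4)
    (h1 : ∑ i, d₁ i * d₁ i = 4) (h2 : ∑ i, d₂ i * d₂ i = 4) (h01 : ∑ i, d₀ i * d₁ i = 0)
    (h02 : ∑ i, d₀ i * d₂ i = 0) (h12 : ∑ i, d₁ i * d₂ i = 0) (n0 : ∑ i, d₀ i * n i = 0)
    (n1 : ∑ i, d₁ i * n i = 0) (n2 : ∑ i, d₂ i * n i = 0) (p1 : ∀ i, d₀ i % 2 = d₁ i % 2)
    (p2 : ∀ i, d₁ i % 2 = d₂ i % 2) (h4 : ∀ i, 4 ∣ n i + 3 * (d₀ i + d₁ i + d₂ i)) :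
    ∃ d : ℤ, d % 4 = 3 ∧
      ∑ i, (d₀ i : ℚ) * ((d₀ i + d₁ i + d₂ i) * (d₀ i + d₁ i + d₂ i) / n i) = 8 / d := by
  have hc : ∀ i, (d₀ i = 0 ∧ d₁ i = 0 ∧ d₂ i = 0) ∨
      ((d₀ i = 1 ∨ d₀ i = -1) ∧ (d₁ i = 1 ∨ d₁ i = -1) ∧ (d₂ i = 1 ∨ d₂ i = -1)) := fun i => by
    have := cases_of_norm_four hn h0 n0 i
    have := cases_of_norm_four hn h1 n1 i
    have := cases_of_norm_four hn h2 n2 i
    have := p1 i
    have := p2 i
    omega
  set E := ∑ i, d₀ i * d₁ i * d₂ i * n i with hE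
  have key : ∀ i, d₀ i ≠ 0 → 4 * n i = d₀ i * d₁ i * d₂ i * E := fun i hi => by
    let g : ι → ℤ := fun j => d₀ i * d₀ j + d₁ i * d₁ j + d₂ i * d₂ j +
      d₀ i * d₁ i * d₂ i * (d₀ j * d₁ j * d₂ j)
    obtain ⟨e0, e1, e2⟩ := (hc i).resolve_left fun h => hi h.1
    have gi : g i = 4 := by
      rcases e0 with e0 | e0 <;> rcases e1 with e1 | e1 <;> rcases e2 with e2 | e2 <;>
        simp [g, e0, e1, e2]
    have gg : ∑ j, g j * g j = 16 := by
      have : ∀ j, g j * g j = 2 * (d₀ j * d₀ j) + d₁ j * d₁ j + d₂ j * d₂ j +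
          4 * (d₀ i * d₁ i) * (d₀ j * d₁ j) + 4 * (d₀ i * d₂ i) * (d₀ j * d₂ j) +
          4 * (d₁ i * d₂ i) * (d₁ j * d₂ j) := fun j => by
        rcases e0 with e0 | e0 <;> rcases e1 with e1 | e1 <;> rcases e2 with e2 | e2 <;>
          simp only [g, e0, e1, e2] <;>
          rcases hc j with ⟨f0, f1, f2⟩ | ⟨f0 | f0, f1 | f1, f2 | f2⟩ <;> simp [f0, f1, f2]
      simp only [this, sum_add_distrib, ← mul_sum, h0, h1, h2, h01, h02, h12]
      norm_num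
    have g1 : ∑ j, g j * n j = g i * n i := sum_eq_single i (fun j _ hj => by
      rw [eq_zero_of_sq_le (a := g) (i := i) (by rw [gg, gi]; norm_num) hj, zero_mul]) (by simp)
    rw [gi] at g1
    rw [← g1]
    simp only [g, add_mul, mul_assoc, sum_add_distrib, ← mul_sum, n0, n1, n2, hE]
    ring
  obtain ⟨k, hk⟩ : ∃ k, d₀ k ≠ 0 := by
    by_contra hne
    push Not at hne
    simp [hne] at h0
  have hσ : ∀ i, d₀ i ≠ 0 → d₀ i * d₁ i * d₂ i = 1 ∨ d₀ i * d₁ i * d₂ i = -1 := fun i hi => by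
    obtain ⟨e0 | e0, e1 | e1, e2 | e2⟩ := (hc i).resolve_left fun h => hi h.1
    all_goals simp [e0, e1, e2]
  have same : ∀ i, d₀ i ≠ 0 → n i = n k ∧ d₀ i * d₁ i * d₂ i = d₀ k * d₁ k * d₂ k := fun i hi => by
    have a1 := key i hi
    have a2 := key k hk
    have := hn i
    have := hn k
    rcases hσ i hi with a3 | a3 <;> rcases hσ k hk with a4 | a4 <;> rw [a3] at a1 <;>
      rw [a4] at a2 <;> omega
  have z : ∀ d : ι → ℤ, (∀ i, d₀ i = 0 → d i = 0) → ∑ i, d i * n i = 0 → ∑ i, d i = 0 :=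
    fun d hd hs => by
      have : ∑ i, d i * n i = (∑ i, d i) * n k := by
        rw [sum_mul]
        refine sum_congr rfl fun i _ => ?_
        by_cases hi : d₀ i = 0
        · simp [hd i hi]
        · rw [(same i hi).1]
      rw [this, mul_eq_zero] at hs
      exact hs.resolve_right (hn k).ne'
  have z0 := z d₀ (fun _ h => h) n0
  have z1 := z d₁ (fun i h => by have := hc i; omega) n1
  have z2 := z d₂ (fun i h => by have := hc i; omega) n2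
  have e1 : ∑ i, (d₀ i : ℚ) * ((d₀ i + d₁ i + d₂ i) * (d₀ i + d₁ i + d₂ i) / n i) =
      ((∑ i, (3 * d₀ i + 2 * d₁ i + 2 * d₂ i + 2 * (d₀ k * d₁ k * d₂ k) * (d₀ i * d₀ i)) : ℤ) : ℚ) /
        n k := by
    rw [Int.cast_sum, sum_div]
    refine sum_congr rfl fun i _ => ?_
    rcases hc i with ⟨f0, f1, f2⟩ | f
    · simp [f0, f1, f2]
    · obtain ⟨a1, a2⟩ := same i (by omega)
      rw [← a1, ← a2]
      obtain ⟨f0 | f0, f1 | f1, f2 | f2⟩ := f <;> rw [f0, f1, f2] <;> push_cast <;> ring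
  simp only [sum_add_distrib, ← mul_sum, z0, z1, z2, h0] at e1
  refine ⟨d₀ k * d₁ k * d₂ k * n k, ?_, ?_⟩
  · have := h4 k
    obtain ⟨f0 | f0, f1 | f1, f2 | f2⟩ := (hc k).resolve_left fun h => hk h.1
    all_goals rw [f0, f1, f2] at this ⊢; omega
  · rw [e1]
    rcases hσ k hk with a | a <;> rw [a] <;> push_cast <;> ring

theorem v4_lower {m₁ m₂ m₃ : ℤ} (h1 : m₁ ≤ -7 ∨ 9 ≤ m₁) (h2 : m₂ ≤ -7 ∨ 9 ≤ m₂)
    (h3 : m₃ ≤ -7 ∨ 9 ≤ m₃) (h : 1 + m₁ + m₂ + m₃ = 0) :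
    (5 : ℚ) / 7 ≤ 1 + 1 / m₁ + 1 / m₂ + 1 / m₃ ∧ 1 + 1 / m₁ + 1 / m₂ + 1 / m₃ ≤ (4 : ℚ) / 3 := by
  have a1 := le_one_div_of (m := m₁) (k := 7) (by norm_num) (by omega)
  have a2 := le_one_div_of (m := m₂) (k := 7) (by norm_num) (by omega)
  have a3 := le_one_div_of (m := m₃) (k := 7) (by norm_num) (by omega)
  have b1 := one_div_le_of (m := m₁) (k := 9) (by norm_num) (by omega)
  have b2 := one_div_le_of (m := m₂) (k := 9) (by norm_num) (by omega)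
  have b3 := one_div_le_of (m := m₃) (k := 9) (by norm_num) (by omega)
  push_cast at *
  refine ⟨?_, by linarith⟩
  rcases (by omega : 0 < m₁ ∨ 0 < m₂ ∨ 0 < m₃) with h4 | h4 | h4 <;>
    have := one_div_pos.2 (show (0 : ℚ) < (_ : ℤ) by exact_mod_cast h4) <;> linarith

theorem v4_seven {a b : ℤ} (ha : a % 4 = 1) (hb : b % 4 = 1) (h1 : 9 ≤ a) (h2 : a ≤ b) :
    7 * ((a + b) * (1 + a + b) - a * b) ≠ a * b * (1 + a + b) := by
  intro h
  rcases (by omega : a = 9 ∨ a = 13 ∨ 17 ≤ a) with rfl | rfl | h3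
  · rcases (by omega : b = 9 ∨ b = 13 ∨ 17 ≤ b) with rfl | rfl | h4
    · norm_num at h
    · norm_num at h
    · nlinarith
  · nlinarith
  · have h4 : 7 * (a + b) ≤ a * b := by nlinarith
    nlinarith

theorem v4_eleven {a b : ℤ} (h1 : 7 ≤ a) (h2 : 7 ≤ b) :
    11 * ((a + b) * (a + b - 1) - a * b) ≠ 3 * (a * b * (a + b - 1)) := by
  intro h
  obtain ⟨x, rfl⟩ : ∃ x, a = 7 + x := ⟨a - 7, by ring⟩
  obtain ⟨y, rfl⟩ : ∃ y, b = 7 + y := ⟨b - 7, by ring⟩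
  have hx : 0 ≤ x := by omega
  have hy : 0 ≤ y := by omega
  nlinarith [mul_nonneg hx hy, mul_nonneg hx hx, mul_nonneg hy hy,
    mul_nonneg (mul_nonneg hx hy) hx, mul_nonneg (mul_nonneg hx hy) hy]

theorem v4_pos {a b c d : ℤ} (ha : a % 4 = 1) (hb : b % 4 = 1) (h1 : 9 ≤ a) (h2 : 9 ≤ b)
    (h : 1 + a + b + c = 0) (hd : d = 7 ∨ d = 11) :
    d * (a * b * c + b * c + a * c + a * b) ≠ 8 * (a * b * c) := by
  obtain rfl : c = -(1 + a + b) := by omega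
  intro e
  rcases hd with rfl | rfl
  · rcases le_total a b with h3 | h3
    · exact v4_seven ha hb h1 h3 (by linarith)
    · exact v4_seven hb ha h2 h3 (by linarith)
  · have h3 : 0 < a * b := by positivity
    have h4 : 0 < a * b * (1 + a + b) := by positivity
    nlinarith

theorem v4_neg {a b c d : ℤ} (h1 : a ≤ -7) (h2 : b ≤ -7)
    (h : 1 + a + b + c = 0) (hd : d = 7 ∨ d = 11) :
    d * (a * b * c + b * c + a * c + a * b) ≠ 8 * (a * b * c) := by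
  obtain rfl : c = -(1 + a + b) := by omega
  intro e
  rcases hd with rfl | rfl
  · have h3 : 0 < a * b := by nlinarith
    have h4 : 0 < a * b * -(1 + a + b) := mul_pos h3 (by omega)
    nlinarith
  · exact v4_eleven (a := -a) (b := -b) (by omega) (by omega) (by linarith)

theorem v4_final {m₁ m₂ m₃ d : ℤ} (r1 : m₁ % 4 = 1) (r2 : m₂ % 4 = 1) (r3 : m₃ % 4 = 1)
    (h1 : m₁ ≤ -7 ∨ 9 ≤ m₁) (h2 : m₂ ≤ -7 ∨ 9 ≤ m₂) (h3 : m₃ ≤ -7 ∨ 9 ≤ m₃)
    (h : 1 + m₁ + m₂ + m₃ = 0) (hd : d % 4 = 3) :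
    (1 : ℚ) + 1 / m₁ + 1 / m₂ + 1 / m₃ ≠ 8 / d := by
  intro e
  obtain ⟨l1, l2⟩ := v4_lower h1 h2 h3 h
  rw [e] at l1 l2
  have d0 : (0 : ℚ) < d := by
    by_contra hn
    have : (8 : ℚ) / d ≤ 0 := div_nonpos_of_nonneg_of_nonpos (by norm_num) (not_lt.1 hn)
    linarith
  rw [div_le_div_iff₀ (by norm_num) d0] at l1
  rw [div_le_div_iff₀ d0 (by norm_num)] at l2
  have l3 : 5 * d ≤ 56 := by exact_mod_cast (show (5 : ℚ) * d ≤ 56 by linarith)
  have l4 : 6 ≤ d := by exact_mod_cast (show (6 : ℚ) ≤ d by linarith)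
  have a1 : (m₁ : ℚ) ≠ 0 := by exact_mod_cast (by omega : m₁ ≠ 0)
  have a2 : (m₂ : ℚ) ≠ 0 := by exact_mod_cast (by omega : m₂ ≠ 0)
  have a3 : (m₃ : ℚ) ≠ 0 := by exact_mod_cast (by omega : m₃ ≠ 0)
  have e' : d * (m₁ * m₂ * m₃ + m₂ * m₃ + m₁ * m₃ + m₁ * m₂) = 8 * (m₁ * m₂ * m₃) := by
    have : (d : ℚ) * (m₁ * m₂ * m₃ + m₂ * m₃ + m₁ * m₃ + m₁ * m₂) = 8 * (m₁ * m₂ * m₃) := by
      field_simp at e
      linarith
    exact_mod_cast this
  have hd' : d = 7 ∨ d = 11 := by omega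
  rcases h1 with h1 | h1 <;> rcases h2 with h2 | h2 <;> rcases h3 with h3 | h3
  · omega
  · exact v4_neg h1 h2 h hd' e'
  · exact v4_neg (c := m₂) h1 h3 (by omega) hd' (by linarith)
  · exact v4_pos (c := m₁) r2 r3 h2 h3 (by omega) hd' (by linarith)
  · exact v4_neg (c := m₁) h2 h3 (by omega) hd' (by linarith)
  · exact v4_pos (c := m₂) r1 r3 h1 h3 (by omega) hd' (by linarith)
  · exact v4_pos r1 r2 h1 h2 h hd' e'
  · omega

end Cfsg.GW
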