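import Cfsg.Agent.GW.KillC
import Cfsg.Agent.GW.KillN

/-!
# `GW/Kill`: the dihedral group of order eight
-/

set_option autoImplicit false
set_option linter.unusedSectionVars false
set_option linter.style.haveILetI false

namespace Cfsg.GW

open Subgroup Finset Cfsg.Agent.FT
open scoped ComplexConjugate

universe u v

variable {G : Type u} [Group G] [Finite G] {K : Type v} [Group K] [Finite K]
  {M : Ideal AlgInt} {S : Subgroup G} {x s t : G} {B : Set (IrrCharacter G)}

theorem ip_col (hK : HasNormalPComplement 2 K) {m : K →* ℂˣ} {q : ℕ}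
    (hq : 2 ^ (Nat.card K).factorization 2 = q) {φ : K → ℂ} {a : ℂ}
    (h : ∀ y, IsPRegular 2 y → φ y = a * m y) :
    ip (pRegularPart 2 ((q : ℂ) • fun k => (m k : ℂ))) φ = conj a := by
  rw [ip_pRegularPart_linear m h, hK.ip_pRegularPart_one, ← hq]
  push_cast
  field_simp

theorem ip_col_self {f : K →* G} {v : G} (hs : IsSec 2 f v) (hK : HasNormalPComplement 2 K)
    (m : K →* ℂˣ) {q : ℕ} (hq : 2 ^ (Nat.card K).factorization 2 = q) :
    ip (secInd 2 f v ((q : ℂ) • fun k => (m k : ℂ))) (secInd 2 f v ((q : ℂ) • fun k => (m k : ℂ))) =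
      ((q : ℤ) : ℂ) := by
  rw [hs.ip_secInd_secInd _ (isClassFunction_linear _ _)]
  exact (ip_col hK hq (a := q) fun _ _ => rfl).trans (by simp)

theorem DihOf.npc (h : DihOf ⊤ S x s t) : HasNormalPComplement 2 (𝓒[t] : Subgroup G) :=
  h.pair.hasNormalPComplement h.syl.pgroup h.not_dvd_index h.t_mem h.ord

theorem DihOf.t_ne_one (h : DihOf ⊤ S x s t) : t ≠ 1 := fun e => by simpa [e] using h.ord

theorem DihOf.isSec_t (h : DihOf ⊤ S x s t) :
    IsSec 2 ((𝓒[t] : Subgroup G).subtype.comp (MonoidHom.id _)) t :=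
  isSec_centralizer (isPElt_two_of_orderOf h.ord)

theorem Base.d8_bound (h : Base S x s t) (hx2 : x * x = t) (hx : 𝐎(𝓒[t]) ≤ 𝓒[x])
    {l : (𝓒[t] : Subgroup G) →* ℂˣ} (hl : ∀ a, IsPElt 2 a → l a = 1) {y : (𝓒[t] : Subgroup G)}
    (hy : IsPRegular 2 y) (hly : l y ≠ 1) :
    32 * ((𝓒[s] : Subgroup G).relIndex 𝐎(𝓒[t]) : ℚ) ^ 2 ≤ 7 / 9 * (𝓒[t] : Subgroup G).index := by
  classical
  haveI := Fintype.ofFinite G
  obtain ⟨M, hM⟩ := exists_isPModular Nat.prime_two
  have hd := h.dih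
  obtain ⟨h8, h4, -⟩ := hd.card_eight hx2
  have hx1 : x ≠ 1 := fun e => by simp [e] at h4
  have hxe : IsPElt 2 x := ⟨2, h4⟩
  have hle : 𝓒[x] ≤ (𝓒[t] : Subgroup G) :=
    hd.pair.centralizer_le hd.syl.pgroup hd.t_mem hd.ord (mem_zpowers x) hx1
  have st := hd.isSec_t
  have sx : IsSec 2 ((𝓒[t] : Subgroup G).subtype.comp (inclusion hle)) x := isSec_centralizer hxe
  have sx' : IsSec 2 (inclusion hle) ⟨x, hd.x_mem_cent⟩ := by
    refine ⟨inclusion_injective _, isPElt_coe_iff.1 hxe, ?_⟩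
    ext g
    rw [inclusion_range, mem_subgroupOf, mem_cent1, mem_cent1, Subtype.ext_iff]
    rfl
  obtain ⟨B, hB⟩ := st.exists_induces hM (isPBlock_linB l)
  haveI := Fintype.ofFinite B
  have hB' := (sx'.induces_linB hM l).trans hM hB
  have nx := hd.pair.hasNormalPComplement_of_mem hd.syl.pgroup hd.not_dvd_index hd.t_mem hd.ord
    (mem_zpowers x) hx1
  have qt : 2 ^ (Nat.card (𝓒[t] : Subgroup G)).factorization 2 = 8 := by
    rw [hd.pair.factorization_centralizer_J hd.syl.pgroup hd.not_dvd_index hd.t_mem hd.ord, h4]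
  have qx : 2 ^ (Nat.card (𝓒[x] : Subgroup G)).factorization 2 = 4 := by
    rw [hd.pair.factorization_centralizer hd.syl.pgroup hd.not_dvd_index hd.t_mem hd.ord
      (mem_zpowers x) (hx2 ▸ hd.t_ne_one), h4]
  choose a ha using hd.exists_int_x hx2
  choose c hc using hd.exists_int_t
  set θ := secInd 2 ((𝓒[t] : Subgroup G).subtype.comp (MonoidHom.id _)) t
    (((8 : ℕ) : ℂ) • fun k => (l.comp (MonoidHom.id _) k : ℂ)) with hθ
  set φ := secInd 2 ((𝓒[t] : Subgroup G).subtype.comp (inclusion hle)) x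
    (((4 : ℕ) : ℂ) • fun k => (l.comp (inclusion hle) k : ℂ)) with hφ
  have bθ : blockPart B θ = θ := st.blockPart_secInd_of_induces hM hB (blockPart_linB hM l _)
  have bφ : blockPart B φ = φ := sx.blockPart_secInd_of_induces hM hB' (blockPart_linB hM _ _)
  have cθ : ∀ χ : B, ip θ χ.1.1 = c χ := fun χ => by
    rw [hθ, ip_secInd_irr, ip_col hd.npc qt (a := c χ), map_intCast]
    intro y hy
    rw [secFun_apply, ← hc]
    exact st.irr_apply_of_forall hM hB.right hy (fun b hb ξ hξ =>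
      hd.npc.apply_of_mem_linB hM (hd.eq_linB hM hx2 hx hB hb ▸ hξ) hy) χ.2
  have cφ : ∀ χ : B, ip φ χ.1.1 = a χ := fun χ => by
    rw [hφ, ip_secInd_irr, ip_col nx qx (a := a χ), map_intCast]
    intro y hy
    rw [secFun_apply, ← ha]
    refine sx.irr_apply_of_forall hM hB.right hy (fun b hb ξ hξ => ?_) χ.2
    obtain ⟨b', hb'⟩ := sx'.exists_induces hM hb.left
    obtain rfl := hd.eq_linB hM hx2 hx hB (hb'.of_trans hM hb)
    exact hb'.apply_of_linB hM hd.npc (inclusion_injective _) hξ hy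
  have hnc : ¬ IsConj x t := fun e => by
    obtain ⟨g, hg⟩ := isConj_iff.1 e
    have := orderOf_conj_eq g x
    rw [hg, hd.ord, h4] at this
    omega
  have key := d8_arith (a := fun χ : B => a χ) (c := fun χ : B => c χ)
    (n := fun χ : B => charDegree χ.1.1) (h.one_lt hM hB hy hly)
    (col_ip bφ cφ cφ (ip_col_self sx nx _ qx)) (col_ip bθ cθ cθ (ip_col_self st hd.npc _ qt))
    (col_ip bφ cφ cθ (by rw [hφ, hθ, sx.ip_secInd_secInd_of_not_isConj st hnc]; simp))
    (col_deg bφ cφ (secInd_apply_of_odd sx hx1 _ (by simp)))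
    (col_deg bθ cθ (secInd_apply_of_odd st hd.t_ne_one _ (by simp)))
    (fun χ => h.eight_dvd hx2 χ (ha χ) (hc χ)) fun χ => h.four_dvd χ (hc χ)
  have e1 := col_count (t := t) (θ := θ + φ) (d := fun χ : B => c χ + a χ)
    (by rw [blockPart_add, bθ, bφ]) (fun χ => by rw [ip_add_left, cθ, cφ]; simp) fun χ => hc χ
  have c1 : IsClassFunction G fun g => (8 : ℕ) * secOne 2 t g + (4 : ℕ) * secOne 2 x g :=
    fun g k => by
      beta_reduce
      rw [isClassFunction_secOne 2 t g k, isClassFunction_secOne 2 x g k]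
  have ht2 : t ∈ zpowers x := hd.t_mem
  have s1 : secOne 2 t t = 1 := secOne_of_mem (self_mem_pSection (isPElt_two_of_orderOf hd.ord))
  have s2 : secOne 2 x x = 1 := secOne_of_mem (self_mem_pSection hxe)
  have s3 : secOne 2 t x = 0 := secOne_of_notMem (by rwa [mem_pSection_iff_isConj hxe])
  have s4 : secOne 2 x t = 0 := secOne_of_notMem (by
    rw [mem_pSection_iff_isConj (isPElt_two_of_orderOf hd.ord)]; exact fun e => hnc e.symm)
  have s5 : ∀ v, secOne 2 v x⁻¹ = secOne 2 v x := fun v =>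
    ((isClassFunction_secOne 2 v).eq_of_isConj (hd.pair.isConj_inv (mem_zpowers x))).symm
  have s6 : secOne 2 t 1 = 0 := secOne_apply_of_odd hd.t_ne_one (by simp)
  have s7 : secOne 2 x 1 = 0 := secOne_apply_of_odd hx1 (by simp)
  have p1 : t * x = x⁻¹ := by rw [← hd.pow_three hx2, ← hx2, pow_succ, pow_two]
  have p2 : t * t = 1 := mul_self_of_orderOf_eq_two hd.ord
  have p3 : t * x⁻¹ = x := by rw [← hx2, mul_inv_cancel_right]
  rw [h.sum_twist ((isClassFunction_secInd _ _ _).add (isClassFunction_secInd _ _ _)) c1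
    (fun g hg => by
      rw [Pi.add_apply, secInd_apply_of_odd st hd.t_ne_one _ hg, secInd_apply_of_odd sx hx1 _ hg,
        add_zero])
    (fun g hg => by simp [secOne_apply_of_odd hd.t_ne_one hg, secOne_apply_of_odd hx1 hg]) hl
    (fun y hy => by
      rw [Pi.add_apply, secInd_linear_apply hd.ord (mem_zpowers t) st hl _ y hy,
        secInd_linear_apply hd.ord ht2 sx hl _ y hy, mul_add]),
    hd.pair.sum_pairs hd.syl.pgroup hd.not_dvd_index hd.t_mem hd.ord h.isConj c1
      (by simp [s6, s7]) (fun g => by rw [secOne_pPartK t g, secOne_pPartK x g]) (Or.inl rfl)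
      (N := 2) two_ne_zero (c := 4) (fun a ha => by
        obtain ⟨k, hk, rfl⟩ := mem_image.1 (mem_zpowers_iff_mem_range_orderOf.1 ha)
        rw [h4, mem_range] at hk
        simp only [sum_range_succ, range_zero, sum_empty, zero_add, pow_zero, one_mul, pow_one]
        interval_cases k
        · simp [s1, s4, s6, s7]; norm_num
        · simp [p1, s2, s3, s5]; norm_num
        · simp [pow_two, hx2, p2, s1, s4, s6, s7]; norm_num
        · simp [hd.pow_three hx2, p3, s2, s3, s5]; norm_num)] at e1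
  have r1 := hd.relIndex_cent
  have r2 := hd.swap.relIndex_cent
  rw [hd.relIndex_swap hx, h8] at r2
  rw [h8] at r1
  have i0 : (0 : ℚ) < (𝓒[t] : Subgroup G).index := by exact_mod_cast index_pos _
  generalize (𝓒[s] : Subgroup G).relIndex 𝐎(𝓒[t]) = e at *
  obtain r1 : (centralizer ({t, s} : Set G)).relIndex 𝓒[t] = 2 * e := by omega
  obtain r2 : (centralizer ({t, x * s} : Set G)).relIndex 𝓒[t] = 2 * e := by omega
  rw [r1, r2] at e1
  have e2 : ((𝓒[t] : Subgroup G).index : ℚ) * 4 * ((2 * e : ℕ) + (2 * e : ℕ)) ^ 2 =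
      ((𝓒[t] : Subgroup G).index : ℚ) ^ 2 * ∑ χ : B, ((c χ + a χ : ℤ) : ℚ) *
        (c χ * c χ / (charDegree χ.1.1 : ℤ)) := by exact_mod_cast e1
  push_cast at e2 key
  generalize ∑ χ : B, ((c χ : ℚ) + a χ) * (c χ * c χ / (charDegree χ.1.1 : ℚ)) = γ at e2 key
  have e3 : 64 * (e : ℚ) ^ 2 = (𝓒[t] : Subgroup G).index * γ :=
    mul_left_cancel₀ i0.ne' (by linear_combination e2)
  nlinarith

end Cfsg.GW
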