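import Cfsg.Agent.GW.Defs

/-! # The local structure of `PSL₂(q)` and of `A₇` in abstract form -/

set_option autoImplicit false

namespace Cfsg.GW

open Subgroup Cfsg.Agent.FT

universe u

variable {G : Type u} [Group G]

/-- `X` is the centralizer of each of its nonidentity elements -/
def CC (X : Subgroup G) : Prop := ∀ z ∈ X, z ≠ 1 → 𝓒[z] = X

/-- The hypothesis of the Brauer-Suzuki-Wall theorem: `C(t) = A⟨s⟩` is generalized dihedral,
`A = ⟨x⟩ × K`, `K = O(C(t))`. -/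
structure BswHyp (S : Subgroup G) (x s t : G) : Prop where
  dih : DihOf ⊤ S x s t
  one : OneCl ⊤ t
  inv : ∀ y ∈ 𝐎(𝓒[t]), s * y * s⁻¹ = y⁻¹
  cent : ∀ y ∈ 𝐎(𝓒[t]), x * y = y * x
  ti : ∀ y ∈ 𝐎(𝓒[t]), y ≠ 1 → 𝓒[y] ≤ 𝓒[t]

/-- a torus of order `n` prime to `|C(t)|` -/
structure TType (n : ℕ) (T : Subgroup G) : Prop where
  cc : CC T
  card : Nat.card T = n
  card_norm : Nat.card 𝓝(T) = 2 * n

/-- a Sylow subgroup for the defining characteristic -/
structure QType (q : ℕ) (Q : Subgroup G) : Prop where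
  cc : CC Q
  card : Nat.card Q = q
  card_norm : 2 * Nat.card 𝓝(Q) = q * (q - 1)
  cyc : IsCyclic (𝓝(Q) /ₛ Q)
  three : ∀ g h y : G, Q :^ g ≠ Q → Q :^ h ≠ Q → Q :^ g ≠ Q :^ h → y ∈ 𝓝(Q) → y ∈ 𝓝(Q :^ g) →
    y ∈ 𝓝(Q :^ h) → y = 1

/-- The conclusion of the Brauer-Suzuki-Wall analysis: `|C(t)| = 2a`, `q = 2a + ε`, `n = a + ε`,
`|G| = 2 a n q`. (`A₄` is the case `a = 2`, `n = 1`, `q = 3`.) -/
structure L2 (S : Subgroup G) (x s t : G) (a n q : ℕ) : Prop extends BswHyp S x s t where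
  card_cent : Nat.card (𝓒[t] : Subgroup G) = 2 * a
  eps : n = a + 1 ∨ n + 1 = a
  hq : q = a + n
  card : Nat.card G = 2 * a * n * q
  pp : IsPrimePow q
  types : ∀ y : G, y ≠ 1 → Odd (orderOf y) →
    (∃ g, g * y * g⁻¹ ∈ 𝐎(𝓒[t])) ∨ TType n 𝓒[y] ∨ QType q 𝓒[y]

/-- `L2` together with the cyclicity of the tori, for a simple group. -/
structure L2c (S : Subgroup G) (x s t : G) (a n q : ℕ) : Prop extends L2 S x s t a n q where
  simple : IsSimpleGroup G
  nonab : ¬ IsMulCommutative G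
  cycK : IsCyclic 𝐎(𝓒[t])
  cycT : ∀ T : Subgroup G, TType n T → IsCyclic T

/-- the strengthened conclusion of the main theorem, used as induction hypothesis -/
def Known' (G : Type u) [Group G] : Prop :=
  Known G ∧ (Nonempty (G ≃* alternatingGroup (Fin 7)) ∨
    ∃ (S : Subgroup G) (x s t : G) (a n q : ℕ), L2c S x s t a n q)

end Cfsg.GW

set_option linter.all false in
theorem Cfsg.Rz.GW_L2Defs_0 : True := by
  have := @_root_.Cfsg.GW.BswHyp.mk.congr_simp.{0}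
  have := @_root_.Cfsg.GW.TType.mk.congr_simp.{0}
  have := @_root_.Cfsg.GW.CC.eq_def.{0}
  have := @_root_.Cfsg.GW.CC.eq_1.{0}
  have := @_root_.Cfsg.GW.CC.fun_cases
  have := @_root_.Cfsg.GW.L2.mk.congr_simp.{0}
  have := @_root_.Cfsg.GW.QType.mk.congr_simp.{0}
  have := @_root_.Cfsg.GW.Known'.eq_def.{0}
  have := @_root_.Cfsg.GW.Known'.eq_1.{0}
  have := @_root_.Cfsg.GW.Known'.fun_cases
  have := @_root_.Cfsg.GW.L2c.mk.congr_simp.{0}
  trivial
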