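import Cfsg.Agent.GW.NumC

/-!
# Numerical consequences; overgroups of `C(t)`

Notation as in `NumB`; `γ = 1 + ∑ 1/mᵢ` (`V₄`), `α = 1 + ∑ 1/mᵢ`, `φ = m₁(m₁+1)/(m₁-1)²` (`D₈`),
`r = e₂/e₁ = |U₁|/|U₂|`. `γ ∈ [8/15, 8/3]`, `8/15` only for `(5,-3,-3)`, `γ > 2.06` only for
`(1,1,-3)`. `42/64 ≤ φ ≤ 90/64`. The two `D₈` formulas give `φ α (1+r)² = 4r`. Outside (N7'),
`m₁ ∉ {1,-7}`, `m₂,m₃ ∉ {3,-5}`, so `0.856 < α < 1.16`, `φ ≥ 210/256`, hence `r, 1/r < 3.5` and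
`i ≤ 38e₁e₂ ≤ 133 e_j²`. If `U₁ = U₂ = 1` then `r = 1`, `φα = 1`, `i = 32 e² φ ≤ 45 e²`.
`r = 3`: `α = 3/(4φ)` gives `m₂m₃ (m₁² + 14m₁ + 1) = 4m₁(m₁+1)²`, so `m₁² + 14 m₁ + 1 ∣ 48`,
`m₁ = -15` (`m₁ = -7` has no integer `m₂, m₃`), `{m₂,m₃} = {35,-21}`, `α = 32/35`.

`count_two` (two classes; `t ∼ s` inner, `xs` outer, `M₀` of index two from `exists_index_two`).
Count pairs `(a,b)`, `a` inner, `b` outer involution: `ab` has even order, let `z` be the involution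
of `⟨ab⟩`; it commutes with `a`, `b`. If `z` is outer, `C_M(z) ≅ W ⋊ V₂`, `a` is one of the `w` inner
and `b` one of the `w` outer involutions `≠ z` of `C_M(z)`, all such pairs occur. If `z` is inner,
`a`, `b` lie in the classes of `s`, `xs` in `C_M(z)` (sizes `2e₁`, `2e₂`). So
`i·o = o w² + 4 i e₁e₂`, `o = |M|/(4|W|)`, `i = |M|/(8|U|)`.

`a0`: `H ≤ M`, so `e_j` is the same for `M` and `G`; `n = |G:M| = γ_M/γ_G ≤ 5`, resp.
`φ_G/φ_M < 9`. Every involution fixes exactly one coset of `M` (`fix(t) = n·i_M/i_G = 1`), so `S` is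
semiregular on the other cosets, `n ≡ 1 (mod |S|)`. So `V₄`, `n = 5`, `γ_G = 8/15`, `i = 15e²`,
`|G| = 60 e²|U|` divides `120`.

`caseA`: `OneCl M t`: `a0`. If `t` is fused in `M` to neither `s` nor `xs`: `M = O(M) S`; if `O(M) ≤ H`
then `M ≤ H`. (In the `V₄` case `t ∼ s` implies `OneCl`, `exists_rho`.) Otherwise `D₈`, WLOG (swap)
`t ∼ s`, `t ≁ xs` in `M`. `W = O(C_M(xs))` lies in `O(C_G(xs))`, so `j = |U|/|W|` is an odd integer.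
`ρ = r/j` satisfies `ρ(ρ+2) = i_M/e₁² = 8/γ₀` (`count_two`, `v4_data` for `M₀`), so `1 ≤ ρ ≤ 3`:
(*) `r ≥ j ≥ 1`. `n = |G:M| = 32 j/((ρ+2)α)`. On `G/M`: `fix(t) = 1 + 2j`, `fix(x) = 1`; Burnside's
count for `S`: `n ≡ 1 - 2j (mod 8)`. If `U₁ = U₂ = 1`: `r = j = ρ = 1`, `γ₀ = 8/3`. Otherwise
`j ∈ {1,3}`; `j = 1`: `n ≤ 12`, `n = 7`, `t` has three fixed points, and `u ∈ U` (odd order, fixes the
coset `M`, commutes with `t`) acts trivially: `U = 1`. `j = 3`: `ρ < 7/6`, `γ₀ > 2.17`, `γ₀ = 8/3`.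
If `γ₀ = 8/3` some `mᵢ = 1`: `N ⊴ M₀` proper, `N ≥ C_{M₀}(t)`; `N` has not one class (else
`|N:C_N(t)| = |M₀:C(t)|`), so `N = O(N) V₁`, `M₀/N` is odd: `M` is solvable, `O(M) V₁ ⊴ M`.
Finally suppose `O(M) ≤ C(t)`. As `t ∼ s`, `V₁` centralizes `O(M)`, `V₁ ⊴ M`, `U` centralizes `V₁`:
`e₁ = 1`, `U₁ = U`. Assume `U ≠ 1`; `r = e₂ ∈ {1,3}`. `B = U₂ = O(C(V₂))` is normal in `H` (index
`1` or `3` in the odd group `U`, centralized by `S`) and normalized by `N(V₂) ∋ ρ₂`. If `B ≠ 1` then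
`M' = N(B) ≠ G` contains `H` and fuses `t ∼ xs`; by `a0` it does not fuse `t ∼ s`, and (*) for `M'`
(roles swapped) gives `1/r ≥ 1`, so `r = 1`, `B = U`, and then `N(U) ⊇ N(V₁), N(V₂)` has one class,
contradicting `a0`. So `B = 1`, `|U| = 3 = r`, `i = 105`, `|G| = 2520`.
-/

set_option autoImplicit false
set_option linter.unusedSectionVars false

namespace Cfsg.GW

open Subgroup Cfsg.Agent.FT

universe u

variable {G : Type u} [Group G] [Finite G] {M S : Subgroup G} {x s t : G}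

theorem two_data (h : DihOf M S x s t) (hx : x * x = t) (h1 : ∃ g ∈ M, g * t * g⁻¹ = s)
    (h2 : ∀ g ∈ M, g * t * g⁻¹ ≠ x * s) :
    ((𝓒[t] : Subgroup G).relIndex M * Nat.card 𝐎(M ⊓ 𝓒[t]) =
      (𝓒[t] : Subgroup G).relIndex 𝐎(M ⊓ 𝓒[x * s]) ^ 2 * Nat.card 𝐎(M ⊓ 𝓒[t]) +
        2 * (𝓒[s] : Subgroup G).relIndex 𝐎(M ⊓ 𝓒[t]) *
          (𝓒[x * s] : Subgroup G).relIndex 𝐎(M ⊓ 𝓒[t]) * Nat.card 𝐎(M ⊓ 𝓒[x * s])) ∧
    {a ∈ M | orderOf a = 2}.ncard * Nat.card 𝐎(M ⊓ 𝓒[x * s]) = (𝓒[t] : Subgroup G).relIndex M *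
      (Nat.card 𝐎(M ⊓ 𝓒[x * s]) + 2 * Nat.card 𝐎(M ⊓ 𝓒[t])) := by
  have h' := h.swap
  have hK := h'.outer h2
  have ht := h.syl.le h.t_mem'
  have hv := h.syl.le h'.s_mem
  have v2 := h'.isFour.ord_right
  have htv : t ∉ ccl M (x * s) := fun e => by
    obtain ⟨g, hg, e⟩ := ccl_symm e
    exact h2 g hg e
  have hall : ∀ u ∈ M, orderOf u = 2 → u ∈ ccl M t ∨ u ∈ ccl M (x * s) := fun u hu u2 =>
    (h.invol_ccl hu u2).elim .inl fun e => e.imp_left fun e => ccl_trans e h1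
  have e0 := ncard_pairs ht hv h.ord v2 htv hall
  have e1 := h.four_mul_relIndex
  have e2 := h'.four_mul_relIndex
  have e3 := hK.four_mul_relIndex
  have e4 := card_inf_mul_relIndex 𝓒[t] M
  have e5 := card_inf_mul_relIndex 𝓒[x * s] M
  have e6 := hK.sdprod.card
  rw [inf_assoc, inf_idem, h'.isFour.symm.card] at e3 e6
  rw [(h.card_eight hx).1] at e1 e2
  rw [inf_comm, ← h.sdprod.card, (h.card_eight hx).1] at e4
  rw [inf_comm, ← e6] at e5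
  rw [h.cent.fiber ht hv h.ord v2 htv h1 self_mem_ccl, hK.fiber ht hv h.ord v2 htv self_mem_ccl
    ⟨x, h.syl.le h.x_mem, (h'.card_eight hx).2.2.trans h'.isFour.comm⟩, Set.ncard_prod,
    Set.ncard_prod] at e0
  simp only [ncard_ccl] at e0
  rw [relIndex_cent_mul inf_le_right] at e0
  have e7 : {a ∈ M | orderOf a = 2} = ccl M t ∪ ccl M (x * s) := Set.ext fun a =>
    ⟨fun e => hall a e.1 e.2, fun e => e.elim (fun e => ⟨mem_of_mem_ccl ht e,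
      (orderOf_of_mem_ccl e).trans h.ord⟩) fun e => ⟨mem_of_mem_ccl hv e,
      (orderOf_of_mem_ccl e).trans v2⟩⟩
  rw [e7, Set.ncard_union_eq (Set.disjoint_left.2 fun a e e' => htv (ccl_trans (ccl_symm e) e')),
    ncard_ccl, ncard_ccl]
  have hi := relIndex_pos (𝓒[t] : Subgroup G) M
  generalize (𝓒[t] : Subgroup G).relIndex M = i at *
  generalize (𝓒[x * s] : Subgroup G).relIndex M = o at *
  generalize (𝓒[t] : Subgroup G).relIndex 𝐎(M ⊓ 𝓒[x * s]) = w at *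
  generalize Nat.card 𝐎(M ⊓ 𝓒[x * s]) = W at *
  generalize Nat.card 𝐎(M ⊓ 𝓒[t]) = U at *
  generalize (𝓒[s] : Subgroup G).relIndex 𝐎(M ⊓ 𝓒[t]) = a at *
  generalize (𝓒[x * s] : Subgroup G).relIndex 𝐎(M ⊓ 𝓒[t]) = b at *
  obtain rfl : (𝓒[t] : Subgroup G).relIndex (M ⊓ 𝓒[x * s]) = w := by omega
  rw [show (𝓒[s] : Subgroup G).relIndex (M ⊓ 𝓒[t]) = 2 * a by omega,
    show (𝓒[x * s] : Subgroup G).relIndex (M ⊓ 𝓒[t]) = 2 * b by omega] at e0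
  have e8 : W * o = 2 * U * i := by nlinarith
  refine ⟨Nat.eq_of_mul_eq_mul_left (Nat.mul_pos two_pos hi) ?_, by nlinarith⟩
  zify at e0 e8 ⊢
  linear_combination W * e0 - (i - ((𝓒[t] : Subgroup G).relIndex (M ⊓ 𝓒[x * s]) : ℤ) ^ 2) * e8

theorem count_two (h : DihOf M S x s t) (hx : x * x = t) (h1 : ∃ g ∈ M, g * t * g⁻¹ = s)
    (h2 : ∀ g ∈ M, g * t * g⁻¹ ≠ x * s) :
    (𝓒[t] : Subgroup G).relIndex M * Nat.card 𝐎(M ⊓ 𝓒[t]) =
      (𝓒[t] : Subgroup G).relIndex 𝐎(M ⊓ 𝓒[x * s]) ^ 2 * Nat.card 𝐎(M ⊓ 𝓒[t]) +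
        2 * (𝓒[s] : Subgroup G).relIndex 𝐎(M ⊓ 𝓒[t]) *
          (𝓒[x * s] : Subgroup G).relIndex 𝐎(M ⊓ 𝓒[t]) * Nat.card 𝐎(M ⊓ 𝓒[x * s]) :=
  (two_data h hx h1 h2).1

theorem v4_bounds (h : DihOf M S t s t) (h1 : OneCl M t) :
    3 * (𝓒[s] : Subgroup G).relIndex 𝐎(M ⊓ 𝓒[t]) ^ 2 ≤ (𝓒[t] : Subgroup G).relIndex M ∧
    (𝓒[t] : Subgroup G).relIndex M ≤ 15 * (𝓒[s] : Subgroup G).relIndex 𝐎(M ⊓ 𝓒[t]) ^ 2 ∧
    ((∃ N, N ⊴ M ∧ N ≠ M ∧ M ⊓ 𝓒[t] ≤ N) ∨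
      40 * (𝓒[s] : Subgroup G).relIndex 𝐎(M ⊓ 𝓒[t]) ^ 2 ≤ 7 * (𝓒[t] : Subgroup G).relIndex M) := by
  obtain ⟨a, b, c, ha, hb, hc, hs, e, hN, -⟩ := v4_data h h1
  have l := v4_lb ha hb hc hs
  obtain ⟨u, u'⟩ := v4_ub ha hb hc hs
  have hi : (0 : ℚ) ≤ (𝓒[t] : Subgroup G).relIndex M := Nat.cast_nonneg _
  refine ⟨by qify; nlinarith, by qify; nlinarith, ?_⟩
  rcases u' with u' | u' | u' | u'
  exacts [.inl (hN (.inl u')), .inl (hN (.inr (.inl u'))), .inl (hN (.inr (.inr u'))),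
    .inr (by qify; nlinarith)]

theorem d8_bounds (h : DihOf M S x s t) (hx : x * x = t) (h1 : OneCl M t) {i a b : ℕ}
    (hi : (𝓒[t] : Subgroup G).relIndex M = i) (ha : (𝓒[s] : Subgroup G).relIndex 𝐎(M ⊓ 𝓒[t]) = a)
    (hb : (𝓒[x * s] : Subgroup G).relIndex 𝐎(M ⊓ 𝓒[t]) = b) :
    21 * (a + b) ^ 2 ≤ 4 * i ∧ 4 * i ≤ 45 * (a + b) ^ 2 ∧ (IsSimpleGroup M →
      (𝐎(M ⊓ 𝓒[t]) ⊓ 𝓒[s] = ⊥ ∧ 𝐎(M ⊓ 𝓒[t]) ⊓ 𝓒[x * s] = ⊥) ∨
      (11 * i ≤ 416 * a * b ∧ 2 * a < 7 * b ∧ 2 * b < 7 * a ∧ (b = 3 * a → i = 105 * a ^ 2 ∧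
        ∀ P : Subgroup G, P ≤ M ⊓ 𝓒(four t s) → Nat.card P = 9 → IsCyclic P))) := by
  obtain ⟨m, m₂, m₃, k1, k1', k2, k3, hs, e1, e2, hN, hP⟩ := d8_data h hx h1
  have pa := ha ▸ relIndex_pos _ _
  have pb := hb ▸ relIndex_pos _ _
  rw [hi, ha, hb] at e1 e2
  obtain ⟨f1, f2, f3, f4, f5, f6⟩ := d8_phi k1 k1' (sq_nonneg _) e2
  refine ⟨by exact_mod_cast f1, by exact_mod_cast f2, fun hG => or_iff_not_imp_left.2 fun h0 => ?_⟩
  have h3 := mt (hN hG) h0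
  simp only [not_or] at h3
  obtain ⟨g1, g2⟩ := d8_alpha k1 h3.1 k2 h3.2.1.2 k3 h3.2.2.2 hs
  have hi' : (0 : ℚ) ≤ i := Nat.cast_nonneg _
  have g3 : 11 * i ≤ 416 * a * b := by qify; nlinarith
  have g4 : 105 * (a + b) ^ 2 ≤ 16 * i := by exact_mod_cast f3 h3.1
  refine ⟨g3, by by_contra! e; nlinarith, by by_contra! e; nlinarith, fun e => ?_⟩
  subst e
  have hm : m = -15 := by
    by_contra hm
    rcases le_total 0 m with c | c
    · have : 8 * (a + 3 * a) ^ 2 ≤ i := by exact_mod_cast f5 c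
      nlinarith
    · have g5 : 253 * (a + 3 * a) ^ 2 ≤ 36 * i := by exact_mod_cast f4 h3.1 hm
      have g6 : 263 * i ≤ 299 * 96 * a ^ 2 := by
        have := g2 (by omega)
        push_cast at e1
        qify; nlinarith
      nlinarith
  refine ⟨?_, hP hG hm⟩
  have : 16 * i = 105 * (a + 3 * a) ^ 2 := by exact_mod_cast f6 hm
  nlinarith

theorem Base.simple_top (h : Base S x s t) : IsSimpleGroup (⊤ : Subgroup G) :=
  haveI := h.simple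
  topEquiv.isSimpleGroup

theorem Base.d8 (h : Base S x s t) (hx : x * x = t) {i a b : ℕ}
    (hi : (𝓒[t] : Subgroup G).index = i) (ha : (𝓒[s] : Subgroup G).relIndex 𝐎(𝓒[t]) = a)
    (hb : (𝓒[x * s] : Subgroup G).relIndex 𝐎(𝓒[t]) = b) : 4 * i ≤ 45 * (a + b) ^ 2 ∧
      ((𝐎(𝓒[t]) ⊓ 𝓒[s] = ⊥ ∧ 𝐎(𝓒[t]) ⊓ 𝓒[x * s] = ⊥ ∧ a = b) ∨
      (11 * i ≤ 416 * a * b ∧ 2 * a < 7 * b ∧ 2 * b < 7 * a ∧ (b = 3 * a → i = 105 * a ^ 2 ∧
        ∀ P : Subgroup G, P ≤ 𝓒(four t s) → Nat.card P = 9 → IsCyclic P))) := by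
  obtain ⟨-, h1, h2⟩ := d8_bounds (a := a) (b := b) h.dih hx h.one
    ((relIndex_top_right _).trans hi) (by rwa [top_inf_eq]) (by rwa [top_inf_eq])
  simp only [top_inf_eq] at h2
  refine ⟨h1, (h2 h.simple_top).imp_left fun e => ⟨e.1, e.2, ?_⟩⟩
  rw [← ha, ← hb, ← inf_relIndex_right, ← inf_relIndex_right 𝓒[x * s], inf_comm, e.1, inf_comm, e.2]

theorem odd_core_relIndex (K M : Subgroup G) : Odd (K.relIndex 𝐎(M)) :=
  (odd_core M).of_dvd_nat (relIndex_dvd_card _ _)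

theorem Base.card_cent (h : Base S x s t) :
    Nat.card (𝓒[t] : Subgroup G) = Nat.card 𝐎(𝓒[t]) * Nat.card S := by
  have := h.dih.sdprod.card
  rw [top_inf_eq] at this
  exact this.symm

theorem Base.fix (h : Base S x s t) (hle : 𝓒[t] ≤ M) {f : ℕ}
    (hf : {a ∈ M | orderOf a = 2}.ncard = f * (𝓒[t] : Subgroup G).relIndex M) :
    4 ∣ M.index + 3 * f := by
  obtain ⟨f', k, h1, h2⟩ := exists_fix M h.dih.isFour h.one
  rw [hf, ← card_mul_relIndex hle] at h1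
  obtain rfl : f' = f := Nat.eq_of_mul_eq_mul_right (Nat.mul_pos (Nat.card_pos
    (α := (𝓒[t] : Subgroup G))) (relIndex_pos 𝓒[t] M)) (by linarith)
  exact ⟨k, h2⟩

theorem Base.a0 (h : Base S x s t) (hM : M ≠ ⊤) (hle : 𝓒[t] ≤ M) (h1 : OneCl M t) :
    M.index = 5 ∧ Nat.card G = 60 ∧ 𝐎(𝓒[t]) = ⊥ := by
  haveI := h.simple
  have hM' := h.dih.mono (h.dih.le_cent.trans hle) le_top
  have e0 : M ⊓ 𝓒[t] = 𝓒[t] := inf_eq_right.2 hle
  have h2 := h.fix hle (f := 1) (by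
    rw [one_mul, ← ncard_ccl]
    congr 1
    exact Set.ext fun a => ⟨fun e => h1 a e.1 e.2, fun e =>
      ⟨mem_of_mem_ccl (hM'.syl.le hM'.t_mem') e, (orderOf_of_mem_ccl e).trans hM'.ord⟩⟩)
  have h3 := relIndex_mul_index hle
  have h4 : M.index ≠ 1 := mt index_eq_one.1 hM
  have pa := relIndex_pos (𝓒[s] : Subgroup G) 𝐎(𝓒[t])
  rcases h.dih.card_cases with ⟨rfl, h8⟩ | ⟨hx, -⟩
  · have b1 := (v4_bounds hM' h1).1
    have b2 := (v4_bounds h.dih h.one).2.1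
    rw [e0] at b1
    rw [top_inf_eq, relIndex_top_right] at b2
    have h5 : M.index = 5 := by
      have : M.index ≤ 5 := by by_contra! e; nlinarith
      omega
    have h6 := card_dvd_factorial_index hM
    have h7 := card_mul_index (𝓒[x] : Subgroup G)
    rw [h.card_cent, h8, show (𝓒[x] : Subgroup G).index =
      15 * (𝓒[s] : Subgroup G).relIndex 𝐎(𝓒[x]) ^ 2 by rw [h5] at h3; omega] at h7
    rw [h5, ← h7] at h6
    have h9 : Nat.card 𝐎(𝓒[x]) * (𝓒[s] : Subgroup G).relIndex 𝐎(𝓒[x]) ^ 2 ∣ 2 :=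
      Nat.dvd_of_mul_dvd_mul_left (k := 60) (by norm_num) (by convert h6 using 1; exacts [by ring, rfl])
    have h10 := ((Nat.dvd_prime Nat.prime_two).1 h9).resolve_right fun e =>
      absurd (e ▸ (odd_core 𝓒[x]).mul ((odd_core_relIndex 𝓒[s] 𝓒[x]).pow (n := 2))) (by decide)
    exact ⟨h5, by linarith, card_eq_one.1 (Nat.eq_one_of_mul_eq_one_right h10)⟩
  · have b1 := (d8_bounds hM' hx h1 rfl rfl rfl).1
    have b2 := (h.d8 hx rfl rfl rfl).1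
    rw [e0] at b1
    have : M.index ≤ 2 := by
      by_contra! e
      nlinarith [Nat.mul_le_mul_left ((𝓒[t] : Subgroup G).relIndex M) e, relIndex_pos 𝓒[t] M]
    omega

theorem Base.index_le (h : Base S x s t) (h1 : 𝐎(𝓒[t]) ⊓ 𝓒[s] ≠ ⊥) :
    (𝓒[t] : Subgroup G).index ≤ 133 * (𝓒[s] : Subgroup G).relIndex 𝐎(𝓒[t]) ^ 2 := by
  rcases h.dih.cases with rfl | hx
  · have b2 := (v4_bounds h.dih h.one).2.1
    rw [top_inf_eq, relIndex_top_right] at b2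
    omega
  · obtain ⟨h2, -, h3, -⟩ := (h.d8 hx rfl rfl rfl).2.resolve_left fun e => h1 e.1
    nlinarith

theorem Base.index_le' (h : Base S x s t) (hx : x * x = t) :
    (𝓒[t] : Subgroup G).index ≤ 45 * (𝓒[s] : Subgroup G).relIndex 𝐎(𝓒[t]) *
      (𝓒[x * s] : Subgroup G).relIndex 𝐎(𝓒[t]) := by
  obtain ⟨h1, ⟨-, -, h2⟩ | ⟨h2, -⟩⟩ := h.d8 hx rfl rfl rfl
  · rw [← h2] at h1 ⊢
    nlinarith
  · nlinarith

theorem Base.ratio (h : Base S x s t) (hx : x * x = t) (h1 : 𝐎(𝓒[t]) ⊓ 𝓒[s] ≠ ⊥) :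
    2 * (𝓒[x * s] : Subgroup G).relIndex 𝐎(𝓒[t]) < 7 * (𝓒[s] : Subgroup G).relIndex 𝐎(𝓒[t]) :=
  ((h.d8 hx rfl rfl rfl).2.resolve_left fun e => h1 e.1).2.2.1

theorem Base.n14 (h : Base S x s t) (hx : x * x = t)
    (h3 : (𝓒[x * s] : Subgroup G).relIndex 𝐎(𝓒[t]) = 3 * (𝓒[s] : Subgroup G).relIndex 𝐎(𝓒[t]))
    {P : Subgroup G} (hP : P ≤ 𝓒(four t s)) (h9 : Nat.card P = 9) : IsCyclic P := by
  have pa := relIndex_pos (𝓒[s] : Subgroup G) 𝐎(𝓒[t])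
  exact (((h.d8 hx rfl rfl rfl).2.resolve_left fun e => by omega).2.2.2 h3).2 P hP h9

/-- the configuration of `A₇` -/
structure A7cfg (x s t : G) : Prop where
  sq : x * x = t
  card_core : Nat.card 𝐎(𝓒[t]) = 3
  cent : 𝐎(𝓒[t]) ≤ 𝓒[s]
  card : Nat.card G = 2520

theorem DihOf.v4_fused (h : DihOf M S t s t) (h1 : ∃ g ∈ M, g * t * g⁻¹ = s) :
    ∃ g ∈ M, g * t * g⁻¹ = t * s := by
  obtain ⟨ρ, hρ, e1, e2⟩ := h.exists_rho h1
  exact ⟨ρ * ρ, mul_mem hρ hρ, by rw [← e2, ← e1]; group⟩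

theorem DihOf.v4_fused' (h : DihOf M S t s t) (h1 : ∃ g ∈ M, g * t * g⁻¹ = t * s) :
    ∃ g ∈ M, g * t * g⁻¹ = s := by
  simpa [← mul_assoc, mul_self_of_orderOf_eq_two h.ord] using h.swap.v4_fused h1

theorem DihOf.not_fused (h : DihOf M S x s t) (h1 : ∀ g ∈ M, g * t * g⁻¹ ≠ s) :
    ∀ g ∈ M, g * t * g⁻¹ ≠ x * (x * s) := fun g hg e =>
  h1 _ (mul_mem (inv_mem (h.syl.le h.x_mem)) hg) (by
    rw [← mul_assoc x, ← h.conj_s] at e
    calc _ = x⁻¹ * (g * t * g⁻¹) * x := by group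
      _ = s := by rw [e]; group)

/-- A proper normal subgroup containing the centralizer in the one class `V₄` case. -/
theorem DihOf.sol_of_normal (h : DihOf M S t s t) {N : Subgroup G} (hN : N ⊴ M) (hne : N ≠ M)
    (hle : M ⊓ 𝓒[t] ≤ N) : Group.IsSolvable M ∧ 𝐎(M ⊓ 𝓒[t]) ≤ 𝐎(M) := by
  have hS := (le_inf h.syl.le h.le_cent).trans hle
  have h' := h.mono hS hN.1
  have h1 : ∀ g ∈ N, g * t * g⁻¹ ≠ s := fun g hg e => hne (le_antisymm hN.1 fun m hm => by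
    obtain ⟨k, hk, e'⟩ := h'.oneCl ⟨g, hg, e⟩ (h'.v4_fused ⟨g, hg, e⟩) _
      (hN.conj_mem hm (hS h.t_mem')) ((orderOf_conj_eq m t).trans h.ord)
    refine (mul_mem_cancel_left (inv_mem hk)).1 (hle ⟨M.mul_mem (M.inv_mem (hN.1 hk)) hm,
      mem_cent1.2 ?_⟩)
    calc _ = k⁻¹ * (m * t * m⁻¹) * m := by group
      _ = _ := by rw [← e']; group)
  have h2 := h'.npc_of_not_fused h1 fun g hg e => by
    obtain ⟨k, hk, e'⟩ := h'.v4_fused' ⟨g, hg, e⟩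
    exact h1 k hk e'
  refine ⟨isSolvable_of_quo hN.2 (sol_of_npc h2) (oddOrder ?_),
    (le_core_of_npc h2 ((piCoreOf_le _).trans hle) (odd_core _)).trans (piCoreOf_le_of_normal hN)⟩
  rw [card_quo hN.2]
  exact Nat.odd_iff.2 (Nat.two_dvd_ne_zero.1 (h.syl.not_dvd_of_le hS))

theorem two_arith {i w W a b B U j n I N g : ℕ} (c1 : i * U = w ^ 2 * U + 2 * a * b * W)
    (c2 : N * W = i * (W + 2 * U)) (hj : U = W * j) (c3 : B * w = W) (c4 : B * b = U)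
    (b1 : 3 * a ^ 2 ≤ i) (oa : Odd a) (ob : Odd b) (oU : Odd U) (pB : 0 < B) (pW : 0 < W)
    (c6 : i * n = I) (c7 : U * 8 * I = g) (c8 : g ∣ n.factorial)
    (c10 : ∀ f, N = f * i → 4 ∣ n + 3 * f) (c9 : a = b ∨ 11 * I ≤ 416 * a * b ∧ 2 * b < 7 * a) :
    a ≤ b ∧ (40 * a ^ 2 ≤ 7 * i → a = 1 ∧ U = 3 ∧ g = 2520) := by
  obtain rfl : b = w * j := Nat.eq_of_mul_eq_mul_left pB (by rw [c4, hj, ← c3]; ring)
  have oj : Odd j := (Nat.odd_mul.1 ob).2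
  have pw := (Nat.odd_mul.1 ob).1.pos
  obtain rfl : i = w ^ 2 + 2 * a * w := Nat.eq_of_mul_eq_mul_right (Nat.mul_pos pW oj.pos)
    (by rw [← hj, c1, hj]; ring)
  have d1 : a ≤ w := by clear * - b1 pw; by_contra! e; nlinarith
  have d3 := Nat.le_mul_of_pos_right w oj.pos
  refine ⟨d1.trans d3, fun b2 => ?_⟩
  have d2 : 3 * a < 2 * w := by clear * - b2 pw; by_contra! e; nlinarith
  obtain ⟨g1, g2⟩ := c9.resolve_left fun e => by omega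
  obtain rfl : j = 1 := by
    by_contra e
    have := Nat.mul_le_mul_left w (show 3 ≤ j by obtain ⟨k, rfl⟩ := oj; omega)
    omega
  have d4 := c10 3 (Nat.eq_of_mul_eq_mul_right pW (by rw [c2, hj]; ring))
  have d5 : n ≤ 10 := by
    by_contra! e
    have : 11 * ((w + 2 * a) * n) ≤ 416 * a :=
      Nat.le_of_mul_le_mul_left (by rw [← c6] at g1; convert g1 using 1 <;> ring) pw
    have := Nat.mul_le_mul_left (w + 2 * a) e
    omega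
  obtain rfl : n = 7 := by
    have : n ≠ 3 := fun e => by
      rw [e, ← c7] at c8
      exact absurd ((Dvd.intro_left _ rfl).trans ((Dvd.intro _ rfl).trans c8)) (by decide)
    omega
  subst c6 c7
  have d7 : U * (w * (w + 2 * a)) ∣ 90 :=
    Nat.dvd_of_mul_dvd_mul_left (k := 56) (by norm_num) (by convert c8 using 1; exacts [by ring, rfl])
  have d8 := Nat.le_of_dvd (by norm_num) d7
  have d9 : w ≤ U := by rw [← c4, mul_one]; exact Nat.le_mul_of_pos_left _ pB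
  have pa := oa.pos
  obtain rfl : w = 3 := by
    have : w ≤ 4 := by
      by_contra! e
      have := Nat.mul_le_mul (e.le.trans d9) (Nat.mul_le_mul e (show 7 ≤ w + 2 * a by omega))
      omega
    obtain ⟨k, rfl⟩ := (Nat.odd_mul.1 ob).1
    omega
  obtain rfl : a = 1 := by obtain ⟨k, rfl⟩ := oa; omega
  obtain rfl : U = 3 := by obtain ⟨k, hk⟩ := oU; omega
  exact ⟨rfl, rfl, rfl⟩

theorem Base.two (h : Base S x s t) (hM : M ≠ ⊤) (hle : 𝓒[t] ≤ M)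
    (h1 : ∃ g ∈ M, g * t * g⁻¹ = s) (h2 : ∀ g ∈ M, g * t * g⁻¹ ≠ x * s) :
    x * x = t ∧ (𝓒[s] : Subgroup G).relIndex 𝐎(𝓒[t]) ≤ (𝓒[x * s] : Subgroup G).relIndex 𝐎(𝓒[t]) ∧
      (A7cfg x s t ∨ (Group.IsSolvable M ∧ (𝐎(M) ≤ 𝓒[t] → 𝐎(𝓒[t]) ≤ 𝓒[s]))) := by
  haveI := h.simple
  have hM' := h.dih.mono (h.dih.le_cent.trans hle) le_top
  have hx : x * x = t := h.dih.cases.resolve_left fun e => by
    subst e
    obtain ⟨g, hg, e⟩ := hM'.v4_fused h1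
    exact h2 g hg e
  have e0 : M ⊓ 𝓒[t] = 𝓒[t] := inf_eq_right.2 hle
  have core : ∀ X : Subgroup G, X ≤ 𝓒[t] → Odd (Nat.card X) → X ≤ 𝐎(𝓒[t]) := fun X hX ho =>
    e0 ▸ hM'.le_core (e0.symm ▸ hX) ho
  obtain ⟨c1, c2⟩ := two_data hM' hx h1 h2
  rw [e0] at c1 c2
  obtain ⟨j, hj⟩ : Nat.card 𝐎(M ⊓ 𝓒[x * s]) ∣ Nat.card 𝐎(𝓒[t]) := by
    obtain ⟨g, -, e⟩ := h.one _ (mem_top _) h.dih.swap.isFour.ord_right
    have := core (𝐎(M ⊓ 𝓒[x * s]) :^ g⁻¹) (by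
      rw [conj_le_iff, inv_inv, ← centralizer_singleton_conj, e]
      exact (piCoreOf_le _).trans inf_le_right) (by rw [card_map_conj]; exact odd_core _)
    simpa only [card_map_conj] using card_dvd_of_le this
  have c3 := card_inf_mul_relIndex 𝓒[t] 𝐎(M ⊓ 𝓒[x * s])
  have c4 := card_inf_mul_relIndex 𝓒[x * s] 𝐎(𝓒[t])
  have c5 : 𝓒[t] ⊓ 𝐎(M ⊓ 𝓒[x * s]) = 𝓒[x * s] ⊓ 𝐎(𝓒[t]) := by
    have := (hM'.swap.outer h2).le_core (X := 𝓒[x * s] ⊓ 𝐎(𝓒[t])) (le_inf (le_inf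
      (inf_le_right.trans ((piCoreOf_le _).trans hle)) inf_le_left) inf_le_left)
      ((odd_core _).of_dvd_nat (card_dvd_of_le inf_le_right))
    rw [inf_assoc, inf_idem] at this
    exact le_antisymm (le_inf (inf_le_right.trans ((piCoreOf_le _).trans inf_le_right))
      (core _ inf_le_left ((odd_core _).of_dvd_nat (card_dvd_of_le inf_le_right))))
      (le_inf (inf_le_right.trans (piCoreOf_le _)) this)
  obtain ⟨M₀, m1, m2, h₀⟩ := hM'.exists_index_two hx h2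
  have m3 : M₀ ⊴ M := haveI := normal_of_index_eq_two m2; .of_normal_subgroupOf m1
  have m4 : ∀ g ∈ M, g * g ∈ M₀ := fun g hg => mul_self_mem_of_index_two m2 ⟨g, hg⟩
  have m5 : 𝐎(M₀ ⊓ 𝓒[t]) = 𝐎(𝓒[t]) := le_antisymm (core _ ((piCoreOf_le _).trans inf_le_right)
    (odd_core _)) (h₀.le_core (le_inf (le_of_coprime_relIndex ((piCoreOf_le _).trans hle) m3.2
      (by rw [m2]; exact Nat.coprime_two_right.2 (odd_core _))) (piCoreOf_le _)) (odd_core _))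
  have m6 : (𝓒[t] : Subgroup G).relIndex M₀ = (𝓒[t] : Subgroup G).relIndex M := by
    have a1 := card_inf_mul_relIndex 𝓒[t] M₀
    have a2 := card_mul_relIndex hle
    have a3 := card_mul_relIndex m1
    rw [inf_comm, ← h₀.sdprod.card, m5, h.dih.isFour.card] at a1
    rw [h.card_cent, (h.dih.card_eight hx).1, ← a3, m2, ← a1] at a2
    exact Nat.eq_of_mul_eq_mul_left (Nat.mul_pos (Nat.card_pos (α := 𝐎(𝓒[t]))) (by norm_num : 0 < 8))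
      (by linarith)
  obtain ⟨b1, -, b2⟩ := v4_bounds h₀ (by
    obtain ⟨ρ, hρ, e1, e2⟩ := hM'.exists_rho h1
    have : ∃ g ∈ M₀, g * t * g⁻¹ = t * s := ⟨ρ * ρ, m4 ρ hρ, by rw [← e2, ← e1]; group⟩
    exact h₀.oneCl (h₀.v4_fused' this) this)
  rw [m5, m6] at b1
  have c6 := relIndex_mul_index hle
  have c7 := card_mul_index (𝓒[t] : Subgroup G)
  have c8 := card_dvd_factorial_index hM
  have c9 := (h.d8 hx rfl rfl rfl).2
  have c10 := fun f => h.fix hle (f := f)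
  have oa := odd_core_relIndex 𝓒[s] (𝓒[t] : Subgroup G)
  have ob := odd_core_relIndex 𝓒[x * s] (𝓒[t] : Subgroup G)
  have oU := odd_core (𝓒[t] : Subgroup G)
  have pB : 0 < Nat.card (𝓒[x * s] ⊓ 𝐎(𝓒[t]) : Subgroup G) := Nat.card_pos
  have pW : 0 < Nat.card 𝐎(M ⊓ 𝓒[x * s]) := Nat.card_pos
  rw [c5] at c3
  rw [h.card_cent, (h.dih.card_eight hx).1] at c7
  rw [m5, m6] at b2
  obtain ⟨d1, d2⟩ := two_arith c1 c2 hj c3 c4 b1 oa ob oU pB pW c6 c7 c8 c10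
    (c9.imp (·.2.2) fun e => ⟨e.1, e.2.2.1⟩)
  refine ⟨hx, d1, b2.symm.imp (fun b2 => ?_) ?_⟩
  · obtain ⟨d3, d4, d5⟩ := d2 b2
    exact ⟨hx, d4, relIndex_eq_one.1 d3, d5⟩
  · rintro ⟨N, n1, n2, n3⟩
    obtain ⟨n4, n5⟩ := h₀.sol_of_normal n1 n2 n3
    refine ⟨isSolvable_of_quo m3.2 n4 (sol_of_pgroup (p := 2) (pgroup_of_card
      ((card_quo m3.2).trans m2))), fun e y hy => ?_⟩
    obtain ⟨g, hg, rfl⟩ := h1
    rw [centralizer_singleton_conj, mem_map_conj]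
    simpa using e ((piCoreOf_normalOf _ M).conj_mem (inv_mem hg)
      (piCoreOf_le_of_normal m3 (n5 (m5.ge hy))))

theorem Base.exists_rho_norm (h : Base S x s t) :
    ∃ ρ ∈ 𝓝(𝐎(𝓒[t]) ⊓ 𝓒[s]), ρ * t * ρ⁻¹ = s := by
  obtain ⟨ρ, -, e1, e2⟩ := h.dih.exists_rho (h.one s (mem_top s) h.dih.isFour.ord_right)
  have h1 : (𝐎(𝓒[t]) ⊓ 𝓒[s]) :^ ρ ≤ 𝓒[s] := by
    rw [← e1, centralizer_singleton_conj]
    exact conj_mono (inf_le_left.trans (piCoreOf_le _)) ρ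
  have h2 : (𝐎(𝓒[t]) ⊓ 𝓒[s]) :^ ρ ≤ 𝓒[t * s] := by
    rw [← e2, centralizer_singleton_conj]
    exact conj_mono inf_le_right ρ
  refine ⟨ρ, mem_normalizer_of_map_conj_le (le_inf ?_ h1), e1⟩
  have := h.dih.le_core (X := (𝐎(𝓒[t]) ⊓ 𝓒[s]) :^ ρ) (le_inf le_top fun y hy => mem_cent1.2 (by
    have := mem_cent1.1 (h2 hy)
    rwa [mul_assoc, ← mem_cent1.1 (h1 hy), ← mul_assoc, ← mul_assoc, mul_left_inj] at this))
    (by rw [card_map_conj]; exact (odd_core _).of_dvd_nat (card_dvd_of_le inf_le_left))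
  rwa [top_inf_eq] at this

theorem Base.a7cfg (h : Base S x s t) (hx : x * x = t) (hU : 𝐎(𝓒[t]) ≤ 𝓒[s])
    (h0 : 𝐎(𝓒[t]) ≠ ⊥) : A7cfg x s t := by
  haveI := h.simple
  have e1 := relIndex_eq_one.2 hU
  obtain ⟨-, -, g2, g3⟩ := (h.d8 hx rfl e1 rfl).2.resolve_left fun e =>
    h0 ((inf_eq_left.2 hU).symm.trans e.1)
  have ob := odd_core_relIndex 𝓒[x * s] (𝓒[t] : Subgroup G)
  have e2 : (𝓒[x * s] : Subgroup G).relIndex 𝐎(𝓒[t]) = 1 ∨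
      (𝓒[x * s] : Subgroup G).relIndex 𝐎(𝓒[t]) = 3 := by obtain ⟨k, hk⟩ := ob; omega
  have hB : 𝐎(𝓒[t]) ⊓ 𝓒[x * s] = ⊥ := by
    by_contra hB
    have hle : 𝓒[t] ≤ 𝓝(𝐎(𝓒[t]) ⊓ 𝓒[x * s]) := by
      have := h.dih.sdprod.sup
      rw [top_inf_eq] at this
      refine this.ge.trans (sup_le ?_ (le_norm_of_le_cent (h.dih.eq_sup.le.trans (sup_le
        (zpowers_le.2 fun y hy => ?_) (zpowers_le.2 fun y hy => mem_cent1.1 (hU hy.1))))))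
      · rcases e2 with e | e
        · rw [inf_eq_left.2 (relIndex_eq_one.1 e)]; exact le_normalizer
        · haveI : ((𝐎(𝓒[t]) ⊓ 𝓒[x * s]).subgroupOf 𝐎(𝓒[t])).Normal :=
            normal_of_index_eq_minFac_card (by
              rw [← relIndex, inf_relIndex_left, e]
              refine le_antisymm ?_ (Nat.minFac_le_of_dvd (by norm_num) (e ▸ relIndex_dvd_card _ _))
              have h1 := (odd_core 𝓒[t]).of_dvd_nat (Nat.minFac_dvd _)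
              have h2 := (Nat.minFac_prime (mt card_eq_one.1 h0)).two_le
              obtain ⟨k, hk⟩ := h1
              omega)
          exact (IsNormalOf.of_normal_subgroupOf inf_le_left).2
      · have := mem_cent1.1 hy.2
        rwa [mul_assoc, ← mem_cent1.1 (hU hy.1), ← mul_assoc, ← mul_assoc, mul_left_inj] at this
    have hM := norm_ne_top hB fun e => by
      have := (odd_core 𝓒[t]).of_dvd_nat
        (orderOf_dvd_natCard (⟨t, (e.ge (mem_top t)).1⟩ : 𝐎(𝓒[t])))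
      rw [← orderOf_coe, h.dih.ord] at this
      exact absurd this (by decide)
    have hM' := h.dih.mono (h.dih.le_cent.trans hle) le_top
    have h1 : ∀ g ∈ 𝓝(𝐎(𝓒[t]) ⊓ 𝓒[x * s]), g * t * g⁻¹ ≠ s := fun g hg e =>
      h0 (h.a0 hM hle (hM'.oneCl ⟨g, hg, e⟩ h.swap.exists_rho_norm)).2.2
    have h2 := (h.swap.two hM hle h.swap.exists_rho_norm (hM'.not_fused h1)).2.1
    rw [← mul_assoc, hx, relIndex_cent_mul (piCoreOf_le _), e1] at h2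
    obtain ⟨ρ, hρ, e⟩ := h.exists_rho_norm
    rw [inf_eq_left.2 hU, ← inf_eq_left.2 (relIndex_eq_one.1 (e2.resolve_right (by omega)))] at hρ
    exact h1 ρ hρ e
  have c4 := card_inf_mul_relIndex 𝓒[x * s] 𝐎(𝓒[t])
  rw [inf_comm, hB, card_bot, one_mul] at c4
  have e3 := e2.resolve_left fun e => h0 (card_eq_one.1 (c4 ▸ e))
  refine ⟨hx, c4 ▸ e3, hU, ?_⟩
  rw [← card_mul_index (𝓒[t] : Subgroup G), h.card_cent, (h.dih.card_eight hx).1, ← c4, e3,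
    (g3 e3).1]
  norm_num

theorem Base.caseA (h : Base S x s t) (hM : M ≠ ⊤) (hlt : 𝓒[t] < M) :
    𝐎(𝓒[t]) = ⊥ ∨ A7cfg x s t ∨ A7cfg x (x * s) t ∨
      (Group.IsSolvable M ∧ ¬ 𝐎(M) ≤ 𝓒[t] ∧ ¬ OneCl M t) := by
  refine or_iff_not_imp_left.2 fun h0 => ?_
  have h1 : ¬ OneCl M t := fun e => h0 (h.a0 hM hlt.le e).2.2
  have hM' := h.dih.mono (h.dih.le_cent.trans hlt.le) le_top
  by_cases f1 : ∃ g ∈ M, g * t * g⁻¹ = s <;> by_cases f2 : ∃ g ∈ M, g * t * g⁻¹ = x * s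
  · exact absurd (hM'.oneCl f1 f2) h1
  · obtain ⟨hx, -, e | e⟩ := h.two hM hlt.le f1 fun g hg e => f2 ⟨g, hg, e⟩
    · exact .inl e
    · exact (em _).imp (fun e' => h.a7cfg hx (e.2 e') h0) fun e' => .inr ⟨e.1, e', h1⟩
  · obtain ⟨hx, -, e | e⟩ := h.swap.two hM hlt.le f2 (hM'.not_fused fun g hg e => f1 ⟨g, hg, e⟩)
    · exact .inr (.inl e)
    · exact .inr ((em _).imp (fun e' => h.swap.a7cfg hx (e.2 e') h0) fun e' => ⟨e.1, e', h1⟩)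
  · have := hM'.sdprod_of_not_fused (fun g hg e => f1 ⟨g, hg, e⟩) fun g hg e => f2 ⟨g, hg, e⟩
    exact .inr (.inr ⟨sol_of_sdprod this (odd_core M) hM'.syl.pgroup, fun e =>
      hlt.not_ge (this.sup.ge.trans (sup_le e h.dih.le_cent)), h1⟩)

end Cfsg.GW

set_option linter.all false in
theorem Cfsg.Rz.GW_Num_0 : True := by
  have := @_root_.Cfsg.GW.A7cfg.mk.congr_simp.{0}
  trivial
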