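import Cfsg.Agent.GW.L2Rel
import Cfsg.Agent.GW.Num
import Cfsg.Agent.Char.Burnside

/-!
# Consequences of `L2r`

`nil_type`: take `1 ≠ z ∈ Z(X)`, `X ≤ C_L(z)`; type `K`: `C_L(z) ≤ C(w)`, odd subgroups of `C_L(w)` lie
in `K(w)`, and `w` is determined by `X` (`eq_of_mem_K`); types `T`, `Q`: `C_L(X) = T`.
`bad`: let `X = ⟨y,y'⟩` be odd (solvable), `X₀` a minimal normal subgroup; `nil_type` for `X₀`: type
`K(w)` gives `X ≤ K(w)`, `w = v = b`; type `T` is impossible (`p ∣ a`, `p ∤ 2n`); type `Q`: `y`, `y'`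
normalize `Q`. All `Q` are Sylow subgroups of `L` (conjugate), `y` normalizes at most two (`three`),
`N_L(Q)/Q` is cyclic so `y' ∈ Q⟨y⟩`, `⟨y'⟩` is conjugate to `⟨y⟩` under `Q`, and so is `b` to `v`.
`ineq`: `a = 2k` or `4k`, `n ≥ a - 1`, `q ≥ 2a - 1`.
`cent_norm_four`: `g ∈ N_L(V)`: `c = g⁻¹ (b g b⁻¹) ∈ C_L(V) = V`, `bᵐ g b⁻ᵐ = g cᵐ`, so `c = 1`.
`lemmaZ`: `M = C_L(b) ⊇ C_L(v)` contains the normalizers of both four-groups, so it has one class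
(`exists_rho`, `DihOf.oneCl`); by `Base.a0` (for `↥L`) `M = L` or `|L| = 60`, `|L:M| = 5`,
`q = 5`. Then `v` normalizes a Sylow `5`-subgroup `Q` and at most two of them, so `b` normalizes
`Q`, hence centralizes it, and `5 ∣ |M| = 12`.
-/

set_option autoImplicit false
set_option linter.unusedSectionVars false
set_option linter.style.haveILetI false

namespace Cfsg.GW

open Subgroup Cfsg.Agent.FT

universe u

variable {G : Type u} [Group G] [Finite G] {L : Subgroup G} {a n q : ℕ} {v w s : G}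

theorem Simp.not_sol (h : Simp L) : ¬ Group.IsSolvable L := fun hs =>
  haveI := h.simple
  h.nonab ⟨⟨IsSimpleGroup.comm_iff_isSolvable.2 hs⟩⟩

theorem Simp.exists_invol (h : Simp L) : ∃ v ∈ L, orderOf v = 2 := by
  haveI := h.simple
  obtain ⟨S, x, s, t, hb⟩ := exists_base h.nonab h.d8
  exact ⟨t, t.2, hb.dih.map_subtype.ord⟩

theorem Kof_le (L : Subgroup G) (v : G) : Kof L v ≤ L :=
  (piCoreOf_normalOf _ _).le.trans inf_le_left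

theorem Kof_le_cent (L : Subgroup G) (v : G) : Kof L v ≤ 𝓒[v] :=
  (piCoreOf_normalOf _ _).le.trans inf_le_right

theorem inf_cent1_conj {g : G} (hg : g ∈ 𝓝(L)) (v : G) :
    (L ⊓ 𝓒[v]) :^ g = L ⊓ 𝓒[g * v * g⁻¹] := by
  rw [map_conj_inf, conj_eq_of_mem_norm hg, centralizer_singleton_conj]

theorem Kof_conj {g : G} (hg : g ∈ 𝓝(L)) (v : G) : Kof L v :^ g = Kof L (g * v * g⁻¹) := by
  rw [Kof, Kof, ← piCoreOf_map_conj, inf_cent1_conj hg]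

theorem Simp.le_Kof (h : Simp L) (hv : v ∈ L) (ov : orderOf v = 2) {X : Subgroup G}
    (hX : X ≤ L) (hc : X ≤ 𝓒[v]) (ho : Odd (Nat.card X)) : X ≤ Kof L v :=
  le_core_of_npc (h.d8.npc_cent hv ov) (le_inf hX hc) ho

theorem mem_of_sq_mem {H : Subgroup G} {b : G} (ho : Odd (orderOf b)) (h : b * b ∈ H) : b ∈ H := by
  obtain ⟨u, ⟨k, rfl⟩, e⟩ := exists_sqrt ho
  rw [← e, ← (Commute.refl b).mul_zpow]
  exact zpow_mem h k

theorem L2r.card_K (h : L2r L a n q) (hv : v ∈ L) (ho : orderOf v = 2) :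
    (a = 2 * Nat.card (Kof L v) ∧ ¬ 8 ∣ Nat.card L) ∨
      (a = 4 * Nat.card (Kof L v) ∧ 8 ∣ Nat.card L) := by
  obtain ⟨S, x, s, hd⟩ := h.toSimp.exists_dihOf hv ho
  have h1 := hd.sdprod.card
  rw [h.card_cent v hv ho] at h1
  change Nat.card (Kof L v) * _ = _ at h1
  rcases hd.card_cases with ⟨-, h4⟩ | ⟨-, h8⟩
  · refine Or.inl ⟨by rw [h4] at h1; omega, fun h8 => hd.syl.not_dvd ?_⟩
    rw [← card_mul_relIndex hd.syl.le, h4] at h8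
    omega
  · exact Or.inr ⟨by rw [h8] at h1; omega, h8 ▸ card_dvd_of_le hd.syl.le⟩

theorem L2r.arith (h : L2r L a n q) : 2 ∣ a ∧ Odd n ∧ Odd q ∧ a.Coprime n ∧ a.Coprime q ∧
    n.Coprime q ∧ 3 ≤ n := by
  obtain ⟨v, hv, ho⟩ := h.toSimp.exists_invol
  have hK := h.card_K hv ho
  have hK0 : 0 < Nat.card (Kof L v) := Nat.card_pos
  have he := h.eps
  have hq := h.hq
  have han : a.Coprime n := by
    rcases he with rfl | rfl
    · simp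
    · simp
  refine ⟨by omega, Nat.odd_iff.2 (by omega), Nat.odd_iff.2 (by omega), han,
    by rw [hq]; simpa using han, by rw [hq]; simpa using han.symm, ?_⟩
  by_contra h3
  have hc := h.card
  obtain rfl : a = 2 := by omega
  obtain rfl : n = 1 := by omega
  subst hq
  exact h.toSimp.not_sol (isSolvable_of_card_eq_pow_mul_pow (a := 2) (b := 1) Nat.prime_two
    Nat.prime_three hc)

theorem L2r.relIndex_cent (h : L2r L a n q) (hv : v ∈ L) (ho : orderOf v = 2) :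
    (𝓒[v] : Subgroup G).relIndex L = n * q := by
  have h1 := card_inf_mul_relIndex (𝓒[v] : Subgroup G) L
  have h2 := h.card_cent v hv ho
  rw [inf_comm, h2, h.card, mul_assoc (2 * a)] at h1
  exact Nat.eq_of_mul_eq_mul_left (h2 ▸ Nat.card_pos) h1

theorem L2r.ncard_inv (h : L2r L a n q) : {b | b ∈ L ∧ orderOf b = 2}.ncard = n * q := by
  obtain ⟨v, hv, ho⟩ := h.toSimp.exists_invol
  rw [← h.relIndex_cent hv ho, relIndex, ← centralizer_singleton_subgroupOf (⟨v, hv⟩ : L),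
    ← ncard_isConj, ← Set.ncard_image_of_injective _ Subtype.val_injective]
  congr 1
  ext b
  constructor
  · rintro ⟨hb, ob⟩
    obtain ⟨g, hg, e⟩ := h.one v hv b hb ho ob
    exact ⟨⟨b, hb⟩, isConj_iff.2 ⟨⟨g, hg⟩, Subtype.ext e⟩, rfl⟩
  · rintro ⟨b, hb, rfl⟩
    obtain ⟨g, rfl⟩ := isConj_iff.1 hb
    exact ⟨Subtype.prop _, (orderOf_conj_eq (g : G) v).trans ho⟩

theorem L2r.exists_dihOf (h : L2r L a n q) (hv : v ∈ L) (hs : s ∈ L) (h4 : IsFour v s) :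
    ∃ S x, DihOf L S x s v :=
  h.d8.exists_dihOf h4 hv hs (by
    rw [h.relIndex_cent hv h4.ord_left, ← odd_iff_not_two_dvd]
    exact h.arith.2.1.mul h.arith.2.2.1)

theorem L2r.cent_four (h : L2r L a n q) (hv : v ∈ L) (hs : s ∈ L) (h4 : IsFour v s) :
    L ⊓ 𝓒(four v s) = four v s := by
  obtain ⟨S, x, hd⟩ := h.exists_dihOf hv hs h4
  rw [← hd.cent_four.sup, cent_eq_bot_of_inv (odd_core _) (h.inv v hv s hs h4), bot_sup_eq]

theorem L2r.eq_of_mem_K (h : L2r L a n q) (hv : v ∈ L) (hw : w ∈ L) (ov : orderOf v = 2)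
    (ow : orderOf w = 2) {y : G} (h1 : y ∈ Kof L v) (h2 : y ∈ Kof L w) (h0 : y ≠ 1) : v = w := by
  by_contra hne
  have h3 : v ∈ 𝓒[w] :=
    h.ti w hw ow y h2 h0 ⟨hv, mem_cent1.2 (mem_cent1.1 (Kof_le_cent L v h1)).symm⟩
  have h4 := h.inv v hv w hw ⟨ov, ow, mem_cent1.1 h3, hne⟩ y h1
  rw [← mem_cent1.1 (Kof_le_cent L w h2), mul_inv_cancel_right] at h4
  exact h0 (eq_one_of_odd (odd_orderOf (odd_core _) h1) (mul_eq_one_iff_eq_inv.2 h4))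

theorem CCr.norm_le {X T : Subgroup G} (h : CCr L T) (hX : X ≤ T) (h0 : X ≠ ⊥) :
    𝓝(X) ⊓ 𝓝(L) ≤ 𝓝(T) := by
  rintro g ⟨g1, g2⟩
  obtain ⟨⟨z, hz⟩, h1⟩ := ne_bot_iff_exists_ne_one.1 h0
  have h1' : z ≠ 1 := fun e => h1 (Subtype.ext e)
  rw [← map_conj_eq_iff]
  calc T :^ g = (L ⊓ 𝓒[z]) :^ g := by rw [h.2 z (hX hz) h1']
    _ = T := by
      rw [inf_cent1_conj g2]
      exact h.2 _ (hX (conj_mem_of_mem_normalizer g1 hz)) fun e => h1' (by simpa using e)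

theorem L2r.nil_type (h : L2r L a n q) {X : Subgroup G} (hX : X ≤ L) (h0 : X ≠ ⊥)
    (ho : Odd (Nat.card X)) (hn : Group.IsNilpotent X) :
    (∃ w ∈ L, orderOf w = 2 ∧ X ≤ Kof L w ∧ 𝓝(X) ⊓ 𝓝(L) ≤ 𝓒[w]) ∨
      (∃ T, TTr L n T ∧ X ≤ T ∧ 𝓝(X) ⊓ 𝓝(L) ≤ 𝓝(T)) ∨
        ∃ Q, QTr L q Q ∧ X ≤ Q ∧ 𝓝(X) ⊓ 𝓝(L) ≤ 𝓝(Q) := by
  obtain ⟨⟨z, hz, hz'⟩, h1⟩ := ne_bot_iff_exists_ne_one.1 (center_ne_bot_of_nil hn h0)
  have h1' : z ≠ 1 := fun e => h1 (Subtype.ext e)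
  have hle : X ≤ L ⊓ 𝓒[z] := le_inf hX (le_cent1_iff.2 hz')
  rcases h.types z (hX hz) h1' (odd_orderOf ho hz) with ⟨w, hw, ow, hK⟩ | hT | hQ
  · have h2 : X ≤ Kof L w :=
      h.toSimp.le_Kof hw ow hX (hle.trans (h.ti w hw ow z hK h1')) ho
    refine Or.inl ⟨w, hw, ow, h2, ?_⟩
    rintro g ⟨g1, g2⟩
    have h3 : X ≤ Kof L (g * w * g⁻¹) := by
      rw [← Kof_conj g2, ← conj_eq_of_mem_norm g1]
      exact conj_mono h2 g
    have h4 := h.eq_of_mem_K (conj_mem_of_mem_normalizer g2 hw) hw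
      ((orderOf_conj_eq g w).trans ow) ow (h3 hz) hK h1'
    exact mem_cent1.2 (mul_inv_eq_iff_eq_mul.1 h4)
  · exact Or.inr (Or.inl ⟨_, hT, hle, hT.cc.norm_le hle h0⟩)
  · exact Or.inr (Or.inr ⟨_, hQ, hle, hQ.cc.norm_le hle h0⟩)

theorem L2r.sylow (h : L2r L a n q) {Q : Subgroup G} (hQ : QTr L q Q) {r : ℕ} [hr : Fact r.Prime]
    (hq : ∃ k, 0 < k ∧ r ^ k = q) : IsSylowOf r Q L := by
  obtain ⟨k, hk, rfl⟩ := hq
  obtain ⟨-, -, h1, -, h2, h3, -⟩ := h.arith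
  refine ⟨hQ.cc.1, IsPGroup.of_card hQ.card, fun hd => ?_⟩
  have h4 := card_mul_relIndex hQ.cc.1
  rw [hQ.card, h.card, mul_comm] at h4
  rw [Nat.eq_of_mul_eq_mul_right (pow_pos hr.out.pos k) h4] at hd
  exact hr.out.one_lt.ne' (Nat.eq_one_of_dvd_coprimes
    (((Nat.coprime_two_left.2 h1).mul_left h2).mul_left h3) hd (dvd_pow_self r hk.ne'))

/-- a nonidentity element normalizes at most two Sylow subgroups of the defining characteristic -/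
theorem QTr.two {Q : Subgroup G} (hQ : QTr L q Q) {r : ℕ} [Fact r.Prime] (hS : IsSylowOf r Q L)
    {Q₁ Q₂ Q₃ : Subgroup G} (h1 : IsSylowOf r Q₁ L) (h2 : IsSylowOf r Q₂ L)
    (h3 : IsSylowOf r Q₃ L) {y : G} (hy : y ∈ L) (h0 : y ≠ 1) (n1 : y ∈ 𝓝(Q₁)) (n2 : y ∈ 𝓝(Q₂))
    (n3 : y ∈ 𝓝(Q₃)) : Q₂ = Q₁ ∨ Q₃ = Q₁ ∨ Q₂ = Q₃ := by
  obtain ⟨g, hg, rfl⟩ := h1.exists_conj_eq hS
  obtain ⟨g₂, hg₂, e₂⟩ := hS.exists_conj_eq (h2.conj_of_mem hg)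
  obtain ⟨g₃, hg₃, e₃⟩ := hS.exists_conj_eq (h3.conj_of_mem hg)
  by_contra! H
  have hn : ∀ {X : Subgroup G}, y ∈ 𝓝(X) → g * y * g⁻¹ ∈ 𝓝(X :^ g) := fun hX => by
    rw [normalizer_map_conj]; exact conj_mem_map_conj.2 hX
  have := hQ.three g₂ hg₂ g₃ hg₃ (g * y * g⁻¹) (mul_mem (mul_mem hg hy) (inv_mem hg))
    (by rw [e₂]; exact fun e => H.1 (map_conj_inj.1 e))
    (by rw [e₃]; exact fun e => H.2.1 (map_conj_inj.1 e))
    (by rw [e₂, e₃]; exact fun e => H.2.2 (map_conj_inj.1 e)) (hn n1) (e₂ ▸ hn n2) (e₃ ▸ hn n3)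
  exact h0 (by simpa using this)

theorem QTr.exists_conj_mem {Q : Subgroup G} (hQ : QTr L q Q) {p : ℕ} (hp : p.Prime)
    (hc : q.Coprime p) {y y' : G} (hy : y ∈ L ⊓ 𝓝(Q)) (hy' : y' ∈ L ⊓ 𝓝(Q)) (o : orderOf y = p)
    (o' : orderOf y' = p) : ∃ c ∈ Q, c * y' * c⁻¹ ∈ zpowers y := by
  have hcq : (Nat.card Q).Coprime (Nat.card (zpowers y)) := by rwa [hQ.card, Nat.card_zpowers, o]
  have hcq' : (Nat.card Q).Coprime (Nat.card (zpowers y')) := by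
    rwa [hQ.card, Nat.card_zpowers, o']
  have h1 : orderOf (coset Q ⟨y, hy.2⟩) = p := by
    rw [← Nat.card_zpowers, ← quo_zpowers, card_quo_of_inf_eq_bot (zpowers_le.2 hy.2)
      (disjoint_of_coprime_natCard hcq).eq_bot, Nat.card_zpowers, o]
  obtain ⟨σ, hσ⟩ := (Subgroup.isCyclic_iff_exists_zpowers_eq_top _).1 hQ.cyc
  have h2 : coset Q ⟨y', hy'.2⟩ ∈ zpowers (coset Q ⟨y, hy.2⟩) :=
    mem_zpowers_of_orderOf_dvd_of_mem (σ := σ) (hσ ▸ coset_mem_quo hy) (hσ ▸ coset_mem_quo hy')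
      (by rw [h1, ← o']; exact (orderOf_map_dvd _ _).trans (by rw [← orderOf_coe]))
  rw [← zpowers_le, ← quo_zpowers, ← quo_zpowers,
    quo_le_quo_iff (zpowers_le.2 hy'.2) (zpowers_le.2 hy.2), sup_comm] at h2
  obtain ⟨c, hc, h3⟩ := (isSdprod_of_coprime (zpowers_le.2 hy.2) hcq).exists_conj_le h2 hcq hcq'
    (Or.inr (sol_of_nil (nil_of_comm inferInstance)))
  exact ⟨c, hc, h3 (conj_mem_map_conj.2 (mem_zpowers _))⟩

theorem L2r.bad (h : L2r L a n q) {p : ℕ} (hp : p.Prime) (hv : v ∈ L) (ho : orderOf v = 2) {y : G}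
    (hy : y ∈ Kof L v) (hyp : orderOf y = p) :
    {b | b ∈ L ∧ orderOf b = 2 ∧ ∃ y' ∈ Kof L b, orderOf y' = p ∧
      Odd (Nat.card (zpowers y ⊔ zpowers y' : Subgroup G))}.ncard ≤ 2 * q := by
  obtain ⟨-, -, hq1, han, haq, -, -⟩ := h.arith
  obtain ⟨r, k, hr, hk, hrk⟩ := (isPrimePow_nat_iff q).1 h.pp
  haveI := Fact.mk hr
  have hne : ∀ {z : G}, orderOf z = p → z ≠ 1 := fun hz e => hp.one_lt.ne' (by rw [← hz, e, orderOf_one])
  have hyL := Kof_le L v hy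
  have hpa : p ∣ a := by
    have h1 : p ∣ Nat.card (Kof L v) := hyp ▸ (Kof L v).orderOf_dvd_natCard hy
    rcases h.card_K hv ho with ⟨e, -⟩ | ⟨e, -⟩ <;> exact e ▸ h1.mul_left _
  have hpo : Odd p := hyp ▸ odd_orderOf (odd_core _) hy
  obtain ⟨Q₁, Q₂, c1, c2, hQ⟩ : ∃ Q₁ Q₂ : Subgroup G, Nat.card Q₁ ≤ q ∧ Nat.card Q₂ ≤ q ∧
      ∀ Q, QTr L q Q → y ∈ 𝓝(Q) → Q = Q₁ ∨ Q = Q₂ := by
    by_cases h1 : ∃ Q₁, QTr L q Q₁ ∧ y ∈ 𝓝(Q₁)
    · obtain ⟨Q₁, h1, n1⟩ := h1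
      by_cases h2 : ∃ Q₂, QTr L q Q₂ ∧ y ∈ 𝓝(Q₂) ∧ Q₂ ≠ Q₁
      · obtain ⟨Q₂, h2, n2, e⟩ := h2
        refine ⟨Q₁, Q₂, h1.card.le, h2.card.le, fun Q h3 n3 => ?_⟩
        have S := fun {Q} (hQ : QTr L q Q) => h.sylow hQ (r := r) ⟨k, hk, hrk⟩
        rcases h1.two (S h1) (S h1) (S h2) (S h3) hyL (hne hyp) n1 n2 n3 with e' | e' | e'
        · exact absurd e' e
        · exact Or.inl e'
        · exact Or.inr e'.symm
      · exact ⟨Q₁, Q₁, h1.card.le, h1.card.le, fun Q h3 n3 =>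
          Or.inl (by_contra fun e => h2 ⟨Q, h3, n3, e⟩)⟩
    · have : Nat.card (⊥ : Subgroup G) ≤ q := by rw [card_bot]; exact hq1.pos
      exact ⟨⊥, ⊥, this, this, fun Q h3 n3 => (h1 ⟨Q, h3, n3⟩).elim⟩
  have hc : ∀ Q : Subgroup G, ((fun c => c⁻¹ * v * c) '' (Q : Set G)).ncard ≤ Nat.card Q :=
    fun Q => Set.ncard_image_le
  refine (Set.ncard_le_ncard (t := (fun c => c⁻¹ * v * c) '' (Q₁ : Set G) ∪
    (fun c => c⁻¹ * v * c) '' (Q₂ : Set G)) ?_).trans ((Set.ncard_union_le _ _).trans ?_)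
  swap
  · have := hc Q₁
    have := hc Q₂
    omega
  rintro b ⟨hb, ob, y', hy', oy', hodd⟩
  set X := zpowers y ⊔ zpowers y' with hX
  have hy'L := Kof_le L b hy'
  have hXL : X ≤ L := sup_le (zpowers_le.2 hyL) (zpowers_le.2 hy'L)
  have m1 : y ∈ X := mem_sup_left (mem_zpowers y)
  have m2 : y' ∈ X := mem_sup_right (mem_zpowers y')
  have hX0 : X ≠ ⊥ := fun e => hne hyp (mem_bot.1 (e ▸ m1))
  have hN : X ≤ 𝓝(fittingOf X) ⊓ 𝓝(L) :=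
    le_inf (fittingOf_normal X).norm (hXL.trans le_normalizer)
  rcases h.nil_type ((fittingOf_le X).trans hXL) (fittingOf_ne_bot (sol_of_odd hodd) hX0)
    (hodd.of_dvd_nat (card_dvd_of_le (fittingOf_le X))) (fittingOf_nil X) with
    ⟨w, hw, ow, -, h2⟩ | ⟨T, hT, -, h2⟩ | ⟨Q, hQ', -, h2⟩
  · have h3 := h.toSimp.le_Kof hw ow hXL (hN.trans h2) hodd
    have h4 := h.eq_of_mem_K hv hw ho ow hy (h3 m1) (hne hyp)
    have h5 := h.eq_of_mem_K hb hw ob ow hy' (h3 m2) (hne oy')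
    exact Or.inl ⟨1, one_mem _, by simp [h4, h5]⟩
  · have h3 : p ∣ 2 * n := by
      rw [← hT.card_norm, ← hyp]
      exact Subgroup.orderOf_dvd_natCard _ ⟨hyL, h2 (hN m1)⟩
    exact absurd (Nat.eq_one_of_dvd_coprimes han hpa
      ((Nat.coprime_two_right.2 hpo).dvd_of_dvd_mul_left h3)) hp.one_lt.ne'
  · obtain ⟨c, hc, h3⟩ := hQ'.exists_conj_mem hp (haq.symm.coprime_dvd_right hpa)
      ⟨hyL, h2 (hN m1)⟩ ⟨hy'L, h2 (hN m2)⟩ hyp oy'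
    have hcL := hQ'.cc.1 hc
    have h4 := h.eq_of_mem_K hv (mul_mem (mul_mem hcL hb) (inv_mem hcL)) ho
      ((orderOf_conj_eq c b).trans ob) (zpowers_le.2 hy h3)
      (by rw [← Kof_conj (le_normalizer hcL)]; exact conj_mem_map_conj.2 hy')
      (hne ((orderOf_conj_eq c y').trans oy'))
    have h5 : c⁻¹ * v * c = b := by rw [h4]; group
    rcases hQ Q hQ' (h2 (hN m1)) with rfl | rfl
    · exact Or.inl ⟨c, hc, h5⟩
    · exact Or.inr ⟨c, hc, h5⟩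

theorem L2r.ineq (h : L2r L a n q) {k : ℕ} (hk : a = 2 * k ∨ a = 4 * k) :
    (3 ≤ k → 300 * k ^ 3 < (n * q) ^ 2 * (n * q - 2 * q)) ∧
      (5 ≤ k → 3325 * k ^ 6 < 16 * (n * q) ^ 2 * (n * q - 2 * q)) := by
  have he := h.eps
  have hq := h.hq
  obtain ⟨m, rfl⟩ : ∃ m, n = m + 2 := ⟨n - 2, by have := h.arith.2.2.2.2.2.2; omega⟩
  rw [show (m + 2) * q - 2 * q = m * q by rw [add_mul, Nat.add_sub_cancel]]
  constructor
  · intro h3
    have h1 : 5 ^ 2 * (3 * k) ^ 3 * 3 ≤ (m + 2) ^ 2 * q ^ 3 * m := by gcongr <;> omega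
    have h2 : 0 < k ^ 3 := by positivity
    calc 300 * k ^ 3 < 5 ^ 2 * (3 * k) ^ 3 * 3 := by rw [mul_pow]; omega
      _ ≤ _ := h1
      _ = _ := by ring
  · intro h5
    have h1 : (9 * k) ^ 2 * (19 * k) ^ 3 * (7 * k) ≤ (5 * (m + 2)) ^ 2 * (5 * q) ^ 3 * (5 * m) :=
      Nat.mul_le_mul (Nat.mul_le_mul (Nat.pow_le_pow_left (by omega) _)
        (Nat.pow_le_pow_left (by omega) _)) (by omega)
    have h2 : 0 < k ^ 6 := by positivity
    have e1 : (9 * k) ^ 2 * (19 * k) ^ 3 * (7 * k) = 3889053 * k ^ 6 := by ring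
    have e2 : (5 * (m + 2)) ^ 2 * (5 * q) ^ 3 * (5 * m) =
        15625 * (((m + 2) * q) ^ 2 * (m * q)) := by ring
    rw [e1, e2] at h1
    rw [mul_assoc 16]
    omega

theorem L2r.cent_norm_four (h : L2r L a n q) (hv : v ∈ L) (hs : s ∈ L) (h4 : IsFour v s) {b : G}
    (hb : b ∈ 𝓝(L)) (ho : Odd (orderOf b)) (hc : four v s ≤ 𝓒[b]) : L ⊓ 𝓝(four v s) ≤ 𝓒[b] := by
  intro g hg
  obtain ⟨hg, hn⟩ := mem_inf.1 hg
  have h1 : g⁻¹ * (b * g * b⁻¹) ∈ four v s := by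
    rw [← h.cent_four hv hs h4]
    refine mem_inf.2 ⟨mul_mem (inv_mem hg) (conj_mem_of_mem_normalizer hb hg),
      mem_cent_sub.2 fun z hz => ?_⟩
    have e1 := mem_cent1.1 (hc hz)
    have e2 := mem_cent1.1 (hc (conj_mem_of_mem_normalizer hn hz))
    calc z * (g⁻¹ * (b * g * b⁻¹)) = g⁻¹ * (g * z * g⁻¹ * b) * g * b⁻¹ := by group
      _ = g⁻¹ * (b * g * b⁻¹) * (b * z) * b⁻¹ := by rw [e2]; group
      _ = _ := by rw [← e1]; group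
  have h2 := mem_cent1.1 (hc h1)
  have h3 := h4.mul_self h1
  generalize hcd : g⁻¹ * (b * g * b⁻¹) = c at h1 h2 h3
  have h5 : b * g = g * c * b := by rw [← hcd]; group
  refine mem_cent1.2 (mem_cent1.1 (mem_of_sq_mem ho (mem_cent1.2 ?_))).symm
  calc b * b * g = b * g * (c * b) := by rw [mul_assoc b b g]; nth_rewrite 1 [h5]; group
    _ = g * c * (b * c) * b := by rw [h5]; group
    _ = g * (c * c) * (b * b) := by rw [← h2]; group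
    _ = _ := by rw [h3, mul_one]

theorem L2r.lemmaZ (h : L2r L a n q) (hv : v ∈ L) (ov : orderOf v = 2) {b : G} (hb : b ∈ 𝓝(L))
    (ho : Odd (orderOf b)) (hc : L ⊓ 𝓒[v] ≤ 𝓒[b]) : L ≤ 𝓒[b] := by
  obtain ⟨S, x, s, hd⟩ := h.toSimp.exists_dihOf hv ov
  have hS : S ≤ 𝓒[b] := (le_inf hd.syl.le hd.le_cent).trans hc
  have key : ∀ s, DihOf L S x s v → ∃ g ∈ L ⊓ 𝓒[b], g * v * g⁻¹ = s := fun s hd => by
    have hs := hd.syl.le hd.s_mem
    obtain ⟨ρ, hρ, e1, e2⟩ := hd.exists_rho (h.one v hv s hs ov hd.isFour.ord_right)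
    exact ⟨ρ, ⟨hρ, h.cent_norm_four hv hs hd.isFour hb ho (hd.four_le.trans hS) ⟨hρ,
      hd.isFour.mem_norm (e1 ▸ right_mem_four _ _) (e2 ▸ mul_mem_four _ _)⟩⟩, e1⟩
  have h1 : OneCl (L ⊓ 𝓒[b]) v :=
    (hd.mono (le_inf hd.syl.le hS) inf_le_left).oneCl (key s hd) (key _ hd.swap)
  by_contra hM
  lift x to L using hd.syl.le hd.x_mem
  lift s to L using hd.syl.le hd.s_mem
  lift v to L using hv
  have hB : Base (S.subgroupOf L) x s v := ⟨h.simple, h.nonab, hd.subgroupOf, fun u _ ou => by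
    obtain ⟨g, hg, e⟩ := h.one v v.2 u u.2 ov ((orderOf_coe _).trans ou)
    exact ⟨⟨g, hg⟩, mem_top _, Subtype.ext e⟩⟩
  obtain ⟨h5, h60, hK⟩ := hB.a0 (M := (𝓒[b] : Subgroup G).subgroupOf L)
    (fun e => hM (subgroupOf_eq_top.1 e))
    (fun z hz => hc ⟨z.2, mem_cent1.2 (congrArg Subtype.val (mem_cent1.1 hz))⟩) fun u hu ou => by
      obtain ⟨g, hg, e⟩ := h1 u ⟨u.2, hu⟩ ((orderOf_coe _).trans ou)
      exact ⟨⟨g, hg.1⟩, hg.2, Subtype.ext e⟩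
  have hK' : ∀ w ∈ L, orderOf w = 2 → Nat.card (Kof L w) = 1 := fun w hw ow => by
    obtain ⟨g, hg, rfl⟩ := h.one v v.2 w hw ov ow
    rw [← Kof_conj (le_normalizer hg), card_map_conj, Kof_coe, hK, Subgroup.map_bot, card_bot]
  obtain rfl : a = 2 := by
    have := h.card_K v.2 ov
    rw [hK' _ v.2 ov, h60] at this
    omega
  obtain rfl : n = 3 := by
    have := h.eps
    have := h.arith.2.2.2.2.2.2
    omega
  obtain rfl : q = 5 := h.hq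
  haveI := Fact.mk Nat.prime_five
  obtain ⟨z, hz⟩ := exists_prime_orderOf_dvd_card' (G := L) 5 (by rw [h60]; norm_num)
  rw [← orderOf_coe] at hz
  have hz1 : (z : G) ≠ 1 := fun e => by rw [e, orderOf_one] at hz; omega
  obtain ⟨Q, hQ⟩ : ∃ Q, QTr L 5 Q := by
    rcases h.types z z.2 hz1 (by rw [hz]; decide) with ⟨w, hw, ow, h2⟩ | hT | hQ
    · exact absurd (mem_bot.1 (card_eq_one.1 (hK' w hw ow) ▸ h2)) hz1
    · have := Subgroup.orderOf_dvd_natCard (L ⊓ 𝓒[(z : G)]) ⟨z.2, mem_cent1.2 rfl⟩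
      rw [hz, hT.card] at this
      omega
    · exact ⟨_, hQ⟩
  have hSQ := h.sylow hQ (r := 5) ⟨1, one_pos, rfl⟩
  obtain ⟨w, ow⟩ := exists_prime_orderOf_dvd_card' (G := (L ⊓ 𝓝(Q) : Subgroup G)) 2 (by
    have := hQ.card_norm
    omega)
  rw [← orderOf_coe] at ow
  obtain ⟨g, hg, e⟩ := h.one w w.2.1 v v.2 ow ov
  have n1 : (v : G) ∈ 𝓝(Q :^ g) := by
    rw [normalizer_map_conj, ← e]; exact conj_mem_map_conj.2 w.2.2
  have hQ1 := hSQ.conj_of_mem hg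
  have hc1 : Nat.card (Q :^ g : Subgroup G) = 5 := by rw [card_map_conj, hQ.card]
  generalize (Q :^ g : Subgroup G) = Q₁ at n1 hQ1 hc1
  have hbv : b * v * b⁻¹ = v := by
    rw [← mem_cent1.1 (hc ⟨v.2, mem_cent1.2 rfl⟩), mul_inv_cancel_right]
  have hn : ∀ {X : Subgroup G}, (v : G) ∈ 𝓝(X) → (v : G) ∈ 𝓝(X :^ b) := fun hX => by
    rw [normalizer_map_conj, ← hbv]; exact conj_mem_map_conj.2 hX
  have hbQ : b ∈ 𝓝(Q₁) := by
    rcases hQ.two hSQ hQ1 (hQ1.conj_of_mem_norm hb)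
      ((hQ1.conj_of_mem_norm hb).conj_of_mem_norm hb) v.2 (ne_one_of_ord ov) n1 (hn n1)
      (hn (hn n1)) with e | e | e
    · exact map_conj_eq_iff.1 e
    · rw [conj_conj] at e
      exact mem_of_sq_mem ho (map_conj_eq_iff.1 e)
    · exact map_conj_eq_iff.1 (map_conj_inj.1 e).symm
  have hbC : b ∈ 𝓒(Q₁) := by
    haveI : IsCyclic Q₁ := isCyclic_of_prime_card hc1
    have h2 : orderOf (Q₁.normalizerMonoidHom ⟨b, hbQ⟩) ∣ 4 := by
      have := orderOf_dvd_natCard (Q₁.normalizerMonoidHom ⟨b, hbQ⟩)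
      rwa [IsCyclic.card_mulAut, hc1] at this
    have h3 : orderOf (Q₁.normalizerMonoidHom ⟨b, hbQ⟩) ∣ orderOf b :=
      (orderOf_map_dvd _ _).trans (by rw [← orderOf_coe])
    have h4 : (⟨b, hbQ⟩ : 𝓝(Q₁)) ∈ Q₁.normalizerMonoidHom.ker := orderOf_eq_one_iff.1
      (Nat.eq_one_of_dvd_coprimes ((Nat.coprime_two_right.2 ho).pow_right 2) h3 h2)
    rwa [normalizerMonoidHom_ker] at h4
  have h2 := card_dvd_of_le (le_inf (le_cent1_iff.2 hbC) hQ1.le)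
  have h3 := card_inf_mul_relIndex (𝓒[b] : Subgroup G) L
  rw [relIndex, h5, h60] at h3
  rw [hc1] at h2
  omega

end Cfsg.GW
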