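import Cfsg.Agent.GW.RelDefs
import Cfsg.Agent.GW.BSW
import Mathlib.GroupTheory.SpecificGroups.Alternating.Simple

/-!
# Transfer of `Known'` to the relative structures

`known_rel`: transport along `L.subtype` (`map_subtype` lemmas of `FT/BG01`, `FT/Rel`); all involutions
are conjugate to `t`, and every involution `s' ≠ t` of `C(t) = K ⋊ S` is conjugate under `K` to a
noncentral involution of `S`, i.e. to `s`, `ts`, `xs`, `txs`, which invert `K`.
`A7r`: transport along the isomorphism; in `A₇` every involution is conjugate to `(01)(23)`,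
`O(C(a))` is generated by a `3`-cycle on the three fixed points of `a`; if `a`, `b` commute then the
fixed sets are equal or meet in one point, so `K(a) ⊔ K(b)` moves at most five points and its order
divides `120`.
-/

set_option autoImplicit false
set_option linter.unusedSectionVars false
set_option linter.style.haveILetI false

namespace Cfsg.GW

open Subgroup Cfsg.Agent.FT

universe u v

variable {G : Type u} [Group G] [Finite G] {L S : Subgroup G} {x s t : G}

/-! ### Transport along an injective homomorphism -/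

section Transport

variable {H : Type v} [Group H] [Finite H] {f : H →* G}

theorem core_map (hf : Function.Injective f) (X : Subgroup H) : 𝐎(X.map f) = 𝐎(X).map f := by
  rw [piCoreOf, piCoreOf, ← piCore_map_equiv (equivMapOfInjective X _ hf), map_map, map_map]
  rfl

theorem range_inf_cent1 (hf : Function.Injective f) (v : H) :
    f.range ⊓ 𝓒[f v] = (𝓒[v] : Subgroup H).map f := by
  ext g
  constructor
  · rintro ⟨⟨y, rfl⟩, h⟩
    exact ⟨y, mem_cent1.2 (hf (by simpa using mem_cent1.1 h)), rfl⟩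
  · rintro ⟨y, h, rfl⟩
    exact ⟨⟨y, rfl⟩, mem_cent1.2 (by simpa using congrArg f (mem_cent1.1 h))⟩

theorem Kof_range (hf : Function.Injective f) (v : H) :
    Kof f.range (f v) = 𝐎(𝓒[v]).map f := by
  rw [Kof, range_inf_cent1 hf, core_map hf]

theorem IsFour.map (hf : Function.Injective f) {a b : H} (h : IsFour a b) : IsFour (f a) (f b) :=
  ⟨(orderOf_injective f hf a).trans h.ord_left, (orderOf_injective f hf b).trans h.ord_right,
    h.comm.map f, fun e => h.ne (hf e)⟩

theorem IsFour.of_map (hf : Function.Injective f) {a b : H} (h : IsFour (f a) (f b)) :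
    IsFour a b :=
  ⟨(orderOf_injective f hf a).symm.trans h.ord_left,
    (orderOf_injective f hf b).symm.trans h.ord_right,
    hf (by simpa using h.comm.eq), fun e => h.ne (congrArg f e)⟩

end Transport

theorem core_cent_conj (g t : G) : 𝐎(𝓒[g * t * g⁻¹]) = 𝐎(𝓒[t]) :^ g := by
  rw [centralizer_singleton_conj, piCoreOf_map_conj]

theorem inf_cent1_coe (v : L) : L ⊓ 𝓒[(v : G)] = (𝓒[v] : Subgroup L).map L.subtype := by
  have := range_inf_cent1 L.subtype_injective v
  rwa [range_subtype] at this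

theorem Kof_coe (v : L) : Kof L (v : G) = 𝐎(𝓒[v]).map L.subtype := by
  have := Kof_range L.subtype_injective v
  rwa [range_subtype] at this

theorem DihOf.map_subtype {S : Subgroup L} {x s t : L} (h : DihOf ⊤ S x s t) :
    DihOf L (S.map L.subtype) x s t :=
  ⟨⟨map_subtype_le _, h.syl.pgroup.map _, by
    rw [relIndex_map_subtype]; simpa using h.syl.not_dvd⟩, dihPair_map h.pair L.subtype_injective,
    (orderOf_coe t).trans h.ord, h.cases.imp (congrArg Subtype.val) (congrArg Subtype.val)⟩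

theorem DihOf.subgroupOf {x s t : L} (h : DihOf L S x s t) : DihOf ⊤ (S.subgroupOf L) x s t := by
  have hz : ∀ a : L, a ∈ zpowers x ↔ (a : G) ∈ zpowers (x : G) := fun a =>
    ⟨fun ⟨k, e⟩ => ⟨k, by simpa using congrArg Subtype.val e⟩,
      fun ⟨k, e⟩ => ⟨k, Subtype.ext (by simpa using e)⟩⟩
  refine ⟨⟨le_top, (isPGroup_subgroupOf_iff h.syl.le).2 h.syl.pgroup, by
    rw [relIndex_top_right]; exact h.syl.not_dvd⟩, ⟨h.pair.mem_σ, h.pair.mem_τ,
      Subtype.ext h.pair.mul_self, Subtype.ext h.pair.conj_eq, fun e => h.pair.notMem ((hz _).1 e),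
      fun a ha => (h.pair.cases a ha).imp (hz _).2 (hz _).2⟩, (orderOf_coe t).symm.trans h.ord,
    h.cases.imp Subtype.ext Subtype.ext⟩

theorem simp_of_simple (h8 : IsD8 L) (hs : IsSimpleGroup L) (hna : ¬ IsMulCommutative L) :
    Simp L := by
  obtain ⟨S, x, s, t, hb⟩ := exists_base hna h8
  refine ⟨h8, hs, hna, fun u hu v hv ou ov => ?_⟩
  obtain ⟨g, -, e⟩ := (hb.one.of_ord (u := ⟨u, hu⟩) (mem_top _) ((orderOf_coe _).symm.trans ou))
    ⟨v, hv⟩ (mem_top _) ((orderOf_coe _).symm.trans ov)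
  exact ⟨g, g.2, congrArg Subtype.val e⟩

/-! ### `A₇` -/

theorem card_dvd_factorial_of_fix {α : Type} [Fintype α] [DecidableEq α]
    (X : Subgroup (alternatingGroup α)) (T : Finset α) (h : ∀ y ∈ X, ∀ i ∈ T, y.1 i = i) :
    Nat.card X ∣ (Fintype.card α - T.card).factorial := by
  have h1 : X.map (alternatingGroup α).subtype ≤
      (Equiv.Perm.ofSubtype : Equiv.Perm {i // i ∉ T} →* Equiv.Perm α).range := by
    rintro _ ⟨y, hy, rfl⟩
    rw [Equiv.Perm.mem_range_ofSubtype_iff]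
    intro i hi hT
    exact Equiv.Perm.mem_support.1 hi (h y hy i hT)
  have h2 := (card_dvd_of_le h1).trans (card_range_dvd _)
  rwa [card_map_subtype, Nat.card_eq_fintype_card (α := Equiv.Perm _), Fintype.card_perm,
    Fintype.card_subtype_compl, Fintype.card_coe] at h2

namespace A7

open Equiv Equiv.Perm

theorem pow_four_fix {y : Perm (Fin 7)}
    (h : y * (swap 0 1 * swap 2 3) = swap 0 1 * swap 2 3 * y) :
    ∀ i ∈ ({0, 1, 2, 3} : Finset (Fin 7)), (y ^ 4) i = i := by
  have h0 := congrArg (fun g : Perm (Fin 7) => g 0) h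
  have h2 := congrArg (fun g : Perm (Fin 7) => g 2) h
  have e0 : (swap 0 1 * swap 2 3 : Perm (Fin 7)) 0 = 1 := by decide
  have e2 : (swap 0 1 * swap 2 3 : Perm (Fin 7)) 2 = 3 := by decide
  simp only [mul_apply (f := y), mul_apply (g := y), e0, e2] at h0 h2
  have n01 : y 0 ≠ y 1 := y.injective.ne (by decide)
  have n23 : y 2 ≠ y 3 := y.injective.ne (by decide)
  have n02 : y 0 ≠ y 2 := y.injective.ne (by decide)
  have n03 : y 0 ≠ y 3 := y.injective.ne (by decide)
  have key : ∀ a c : Fin 7, a ≠ (swap 0 1 * swap 2 3 : Perm (Fin 7)) a →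
      c ≠ (swap 0 1 * swap 2 3 : Perm (Fin 7)) c → a ≠ c →
      a ≠ (swap 0 1 * swap 2 3 : Perm (Fin 7)) c →
      ∀ i ∈ ({0, 1, 2, 3} : Finset (Fin 7)),
        (fun j : Fin 7 => if j = 0 then a else if j = 1 then (swap 0 1 * swap 2 3 : Perm (Fin 7)) a
          else if j = 2 then c else (swap 0 1 * swap 2 3 : Perm (Fin 7)) c) i ∈
            ({0, 1, 2, 3} : Finset (Fin 7)) ∧
        (fun j : Fin 7 => if j = 0 then a else if j = 1 then (swap 0 1 * swap 2 3 : Perm (Fin 7)) a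
          else if j = 2 then c else (swap 0 1 * swap 2 3 : Perm (Fin 7)) c)^[4] i = i := by
    decide +kernel
  have k := key (y 0) (y 2) (h0 ▸ n01) (h2 ▸ n23) n02 (h2 ▸ n03)
  rw [← h0, ← h2] at k
  set F : Fin 7 → Fin 7 := fun j => if j = 0 then y 0 else if j = 1 then y 1
    else if j = 2 then y 2 else y 3 with hF
  have hFy : ∀ i ∈ ({0, 1, 2, 3} : Finset (Fin 7)), F i = y i := by
    intro i hi
    simp only [Finset.mem_insert, Finset.mem_singleton] at hi
    rcases hi with rfl | rfl | rfl | rfl <;> simp [hF]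
  intro i hi
  have a1 := (k i hi).1
  have a2 := (k _ a1).1
  have a3 := (k _ a2).1
  have a4 := (k i hi).2
  simp only [Function.iterate_succ_apply', Function.iterate_zero_apply] at a4
  rw [hFy _ a3, hFy _ a2, hFy _ a1, hFy _ hi] at a4
  simpa [pow_succ] using a4

theorem exists_std : ∃ t s u : alternatingGroup (Fin 7), IsFour t s ∧ t.1.support = {0, 1, 2, 3} ∧
    orderOf u = 3 ∧ u * t = t * u ∧ u * s = s * u ∧
      ∀ y : alternatingGroup (Fin 7), Odd (orderOf y) → y * t = t * y →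
        ∀ i ∈ ({0, 1, 2, 3} : Finset (Fin 7)), y.1 i = i := by
  refine ⟨⟨swap 0 1 * swap 2 3, by simp⟩, ⟨swap 0 2 * swap 1 3, by simp⟩,
    ⟨swap 4 5 * swap 5 6, by simp⟩, ⟨?_, ?_, ?_, ?_⟩, by decide, ?_, ?_, ?_, ?_⟩
  · exact orderOf_eq_prime (Subtype.ext (by decide)) (fun e => absurd (congrArg Subtype.val e) (by decide))
  · exact orderOf_eq_prime (Subtype.ext (by decide)) (fun e => absurd (congrArg Subtype.val e) (by decide))
  · exact Subtype.ext (by decide)
  · exact fun e => absurd (congrArg Subtype.val e) (by decide)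
  · haveI := Fact.mk Nat.prime_three
    exact orderOf_eq_prime (Subtype.ext (by decide)) (fun e => absurd (congrArg Subtype.val e) (by decide))
  · exact Subtype.ext (by decide)
  · exact Subtype.ext (by decide)
  · intro y ho hc i hi
    have h4 := pow_four_fix (y := y.1) (congrArg Subtype.val hc) i hi
    have hcop : (orderOf y.1).Coprime 4 := by
      rw [orderOf_coe]
      exact (Nat.coprime_two_right.2 ho).pow_right 2
    obtain ⟨m, hm⟩ := exists_pow_eq_self_of_coprime hcop.symm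
    rw [← hm]
    exact Equiv.Perm.pow_apply_eq_self_of_apply_eq_self h4 m

theorem facts (h8 : IsD8 (alternatingGroup (Fin 7))) (v : alternatingGroup (Fin 7))
    (hv : orderOf v = 2) : Nat.card 𝐎(𝓒[v]) = 3 ∧ (∃ s, IsFour v s ∧ 𝐎(𝓒[v]) ≤ 𝓒[s]) ∧
      v.1.support.card = 4 ∧ ∀ y ∈ 𝐎(𝓒[v]), ∀ i ∈ v.1.support, y.1 i = i := by
  obtain ⟨t, s, u, h4, ht, hu, hut, hus, hfix⟩ := exists_std
  haveI := alternatingGroup.isSimpleGroup (α := Fin 7) (by simp)
  have hna : ¬ IsMulCommutative (alternatingGroup (Fin 7)) := fun hc => by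
    have := hc.is_comm.comm ⟨swap 0 1 * swap 1 2, by simp⟩ ⟨swap 1 2 * swap 2 3, by simp⟩
    exact absurd (congrArg Subtype.val this) (by decide)
  obtain ⟨S, x', s', t', hb⟩ := exists_base hna h8
  obtain ⟨g, -, rfl⟩ := hb.one.of_ord (mem_top t) h4.ord_left v (mem_top _) hv
  have hK : ∀ y ∈ 𝐎(𝓒[t]), ∀ i ∈ ({0, 1, 2, 3} : Finset (Fin 7)), y.1 i = i := fun y hy =>
    hfix y (odd_orderOf (odd_core _) hy) (mem_cent1.1 ((piCoreOf_normalOf _ _).le hy))
  have huK : zpowers u ≤ 𝐎(𝓒[t]) := by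
    have := le_core_of_npc ((h8.sub ⊤).npc_cent (mem_top t) h4.ord_left) (X := zpowers u)
      (le_inf le_top (zpowers_le.2 (mem_cent1.2 hut))) (by rw [Nat.card_zpowers, hu]; decide)
    rwa [top_inf_eq] at this
  have hc : Nat.card 𝐎(𝓒[t]) = 3 := by
    have h1 : Nat.card 𝐎(𝓒[t]) ∣ 6 := card_dvd_factorial_of_fix _ _ hK
    have h2 := card_dvd_of_le huK
    rw [Nat.card_zpowers, hu] at h2
    have h3 := odd_core (𝓒[t] : Subgroup (alternatingGroup (Fin 7)))
    have h5 := Nat.le_of_dvd (by norm_num) h1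
    generalize Nat.card 𝐎(𝓒[t]) = n at *
    interval_cases n <;> simp_all (config := {decide := true})
  have hKu : zpowers u = 𝐎(𝓒[t]) :=
    eq_of_le_of_card_le huK (by rw [Nat.card_zpowers, hu, hc])
  rw [core_cent_conj]
  refine ⟨by rw [card_map_conj, hc], ⟨_, h4.conj g, ?_⟩, ?_, ?_⟩
  · rw [centralizer_singleton_conj, ← hKu]
    exact conj_mono (zpowers_le.2 (mem_cent1.2 hus)) g
  · change (g.1 * t.1 * g.1⁻¹).support.card = 4
    rw [card_support_conj, ht]; rfl
  · intro y hy i hi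
    obtain ⟨z, hz, rfl⟩ := mem_conj_iff.1 hy
    have h1 : g.1⁻¹ i ∈ t.1.support := by
      rw [mem_support] at hi ⊢
      intro e
      apply hi
      change g.1 (t.1 (g.1⁻¹ i)) = i
      rw [e]; simp
    change g.1 (z.1 (g.1⁻¹ i)) = i
    rw [hK z hz _ (ht ▸ h1)]; simp

theorem nine (h8 : IsD8 (alternatingGroup (Fin 7))) {a b : alternatingGroup (Fin 7)}
    (h : IsFour a b) : ¬ 9 ∣ Nat.card (𝐎(𝓒[a]) ⊔ 𝐎(𝓒[b]) : Subgroup _) := by
  obtain ⟨-, -, ha, ha'⟩ := facts h8 a h.ord_left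
  obtain ⟨-, -, hb, hb'⟩ := facts h8 b h.ord_right
  obtain ⟨i, hi⟩ := Finset.inter_nonempty_of_card_lt_card_add_card (Finset.subset_univ a.1.support)
    (Finset.subset_univ b.1.support) (by rw [ha, hb]; simp)
  obtain ⟨hia, hib⟩ := Finset.mem_inter.1 hi
  have hja : a.1 i ∈ a.1.support := apply_mem_support.2 hia
  have hjb : a.1 i ∈ b.1.support := by
    rw [mem_support] at hib ⊢
    have h1 : b.1 (a.1 i) = a.1 (b.1 i) :=
      congrArg (fun g : alternatingGroup (Fin 7) => g.1 i) h.comm.eq.symm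
    rw [h1]
    exact a.1.injective.ne hib
  have hle : 𝐎(𝓒[a]) ⊔ 𝐎(𝓒[b]) ≤ (MulAction.stabilizer (Perm (Fin 7)) i ⊓
      MulAction.stabilizer (Perm (Fin 7)) (a.1 i)).comap (alternatingGroup (Fin 7)).subtype :=
    sup_le (fun y hy => ⟨ha' y hy _ hia, ha' y hy _ hja⟩) fun y hy => ⟨hb' y hy _ hib, hb' y hy _ hjb⟩
  have h1 := card_dvd_factorial_of_fix (𝐎(𝓒[a]) ⊔ 𝐎(𝓒[b])) {i, a.1 i} fun y hy j hj => by
    rcases Finset.mem_insert.1 hj with rfl | hj
    · exact (hle hy).1
    · rw [Finset.mem_singleton.1 hj]; exact (hle hy).2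
  rw [Finset.card_pair (mem_support.1 hia).symm] at h1
  intro h9
  exact absurd (h9.trans h1) (by decide)

end A7

theorem a7r_of_equiv (h8 : IsD8 L) (e : L ≃* alternatingGroup (Fin 7)) : A7r L := by
  have h8' : IsD8 (alternatingGroup (Fin 7)) := h8.of_injective e.symm.toMonoidHom e.symm.injective
  haveI := alternatingGroup.isSimpleGroup (α := Fin 7) (by simp)
  let f : alternatingGroup (Fin 7) →* G := L.subtype.comp e.symm.toMonoidHom
  have hf : Function.Injective f := L.subtype_injective.comp e.symm.injective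
  have hr : f.range = L := by
    ext g
    exact ⟨fun ⟨y, hy⟩ => hy ▸ (e.symm y).2, fun hg => ⟨e ⟨g, hg⟩, by simp [f]⟩⟩
  have hc : Nat.card L = 2520 := by
    have h1 := two_mul_nat_card_alternatingGroup (α := Fin 7)
    rw [Nat.card_eq_fintype_card (α := Equiv.Perm _), Fintype.card_perm, Fintype.card_fin] at h1
    rw [Nat.card_congr e.toEquiv]
    have : Nat.factorial 7 = 5040 := rfl
    omega
  have hna : ¬ IsMulCommutative L := fun hc => by
    open Equiv in
    have := congrArg e (hc.is_comm.comm (e.symm ⟨swap 0 1 * swap 1 2, by simp⟩)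
      (e.symm ⟨swap 1 2 * swap 2 3, by simp⟩))
    simp only [map_mul, MulEquiv.apply_symm_apply] at this
    exact absurd (congrArg Subtype.val this) (by decide)
  clear_value f
  subst hr
  refine ⟨simp_of_simple h8 e.isSimpleGroup hna, by rw [hc]; decide, ?_, ?_, ?_⟩
  · rintro _ ⟨v, rfl⟩ ho
    rw [Kof_range hf, card_map_of_injective hf]
    exact (A7.facts h8' v ((orderOf_injective f hf v).symm.trans ho)).1
  · rintro _ ⟨v, rfl⟩ ho
    obtain ⟨-, ⟨s, h4, hs⟩, -⟩ := A7.facts h8' v ((orderOf_injective f hf v).symm.trans ho)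
    refine ⟨f s, ⟨s, rfl⟩, h4.map hf, ?_⟩
    rw [Kof_range hf]
    exact (map_mono hs).trans ((range_inf_cent1 hf s).ge.trans inf_le_right)
  · rintro _ ⟨a, rfl⟩ _ ⟨b, rfl⟩ h4
    rw [Kof_range hf, Kof_range hf, ← Subgroup.map_sup, card_map_of_injective hf]
    exact A7.nine h8' (h4.of_map hf)

/-! ### `PSL₂(q)` -/

theorem BswHyp.inv_of_isFour (h : BswHyp S x s t) {v w : G} (h4 : IsFour v w) {y : G}
    (hy : y ∈ 𝐎(𝓒[v])) : w * y * w⁻¹ = y⁻¹ := by
  obtain ⟨g, -, rfl⟩ := h.one v (mem_top _) h4.ord_left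
  rw [core_cent_conj] at hy
  obtain ⟨z, hz, rfl⟩ := mem_conj_iff.1 hy
  obtain ⟨A, hA, -⟩ := h.gd
  have h4' : IsFour t (g⁻¹ * w * g⁻¹⁻¹) := by
    have := h4.conj g⁻¹
    rwa [show g⁻¹ * (g * t * g⁻¹) * g⁻¹⁻¹ = t by group] at this
  have hzA : z ∈ A := by
    by_contra hn
    exact hn (eq_one_of_odd (odd_orderOf (odd_core _) hz)
      (hA.sq z ((piCoreOf_normalOf _ _).le hz) hn) ▸ A.one_mem)
  have := hA.inv _ (mem_cent1.2 h4'.comm.eq.symm) (fun e => h4'.ne (hA.uniq _ e h4'.ord_right).symm)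
    z hzA
  calc w * (g * z * g⁻¹) * w⁻¹ = g * (g⁻¹ * w * g⁻¹⁻¹ * z * (g⁻¹ * w * g⁻¹⁻¹)⁻¹) * g⁻¹ := by group
    _ = _ := by rw [this]; group

theorem CC.ccr {X : Subgroup L} (h : CC X) : CCr L (X.map L.subtype) := by
  refine ⟨map_subtype_le _, ?_⟩
  rintro _ ⟨z, hz, rfl⟩ h1
  rw [coe_subtype, inf_cent1_coe, h z hz fun e => h1 (congrArg Subtype.val e)]

theorem map_subtype_conj (X : Subgroup L) (g : L) :
    X.map L.subtype :^ (g : G) = (X :^ g).map L.subtype := (map_map_conj L.subtype g X).symm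

theorem QType.qtr {q : ℕ} {Q : Subgroup L} (h : QType q Q) : QTr L q (Q.map L.subtype) := by
  have hinj : ∀ {X Y : Subgroup L}, X.map L.subtype = Y.map L.subtype → X = Y :=
    fun e => map_injective L.subtype_injective e
  have hn : ∀ {X : Subgroup L} {y : L}, (y : G) ∈ 𝓝(X.map L.subtype) → y ∈ 𝓝(X) := by
    intro X y hy
    have : (y : G) ∈ 𝓝(X).map L.subtype := inf_norm_map_subtype X ▸ ⟨y.2, hy⟩
    obtain ⟨z, hz, e⟩ := this
    exact (Subtype.ext e : z = y) ▸ hz
  refine ⟨h.cc.ccr, by rw [card_map_subtype, h.card], by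
    rw [inf_norm_map_subtype, card_map_subtype, h.card_norm], ?_, ?_⟩
  · obtain ⟨z, hz, e⟩ := (isCyclic_quo_iff le_rfl).1 h.cyc
    rw [isCyclic_quo_iff inf_le_right, inf_norm_map_subtype]
    refine ⟨z, ⟨z, hz, rfl⟩, (map_mono e).trans_eq ?_⟩
    rw [Subgroup.map_sup, MonoidHom.map_zpowers]; rfl
  · intro g hg k hk y hy h1 h2 h3 n1 n2 n3
    lift g to L using hg
    lift k to L using hk
    lift y to L using hy
    rw [map_subtype_conj] at h1 h2 h3 n2 n3
    rw [map_subtype_conj] at h3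
    exact congrArg Subtype.val (h.three g k y (fun e => h1 (by rw [e])) (fun e => h2 (by rw [e]))
      (fun e => h3 (by rw [e])) (hn n1) (hn n2) (hn n3))

theorem known_rel (h8 : IsD8 L) (h : Known' L) : A7r L ∨ ∃ a n q, L2r L a n q := by
  rcases h.2 with ⟨⟨e⟩⟩ | ⟨S, x, s, t, a, n, q, h⟩
  · exact Or.inl (a7r_of_equiv h8 e)
  refine Or.inr ⟨a, n, q, simp_of_simple h8 h.simple h.nonab, ?_, ?_, ?_, ?_, h.eps, h.hq, h.card,
    h.pp, ?_⟩
  · intro v hv w hw h4 y hy
    lift v to L using hv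
    lift w to L using hw
    rw [Kof_coe] at hy
    obtain ⟨y, hy, rfl⟩ := hy
    exact congrArg Subtype.val
      (h.toL2.toBswHyp.inv_of_isFour (IsFour.of_map L.subtype_injective h4) hy)
  · intro v hv ho y hy h1
    lift v to L using hv
    rw [Kof_coe] at hy
    obtain ⟨y, hy, rfl⟩ := hy
    obtain ⟨g, -, rfl⟩ := h.one v (mem_top _) ((orderOf_coe _).symm.trans ho)
    rw [core_cent_conj] at hy
    obtain ⟨z, hz, rfl⟩ := mem_conj_iff.1 hy
    have h2 := conj_mono (h.ti z hz fun e => h1 (by simp [e])) g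
    rw [← centralizer_singleton_conj, ← centralizer_singleton_conj] at h2
    rw [coe_subtype, inf_cent1_coe]
    exact (map_mono h2).trans ((inf_cent1_coe _).ge.trans inf_le_right)
  · intro v hv ho
    lift v to L using hv
    obtain ⟨g, -, rfl⟩ := h.one v (mem_top _) ((orderOf_coe _).symm.trans ho)
    rw [Kof_coe, isCyclic_map_subtype_iff, core_cent_conj, isCyclic_conj_iff]
    exact h.cycK
  · intro v hv ho
    lift v to L using hv
    obtain ⟨g, -, rfl⟩ := h.one v (mem_top _) ((orderOf_coe _).symm.trans ho)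
    rw [inf_cent1_coe, card_map_subtype, centralizer_singleton_conj, card_map_conj, h.card_cent]
  · intro y hy h1 ho
    lift y to L using hy
    rcases h.types y (fun e => h1 (congrArg Subtype.val e)) (orderOf_coe y ▸ ho) with
      ⟨g, hg⟩ | hT | hQ
    · refine Or.inl ⟨(g⁻¹ * t * g⁻¹⁻¹ : L), Subtype.prop _, ?_, ?_⟩
      · rw [orderOf_coe, orderOf_conj_eq, h.dih.ord]
      · rw [Kof_coe, core_cent_conj]
        exact ⟨y, mem_conj_iff.2 ⟨_, hg, by group⟩, rfl⟩
    · rw [inf_cent1_coe]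
      exact Or.inr (Or.inl ⟨hT.cc.ccr, by rw [card_map_subtype, hT.card], by
        rw [inf_norm_map_subtype, card_map_subtype, hT.card_norm],
        isCyclic_map_subtype_iff.2 (h.cycT _ hT)⟩)
    · rw [inf_cent1_coe]
      exact Or.inr (Or.inr hQ.qtr)

theorem bsw_rel (h : DihOf L S x s t) (h1 : OneCl L t) (hinv : ∀ y ∈ Kof L t, s * y * s⁻¹ = y⁻¹)
    (hx : Kof L t ≤ 𝓒[x]) (hti : ∀ y ∈ Kof L t, y ≠ 1 → L ⊓ 𝓒[y] ≤ 𝓒[t]) :
    ∃ a n q : ℕ, Nat.card (L ⊓ 𝓒[t] : Subgroup G) = 2 * a ∧ (n = a + 1 ∨ n + 1 = a) ∧ q = a + n ∧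
      Nat.card L = 2 * a * n * q ∧ IsPrimePow q := by
  lift x to L using h.syl.le h.x_mem
  lift s to L using h.syl.le h.s_mem
  lift t to L using h.syl.le h.t_mem'
  rw [Kof_coe] at hinv hx hti
  have hb : BswHyp (S.subgroupOf L) x s t := by
    refine ⟨h.subgroupOf, fun u _ ho => ?_, fun y hy => Subtype.ext (hinv y ⟨y, hy, rfl⟩),
      fun y hy => Subtype.ext (mem_cent1.1 (hx ⟨y, hy, rfl⟩)).symm, fun y hy h0 z hz => ?_⟩
    · obtain ⟨g, hg, e⟩ := h1 u u.2 ((orderOf_coe _).trans ho)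
      exact ⟨⟨g, hg⟩, mem_top _, Subtype.ext e⟩
    · exact mem_cent1.2 (Subtype.ext (mem_cent1.1 (hti y ⟨y, hy, rfl⟩ (fun e => h0 (Subtype.ext e))
        ⟨z.2, mem_cent1.2 (congrArg Subtype.val (mem_cent1.1 hz))⟩)))
  obtain ⟨a, n, q, h2⟩ := hb.exists_l2
  exact ⟨a, n, q, by rw [inf_cent1_coe, card_map_subtype, h2.card_cent], h2.eps, h2.hq, h2.card,
    h2.pp⟩

theorem Simp.exists_dihOf (h : Simp L) (ht : t ∈ L) (ho : orderOf t = 2) :
    ∃ S x s, DihOf L S x s t := by
  haveI := h.simple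
  obtain ⟨S, x, s, t', hb⟩ := exists_base h.nonab h.d8
  have h1 := hb.dih.map_subtype
  obtain ⟨g, hg, rfl⟩ := h.one _ t'.2 t ht h1.ord ho
  have h2 := h1.conj g
  rw [map_conj_eq_of_mem hg] at h2
  exact ⟨_, _, _, h2⟩

end Cfsg.GW
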