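import Cfsg.Agent.GW.Basic
import Cfsg.Agent.Grp.BaerSuzuki

/-!
# `p`-stability and the Puig subgroup for `IsD8` groups

`IsD8.p_stable`: as in `FT/BGA` reduce to chief factors (`quo_le_pcore_of_chief`-style): let `V` be
a chief factor of `P M` inside `P` (elementary abelian); `O_p(M/C(V)) = 1`. It suffices to show that
`a ∈ A` centralizes `V`. By Baer-Suzuki (`mem_pCore_of_forall_conj`) it suffices that for two
quadratic elements `x`, `y` (conjugates of `a`; `x^p` acts trivially) the image `X̄` of `X = ⟨x,y⟩`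
in `End V` is a `p`-group. `α = x - 1`, `β = y - 1`, `α² = β² = 0`, `z = αβ + βα` commutes with `α`,
`β`. The set of pairs `(c₀ + c₁α + c₂β + c₃αβ, c₀ - c₁α - c₂β + c₃βα)`, `cᵢ ∈ ℤ[z]`, is closed under
`(m,m')(n,n') = (mn, n'm')` and contains `(x,x⁻¹)`, `(y,y⁻¹)`; so `g + g⁻¹ = 2c₀ + c₃z` is central
for every `g ∈ X̄`. Hence every involution of `X̄` is central (`p` odd). A Sylow `2`-subgroup of `X̄`
is a quotient of a subgroup of `D₈` with central involutions, so it is cyclic, or a central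
four-group; so `X̄` has a normal `2`-complement (Burnside), which contains `x`, `y`: `X̄` has odd
order, is solvable (`oddOrder`), and `odd_p_stable` (for `X̄` acting on `V`; lift to a subgroup of odd
order, or use `quadratic_cent` directly on `F(X̄/O_p)`) puts `x`, `y` into `O_p(X̄)`.

`IsD8.puig`: copy `pcore_sylow_puig_sub` and `puig_center_normal` of `FT/BGB` with `odd_p_stable`
replaced by `IsD8.p_stable` and `cent_pcore_sub` by the hypothesis.
-/

set_option autoImplicit false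

namespace Cfsg.GW

open Subgroup Cfsg.Agent.FT
open scoped commutatorElement

universe u v

variable {G : Type u} [Group G] [Finite G] {p : ℕ}

theorem IsD8.of_surjective' {Q : Type v} [Group Q] [Finite Q] (h : IsD8 G) (f : G →* Q)
    (hf : Function.Surjective f) : IsD8 Q := by
  refine ⟨fun e => h.1 (e.trans (card_dvd_of_surjective f hf)), fun R hR => ?_⟩
  obtain ⟨T⟩ : Nonempty (Sylow 2 G) := inferInstance
  obtain ⟨g, hg⟩ := exists_map_conj_le_sylow (IsPGroup.of_card (p := 2) (n := 3) hR)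
    (T.mapSurjective hf)
  have h1 := card_le_of_le hg
  rw [card_map_conj, hR] at h1
  have h2 := card_map_mul_card_inf_ker f (T : Subgroup G)
  obtain ⟨k, hk⟩ := T.isPGroup'.exists_card_eq
  have h3 : k ≤ 3 := by
    by_contra! e
    exact h.1 (((pow_dvd_pow 2 e).trans (hk ▸ card_subgroup_dvd_card _) :))
  have h4 : Nat.card (T : Subgroup G) ≤ 8 := hk ▸ Nat.pow_le_pow_right two_pos h3
  have h5 : 0 < Nat.card (f.ker ⊓ T : Subgroup G) := Nat.card_pos
  change 8 ≤ Nat.card ((T : Subgroup G).map f) at h1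
  have h6 : Nat.card (f.ker ⊓ T : Subgroup G) = 1 := by nlinarith
  rw [h6, mul_one] at h2
  obtain ⟨a, ha, b, hb, h7, h8⟩ := h.2 T (by omega)
  have e := eq_of_le_of_card_ge hg (by
    rw [card_map_conj, hR]; exact (h2.trans_le h4 :))
  refine ⟨_, mem_map_conj.1 (e.ge (mem_map_of_mem f ha)), _,
    mem_map_conj.1 (e.ge (mem_map_of_mem f hb)),
    ?_, fun e' => h8 (commutatorElement_eq_one_iff_commute.1 (mem_bot.1 ((card_eq_one.1 h6).le
      ⟨?_, (T : Subgroup G).mul_mem ((T : Subgroup G).mul_mem ((T : Subgroup G).mul_mem ha hb)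
        ((T : Subgroup G).inv_mem ha)) ((T : Subgroup G).inv_mem hb)⟩)))⟩
  · rw [mul_assoc, mul_assoc, mul_assoc, mul_inv_cancel_left, ← mul_assoc (f a), ← map_mul, h7]
    simp
  · have := e'.map (MulAut.conj g)
    simp only [MulAut.conj_apply, mul_assoc, mul_inv_cancel_left, mul_inv_cancel, mul_one] at this
    exact (map_commutatorElement f a b).trans (commutatorElement_eq_one_iff_commute.2 this)

theorem IsD8.hasNormalPComplement (h : IsD8 G) (hc : ∀ g : G, g * g = 1 → g ∈ center G) :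
    HasNormalPComplement 2 G := by
  obtain ⟨T⟩ : Nonempty (Sylow 2 G) := inferInstance
  by_cases h1 : IsCyclic (T : Subgroup G)
  · exact hasNormalPComplement_two_of_isCyclic T
  refine hasNormalPComplement_of_sylow_le_center T fun g hg => hc g ?_
  obtain ⟨k, hk⟩ := T.isPGroup'.exists_card_eq
  have h3 : k ≤ 3 := by
    by_contra! e
    exact h.1 (((pow_dvd_pow 2 e).trans (hk ▸ card_subgroup_dvd_card _) :))
  have h4 : k ≠ 3 := fun e => by
    obtain ⟨a, -, b, -, h7, h8⟩ := h.2 T (by rw [hk, e]; rfl)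
    exact h8 (mem_center_iff.1 (hc a h7) b).symm
  obtain ⟨j, hj, e⟩ := (Nat.dvd_prime_pow Nat.prime_two).1 (hk ▸ orderOf_dvd_natCard
    (⟨g, hg⟩ : (T : Subgroup G)))
  have h5 : j ≠ k := fun e' => h1 (isCyclic_of_orderOf_eq_card _ (by rw [e, hk, e']))
  have := orderOf_dvd_iff_pow_eq_one.1 (e ▸ pow_dvd_pow 2 (by omega : j ≤ 1) :
    orderOf (⟨g, hg⟩ : (T : Subgroup G)) ∣ 2 ^ 1)
  simpa [sq] using congrArg Subtype.val this

section ring

variable {R : Type v} [Ring R]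

theorem inv_eq_of_quadratic (ρ : G →* R) {x : G} (hq : (ρ x - 1) * (ρ x - 1) = 0) :
    ρ x⁻¹ = 1 - (ρ x - 1) := by
  have h1 : ρ x⁻¹ * ρ x = 1 := by rw [← map_mul, inv_mul_cancel, map_one]
  linear_combination (norm := noncomm_ring) ρ x⁻¹ * hq + h1 * (1 - (ρ x - 1))

/-- In a group generated by two quadratic elements, `g + g⁻¹` is central. -/
theorem commute_add_inv_of_quadratic (ρ : G →* R) {x y g : G} (hx : (ρ x - 1) * (ρ x - 1) = 0)
    (hy : (ρ y - 1) * (ρ y - 1) = 0) (hg : g ∈ zpowers x ⊔ zpowers y) :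
    Commute (ρ x) (ρ g + ρ g⁻¹) ∧ Commute (ρ y) (ρ g + ρ g⁻¹) := by
  have ex := inv_eq_of_quadratic ρ hx
  have ey := inv_eq_of_quadratic ρ hy
  obtain ⟨a, ha⟩ : ∃ a, ρ x = 1 + a := ⟨ρ x - 1, by abel⟩
  obtain ⟨b, hb⟩ : ∃ b, ρ y = 1 + b := ⟨ρ y - 1, by abel⟩
  simp only [ha, hb, add_sub_cancel_left] at hx hy ex ey
  let Z := Subring.centralizer ({a, b} : Set R)
  have mZ : ∀ c, c ∈ Z ↔ a * c = c * a ∧ b * c = c * b := fun c => by
    simp [Z, Subring.mem_centralizer_iff]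
  have hz : a * b + b * a ∈ Z := (mZ _).2
    ⟨by linear_combination (norm := noncomm_ring) hx * b - b * hx,
      by linear_combination (norm := noncomm_ring) hy * a - a * hy⟩
  have key : ∃ c₀ ∈ Z, ∃ c₁ ∈ Z, ∃ c₂ ∈ Z, ∃ c₃ ∈ Z, ρ g = c₀ + c₁ * a + c₂ * b + c₃ * (a * b) ∧
      ρ g⁻¹ = c₀ - a * c₁ - b * c₂ + b * a * c₃ := by
    rw [zpowers_eq_closure, zpowers_eq_closure, ← Subgroup.closure_union, ← mem_toSubmonoid,
      closure_toSubmonoid_of_finite] at hg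
    induction hg using Submonoid.closure_induction_right with
    | one => exact ⟨1, one_mem _, 0, zero_mem _, 0, zero_mem _, 0, zero_mem _, by simp, by simp⟩
    | mul_right g _ w hw ih =>
      obtain ⟨c₀, h₀, c₁, h₁, c₂, h₂, c₃, h₃, e, e'⟩ := ih
      obtain ⟨a1, b1⟩ := (mZ _).1 h₁
      obtain ⟨a2, b2⟩ := (mZ _).1 h₂
      obtain ⟨a3, b3⟩ := (mZ _).1 h₃
      rw [mul_inv_rev, map_mul, map_mul, e, e']
      rcases hw with rfl | rfl
      · refine ⟨c₀ + c₂ * (a * b + b * a), add_mem h₀ (mul_mem h₂ hz),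
          c₁ + c₀ + c₃ * (a * b + b * a), add_mem (add_mem h₁ h₀) (mul_mem h₃ hz), c₂, h₂, c₃ - c₂,
          sub_mem h₃ h₂, ?_, ?_⟩
        · rw [ha]
          linear_combination (norm := noncomm_ring) c₁ * hx - c₃ * b * hx
        · rw [ex]
          linear_combination (norm := noncomm_ring) hx * c₁ + a * b2 + a2 * b + b * a2 + b2 * a -
            a * b * a3 - a * b3 * a - a * a3 * b - a * (a * b3) +
            hx * b * c₃
      · refine ⟨c₀, h₀, c₁, h₁, c₂ + c₀,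
          add_mem h₂ h₀, c₃ + c₁, add_mem h₃ h₁, ?_, ?_⟩
        · rw [hb]
          linear_combination (norm := noncomm_ring) c₂ * hy + c₃ * a * hy
        · rw [ey]
          linear_combination (norm := noncomm_ring) hy * c₂ - hy * a * c₃
  obtain ⟨c₀, h₀, c₁, h₁, c₂, h₂, c₃, h₃, e, e'⟩ := key
  have h5 : ρ g + ρ g⁻¹ ∈ Z := by
    obtain ⟨a1, b1⟩ := (mZ _).1 h₁
    obtain ⟨a2, b2⟩ := (mZ _).1 h₂
    obtain ⟨a3, b3⟩ := (mZ _).1 h₃
    convert add_mem (add_mem h₀ h₀) (mul_mem h₃ hz) using 1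
    rw [e, e']
    linear_combination (norm := noncomm_ring) - a1 - b2 + b * a3 + b3 * a
  obtain ⟨h6, h7⟩ := (mZ _).1 h5
  exact ⟨ha ▸ (Commute.one_left _).add_left h6, hb ▸ (Commute.one_left _).add_left h7⟩

theorem odd_of_quadratic [hp' : Fact p.Prime] (hp : ∀ x : R, p • x = 0) (h2 : p ≠ 2) (ρ : G →* R)
    (hρ : Function.Injective ρ) {x y : G} (hx : (ρ x - 1) * (ρ x - 1) = 0)
    (hy : (ρ y - 1) * (ρ y - 1) = 0) (h : IsD8 (zpowers x ⊔ zpowers y : Subgroup G)) :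
    Odd (Nat.card (zpowers x ⊔ zpowers y : Subgroup G)) := by
  have h1 := h.hasNormalPComplement fun g hg => mem_center_iff.2 fun w => Subtype.ext (by
    have hc := commute_add_inv_of_quadratic ρ hx hy g.2
    rw [show (g : G)⁻¹ = g from inv_eq_of_mul_eq_one_right (congrArg Subtype.val hg)] at hc
    have : ∀ x, Commute (ρ x) (ρ g + ρ g) → x ∈ 𝓒[(g : G)] := fun x e => mem_cent1.2 (hρ (by
      rw [map_mul, map_mul, ← sub_eq_zero]
      refine FpfEnd.eq_zero_of_smul_of_coprime ((Nat.coprime_primes hp'.out Nat.prime_two).2 h2)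
        (hp _) ?_
      linear_combination (norm := noncomm_ring) e.eq))
    exact mem_cent1.1 (sup_le (zpowers_le.2 (this x hc.1)) (zpowers_le.2 (this y hc.2)) w.2))
  have h3 : ∀ x : G, (ρ x - 1) * (ρ x - 1) = 0 → IsPRegular 2 x := fun x e =>
    IsPElt.isPRegular_of_ne (isPElt_iff_pow_eq_one.2 ⟨1, by
      rw [pow_one]; exact quadratic_pow_eq_one hp ρ hρ e⟩) h2
  have h4 := hasNormalPComplement_iff_forall_mem.1 h1
  have h5 : zpowers x ⊔ zpowers y ≤ (pPrimeCore 2 (zpowers x ⊔ zpowers y : Subgroup G)).map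
      (Subgroup.subtype _) := sup_le
    (zpowers_le.2 ⟨⟨x, mem_sup_left (mem_zpowers x)⟩, h4 _ (isPRegular_coe_iff.1 (h3 x hx)), rfl⟩)
    (zpowers_le.2 ⟨⟨y, mem_sup_right (mem_zpowers y)⟩, h4 _ (isPRegular_coe_iff.1 (h3 y hy)), rfl⟩)
  refine Nat.odd_iff.2 (Nat.two_dvd_ne_zero.1 fun e => not_dvd_card_pPrimeCore (p := 2)
    (G := (zpowers x ⊔ zpowers y : Subgroup G)) ?_)
  have := e.trans (card_dvd_of_le h5)
  rwa [card_map_subtype] at this

end ring

open scoped IsMulCommutative in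
theorem d8_stable_min [hp' : Fact p.Prime] {P V : Subgroup G} {x y : G} (hp : p ≠ 2)
    (hV : IsElementaryAbelian p V) (hP : IsPGroup p P)
    (hX : IsD8 (zpowers x ⊔ zpowers y : Subgroup G)) (hPn : zpowers x ⊔ zpowers y ≤ 𝓝(P))
    (hn : P ⊔ (zpowers x ⊔ zpowers y) ≤ 𝓝(V))
    (hmin : ∀ W, W ≤ V → P ⊔ (zpowers x ⊔ zpowers y) ≤ 𝓝(W) → W = ⊥ ∨ W = V)
    (hx : ∀ v ∈ V, ⁅⁅v, x⁆, x⁆ = 1) (hy : ∀ v ∈ V, ⁅⁅v, y⁆, y⁆ = 1) :
    zpowers x ⊔ zpowers y ≤ 𝓒(V) := by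
  by_cases h0 : V = ⊥
  · rw [cent_eq_top_of_eq_bot h0]; exact le_top
  haveI := hV.1
  set f := V.normalizerMonoidHom with hf
  set M := P ⊔ (zpowers x ⊔ zpowers y) with hM
  have hk : mpre f ⊥ = 𝓒(V) := mpre_bot_normalizerMonoidHom V
  have hT : piCoreOf {p} (mim f M) = ⊥ := by
    have hTn := piCoreOf_normalOf {p} (mim f M)
    have h1 : M ≤ 𝓝(M ⊓ mpre f (piCoreOf {p} (mim f M))) :=
      le_normalizer_inf le_normalizer (le_norm_mpre hn hTn.2)
    have h2 := inf_cent_ne_bot_of_quo (T := M ⊓ mpre f (piCoreOf {p} (mim f M))) hV.isPGroup h0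
      (inf_le_left.trans hn) (by
        rw [IsPGroup.iff_card, card_quo (le_norm_cent (inf_le_left.trans hn)), ← hk,
          ← card_mim (inf_le_left.trans hn), mim_inf_mpre, ← IsPGroup.iff_card]
        exact (pgroup_piCoreOf p _).to_le inf_le_right)
    have h3 := (hmin _ inf_le_left (le_normalizer_inf hn (le_norm_cent h1))).resolve_left h2
    rw [← inf_eq_right.2 hTn.1, ← mim_inf_mpre, mim_eq_bot_iff (inf_le_left.trans hn), hk]
    exact le_cent_symm (h3.ge.trans inf_le_right)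
  have hXn : zpowers x ⊔ zpowers y ≤ 𝓝(V) := le_sup_right.trans hn
  have hx' := hXn (mem_sup_left (mem_zpowers x))
  have hy' := hXn (mem_sup_right (mem_zpowers y))
  have e1 : mim f (zpowers x ⊔ zpowers y) = zpowers (f ⟨x, hx'⟩) ⊔ zpowers (f ⟨y, hy'⟩) := by
    rw [mim_sup (zpowers_le.2 hx') (zpowers_le.2 hy'), ← mim_zpowers, ← mim_zpowers]
  have e2 : mim f M = zpowers (f ⟨x, hx'⟩) ⊔ zpowers (f ⟨y, hy'⟩) := by
    have : mim f P = ⊥ := eq_bot_iff.2 (hT ▸ IsNormalOf.le_pcore ⟨mim_mono le_sup_left,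
      mim_le_norm (sup_le le_normalizer hPn)⟩ (isPGroup_mim hP))
    rw [hM, mim_sup (le_sup_left.trans hn) hXn, this, bot_sup_eq, e1]
  have hF : ¬ p ∣ Nat.card (fittingOf (mim f M)) := by
    have := (pcore_sylow_fittingOf p (mim f M)).eq_bot_iff
    exact this.1 hT
  have hpV : ∀ y : AddMonoid.End (Additive V), p • y = 0 := fun y => AddMonoidHom.ext fun v =>
    Additive.toMul.injective (Subtype.ext (hV.2 _ (y v).toMul.2))
  have hq : ∀ x (hx : x ∈ 𝓝(V)), (∀ v ∈ V, ⁅⁅v, x⁆, x⁆ = 1) →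
      (autEnd V (f ⟨x, hx⟩) - 1) * (autEnd V (f ⟨x, hx⟩) - 1) = 0 := fun x hx h => by
    have e : ∀ v : Additive V, (((autEnd V (f ⟨x, hx⟩) - 1) v).toMul : G) = ⁅x, (v.toMul : G)⁆ :=
      fun v => by
        change ((f ⟨x, hx⟩ v.toMul / v.toMul : V) : G) = _
        rw [div_eq_mul_inv]; rfl
    refine AddMonoidHom.ext fun v => Additive.toMul.injective (Subtype.ext ?_)
    change (((autEnd V (f ⟨x, hx⟩) - 1) ((autEnd V (f ⟨x, hx⟩) - 1) v)).toMul : G) = 1
    rw [e, e, commutatorElement_eq_one_iff_commute, ← commutatorElement_inv]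
    exact (commutatorElement_eq_one_iff_commute.1 (h _ v.toMul.2)).symm.inv_right
  have ho : Odd (Nat.card (mim f M)) := e2 ▸ odd_of_quadratic hpV hp (autEnd V) (autEnd_injective V)
    (hq x hx' hx) (hq y hy' hy) (e1 ▸ hX.of_surjective' _ (mimHom_surjective hXn))
  have key : ∀ x (hx : x ∈ 𝓝(V)), x ∈ M → (∀ v ∈ V, ⁅⁅v, x⁆, x⁆ = 1) → x ∈ 𝓒(V) :=
    fun x hx hxM h => by
      have hxM : f ⟨x, hx⟩ ∈ mim f M := mem_mim_of_mem hxM
      have h1 := quadratic_cent hpV hp (autEnd V) (autEnd_injective V) hF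
        (ho.of_dvd_nat (card_dvd_of_le (fittingOf_le _))) ((fittingOf_normal _).2 hxM) (hq x hx h)
      have h2 := cent_sub_fitting (oddOrder ho) ⟨hxM, h1⟩
      have h3 : f ⟨x, hx⟩ = 1 := IsPElt.eq_one_of_isPRegular (isPElt_iff_pow_eq_one.2
        ⟨1, by rw [pow_one]; exact quadratic_pow_eq_one hpV _ (autEnd_injective V) (hq x hx h)⟩)
        (isPRegular_of_mem_of_not_dvd hF h2)
      rw [← hk]; exact mem_mpre.2 ⟨hx, h3⟩
  exact sup_le (zpowers_le.2 (key x hx' (mem_sup_right (mem_sup_left (mem_zpowers x))) hx))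
    (zpowers_le.2 (key y hy' (mem_sup_right (mem_sup_right (mem_zpowers y))) hy))

theorem isPGroup_quo_of_quadratic [Fact p.Prime] {P : Subgroup G} {x y : G} (hp : p ≠ 2)
    (hP : IsPGroup p P) (hX : IsD8 (zpowers x ⊔ zpowers y : Subgroup G))
    (hn : zpowers x ⊔ zpowers y ≤ 𝓝(P)) (hx : ∀ v ∈ P, ⁅⁅v, x⁆, x⁆ = 1)
    (hy : ∀ v ∈ P, ⁅⁅v, y⁆, y⁆ = 1) : IsPGroup p ((zpowers x ⊔ zpowers y) /ₛ 𝓒(P)) := by
  refine (pgroup_piCoreOf p _).to_le (quo_le_pcore_of_chief (L := P ⊔ (zpowers x ⊔ zpowers y)) hP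
    ⟨le_sup_left, sup_le le_normalizer hn⟩ le_sup_right le_rfl fun V U hc hU => ?_)
  have hXV : zpowers x ⊔ zpowers y ≤ 𝓝(V) := le_sup_right.trans hc.normV
  have hx' := hXV (mem_sup_left (mem_zpowers x))
  have hy' := hXV (mem_sup_right (mem_zpowers y))
  have e1 : (zpowers x ⊔ zpowers y) /ₛ V =
      zpowers (coset V ⟨x, hx'⟩) ⊔ zpowers (coset V ⟨y, hy'⟩) := by
    rw [quo_sup (zpowers_le.2 hx') (zpowers_le.2 hy'), ← quo_zpowers, ← quo_zpowers]
  have e2 := quo_sup (le_sup_left.trans hc.normV) hXV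
  rw [e1] at e2
  have key : ∀ x (hx : x ∈ 𝓝(V)), (∀ v ∈ P, ⁅⁅v, x⁆, x⁆ = 1) →
      ∀ v ∈ U /ₛ V, ⁅⁅v, coset V ⟨x, hx⟩⁆, coset V ⟨x, hx⟩⁆ = 1 := fun x hx h v hv => by
    obtain ⟨v, hv', hvU, rfl⟩ := mem_quo.1 hv
    rw [← map_commutatorElement, ← map_commutatorElement]
    exact (congrArg _ (Subtype.ext (h v (hU hvU)))).trans (map_one _)
  refine (quo_le_cent_iff hXV hc.normal.2).1 (e1 ▸ d8_stable_min hp
    (hc.abelem_of_pgroup (isPGroup_quo (hP.to_le hU) V)) (isPGroup_quo hP V)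
    (e1 ▸ hX.of_surjective' _ (mimHom_surjective hXV)) (e1 ▸ quo_le_norm hn)
    (e2 ▸ quo_le_norm hc.normU) (fun W => e2 ▸ hc.quo_min) (key x hx' hx) (key y hy' hy))

theorem IsD8.p_stable [Fact p.Prime] {M P A : Subgroup G} (h : IsD8 M) (hp : p ≠ 2)
    (hP : IsPGroup p P) (hn : M ≤ 𝓝(P)) (hA : A ≤ M) (hq : ⁅⁅P, A⁆, A⁆ = ⊥) :
    A /ₛ 𝓒(P) ≤ piCoreOf {p} (M /ₛ 𝓒(P)) := by
  intro y hy
  obtain ⟨a, ha, haA, rfl⟩ := mem_quo.1 hy
  refine ⟨⟨_, quo_mono hA hy⟩, ?_, rfl⟩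
  rw [← pCore_eq_piCore]
  refine mem_pCore_of_forall_conj fun ⟨g, hg⟩ => ?_
  obtain ⟨m, hm, hmM, rfl⟩ := mem_quo.1 hg
  have h1 : ∀ v ∈ P, ⁅⁅v, a⁆, a⁆ = 1 := fun v hv =>
    mem_bot.1 (hq.le (commutator_mem_commutator (commutator_mem_commutator hv haA) haA))
  have h2 : zpowers a ⊔ zpowers (m * a * m⁻¹) ≤ M :=
    sup_le (zpowers_le.2 (hA haA)) (zpowers_le.2 (mul_mem (mul_mem hmM (hA haA)) (inv_mem hmM)))
  refine ⟨_, (isPGroup_quo_of_quadratic hp hP (h.of_le h2) (h2.trans hn) h1 fun v hv => ?_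
    ).comap_subtype, coset_mem_quo (x := ⟨a, ha⟩) (mem_sup_left (mem_zpowers a)), ?_⟩
  · have := congrArg (MulAut.conj m) (h1 _ (conj_mem_of_mem_normalizer (inv_mem (hn hmM)) hv))
    simpa [map_commutatorElement, mul_assoc] using this
  · have := coset_mem_quo (H := zpowers a ⊔ zpowers (m * a * m⁻¹))
      (x := ⟨m, hm⟩ * ⟨a, ha⟩ * ⟨m, hm⟩⁻¹) (mem_sup_right (mem_zpowers _))
    rwa [map_mul, map_mul, map_inv] at this

theorem IsD8.abelian_constrained [Fact p.Prime] {M P A : Subgroup G} (hM : IsD8 M) (hp : p ≠ 2)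
    (h0 : M ⊓ 𝓒(piCoreOf {p} M) ≤ piCoreOf {p} M) (hP : IsPGroup p P) (hPM : P ⊴ M)
    (hC : piCoreOf {p} M ⊓ 𝓒(P) ≤ P) (hA : A ≤ M) (h : ⁅⁅P, A⁆, A⁆ = ⊥) :
    A ≤ piCoreOf {p} M := by
  have hT := piCoreOf_normalOf {p} M
  have h1 : IsPGroup p (M ⊓ 𝓒(P) : Subgroup G) := isPGroup_iff_forall_isPElt.2 fun x hx => by
    have h2 := pPrimePart_mem p hx
    have h3 := isPRegular_pPrimePart p x
    refine pPrimePart_eq_one_iff.1 (IsPElt.eq_one_of_isPRegular
      (isPElt_of_mem (pgroup_piCoreOf p M) (h0 ⟨h2.1, zpowers_le.1 ?_⟩)) h3)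
    exact coprime_cent_of_selfcent (zpowers_le.2 (hT.2 h2.1)) (IsPGroup.coprime_card_of_not_dvd
      (pgroup_piCoreOf p M) (by rwa [Nat.card_zpowers])) (hT.1.trans hPM.2) hC (zpowers_le.2 h2.2)
  have hMn : M ≤ 𝓝(𝓒(P)) := le_norm_cent hPM.2
  have h2 := (quo_le_iff (hA.trans hMn)).1 (hM.p_stable hp hP hPM.2 hA h)
  refine (le_inf hA h2).trans (IsNormalOf.le_pcore ⟨inf_le_left, le_normalizer_inf le_normalizer
    (le_norm_cosetPre hMn (piCoreOf_normalOf _ _).2)⟩ (isPGroup_of_quo_inf (inf_le_left.trans hMn)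
      (h1.to_le (le_inf (inf_le_right.trans inf_le_left) inf_le_left)) ?_))
  rw [quo_inf_cosetPre]; exact (pgroup_piCoreOf p _).to_le inf_le_right

theorem IsD8.puig_sub [Fact p.Prime] {M S : Subgroup G} (h : IsD8 M) (hp : p ≠ 2)
    (hS : IsSylowOf p S M) (hC : M ⊓ 𝓒(piCoreOf {p} M) ≤ piCoreOf {p} M) :
    puigInf S ≤ puigInf (piCoreOf {p} M) ∧ Agent.FT.puig (piCoreOf {p} M) ≤ Agent.FT.puig S := by
  set T := piCoreOf {p} M with hT
  have h1 : ∀ n, puigAt S (2 * n) ≤ puigAt T (2 * n) := fun n => by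
    induction n with
    | zero => exact bot_le
    | succ n ih =>
      refine puigSucc_le_iff.2 fun A a b c => ?_
      have hn : puigAt T (2 * n + 1) ≤ 𝓝(A) := (puigSucc_mono hS.pcore_le ih).trans c
      refine le_puigSucc (h.abelian_constrained hp hC ((pgroup_piCoreOf p M).to_le (puigAt_le T _))
        ((piCoreOf_normalOf {p} M).char_trans (puigAt_le T _) (norm_le_norm_puigAt T _))
        (cent_le_of_puigInf_le (nil_of_pgroup (pgroup_piCoreOf p M)) ((puigInf_le_puig T).trans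
          (iInf_le (fun n => puigAt T (2 * n + 1)) n))) (a.trans hS.le)
        (eq_bot_iff.2 ((commutator_mono (comm_le_right hn) le_rfl).trans (comm_iff_der.1 b).le))) b hn
  exact ⟨iSup_mono h1, iInf_mono fun n => puigSucc_mono hS.pcore_le (h1 n)⟩

theorem IsD8.puig [Fact p.Prime] {M S : Subgroup G} (h : IsD8 M) (hp : p ≠ 2)
    (hS : IsSylowOf p S M) (hC : M ⊓ 𝓒(piCoreOf {p} M) ≤ piCoreOf {p} M) :
    M ≤ 𝓝(𝓩(puig S)) := by
  obtain ⟨h1, h2⟩ := h.puig_sub hp hS hC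
  set T := piCoreOf {p} M with hT
  set Y := 𝓩(Agent.FT.puig T) with hY
  have hYT : Y ≤ T := inf_le_left.trans (puig_le T)
  have hYM : Y ⊴ M := (piCoreOf_normalOf {p} M).char_trans hYT (norm_le_norm_center_puig T)
  have hZY : 𝓩(Agent.FT.puig S) ≤ Y := le_inf ((abelian_norm_puigInf ⟨inf_le_left.trans (puig_le S),
    le_normalizer.trans (norm_le_norm_center_puig S)⟩ (comm_center _)).trans
      (h1.trans (puigInf_le_puig T))) (inf_le_right.trans (cent_anti h2))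
  have hYS : Y ≤ puigInf S := abelian_norm_puigInf (hYM.mono (hYT.trans hS.pcore_le) hS.le)
    (comm_center _)
  have hMn : M ≤ 𝓝(𝓒(Y)) := le_norm_cent hYM.2
  set C := M ⊓ cosetPre 𝓒(Y) (piCoreOf {p} (M /ₛ 𝓒(Y))) with hC
  have hCM : C ⊴ M := ⟨inf_le_left, le_normalizer_inf le_normalizer
    (le_norm_cosetPre hMn (piCoreOf_normalOf _ _).2)⟩
  have hLC : Agent.FT.puig S ≤ C := le_inf ((puig_le S).trans hS.le) (puigSucc_puigInf S ▸
    puigSucc_le_iff.2 fun A a b c => (quo_le_iff ((a.trans hS.le).trans hMn)).1 (h.p_stable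
      hp ((pgroup_piCoreOf p M).to_le hYT) hYM.2 (a.trans hS.le)
      (eq_bot_iff.2 ((commutator_mono (comm_le_right (hYS.trans c)) le_rfl).trans
        (comm_iff_der.1 b).le))))
  have hSC := hS.inf_normal hCM
  have h3 : 𝓝(S ⊓ C) ≤ 𝓝(𝓩(Agent.FT.puig S)) := by
    rw [← sub_puig_eq inf_le_left (le_inf (puig_le S) hLC)]; exact norm_le_norm_center_puig _
  rw [← (hSC.frattini hCM).sup_eq]
  refine sup_le ?_ (inf_le_right.trans h3)
  rw [← (hSC.isProd_of_quo (hCM.1.trans hMn) (by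
    rw [hC, quo_inf_cosetPre]; exact (pgroup_piCoreOf p _).to_le inf_le_right)).sup_eq]
  exact sup_le (le_normalizer.trans h3) (inf_le_left.trans (le_norm_of_le_cent (cent_anti hZY)))

end Cfsg.GW
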