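import Cfsg.Agent.GW.StepA
import Cfsg.Agent.GW.Stab

/-!
# `C(t)` not maximal: characteristic `p`

`O_{p'}(M) = 1`, so `C_M(P_t) ≤ P_t`. `V`-invariant subgroups of odd order of `M_v` lie in `O(M_v)`
(`le_core_of_four`). For a Sylow `p`-subgroup `T` of `O(M)`, `Z(L(T)) ⊴ O(M)` (`puig_center_normal`)
does not depend on `T`, so it is normal in `M` and `N(Z(L(T))) = M`. Every `V`-invariant `p`-subgroup
of `M` lies in a `V`-invariant such `T` (`coprime_sylow_ge`), and such a `T` is a maximal `V`-invariant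
`p`-subgroup of `G` (`N_{T'}(T) ≤ N(Z L T) = M`). Let `T_s` be a `V`-invariant Sylow subgroup of `O(M_s)`;
`T_s ≰ M` (else it is Sylow in `O(M)` and `M = N(Z L T_s) = M_s`). `I = T_s ∩ M ⊇ P_t ∩ P_s ≠ 1`.
Family of triples `(I₀, J, Y)` of `V`-invariant `p`-groups, `1 ≠ I₀ ≤ J ≤ M`, `J, Y ≤ N(I₀)`, `Y ≰ M`;
it contains `(I, I, N_{T_s}(I))`. Take `|J|` maximal, `N₀ = N(I₀)`, `T ⊇ J` as above. `C_Y(t) ≤ M`,
so for `v = s` or `ts`, `Y' = [C_Y(v), t] ≰ M`; replace `Y` by `Y'`.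
(1) `J` is a maximal `V`-invariant `p`-subgroup of `N₀`: if `J < J*`, then `J₁ = N_{J*}(J) ≰ M`
(maximality for `(I₀, J₁, Y)`), and `(J, N_T(J), J₁)` forces `J = T`, contradicting the maximality
of `T`. So `O_p(N₀) ≤ J ≤ M`, `C(O_p N₀) ≤ C(I₀) ≤ N₀`.
(2) `R = O_{p'}(N₀)` is odd (`odd_of_cent`); `R₀ = R ∩ M` centralizes `P_t ∩ N₀ ⊇ C_{P_t}(O_p N₀)`,
`axb`: `R₀ ≤ C_M(P_t)`, `R₀ = 1`. So `t` inverts `R`.
(3) `DG.diamond`: `O(N₀) J Y ≤ N' ≤ N₀`, `J` Sylow in `N'`. In `N'/R`: `C* = {g ∈ N₀ : [g, O_{p',p}(O N₀)] ≤ R}`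
is normal in `N₀` and centralizes `O_p(N₀)`, so odd, so inside `O(N₀)`, so inside `O_{p',p}(O(N₀))`
(`cent_pcore_sub` in `O(N₀)/R`, `O_{p'}(O N₀) = R`). Hence `C_{N'/R}(O_p) ≤ O_p`, and `IsD8.puig`,
`quo_center_puig`: `Z R ⊴ N'`, `Z = Z(L(J))`.
(4) `Y` normalizes `Z`: `V` acts coprimely on `Z R Y`; a `V`-invariant Sylow `p`-subgroup containing
`Y` meets `ZR` in a `t`-invariant Sylow subgroup `Z*` normalized by `Y`; `Z*` and `Z` are conjugate
under `C_{ZR}(t) = C_Z(t)`, so `Z* = Z`.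
(5) `(Z, N_T(J), Y)` is in the family, so `J = T` and `Y ≤ N(Z L T) = M`.
-/

set_option autoImplicit false
set_option linter.unusedSectionVars false
set_option linter.unusedVariables false

namespace Cfsg.GW

open Subgroup Cfsg.Agent.FT
open scoped commutatorElement

universe u

variable {G : Type u} [Group G] [Finite G] {M S : Subgroup G} {x s t ρ : G} {p : ℕ}

theorem sub_compl_two (hp : p ≠ 2) : ({p} : Set ℕ) ⊆ {2}ᶜ := by simpa using hp.symm

theorem IsFour.coprimeAction (h4 : IsFour t s) {X : Subgroup G} (hn : GW.four t s ≤ 𝓝(X))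
    (ho : Odd (Nat.card X)) : IsCoprimeAction (GW.four t s) X :=
  isCoprimeAction_of_isPGroup_left hn h4.pgroup (odd_iff_not_two_dvd.1 ho)

theorem A2.le_core (h : A2 t s ρ p M) {X : Subgroup G} (hX : X ≤ M) (ho : Odd (Nat.card X))
    (hn : GW.four t s ≤ 𝓝(X)) : X ≤ 𝐎(M) :=
  (h.d8.sub M).le_core_of_four h.sol (h.four_le (left_mem_four t s))
    (h.four_le (right_mem_four t s)) h.four hX ho hn

theorem A2.pcore_le [Fact p.Prime] (h : A2 t s ρ p M) {T : Subgroup G}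
    (hT : IsSylowOf p T 𝐎(M)) : piCoreOf {p} M ≤ T :=
  piCoreOf_piCoreOf (sub_compl_two h.odd) M ▸ hT.pcore_le

theorem A2.norm_Z [Fact p.Prime] (h : A2 t s ρ p M) (h0 : piCoreOf {p}ᶜ M = ⊥) {T : Subgroup G}
    (hT : IsSylowOf p T 𝐎(M)) : 𝓝(𝓩(puig T)) = M := by
  have := h.simple
  refine norm_eq_of_coatom h.max ⟨inf_le_left.trans ((puig_le T).trans
    (hT.le.trans (piCoreOf_le M))), ?_⟩ (center_puig_ne_bot hT.pgroup fun e =>
      h.ne ((h.pcore_le hT).trans (e ▸ bot_le)))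
  rw [← (hT.frattini (piCoreOf_normalOf _ M)).sup_eq]
  exact sup_le (puig_center_normal (sol_of_odd (odd_core M)) (odd_core M) hT
    (le_bot_iff.1 (h0 ▸ piCoreOf_le_of_normal (piCoreOf_normalOf _ M))))
    (inf_le_right.trans (norm_le_norm_center_puig T))

theorem A2.exists_T [Fact p.Prime] (h : A2 t s ρ p M) {J : Subgroup G} (hJ : J ≤ M)
    (hp : IsPGroup p J) (hn : GW.four t s ≤ 𝓝(J)) :
    ∃ T, IsSylowOf p T 𝐎(M) ∧ GW.four t s ≤ 𝓝(T) ∧ J ≤ T :=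
  coprime_sylow_ge (h.four.coprimeAction (h.four_le.trans (piCoreOf_normalOf _ M).norm)
    (odd_core M)) (h.le_core hJ (odd_of_pgroup h.odd hp) hn) hp hn

theorem A2.max_T [Fact p.Prime] (h : A2 t s ρ p M) (h0 : piCoreOf {p}ᶜ M = ⊥) {T T' : Subgroup G}
    (hT : IsSylowOf p T 𝐎(M)) (hn : GW.four t s ≤ 𝓝(T)) (hp : IsPGroup p T')
    (hn' : GW.four t s ≤ 𝓝(T')) (hle : T ≤ T') : T = T' :=
  nil_eq_of_norm_le (nil_of_pgroup hp) hle (hT.eq_of_le (hp.to_le inf_le_left)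
    (le_inf hle le_normalizer) (h.le_core (inf_le_right.trans ((norm_le_norm_center_puig T).trans
      (h.norm_Z h0 hT).le)) (odd_of_pgroup h.odd (hp.to_le inf_le_left))
        (le_norm_subnorm hn' hn))).le

/-- Steps (2)-(4). -/
theorem A2.le_norm_Z [Fact p.Prime] (h : A2 t s ρ p M) (h0 : piCoreOf {p}ᶜ M = ⊥)
    {N J Y : Subgroup G} (hN : N ≠ ⊤) (hV : GW.four t s ≤ N) (hC : 𝓒(piCoreOf {p} N) ≤ N)
    (hJM : J ≤ M) (hJ : J ≤ N) (hJp : IsPGroup p J) (nJ : GW.four t s ≤ 𝓝(J))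
    (hmax : ∀ J', J' ≤ N → IsPGroup p J' → GW.four t s ≤ 𝓝(J') → J ≤ J' → J' = J) (hY : Y ≤ N)
    (hYp : IsPGroup p Y) (nY : GW.four t s ≤ 𝓝(Y)) (hYt : ⁅Y, zpowers t⁆ = Y) {v : G}
    (h4 : IsFour t v) (hv : GW.four t v = GW.four t s) (hYv : Y ≤ 𝓒[v]) :
    Y ≤ 𝓝(𝓩(puig J)) := by
  have hQ := piCoreOf_normalOf {p} N
  have hR := piCoreOf_normalOf {p}ᶜ N
  have hO := piCoreOf_normalOf {2}ᶜ N
  have pQ := pgroup_piCoreOf p N
  have pR := not_dvd_piCoreOf p N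
  have hQJ : piCoreOf {p} N ≤ J := le_sup_right.trans (hmax _ (sup_le hJ hQ.le)
    (pgroup_sup hJp pQ (hJ.trans hQ.norm)) (le_normalizer_sup nJ (hV.trans hQ.norm))
    le_sup_left).le
  have oR := h.odd_of_cent hN hV hC hR (piCoreOf_compl_cent N)
  have hRO := le_core_of_normal hR oR
  have e0 : piCoreOf {p}ᶜ 𝐎(N) = piCoreOf {p}ᶜ N := by
    rw [piCoreOf_normal_eq hO, inf_eq_left.2 hRO]
  have hcent := piCoreOf_cent_compl (π := {p}) N
  have e1 := piCoreOf_quo_piCoreOf {p}ᶜ 𝐎(N)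
  rw [e0] at e1
  generalize piCoreOf {p}ᶜ N = R at *
  have hP := piCoreOf_normalOf {p} M
  have pP := pgroup_piCoreOf p M
  have i0 : ∀ {P : Subgroup G}, IsPGroup p P → P ⊓ R = ⊥ := fun hP => inf_eq_bot_of_isPGroup_of_not_dvd hP pR
  have hRM : R ⊓ M = ⊥ := by
    have h1 := axb pP pQ (not_dvd_card_of_le pR (inf_le_left : R ⊓ M ≤ R))
      ((hQJ.trans hJM).trans hP.norm) (inf_le_right.trans hP.norm)
      (hcent.trans (cent_anti inf_le_left)) (le_cent_iff_comm.2 (le_bot_iff.1 ((i0 pP).le.trans'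
        (le_inf ((comm_mono inf_le_left le_rfl).trans (comm_le_left (inf_le_right.trans hP.norm)))
          ((comm_mono le_rfl inf_le_left).trans
            (comm_le_right ((inf_le_right.trans hC).trans hR.norm)))))))
    exact le_bot_iff.1 ((le_inf ((le_inf inf_le_right h1).trans (cent_pcore_sub h.sol h0))
      inf_le_left).trans (i0 pP).le)
  obtain ⟨N', h1, h2, h3⟩ := (h.ih.dg h.d8 hN).diamond (hV (left_mem_four t s))
    (hV (hv ▸ right_mem_four t v)) h4 h.odd hJ hJp (hv ▸ nJ) (hv ▸ hmax) hY hYp (hv ▸ nY) hYt hYv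
  have hON : 𝐎(N) ≤ N' := (le_sup_left.trans le_sup_left).trans h1
  have nR := h2.trans hR.norm
  have hF := (hO.quo R).piCoreOf {p}
  have hF' : piCoreOf {p} (𝐎(N) /ₛ R) ≤ piCoreOf {p} (N' /ₛ R) :=
    (hF.mono ((piCoreOf_le _).trans (quo_mono hON)) (quo_mono h2)).le_pcore (pgroup_piCoreOf p _)
  have hC' : N ⊓ cosetPre R 𝓒(piCoreOf {p} (𝐎(N) /ₛ R)) ⊴ N :=
    ⟨inf_le_left, le_normalizer_inf le_normalizer (le_norm_cosetPre hR.norm (le_norm_cent hF.norm))⟩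
  have hCO := le_core_of_normal hC' (h.odd_of_cent hN hV hC hC' (le_cent_iff_comm'.2
    (le_bot_iff.1 ((i0 pQ).le.trans' (le_inf (comm_le_left (inf_le_left.trans hQ.norm))
      ((quo_le_cent_iff (inf_le_left.trans hR.norm) (hQ.le.trans hR.norm)).1 (by
        rw [quo_inf_cosetPre]
        refine inf_le_right.trans (cent_anti ?_)
        rw [← piCoreOf_piCoreOf (sub_compl_two h.odd)]
        exact quo_piCoreOf_le _ _ _)))))))
  have h5 := (h.d8.sub N').quo nR oR |>.puig h.odd (h3.quo nR) (by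
    refine le_trans ?_ ((cent_pcore_sub (isSolvable_quo (sol_of_odd (odd_core N)) R) e1).trans hF')
    refine le_inf ?_ (inf_le_right.trans (cent_anti hF'))
    refine (inf_le_inf (quo_mono h2) (cent_anti hF')).trans ?_
    rw [← quo_inf_cosetPre]
    exact quo_mono hCO)
  have hZ : 𝓩(puig J) ≤ J := inf_le_left.trans (puig_le J)
  rw [← quo_center_puig (hJ.trans hR.norm) (i0 hJp),
    quo_le_norm_iff nR ((hZ.trans hJ).trans hR.norm)] at h5
  have nZ := nJ.trans (norm_le_norm_center_puig J)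
  generalize 𝓩(puig J) = Z at *
  have pZ := hJp.to_le hZ
  have hZR : Z ≤ 𝓝(R) := (hZ.trans hJ).trans hR.norm
  have hYE : Y ≤ 𝓝(Z ⊔ R) := (le_sup_right.trans h1).trans h5
  have nE := le_normalizer_sup nZ (hV.trans hR.norm)
  have oE : Odd (Nat.card (Z ⊔ R : Subgroup G)) := odd_iff_not_two_dvd.2 (not_dvd_card_sup
    (odd_iff_not_two_dvd.1 (odd_of_pgroup h.odd pZ)) (odd_iff_not_two_dvd.1 oR) hZR)
  obtain ⟨T, hT, nT, hYT⟩ := coprime_sylow_ge (h.four.coprimeAction (le_normalizer_sup nY nE)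
    (odd_iff_not_two_dvd.2 (not_dvd_card_sup (odd_iff_not_two_dvd.1 (odd_of_pgroup h.odd hYp))
      (odd_iff_not_two_dvd.1 oE) hYE))) le_sup_left hYp nY
  obtain ⟨c, hc, e⟩ := coprime_sylow_trans (h.four.coprimeAction nE oE)
    (sup_comm R Z ▸ sylow_sup pZ hZR fun e => pR (e.trans (relIndex_dvd_card _ _))) nZ
    (hT.inf_normal ⟨le_sup_right, sup_le hYE le_normalizer⟩) (le_normalizer_inf nT nE)
  have h6 := ((isProd_of_le_norm' hZR).inf_left (H := (Z ⊔ R) ⊓ M)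
    (le_inf le_sup_left (hZ.trans hJM)) inf_le_left).sup_eq
  rw [← inf_assoc, inf_eq_left.2 (le_sup_right : R ≤ Z ⊔ R), hRM, sup_bot_eq] at h6
  rw [conj_eq_of_mem_norm (le_normalizer (h6.ge
    ⟨hc.1, h.cent (cent_le_cent1 (left_mem_four t s) hc.2)⟩))] at e
  exact e ▸ le_normalizer_inf (hYT.trans le_normalizer) hYE

/-- the family of triples -/
structure Fam (V M : Subgroup G) (p : ℕ) (I J Y : Subgroup G) : Prop where
  ne : I ≠ ⊥
  le : I ≤ J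
  leM : J ≤ M
  pJ : IsPGroup p J
  pY : IsPGroup p Y
  nJ : J ≤ 𝓝(I)
  nY : Y ≤ 𝓝(I)
  vI : V ≤ 𝓝(I)
  vJ : V ≤ 𝓝(J)
  vY : V ≤ 𝓝(Y)
  not : ¬ Y ≤ M

theorem A2.not_char (h : A2 t s ρ p M) (hX : ¬ piCoreOf {p} M ⊓ 𝓒[s] ≤ 𝓒[t])
    (h0 : piCoreOf {p}ᶜ M = ⊥) : False := by
  have := Fact.mk h.prime
  have := h.simple
  have h' := h.conj
  have h0' : piCoreOf {p}ᶜ (M :^ ρ) = ⊥ := by rw [piCoreOf_map_conj, h0, Subgroup.map_bot]
  have hV : GW.four s (t * s) = GW.four t s := by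
    rw [h.four.comm.eq, h.four.symm.four_mul, four_comm]
  obtain ⟨J, ⟨I, Y, hF⟩, hm⟩ : ∃ J, Maximal (fun J => ∃ I Y, Fam (GW.four t s) M p I J Y) J := by
    obtain ⟨T', hT', nT', -⟩ := h'.exists_T bot_le IsPGroup.of_bot (le_norm_bot _)
    have h1 : ¬ T' ≤ M := fun e => by
      obtain ⟨T, hT, nT, hle⟩ := h.exists_T e hT'.pgroup (hV ▸ nT')
      refine h.conj_ne ?_
      rw [← h'.norm_Z h0' hT', h'.max_T h0' hT' nT' hT.pgroup (hV ▸ nT) hle, h.norm_Z h0 hT]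
    rw [hV] at nT'
    have h2 := le_normalizer_inf nT' (h.four_le.trans le_normalizer)
    refine exists_maximal_of_wellFoundedGT _ ⟨T' ⊓ M, T' ⊓ M, T' ⊓ 𝓝(T' ⊓ M), fun e =>
      h.inf_not_le hX (le_trans (le_inf (inf_le_right.trans (h'.pcore_le hT'))
        (inf_le_left.trans (piCoreOf_le M))) (e ▸ bot_le)), le_rfl, inf_le_right,
      hT'.pgroup.to_le inf_le_left, hT'.pgroup.to_le inf_le_left, le_normalizer, inf_le_right, h2,
      h2, le_norm_subnorm nT' h2, fun e => h1 (nil_le_of_norm_le (nil_of_pgroup hT'.pgroup) e)⟩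
  obtain ⟨T, hT, nT, hJT⟩ := h.exists_T hF.leM hF.pJ hF.vJ
  have hTM := hT.le.trans (piCoreOf_le M)
  have force : ∀ I' Y' : Subgroup G, I' ≠ ⊥ → I' ≤ J → 𝓝(J) ≤ 𝓝(I') → IsPGroup p Y' → Y' ≤ 𝓝(I') →
      GW.four t s ≤ 𝓝(Y') → ¬ Y' ≤ M → J = T := fun I' Y' a1 a2 a3 a4 a5 a6 a7 =>
    nil_eq_of_norm_le (nil_of_pgroup hT.pgroup) hJT (hm ⟨I', Y', a1,
      a2.trans (le_inf hJT le_normalizer), inf_le_left.trans hTM, hT.pgroup.to_le inf_le_left, a4,
      inf_le_right.trans a3, a5, hF.vJ.trans a3, le_norm_subnorm nT hF.vJ, a6, a7⟩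
      (le_inf hJT le_normalizer))
  have J0 := ne_bot_of_le hF.ne hF.le
  have hmax : ∀ J', J' ≤ 𝓝(I) → IsPGroup p J' → GW.four t s ≤ 𝓝(J') → J ≤ J' → J' = J := by
    intro J' a1 a2 a3 a4
    have a5 := le_norm_subnorm a3 hF.vJ
    by_cases e : J' ⊓ 𝓝(J) ≤ M
    · exact (nil_eq_of_norm_le (nil_of_pgroup a2) a4 (hm ⟨I, Y, hF.ne,
        hF.le.trans (le_inf a4 le_normalizer), e, a2.to_le inf_le_left, hF.pY,
        inf_le_left.trans a1, hF.nY, hF.vI, a5, hF.vY, hF.not⟩ (le_inf a4 le_normalizer))).symm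
    · obtain rfl := force J _ J0 le_rfl le_rfl (a2.to_le inf_le_left) inf_le_right a5 e
      exact (h.max_T h0 hT nT a2 a3 a4).symm
  have oY := odd_of_pgroup h.odd hF.pY
  obtain ⟨v, h4, hv, h1⟩ : ∃ v, IsFour t v ∧ GW.four t v = GW.four t s ∧ ¬ Y ⊓ 𝓒[v] ≤ M := by
    by_contra e
    push Not at e
    exact hF.not (le_of_four oY h.four (hF.vY (left_mem_four t s)) (hF.vY (right_mem_four t s))
      (inf_le_right.trans h.cent) (e s h.four rfl) (e _ h.four.mul h.four.four_mul))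
  have hvV : GW.four t s ≤ 𝓒[v] := hv ▸ h4.le_cent.trans (cent_le_cent1 (right_mem_four t v))
  have nX := le_normalizer_inf hF.vY (le_norm_cent1 hvV)
  have oX := oY.of_dvd_nat (card_dvd_of_le (inf_le_left : Y ⊓ 𝓒[v] ≤ Y))
  have htX := nX (left_mem_four t s)
  have h2 := comm_le_left (zpowers_le.2 htX)
  have h3 : ¬ ⁅Y ⊓ 𝓒[v], zpowers t⁆ ≤ M := fun e => h1
    ((isProd_cent_comm oX h.four.tt htX).sup_eq.ge.trans (sup_le e (inf_le_right.trans h.cent)))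
  have nY' := le_norm_comm nX ((h.four.le_cent.trans (cent_le_cent1 (left_mem_four t s))).trans
    (cent1_le_norm_zpowers t))
  have pY' := hF.pY.to_le (h2.trans inf_le_left)
  have h5 := h.le_norm_Z h0 (norm_ne_top hF.ne fun e => h.max.1 (top_le_iff.1
    (e ▸ hF.le.trans hF.leM))) hF.vI ((cent_anti ((IsNormalOf.in_norm I).le_pcore
      (hF.pJ.to_le hF.le))).trans (cent_le_norm I)) hF.leM hF.nJ hF.pJ hF.vJ hmax
    ((h2.trans inf_le_left).trans hF.nY) pY' nY' (comm_comm_eq oX h.four.tt htX) h4 hv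
    (h2.trans inf_le_right)
  obtain rfl := force _ _ (center_puig_ne_bot hF.pJ J0) (inf_le_left.trans (puig_le J))
    (norm_le_norm_center_puig J) pY' h5 nY' h3
  exact h3 (h5.trans (h.norm_Z h0 hT).le)

theorem Base.stepA (h : Base S x s t) (ih : IH.{u} (Nat.card G))
    (hA : ∀ M : Subgroup G, M ≠ ⊤ → 𝓒[t] < M →
      Group.IsSolvable M ∧ ¬ 𝐎(M) ≤ 𝓒[t] ∧ ¬ OneCl M t) : IsCoatom (𝓒[t] : Subgroup G) := by
  by_contra hH
  obtain ⟨s, ρ, p, M, h1, h2⟩ := h.exists_A2 ih hH hA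
  exact h1.not_char h2 (h1.not_multi h2)

end Cfsg.GW

set_option linter.all false in
theorem Cfsg.Rz.GW_StepP_0 : True := by
  have := @_root_.Cfsg.GW.Fam.mk.congr_simp.{0}
  trivial
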