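import Cfsg.Agent.GW.StepH
import Cfsg.Agent.GW.StepP
import Cfsg.Agent.GW.Alt7

/-! # The Gorenstein-Walter theorem for Sylow `2`-subgroups of order `4` and `8` -/

set_option autoImplicit false

namespace Cfsg.GW

open Subgroup Cfsg.Agent.FT

universe u

theorem known'_of_alt7 {G : Type u} [Group G] (e : Nonempty (G ≃* alternatingGroup (Fin 7))) :
    Known' G := ⟨Or.inl e, Or.inl e⟩

theorem Base.known' {G : Type u} [Group G] [Finite G] {S : Subgroup G} {x s t : G}
    (h : Base S x s t) (ih : IH.{u} (Nat.card G)) : Known' G := by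
  haveI := h.simple
  by_cases h0 : 𝐎(𝓒[t]) = ⊥
  · refine BswHyp.known' ⟨h.dih, h.one, ?_, ?_, ?_⟩ h.nonab
    · intro y hy
      rw [h0, mem_bot] at hy
      simp [hy]
    · intro y hy
      rw [h0, mem_bot] at hy
      simp [hy]
    · intro y hy h1
      rw [h0, mem_bot] at hy
      exact absurd hy h1
  by_cases h1 : A7cfg x s t
  · exact known'_of_alt7 (h.alt7 h1)
  by_cases h2 : A7cfg x (x * s) t
  · exact known'_of_alt7 (h.swap.alt7 h2)
  have hm := h.stepA ih fun M hM hlt =>
    (((h.caseA hM hlt).resolve_left h0).resolve_left h1).resolve_left h2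
  have hb : BB G := by
    refine ⟨h.simple, h.nonab, h.isD8, ih, fun u hu => ?_, fun u hu => ?_⟩
    · obtain ⟨g, -, rfl⟩ := h.one u (mem_top u) hu
      rw [centralizer_singleton_conj]
      exact coatom_conj hm g
    · obtain ⟨g, -, rfl⟩ := h.one u (mem_top u) hu
      rw [centralizer_singleton_conj, piCoreOf_map_conj]
      exact fun e => h0 (map_conj_eq_bot_iff.1 e)
  exact (hb.bsw h).known' h.nonab

theorem ih_all (n : ℕ) : IH.{u} n := by
  induction n with
  | zero => exact fun L _ _ hL => absurd hL (Nat.not_lt_zero _)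
  | succ n ih =>
    intro L _ _ hL hs hna h8
    obtain ⟨S, x, s, t, h⟩ := exists_base hna h8
    exact h.known' (ih.mono (Nat.lt_succ_iff.1 hL))

theorem gw {G : Type u} [Group G] [Finite G] (hs : IsSimpleGroup G) (hna : ¬ IsMulCommutative G)
    (h8 : IsD8 G) : Known G :=
  (ih_all (Nat.card G + 1) G (Nat.lt_succ_self _) hs hna h8).1

end Cfsg.GW
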