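import Cfsg.Agent.GW.Defs
import Cfsg.Agent.Char.SimpleFour
import Cfsg.Agent.S4482

/-!
# The principal `2`-block for Sylow subgroups `V₄` and `D₈`: abstract versions
-/

set_option autoImplicit false
set_option linter.unusedSectionVars false
set_option linter.style.haveILetI false

namespace Cfsg.GW

open Subgroup Finset
open scoped ComplexConjugate

universe u

variable {G : Type u} [Group G] [Finite G]

/-- The part of a character on the common eigenspace of two commuting involutions. -/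
theorem isCharacter_four_part {χ : G → ℂ} (hχ : IsCharacter G χ) {K : Subgroup G} {t s : G}
    (ht : t * t = 1) (hs : s * s = 1) (hts : Commute t s) (hKt : ∀ x ∈ K, Commute x t)
    (hKs : ∀ x ∈ K, Commute x s) :
    IsCharacter K fun x => (χ x + χ (x * t) - χ (x * s) - χ (x * (t * s))) / 4 := by
  obtain ⟨X, hX⟩ := hχ.exists_matrix
  have e1 : X t * X t = 1 := by rw [← map_mul, ht, map_one]
  have e2 : X s * X s = 1 := by rw [← map_mul, hs, map_one]
  have e3 : X s * X t = X t * X s := by rw [← map_mul, ← map_mul, hts.eq]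
  have h1 := isCharacter_matrix_trace_mul_idem (X.comp K.subtype)
    ((4 : ℂ)⁻¹ • ((1 + X t) * (1 - X s))) ?_ ?_
  · convert h1 using 2 with x
    simp only [MonoidHom.comp_apply, coe_subtype, Matrix.mul_smul, Matrix.trace_smul, add_mul,
      mul_sub, mul_add, one_mul, mul_one, Matrix.trace_sub, Matrix.trace_add, ← map_mul, hX,
      smul_eq_mul]
    ring
  · have a1 : (1 + X t) * (1 + X t) = (2 : ℂ) • (1 + X t) := by
      rw [add_mul, mul_add, mul_add, e1, two_smul]; simp only [one_mul, mul_one]; abel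
    have a2 : (1 - X s) * (1 - X s) = (2 : ℂ) • (1 - X s) := by
      rw [sub_mul, mul_sub, mul_sub, e2, two_smul]; simp only [one_mul, mul_one]; abel
    have a3 : (1 - X s) * (1 + X t) = (1 + X t) * (1 - X s) := by
      simp only [add_mul, mul_sub, mul_add, sub_mul, one_mul, mul_one, e3]; abel
    rw [Matrix.smul_mul, Matrix.mul_smul, mul_assoc, ← mul_assoc (1 - X s), a3, mul_assoc,
      ← mul_assoc, a1, a2, Matrix.smul_mul, Matrix.mul_smul, smul_smul, smul_smul, smul_smul]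
    norm_num
  · intro x
    have b1 : X x * X t = X t * X x := by rw [← map_mul, ← map_mul, (hKt x x.2).eq]
    have b2 : X x * X s = X s * X x := by rw [← map_mul, ← map_mul, (hKs x x.2).eq]
    simp only [MonoidHom.comp_apply, coe_subtype, Matrix.mul_smul, Matrix.smul_mul]
    congr 1
    have b3 : X x * (1 + X t) = (1 + X t) * X x := by rw [mul_add, add_mul, b1, mul_one, one_mul]
    have b4 : X x * (1 - X s) = (1 - X s) * X x := by rw [mul_sub, sub_mul, b2, mul_one, one_mul]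
    rw [← mul_assoc, b3, mul_assoc, b4, mul_assoc]

theorem lin_eq_one [IsSimpleGroup G] {t s : G} (h : IsFour t s) (f : G →* ℂˣ) (g : G) :
    f g = 1 := by
  have ht := mul_self_of_orderOf_eq_two h.ord_left
  have hs := mul_self_of_orderOf_eq_two h.ord_right
  have h0 : f.ker ≠ ⊥ := by
    intro h0
    have hk : ∀ y, f y = 1 → y = 1 := fun y hy => mem_bot.1 (h0 ▸ MonoidHom.mem_ker.2 hy)
    have a : ∀ y, orderOf y = 2 → (f y : ℂ) = -1 := fun y hy => by
      have h1 : (f y : ℂ) * f y = 1 := by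
        rw [← Units.val_mul, ← map_mul, mul_self_of_orderOf_eq_two hy, map_one, Units.val_one]
      refine (mul_self_eq_one_iff.1 h1).resolve_left fun h2 => ?_
      rw [hk y (Units.ext h2)] at hy
      simp at hy
    have h1 := hk (t * s) (Units.ext (by
      rw [map_mul, Units.val_mul, a t h.ord_left, a s h.ord_right]; simp))
    exact h.ne (by rw [← mul_one t, ← hs, ← mul_assoc, h1, one_mul])
  have := (IsSimpleGroup.eq_bot_or_eq_top_of_normal f.ker inferInstance).resolve_left h0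
  exact MonoidHom.mem_ker.1 (this ▸ mem_top g)

/-- A character which is constant on `K V^#`. -/
theorem exists_quarter [IsSimpleGroup G] {t s : G} (h : IsFour t s) {χ : G → ℂ}
    (hχ : IsCharacter G χ) {K : Subgroup G} (ho : Odd (Nat.card K)) (hKt : ∀ x ∈ K, Commute x t)
    (hKs : ∀ x ∈ K, Commute x s) {c : ℤ} (h1 : ∀ x ∈ K, χ (x * t) = c)
    (h2 : ∀ x ∈ K, χ (x * s) = c) (h3 : ∀ x ∈ K, χ (x * (t * s)) = c) :
    ∃ α : K → ℂ, IsCharacter K α ∧ (∀ x : K, χ x = 4 * α x + c) ∧ ∀ x, detChar α x = 1 := by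
  have h4 := isCharacter_four_part hχ (mul_self_of_orderOf_eq_two h.ord_left)
    (mul_self_of_orderOf_eq_two h.ord_right) h.comm hKt hKs
  set α : K → ℂ := fun x => (χ x + χ (x * t) - χ (x * s) - χ (x * (t * s))) / 4 with hα
  have h5 : ∀ x : K, χ x = 4 * α x + c := fun x => by
    simp only [hα, h1 x x.2, h2 x x.2, h3 x x.2]; ring
  refine ⟨α, h4, h5, fun x => ?_⟩
  have h6 : χ ∘ K.subtype + (((-c).toNat : ℕ) : ℂ) • (fun _ => 1) =
      ((4 : ℕ) : ℂ) • α + ((c.toNat : ℕ) : ℂ) • (fun _ => 1) := by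
    ext y
    have : ((c.toNat : ℕ) : ℂ) - (((-c).toNat : ℕ) : ℂ) = c := by
      exact_mod_cast congrArg (Int.cast : ℤ → ℂ) (Int.toNat_sub_toNat_neg c)
    simp only [Pi.add_apply, Function.comp_apply, coe_subtype, Pi.smul_apply, smul_eq_mul, h5]
    push_cast
    linear_combination -this
  have h7 := congrFun (congrArg detChar h6) x
  have h8 : detChar (fun _ : K => (1 : ℂ)) = fun _ => 1 :=
    IsCharacter.one.detChar_of_apply_one_eq_one rfl
  rw [(hχ.comp _).detChar_add (IsCharacter.one.nsmul _),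
    (h4.nsmul _).detChar_add (IsCharacter.one.nsmul _), IsCharacter.one.detChar_nsmul,
    IsCharacter.one.detChar_nsmul, h4.detChar_nsmul, hχ.detChar_comp, h8] at h7
  have h9 : detChar χ x = 1 := by rw [← coe_detHom, lin_eq_one h, Units.val_one]
  simp only [Pi.mul_apply, Function.comp_apply, coe_subtype, Pi.pow_apply, one_pow, mul_one,
    h9] at h7
  have h10 : detChar α x ^ Nat.card K = 1 := by
    rw [← detChar_map_pow, pow_card_eq_one', detChar_apply_one]
  have h11 : Nat.Coprime 4 (Nat.card K) :=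
    Nat.Coprime.pow_left 2 (Nat.coprime_two_left.2 ho)
  exact (pow_eq_one_iff_of_coprime h11).1 ⟨h7.symm, h10⟩

theorem eq_bot_of_quarter [IsSimpleGroup G] {t s : G} (h : IsFour t s) {χ : IrrCharacter G}
    (hχ : χ ≠ IrrCharacter.one G) {K : Subgroup G} (ho : Odd (Nat.card K))
    (hKt : ∀ x ∈ K, Commute x t) (hKs : ∀ x ∈ K, Commute x s) {c : ℤ}
    (h1 : ∀ x ∈ K, χ (x * t) = c) (h2 : ∀ x ∈ K, χ (x * s) = c)
    (h3 : ∀ x ∈ K, χ (x * (t * s)) = c) (hd : χ 1 = 4 + c) : K = ⊥ := by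
  obtain ⟨α, a1, a2, a3⟩ := exists_quarter h χ.isCharacter ho hKt hKs h1 h2 h3
  have a4 : α 1 = 1 := by
    have := a2 1
    rw [OneMemClass.coe_one, hd] at this
    linear_combination -this / 4
  rw [a1.detChar_of_apply_one_eq_one a4] at a3
  refine (eq_bot_iff_forall _).2 fun x hx => IrrCharacter.faithful_of_isSimpleGroup hχ x ?_
  have := a2 ⟨x, hx⟩
  rw [a3, mul_one] at this
  rw [hd]; exact this

theorem isCyclic_of_quarter [IsSimpleGroup G] {t s : G} (h : IsFour t s) {χ : IrrCharacter G}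
    (hχ : χ ≠ IrrCharacter.one G) (hr : χ.bar = χ) {K : Subgroup G} (ho : Odd (Nat.card K))
    [IsMulCommutative K] (hKt : ∀ x ∈ K, Commute x t) (hKs : ∀ x ∈ K, Commute x s) {c : ℤ}
    (h1 : ∀ x ∈ K, χ (x * t) = c) (h2 : ∀ x ∈ K, χ (x * s) = c)
    (h3 : ∀ x ∈ K, χ (x * (t * s)) = c) (hd : χ 1 = 12 + c) : IsCyclic K := by
  classical
  haveI := Fintype.ofFinite K
  obtain ⟨α, a1, a2, a3⟩ := exists_quarter h χ.isCharacter ho hKt hKs h1 h2 h3
  have a4 : charDegree α = 3 := charDegree_eq_of_apply_one (by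
    have := a2 1
    rw [OneMemClass.coe_one, hd] at this
    push_cast
    linear_combination -this / 4)
  have a5 : ∀ x, α x⁻¹ = α x := fun x => by
    have e1 := a2 x⁻¹
    rw [Subgroup.coe_inv, χ.apply_inv, ← χ.bar_apply, hr, a2] at e1
    linear_combination -e1 / 4
  obtain ⟨f, hf, hf'⟩ := a1.exists_eq_sum_monoidHom
  revert f
  rw [a4]
  intro f hf hf'
  simp only [Fin.sum_univ_three, Fin.prod_univ_three, a3] at hf hf'
  have hp : ∀ x, f 0 x * f 1 x * f 2 x = 1 := fun x => Units.ext (by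
    simpa using (hf' x).symm)
  have key : ∀ g : K →* ℂˣ, (∀ x, g x = 1 → f 0 x = 1 ∧ f 1 x = 1 ∧ f 2 x = 1) → IsCyclic K := by
    intro g hg
    refine isCyclic_of_injective_ringHom ((Units.coeHom ℂ).comp g) ?_
    rw [injective_iff_map_eq_one]
    intro x hx
    obtain ⟨b0, b1, b2⟩ := hg x (Units.ext hx)
    refine Subtype.ext (IrrCharacter.faithful_of_isSimpleGroup hχ x ?_)
    rw [a2, hf, b0, b1, b2, hd]; push_cast; ring
  have hsum : ∀ g : K →* ℂˣ, ∑ x, (g x : ℂ) = if g = 1 then (Fintype.card K : ℂ) else 0 := by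
    intro g
    split_ifs with hg
    · simp [hg]
    · refine sum_hom_units_eq_zero ((Units.coeHom ℂ).comp g) fun h0 => hg ?_
      ext x
      exact DFunLike.congr_fun h0 x
  have hc : (Fintype.card K : ℂ) ≠ 0 := Nat.cast_ne_zero.2 Fintype.card_ne_zero
  by_cases c0 : f 0 * f 0 = 1
  · have : ∀ x, f 0 x = 1 := fun x => by
      refine (pow_eq_one_iff_of_coprime (Nat.coprime_two_left.2 ho)).1 ⟨?_, ?_⟩
      · rw [sq]; exact DFunLike.congr_fun c0 x
      · rw [← map_pow, pow_card_eq_one', map_one]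
    refine key (f 1) fun x hx => ⟨this x, hx, ?_⟩
    simpa [this x, hx] using hp x
  by_cases c1 : f 0 * f 1 = 1
  · refine key (f 0) fun x hx => ?_
    have e : f 0 x * f 1 x = 1 := DFunLike.congr_fun c1 x
    exact ⟨hx, by simpa [hx] using e, by simpa [e] using hp x⟩
  by_cases c2 : f 0 * f 2 = 1
  · refine key (f 0) fun x hx => ?_
    have e : f 0 x * f 2 x = 1 := DFunLike.congr_fun c2 x
    have e' : f 2 x = 1 := by simpa [hx] using e
    exact ⟨hx, by simpa [hx, e'] using hp x, e'⟩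
  exfalso
  have e1 : ∑ x, (f 0 x : ℂ) * α x = 0 := by
    have b0 := hsum (f 0 * f 0)
    have b1 := hsum (f 0 * f 1)
    have b2 := hsum (f 0 * f 2)
    rw [if_neg c0] at b0
    rw [if_neg c1] at b1
    rw [if_neg c2] at b2
    simp only [MonoidHom.mul_apply, Units.val_mul] at b0 b1 b2
    simp only [hf, mul_add, sum_add_distrib, b0, b1, b2, add_zero]
  have e2 : ∑ x, (f 0 x : ℂ) * α x⁻¹ = 0 := by simpa only [a5] using e1
  have b0 := hsum (f 0 * (f 0)⁻¹)
  have b1 := hsum (f 0 * (f 1)⁻¹)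
  have b2 := hsum (f 0 * (f 2)⁻¹)
  rw [if_pos (mul_inv_cancel (f 0))] at b0
  simp only [MonoidHom.mul_apply, MonoidHom.inv_apply, Units.val_mul, ← map_inv] at b0 b1 b2
  simp only [hf, mul_add, sum_add_distrib, b0, b1, b2] at e2
  apply hc
  split_ifs at e2
  · linear_combination e2 / 3
  · linear_combination e2 / 2
  · linear_combination e2 / 2
  · linear_combination e2

open Classical in
/-- Pairs of involutions whose product has `2`-part of order four. -/
theorem sum_pairs_four [Fintype G] {P : Subgroup G} {σ τ J : G} (h : IsDihPair P σ τ)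
    (hP : IsPGroup 2 P) (hi : ¬ 2 ∣ P.index) (hσJ : σ * σ = J) (hJ2 : orderOf J = 2)
    (hone : ∀ t, orderOf t = 2 → IsConj J t) {θ : G → ℂ} (hθ : IsClassFunction G θ)
    (h1 : θ 1 = 0) (h0 : θ J = 0) (hθ2 : ∀ g, θ g = θ (pPart 2 g)) :
    ∑ x ∈ univ.filter (IsConj J), ∑ y ∈ univ.filter (IsConj J), θ (x * y) =
      (centralizer ({J} : Set G)).index * (2 * θ σ *
        (centralizer ({J, τ} : Set G)).relIndex (centralizer {J}) *
          (centralizer ({J, σ * τ} : Set G)).relIndex (centralizer {J})) := by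
  have hJ : J ∈ zpowers σ := hσJ ▸ mul_mem (mem_zpowers σ) (mem_zpowers σ)
  have hv : ∀ g, ¬ 2 ∣ orderOf g → θ g = 0 := fun g hg => by
    rw [hθ2, pPart_eq_one_iff.2 hg, h1]
  rw [sum_invol_pairs hθ hv hJ2 hone]
  congr 1
  obtain ⟨π, hπ1, hπ2, hπ3, hπ4⟩ := h.exists_proj hP hi hJ hJ2
  let C := centralizer ({J} : Set G)
  have hPC : P ≤ C := h.le_centralizer hJ hJ2
  let T : Finset C := univ.filter fun s => s * s = 1 ∧ π s ∉ zpowers σ
  have hJC : ∀ x ∈ C, x * J * x⁻¹ = J := fun x hx => by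
    rw [mem_centralizer_singleton_iff.1 hx, mul_inv_cancel_right]
  -- the value of `θ` on `C`
  have hθπ : ∀ g : C, θ g = θ (π g) := fun g => by
    obtain ⟨x, -, hx⟩ := hπ4 g
    rw [hθ2, ← hx, hθ]
  have hJπ : ∀ g : C, J ∈ zpowers (g : G) ↔ J ∈ zpowers (π g) := fun g => by
    obtain ⟨x, hxC, hx⟩ := hπ4 g
    have e := conj_mem_map_conj (g := x) (x := J) (H := zpowers (pPart 2 (g : G)))
    rw [hJC x hxC] at e
    rw [← hx, zpowers_conj, e]
    refine ⟨fun h' => ?_, fun h' => zpowers_le_of_mem (pPart_mem_zpowers 2 _) h'⟩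
    obtain ⟨k, hk⟩ := (mem_zpowers_iff_mem_range_orderOf.1 h' : J ∈ _) |> mem_image.1
    have e2 : J = pPart 2 (g : G) ^ k := by
      rw [← pPart_pow, hk.2, pPart_eq_self_iff.2 (isPElt_two_of_orderOf hJ2)]
    exact e2 ▸ pow_mem (mem_zpowers _) _
  have hπJ : ∀ s : C, s * s = 1 → s ≠ 1 → π s ∈ zpowers σ → π s = J := fun s hs hs1 hsA => by
    refine eq_of_orderOf_eq_two_of_mem_zpowers hsA hJ (orderOf_eq_two_of_mul_self ?_ ?_) hJ2
    · rw [← map_mul, hs, map_one]
    · intro h0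
      have h2 : IsPRegular 2 s := isPRegular_coe_iff.1 ((hπ3 s).1 h0)
      exact h2 (by rw [orderOf_eq_two_of_mul_self hs hs1])
  -- reduction to `T`
  have step : (∑ x ∈ univ.filter (IsConj J), ∑ y ∈ univ.filter (IsConj J),
      if J ∈ zpowers (x * y) then θ (x * y) else 0) = ∑ s ∈ T, ∑ t ∈ T, θ (π s * π t) := by
    rw [← sum_product', ← sum_product', ← sum_filter]
    symm
    refine sum_bij_ne_zero (fun st _ _ => ((st.1 : G), (st.2 : G))) ?_ ?_ ?_ ?_
    · rintro ⟨s, t⟩ hst hne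
      simp only [T, mem_product, mem_filter, mem_univ, true_and] at hst ⊢
      obtain ⟨⟨hs, hsA⟩, ht, htA⟩ := hst
      have hs1 : s ≠ 1 := by rintro rfl; exact hsA (by simp)
      have ht1 : t ≠ 1 := by rintro rfl; exact htA (by simp)
      refine ⟨⟨hone _ ?_, hone _ ?_⟩, ?_⟩
      · rw [Subgroup.orderOf_coe, orderOf_eq_two_of_mul_self hs hs1]
      · rw [Subgroup.orderOf_coe, orderOf_eq_two_of_mul_self ht ht1]
      · rw [← Subgroup.coe_mul, hJπ, map_mul]
        refine h.mem_zpowers_of_ne_one hP hJ hJ2 (h.mul_mem_of_notMem (hπ1 s) hsA (hπ1 t) htA) ?_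
        intro h0
        rw [h0, h1] at hne
        exact hne rfl
    · rintro ⟨s, t⟩ _ _ ⟨s', t'⟩ _ _ he
      simp only [Prod.mk.injEq, Subtype.coe_inj] at he
      exact Prod.ext he.1 he.2
    · rintro ⟨x, y⟩ hxy hne
      simp only [mem_product, mem_filter, mem_univ, true_and] at hxy
      obtain ⟨⟨hx, hy⟩, hJxy⟩ := hxy
      have hx2 : orderOf x = 2 := by
        obtain ⟨c, rfl⟩ := isConj_iff.1 hx; rw [orderOf_conj_eq, hJ2]
      have hy2 : orderOf y = 2 := by
        obtain ⟨c, rfl⟩ := isConj_iff.1 hy; rw [orderOf_conj_eq, hJ2]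
      obtain ⟨hxC, hyC⟩ := mem_centralizer_of_mem_zpowers_mul (mul_self_of_orderOf_eq_two hx2)
        (mul_self_of_orderOf_eq_two hy2) hJ2 hJxy
      let s : C := ⟨x, hxC⟩
      let t : C := ⟨y, hyC⟩
      have hs : s * s = 1 := Subtype.ext (mul_self_of_orderOf_eq_two hx2)
      have ht : t * t = 1 := Subtype.ext (mul_self_of_orderOf_eq_two hy2)
      have hs1 : s ≠ 1 := fun h0 => by
        have : x = 1 := congrArg Subtype.val h0
        simp [this] at hx2
      have ht1 : t ≠ 1 := fun h0 => by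
        have : y = 1 := congrArg Subtype.val h0
        simp [this] at hy2
      have hJst : J ∈ zpowers (π s * π t) := by rw [← map_mul, ← hJπ]; exact hJxy
      have hA : π s * π t ∈ zpowers σ := by
        by_contra hn
        have h2 := h.mul_self_of_notMem (mul_mem (hπ1 s) (hπ1 t)) hn
        have h3 : π s * π t ≠ 1 := fun h0 => hn (h0 ▸ one_mem _)
        rcases eq_one_or_eq_of_mem_zpowers_of_orderOf_two (orderOf_eq_two_of_mul_self h2 h3) hJst
          with h4 | h4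
        · simp [h4] at hJ2
        · exact hn (h4 ▸ hJ)
      have hne' : ¬ (π s ∈ zpowers σ ∧ π t ∈ zpowers σ) := by
        rintro ⟨h2, h3⟩
        rw [hπJ s hs hs1 h2, hπJ t ht ht1 h3, mul_self_of_orderOf_eq_two hJ2, zpowers_one_eq_bot,
          mem_bot] at hJst
        simp [hJst] at hJ2
      refine ⟨(s, t), ?_, ?_, rfl⟩
      · simp only [T, mem_product, mem_filter, mem_univ, true_and]
        exact ⟨⟨hs, fun h2 => hne' ⟨h2, (mul_mem_cancel_left h2).1 hA⟩⟩,
          ht, fun h2 => hne' ⟨(mul_mem_cancel_right h2).1 hA, h2⟩⟩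
      · rw [← map_mul, ← hθπ]; exact hne
    · rintro ⟨s, t⟩ _ _
      rw [← map_mul, ← hθπ]; rfl
  rw [step]
  -- the cardinality of `T`
  let t₁ : C := ⟨τ, hPC h.mem_τ⟩
  let t₂ : C := ⟨σ * τ, hPC (mul_mem h.mem_σ h.mem_τ)⟩
  have ht₁ : π t₁ = τ := hπ2 _ h.mem_τ
  have ht₂ : π t₂ = σ * τ := hπ2 _ (mul_mem h.mem_σ h.mem_τ)
  have hστ := h.mul_τ_notMem (mem_zpowers σ)
  have hconjA : ∀ x ∈ P, ∀ y ∈ P, y ∉ zpowers σ → x * y * x⁻¹ ∉ zpowers σ := by
    intro x hx y hy hyn h2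
    have := h.conj_cases (inv_mem hx) h2
    simp only [inv_inv, mul_assoc, inv_mul_cancel, mul_one, inv_mul_cancel_left] at this
    rcases this with h3 | h3
    · exact hyn (h3 ▸ by simpa [mul_assoc] using h2)
    · exact hyn (h3 ▸ by simpa [mul_assoc] using inv_mem h2)
  have hT : T = univ.filter (IsConj t₁) ∪ univ.filter (IsConj t₂) := by
    ext s
    simp only [T, mem_filter, mem_univ, true_and, mem_union]
    constructor
    · rintro ⟨hs, hsA⟩
      obtain ⟨x, hxC, hx⟩ := hπ4 s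
      have hs2 : IsPElt 2 (s : G) := isPElt_iff_pow_eq_one.2 ⟨1, by
        rw [pow_one, pow_two]; exact congrArg Subtype.val hs⟩
      rw [pPart_eq_self_iff.2 hs2] at hx
      obtain ⟨a, ha, ha'⟩ := h.exists_conj_eq (hπ1 s) hsA
      let y : C := ⟨x, hxC⟩⁻¹ * ⟨a, hPC (h.zpowers_le ha)⟩
      rcases ha' with ha' | ha'
      · refine Or.inl (isConj_iff.2 ⟨y, Subtype.ext ?_⟩)
        simp only [y, t₁, Subgroup.coe_mul, Subgroup.coe_inv, mul_inv_rev, inv_inv]
        rw [mul_assoc x⁻¹, mul_assoc x⁻¹, ← mul_assoc _ a⁻¹, ha', ← hx]; group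
      · refine Or.inr (isConj_iff.2 ⟨y, Subtype.ext ?_⟩)
        simp only [y, t₂, Subgroup.coe_mul, Subgroup.coe_inv, mul_inv_rev, inv_inv]
        rw [mul_assoc x⁻¹, mul_assoc x⁻¹, ← mul_assoc _ a⁻¹, ha', ← hx]; group
    · rintro (hs | hs) <;> obtain ⟨y, rfl⟩ := isConj_iff.1 hs
      · refine ⟨?_, ?_⟩
        · rw [conj_mul, conj_eq_one_iff]; exact Subtype.ext h.mul_self
        · rw [map_mul, map_mul, map_inv, ht₁]; exact hconjA _ (hπ1 y) _ h.mem_τ h.notMem
      · refine ⟨?_, ?_⟩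
        · rw [conj_mul, conj_eq_one_iff]
          exact Subtype.ext (h.mul_self_of_notMem (mul_mem h.mem_σ h.mem_τ) hστ)
        · rw [map_mul, map_mul, map_inv, ht₂]
          exact hconjA _ (hπ1 y) _ (mul_mem h.mem_σ h.mem_τ) hστ
  have hdisj : Disjoint (univ.filter (IsConj t₁)) (univ.filter (IsConj t₂)) := by
    rw [disjoint_filter]
    intro s _ hs1 hs2
    obtain ⟨y, hy⟩ := isConj_iff.1 (hs1.trans hs2.symm)
    have h2 := congrArg π hy
    rw [map_mul, map_mul, map_inv, ht₁, ht₂] at h2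
    have h3 : ∃ a ∈ zpowers σ, a * τ * a⁻¹ = σ * τ := by
      by_cases hyA : π y ∈ zpowers σ
      · exact ⟨_, hyA, h2⟩
      · obtain ⟨a, ha, ha'⟩ := h.exists_eq_mul (hπ1 y) hyA
        refine ⟨a, ha, ?_⟩
        rw [← h2, ha']; group
    obtain ⟨a, ha, ha'⟩ := h3
    have h4 : a * a = σ := by
      have h5 := h.τ_conj (inv_mem ha)
      rw [inv_inv, mul_inv_eq_iff_eq_mul] at h5
      rw [mul_assoc, h5, ← mul_assoc] at ha'
      exact mul_right_cancel ha'
    obtain ⟨k, rfl⟩ := mem_zpowers_iff.1 ha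
    have h5 : σ ^ (2 * k - 1) = 1 := by
      rw [zpow_sub_one, two_mul, zpow_add, h4, mul_inv_cancel]
    have h6 : (2 : ℤ) ∣ 2 * k - 1 := by
      refine dvd_trans ?_ (orderOf_dvd_iff_zpow_eq_one.2 h5)
      exact_mod_cast hJ2 ▸ orderOf_dvd_of_mem_zpowers hJ
    omega
  have hJJ := mul_self_of_orderOf_eq_two hJ2
  have hJσ : J * σ = σ⁻¹ := by
    rw [eq_inv_iff_mul_eq_one, mul_assoc, hσJ, hJJ]
  have hJσ' : J * σ⁻¹ = σ := by rw [← hσJ, mul_inv_cancel_right]
  have hθi : θ σ⁻¹ = θ σ := (hθ.eq_of_isConj (h.isConj_inv (mem_zpowers σ))).symm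
  have hθJ : ∀ j ∈ zpowers J, θ j = 0 ∧ θ (j * σ) = θ σ ∧ θ (j * σ⁻¹) = θ σ := fun j hj => by
    rcases eq_one_or_eq_of_mem_zpowers_of_orderOf_two hJ2 hj with rfl | rfl
    · simp [h1, hθi]
    · simp [h0, hJσ, hJσ', hθi]
  have hsq : ∀ a ∈ zpowers σ, a * a ∈ zpowers J := fun a ha => by
    obtain ⟨k, rfl⟩ := mem_zpowers_iff.1 ha
    rw [← (Commute.refl σ).mul_zpow, hσJ]
    exact zpow_mem (mem_zpowers J) k
  have hτa : ∀ a ∈ zpowers σ, τ * a = a⁻¹ * τ := fun a ha => by
    rw [← h.τ_conj ha, inv_mul_cancel_right]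
  have hcj : ∀ b ∈ zpowers σ, ∀ y ∈ P, ∃ j ∈ zpowers J, y * (b * τ) * y⁻¹ = j * (b * τ) := by
    intro b hb y hy
    have e : ∀ a ∈ zpowers σ, ∀ c ∈ zpowers σ, a * (c * τ) * a⁻¹ = a * a * (c * τ) := by
      intro a ha c hc
      rw [mul_assoc, mul_assoc, hτa _ (inv_mem ha), inv_inv, ← mul_assoc c, h.comm hc ha,
        mul_assoc, mul_assoc]
    by_cases hyA : y ∈ zpowers σ
    · exact ⟨_, hsq y hyA, e y hyA b hb⟩
    · obtain ⟨a, ha, rfl⟩ := h.exists_eq_mul hy hyA
      refine ⟨a * a * (b * b)⁻¹, mul_mem (hsq a ha) (inv_mem (hsq b hb)), ?_⟩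
      have e2 : a * τ * (b * τ) * (a * τ)⁻¹ = a * (τ * b) * a⁻¹ := by group
      rw [e2, hτa b hb, e a ha _ (inv_mem hb)]
      group
  have hπT : ∀ (u : C) (b : G), b ∈ zpowers σ → π u = b * τ → ∀ s ∈ univ.filter (IsConj u),
      ∃ j ∈ zpowers J, π s = j * (b * τ) := by
    intro u b hb hu s hs
    obtain ⟨y, rfl⟩ := isConj_iff.1 (mem_filter.1 hs).2
    rw [map_mul, map_mul, map_inv, hu]
    exact hcj b hb _ (hπ1 y)
  have hJA : zpowers J ≤ zpowers σ := zpowers_le.2 hJ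
  have hval : ∀ (u v : C) (b c : G), b ∈ zpowers σ → c ∈ zpowers σ → π u = b * τ → π v = c * τ →
      ∀ z : ℂ, (∀ j ∈ zpowers J, θ (j * (b * c⁻¹)) = z) →
      ∑ s ∈ univ.filter (IsConj u), ∑ t ∈ univ.filter (IsConj v), θ (π s * π t) =
        (univ.filter (IsConj u)).card * (univ.filter (IsConj v)).card * z := by
    intro u v b c hb hc hu hv z hz
    rw [sum_congr rfl (g := fun _ => (univ.filter (IsConj v)).card * z) fun s hs => ?_]
    · simp only [sum_const, nsmul_eq_mul, mul_assoc]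
    rw [sum_congr rfl (g := fun _ => z) fun t ht => ?_]
    · simp only [sum_const, nsmul_eq_mul]
    obtain ⟨j, hj, e1⟩ := hπT u b hb hu s hs
    obtain ⟨j', hj', e2⟩ := hπT v c hc hv t ht
    rw [← hz (j * j'⁻¹) (mul_mem hj (inv_mem hj')), e1, e2]
    congr 1
    have e3 := hτa _ (mul_mem (hJA hj') hc)
    calc j * (b * τ) * (j' * (c * τ)) = j * b * (τ * (j' * c)) * τ := by group
      _ = j * (b * (c⁻¹ * j'⁻¹)) * (τ * τ) := by rw [e3]; group
      _ = j * j'⁻¹ * (b * c⁻¹) := by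
        rw [h.mul_self, mul_one, ← mul_assoc b,
          h.comm (mul_mem hb (inv_mem hc)) (inv_mem (hJA hj')), mul_assoc]
  have ht₁' : π t₁ = 1 * τ := by rw [one_mul, ht₁]
  have o := one_mem (zpowers σ)
  have m := mem_zpowers σ
  rw [hT, sum_union hdisj]
  simp only [sum_union hdisj, sum_add_distrib]
  rw [hval _ _ _ _ o o ht₁' ht₁' 0 (fun j hj => by simpa using (hθJ j hj).1),
    hval _ _ _ _ o m ht₁' ht₂ (θ σ) (fun j hj => by simpa using (hθJ j hj).2.2),
    hval _ _ _ _ m o ht₂ ht₁' (θ σ) (fun j hj => by simpa using (hθJ j hj).2.1),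
    hval _ _ _ _ m m ht₂ ht₂ 0 (fun j hj => by simpa using (hθJ j hj).1),
    card_filter_isConj, card_filter_isConj, card_conj_centralizer, card_conj_centralizer]
  ring

section Block

variable {M : Ideal AlgInt} {P : Subgroup G} {σ τ J : G}

theorem dih_sum_eq (h : IsDihPair P σ τ) [Fintype P] (F : G → ℂ) :
    ∑ a : P, F a = ∑ k ∈ range (orderOf σ), (F (σ ^ k) + F (σ ^ k * τ)) := by
  classical
  haveI := Fintype.ofFinite G
  have e : univ.filter (· ∈ P) = (range (orderOf σ)).image (σ ^ ·) ∪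
      (range (orderOf σ)).image (σ ^ · * τ) := by
    ext y
    simp only [mem_filter, mem_univ, true_and, mem_union]
    constructor
    · intro hy
      by_cases hA : y ∈ zpowers σ
      · exact Or.inl (mem_zpowers_iff_mem_range_orderOf.1 hA)
      · obtain ⟨a, ha, rfl⟩ := h.exists_eq_mul hy hA
        obtain ⟨k, hk, rfl⟩ := mem_image.1 (mem_zpowers_iff_mem_range_orderOf.1 ha)
        exact Or.inr (mem_image.2 ⟨k, hk, rfl⟩)
    · rintro (hy | hy) <;> obtain ⟨k, -, rfl⟩ := mem_image.1 hy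
      · exact pow_mem h.mem_σ k
      · exact mul_mem (pow_mem h.mem_σ k) h.mem_τ
  have inj : Set.InjOn (σ ^ ·) (range (orderOf σ) : Set ℕ) := by
    rw [coe_range]; exact pow_injOn_Iio_orderOf
  rw [← sum_subtype (univ.filter (· ∈ P)) (by simp) F, e, sum_union, sum_image inj,
    sum_image fun a ha b hb hab => inj ha hb (mul_right_cancel hab), sum_add_distrib]
  rw [disjoint_left]
  intro y h1 h2
  obtain ⟨k, -, rfl⟩ := mem_image.1 h1
  obtain ⟨l, -, hl⟩ := mem_image.1 h2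
  exact h.mul_τ_notMem (pow_mem (mem_zpowers σ) l) (hl ▸ pow_mem (mem_zpowers σ) k)

theorem dih_val_mul (h : IsDihPair P σ τ) (hM : IsPModular 2 M) (hP : IsPGroup 2 P)
    (hi : ¬ 2 ∣ P.index) (hJ : J ∈ zpowers σ) (hJ2 : orderOf J = 2)
    (hone : ∀ t, orderOf t = 2 → IsConj J t) {χ : IrrCharacter G} (hχ : χ ∈ principalBlock M G)
    {v y : G} (hv : orderOf v = 2) (hy : IsPRegular 2 y) (hc : Commute y v) : χ (y * v) = χ J := by
  refine h.irr_apply_eq hM hP hi hJ hJ2 hJ (by rintro rfl; simp at hJ2) hχ ?_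
  rw [hc.eq, pPart_mul_eq hc.symm (isPElt_two_of_orderOf hv) hy]
  exact (hone v hv).symm

theorem IsFour.ord_mul {t s : G} (h : IsFour t s) : orderOf (t * s) = 2 := by
  have ht := mul_self_of_orderOf_eq_two h.ord_left
  have hs := mul_self_of_orderOf_eq_two h.ord_right
  refine orderOf_eq_two_of_mul_self ?_ fun h1 => h.ne ?_
  · rw [h.comm.symm.mul_mul_mul_comm, ht, hs, one_mul]
  · rw [← mul_one t, ← hs, ← mul_assoc, h1, one_mul]

theorem dih_vals (h : IsDihPair P σ τ) (hM : IsPModular 2 M) (hP : IsPGroup 2 P)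
    (hi : ¬ 2 ∣ P.index) (hJ : J ∈ zpowers σ) (hone : ∀ t, orderOf t = 2 → IsConj J t)
    {χ : IrrCharacter G} (hχ : χ ∈ principalBlock M G) {v : G} (h4 : IsFour J v) {K : Subgroup G}
    (ho : Odd (Nat.card K)) (hKt : ∀ x ∈ K, Commute x J) (hKs : ∀ x ∈ K, Commute x v) {c : ℤ}
    (hc : χ J = c) : (∀ x ∈ K, χ (x * J) = c) ∧ (∀ x ∈ K, χ (x * v) = c) ∧
      ∀ x ∈ K, χ (x * (J * v)) = c := by
  have r : ∀ x ∈ K, IsPRegular 2 x := fun x hx =>
    isPRegular_of_mem_of_not_dvd ho.not_two_dvd_nat hx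
  have a := fun v y => dih_val_mul h hM hP hi hJ h4.ord_left hone hχ (v := v) (y := y)
  exact ⟨fun x hx => (a _ _ h4.ord_left (r x hx) (hKt x hx)).trans hc,
    fun x hx => (a _ _ h4.ord_right (r x hx) (hKs x hx)).trans hc,
    fun x hx => (a _ _ h4.ord_mul (r x hx) ((hKt x hx).mul_right (hKs x hx))).trans hc⟩

theorem dih_isFour (h : IsDihPair P σ τ) (hJ : J ∈ zpowers σ) (hJ2 : orderOf J = 2) :
    IsFour J τ :=
  ⟨hJ2, orderOf_eq_two_of_mul_self h.mul_self fun h0 => h.notMem (h0 ▸ one_mem _),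
    (mem_centralizer_singleton_iff.1 (h.le_centralizer hJ hJ2 h.mem_τ)).symm,
    fun h0 => h.notMem (h0 ▸ hJ)⟩

theorem sum_ip_secOne (hM : IsPModular 2 M) {u : G} (hu : IsPElt 2 u)
    (hC : HasNormalPComplement 2 (centralizer ({u} : Set G)))
    (hr : ∀ χ : IrrCharacter G, conj (χ u) = χ u)
    (hf : 2 ^ (Nat.card (centralizer ({u} : Set G))).factorization 2 = 4) (J : G) :
    ∑ χ : IrrCharacter G, ip (secOne 2 u) χ.1 * (χ J * χ J / χ 1) =
      (∑ᶠ χ ∈ principalBlock M G, χ u * (χ J * χ J / χ 1)) / 4 := by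
  classical
  have hf' : ((2 : ℕ) : ℂ) ^ (Nat.card (centralizer ({u} : Set G))).factorization 2 = 4 := by
    exact_mod_cast hf
  rw [finsum_mem_irr_eq_sum, sum_filter, sum_div]
  refine sum_congr rfl fun χ _ => ?_
  split_ifs with hχ
  · rw [ip_secOne_irr hM hu hC hχ, hf', hr]; ring
  · rw [ip_secOne_of_notMem hM u hχ]; simp

theorem secOne_pPart (u g : G) : secOne 2 u g = secOne 2 u (pPart 2 g) := by
  classical
  simp only [secOne, Set.indicator, mem_pSection, pPart_pPart]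

theorem v4_abs (h : IsDihPair P J τ) (hP : IsPGroup 2 P) (hi : ¬ 2 ∣ P.index)
    (hJ2 : orderOf J = 2) (hone : ∀ t, orderOf t = 2 → IsConj J t) : ∃ m : Fin 3 → ℤ,
    (∀ i, m i % 4 = 1) ∧ 1 + m 0 + m 1 + m 2 = 0 ∧
    ((centralizer ({J} : Set G)).index : ℚ) * (1 + 1 / m 0 + 1 / m 1 + 1 / m 2) =
      8 * ((centralizer ({J, τ} : Set G)).relIndex (centralizer {J}) : ℚ) ^ 2 ∧
    (∀ i, m i = 1 → ∃ N : Subgroup G, N.Normal ∧ N ≠ ⊤ ∧ centralizer {J} ≤ N) ∧
    (IsSimpleGroup G → ∀ i, m i = 5 ∨ m i = -3 → ∀ K : Subgroup G, Odd (Nat.card K) →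
      (∀ x ∈ K, Commute x J) → (∀ x ∈ K, Commute x τ) → K = ⊥) := by
  classical
  haveI := Fintype.ofFinite G
  obtain ⟨M, hM⟩ := exists_isPModular Nat.prime_two
  obtain ⟨χ, ε, h1, hB, hε, hv, hF⟩ := exists_principal_klein hM h hP hi hJ2
  have hm := mem_zpowers J
  have h4 := dih_isFour h hm hJ2
  have hJJ := mul_self_of_orderOf_eq_two hJ2
  have hJ1 : J ≠ 1 := by rintro rfl; simp at hJ2
  have hd : ∀ i, 0 < charDegree (χ i).1 := fun i => (χ i).charDegree_pos
  refine ⟨fun i => ε i * charDegree (χ i).1, fun i => ?_, ?_, ?_, fun i hi1 => ?_,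
    fun hs i hi5 K ho hKt hKs => ?_⟩
  · obtain ⟨a1, a2, a3⟩ := dih_vals h hM hP hi hm hone (hB i) h4 (K := ⊥) (by simp) (by simp)
      (by simp) (hv i)
    have a4 := (isCharacter_four_part (χ i).isCharacter hJJ h.mul_self h4.comm (K := ⊥) (by simp)
      (by simp)).apply_one
    simp only [OneMemClass.coe_one, a1 1 (one_mem _), a2 1 (one_mem _), a3 1 (one_mem _),
      (χ i).apply_one] at a4
    generalize charDegree (G := (⊥ : Subgroup G)) _ = n at a4
    have a5 : (charDegree (χ i).1 : ℤ) = 4 * n + ε i := by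
      have : ((charDegree (χ i).1 : ℤ) : ℂ) = (4 * n + ε i : ℤ) := by
        push_cast; linear_combination 4 * a4
      exact_mod_cast this
    simp only [a5]
    rcases hε i with e | e <;> rw [e] <;> omega
  · have := Agent.S4479.deg_rel (G := G) hM hJ2
    rw [hF] at this
    simp only [IrrCharacter.one_apply, hv, IrrCharacter.apply_one] at this
    apply Int.cast_injective (α := ℂ)
    push_cast
    linear_combination this
  · have hJe := isPElt_two_of_orderOf hJ2
    have hs1 : secOne 2 J 1 = 0 := secOne_of_notMem (by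
      rw [mem_pSection, pPart_one, isConj_one_right]; exact hJ1)
    have hsJ : secOne 2 J J = 1 := secOne_of_mem (self_mem_pSection hJe)
    have k := h.sum_pairs hP hi hm hJ2 hone (isClassFunction_secOne 2 J) hs1 (secOne_pPart J)
      (Or.inl rfl) (N := 2) two_ne_zero (c := 1 / 2) (fun a ha => by
        rcases eq_one_or_eq_of_mem_zpowers_of_orderOf_two hJ2 ha with rfl | rfl <;>
          simp [sum_range_succ, hs1, hsJ, hJJ])
    have hc : centralizer ({J, J * τ} : Set G) = centralizer {J, τ} := by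
      ext g
      simp only [mem_centralizer_iff, Set.mem_insert_iff, Set.mem_singleton_iff, forall_eq_or_imp,
        forall_eq]
      refine and_congr_right fun a => ?_
      rw [mul_assoc, ← mul_assoc g, ← a, mul_assoc, mul_right_inj]
    rw [hc, (isClassFunction_secOne 2 J).sum_class_mul_class,
      sum_ip_secOne hM hJe (h.hasNormalPComplement hP hi hm hJ2) (fun χ => h.conj_irr_apply χ hm)
        (by rw [h.factorization_centralizer_J hP hi hm hJ2, hJ2]), hF] at k
    simp only [IrrCharacter.one_apply, hv, IrrCharacter.apply_one] at k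
    have i0 : ((centralizer ({J} : Set G)).index : ℂ) ≠ 0 := by exact_mod_cast (index_pos _).ne'
    have e : ∀ i, (ε i : ℂ) * (ε i * ε i / charDegree (χ i).1) =
        1 / (ε i * charDegree (χ i).1) := fun i => by
      rcases hε i with e | e <;> simp [e, div_eq_mul_inv]
    rw [e, e, e] at k
    apply Rat.cast_injective (α := ℂ)
    push_cast
    apply mul_left_cancel₀ i0
    linear_combination 4 * k
  · have e1 : ε i = 1 := by
      have := hd i
      rcases hε i with e | e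
      · exact e
      · simp only [e] at hi1; omega
    have e2 : χ i 1 = 1 := by
      rw [(χ i).apply_one]
      simp only [e1, one_mul] at hi1
      exact_mod_cast hi1
    have e3 : χ i J = 1 := by rw [hv, e1, Int.cast_one]
    refine ⟨charKer (χ i).1, inferInstance, fun h0 => h1 i ((χ i).charKer_eq_top_iff.1 h0),
      fun g hg => (χ i).mem_charKer.2 ?_⟩
    rw [e2]
    by_cases hr : IsPRegular 2 g
    · have a := dih_val_mul h hM hP hi hm hJ2 hone (hB i) hJ2 hr
        (mem_centralizer_singleton_iff.1 hg)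
      obtain ⟨f, hf⟩ := (χ i).isCharacter.exists_monoidHom e2
      simp only [hf, map_mul, Units.val_mul] at a e3 ⊢
      simpa [e3] using a
    · obtain ⟨a, ha, hc⟩ := h.exists_isConj hP hi hm hone (isPElt_pPart 2 g)
      rcases eq_one_or_eq_of_mem_zpowers_of_orderOf_two hJ2 ha with rfl | rfl
      · exact absurd (pPart_eq_one_iff.1 (isConj_one_left.1 hc)) hr
      · rw [h.irr_apply_eq hM hP hi hm hJ2 hm hJ1 (hB i) hc, e3]
  · obtain ⟨a1, a2, a3⟩ := dih_vals h hM hP hi hm hone (hB i) h4 ho hKt hKs (hv i)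
    refine eq_bot_of_quarter h4 (h1 i) ho hKt hKs a1 a2 a3 ?_
    have := hd i
    have a5 : (charDegree (χ i).1 : ℤ) = 4 + ε i := by
      rcases hε i with e | e <;> simp only [e] at hi5 ⊢ <;> omega
    rw [(χ i).apply_one]
    exact_mod_cast a5

theorem d8_abs (h : IsDihPair P σ τ) (hP : IsPGroup 2 P) (hi : ¬ 2 ∣ P.index) (hσJ : σ * σ = J)
    (hJ2 : orderOf J = 2) (hone : ∀ t, orderOf t = 2 → IsConj J t) : ∃ m₁ m₂ m₃ : ℤ,
    m₁ % 8 = 1 ∧ m₁ ≠ 1 ∧ m₂ % 8 = 3 ∧ m₃ % 8 = 3 ∧ 1 + m₁ + m₂ + m₃ = 0 ∧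
    ((centralizer ({J} : Set G)).index : ℚ) * (1 + 1 / m₁ + 1 / m₂ + 1 / m₃) =
      8 * ((centralizer ({J, τ} : Set G)).relIndex (centralizer {J}) : ℚ) *
        ((centralizer ({J, σ * τ} : Set G)).relIndex (centralizer {J}) : ℚ) ∧
    ((centralizer ({J} : Set G)).index : ℚ) * (m₁ - 1) ^ 2 = 2 * m₁ * (m₁ + 1) *
      (((centralizer ({J, τ} : Set G)).relIndex (centralizer {J}) : ℚ) +
        ((centralizer ({J, σ * τ} : Set G)).relIndex (centralizer {J}) : ℚ)) ^ 2 ∧
    (IsSimpleGroup G → m₁ = -7 ∨ (m₂ = 3 ∨ m₂ = -5) ∨ (m₃ = 3 ∨ m₃ = -5) → ∀ v, IsFour J v →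
      ∀ K : Subgroup G, Odd (Nat.card K) → (∀ x ∈ K, Commute x J) → (∀ x ∈ K, Commute x v) →
        K = ⊥) ∧
    (IsSimpleGroup G → m₁ = -15 → ∀ K : Subgroup G, Nat.card K = 9 → (∀ x ∈ K, Commute x J) →
      (∀ x ∈ K, Commute x τ) → IsCyclic K) := by
  classical
  haveI := Fintype.ofFinite G
  obtain ⟨M, hM⟩ := exists_isPModular Nat.prime_two
  have hm := mem_zpowers σ
  have hJ : J ∈ zpowers σ := hσJ ▸ mul_mem hm hm
  have h4 := dih_isFour h hJ hJ2
  have hJJ := mul_self_of_orderOf_eq_two hJ2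
  have hJ1 : J ≠ 1 := by rintro rfl; simp at hJ2
  have hσ2 : σ ^ 2 = J := by rw [pow_two, hσJ]
  have hσ4 : orderOf σ = 2 * 2 := by
    have := orderOf_eq_prime_pow (p := 2) (n := 1) (x := σ) (by simpa [hσ2] using hJ1)
      (by rw [show 2 ^ (1 + 1) = 2 * 2 from rfl, pow_mul, hσ2, pow_two, hJJ])
    simpa using this
  have hσ3 : σ ^ 3 = σ⁻¹ := by
    rw [eq_inv_iff_mul_eq_one, ← pow_succ, ← pow_orderOf_eq_one σ, hσ4]
  have hσe := h.isPElt hP hm
  have hJe := isPElt_two_of_orderOf hJ2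
  obtain ⟨-, χ₁, χ₂, χ₃, χ', δ₁, δ₂, δ₃, d₁, d₂, d₃, -, n1, n2, n3, n12, n13, n23, hne, hB, hv, hρ⟩ :=
    Agent.S4481.main h hM hP hi even_two two_pos hσ4 Complex.isPrimitiveRoot_I
  let j : Fin (2 - 1) := ⟨0, by norm_num⟩
  have hj : ∀ k : Fin (2 - 1), k = j := fun k => Fin.ext (by have := k.2; omega)
  obtain ⟨nY1, nY2, nY3, nY⟩ := hne j
  obtain ⟨x1, x2, x3, xY⟩ := hv 1 one_pos (by norm_num)
  obtain ⟨t1, t2, t3, tY⟩ := hv 2 two_pos (by norm_num)
  replace xY := xY j
  replace tY := tY j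
  obtain ⟨r1, r2⟩ := hρ 1 (by simp) j
  set Y := χ' j with hY
  rw [pow_one] at x1 x2 x3 xY
  rw [hσ2] at t1 t2 t3 tY
  norm_num [j] at x2 x3 t2 t3 xY tY
  replace tY : Y J = (-2 * δ₁ : ℤ) := by rw [tY]; push_cast; ring
  have e : ∀ χ : IrrCharacter G, (χ : G → ℂ) = (fun _ => 1) ↔ χ = IrrCharacter.one G :=
    fun χ => ⟨fun h => Subtype.ext h, fun h => h ▸ rfl⟩
  rw [ne_eq, e] at n1 n2 n3 nY
  have hB' : principalBlock M G = ({IrrCharacter.one G, χ₁, χ₂, χ₃, Y} : Finset _) := by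
    rw [hB]; ext χ
    simp only [e, Set.mem_setOf_eq, coe_insert, coe_singleton, Set.mem_insert_iff,
      Set.mem_singleton_iff]
    refine or_congr_right (or_congr_right (or_congr_right (or_congr_right ⟨?_, fun a => ⟨j, a⟩⟩)))
    rintro ⟨k, rfl⟩
    rw [hj k]
  have hF : ∀ F : IrrCharacter G → ℂ, ∑ᶠ χ ∈ principalBlock M G, F χ =
      F (IrrCharacter.one G) + F χ₁ + F χ₂ + F χ₃ + F Y := fun F => by
    rw [hB', finsum_mem_coe_finset,
      sum_insert (by simp [Ne.symm n1, Ne.symm n2, Ne.symm n3, Ne.symm nY]),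
      sum_insert (by simp [n12, n13, Ne.symm nY1]), sum_insert (by simp [n23, Ne.symm nY2]),
      sum_insert (by simp [Ne.symm nY3]), sum_singleton]
    ring
  have b1 : χ₁ ∈ principalBlock M G := by simp [hB']
  have b2 : χ₂ ∈ principalBlock M G := by simp [hB']
  have b3 : χ₃ ∈ principalBlock M G := by simp [hB']
  have bY : Y ∈ principalBlock M G := by simp [hB']
  have hcong : ∀ (χ : IrrCharacter G) (a c : ℤ), χ σ = a → χ J = c →
      (charDegree χ.1 + 5 * c + 2 * a) % 8 = 0 := by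
    intro χ a c ha hc
    have a1 := (χ.isCharacter.avg_mul (K := ⊥) (A := P) (by simp)).apply_one
    have a2 : ∀ k, χ (σ ^ k * τ) = c := fun k => by
      rw [← hc]
      exact (χ.isClassFunction.eq_of_isConj (hone _ (dih_isFour (h.of_notMem
        (mul_mem (pow_mem h.mem_σ k) h.mem_τ) (h.mul_τ_notMem (pow_mem hm k))) hJ
          hJ2).ord_right)).symm
    simp only [OneMemClass.coe_one, one_mul] at a1
    rw [dih_sum_eq h χ.1, h.card_eq, hσ4] at a1
    simp only [a2, sum_range_succ, sum_range_zero, pow_zero, pow_one, hσ2, hσ3, χ.apply_one,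
      ← χ.isClassFunction.eq_of_isConj (h.isConj_inv hm), ha, hc] at a1
    generalize charDegree (G := (⊥ : Subgroup G)) _ = n at a1
    have a5 : ((charDegree χ.1 + 5 * c + 2 * a : ℤ) : ℂ) = (8 * n : ℤ) := by
      push_cast at a1 ⊢; linear_combination 8 * a1
    rw [Int.cast_inj] at a5
    omega
  have c1 := hcong χ₁ δ₁ δ₁ x1 t1
  have c2 := hcong χ₂ δ₂ (-δ₂) x2 (by rw [t2, Int.cast_neg])
  have c3 := hcong χ₃ δ₃ (-δ₃) x3 (by rw [t3, Int.cast_neg])
  have p1 := χ₁.charDegree_pos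
  have p2 := χ₂.charDegree_pos
  have p3 := χ₃.charDegree_pos
  have i0 : ((centralizer ({J} : Set G)).index : ℂ) ≠ 0 := by exact_mod_cast (index_pos _).ne'
  have nσJ : ¬ IsConj J σ := fun hc => by
    obtain ⟨g, hg⟩ := isConj_iff.1 hc
    rw [← hg, orderOf_conj_eq, hJ2] at hσ4
    omega
  have nσ1 : ¬ IsConj 1 σ := fun hc => by
    rw [isConj_one_right.1 hc] at hσ4
    simp at hσ4
  have s1 : secOne 2 σ 1 = 0 := secOne_of_notMem (by rwa [mem_pSection, pPart_one])
  have s2 : secOne 2 σ J = 0 := secOne_of_notMem (by rwa [mem_pSection_iff_isConj hJe])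
  have s3 : secOne 2 σ σ = 1 := secOne_of_mem (self_mem_pSection hσe)
  have hσ1 : σ ≠ 1 := fun h0 => nσ1 (h0 ▸ IsConj.refl _)
  have k := sum_pairs_four h hP hi hσJ hJ2 hone (isClassFunction_secOne 2 σ) s1 s2 (secOne_pPart σ)
  rw [(isClassFunction_secOne 2 σ).sum_class_mul_class,
    sum_ip_secOne hM hσe (h.hasNormalPComplement_of_mem hP hi hJ hJ2 hm hσ1)
      (fun χ => h.conj_irr_apply χ hm)
      (by rw [h.factorization_centralizer hP hi hJ hJ2 hm (hσJ ▸ hJ1), hσ4]), hF] at k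
  simp only [IrrCharacter.one_apply, x1, x2, x3, xY, t1, t2, t3, s3, IrrCharacter.apply_one,
    neg_mul_neg] at k r1 r2
  obtain ⟨S, hS⟩ := exists_sylow_le_of_not_dvd_index hi
  obtain rfl : P = S := S.is_maximal' hP hS
  obtain ⟨q1, q2⟩ := Agent.S4482.result M hM 3 le_rfl S σ τ h.mem_σ h.mem_τ hσ4 h4.ord_right
    h.conj_eq (le_antisymm ((closure_le _).2 (by rintro _ (rfl | rfl); exacts [h.mem_σ, h.mem_τ]))
      fun y hy => by
        have a1 : zpowers σ ≤ closure {σ, τ} := zpowers_le.2 (subset_closure (by simp))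
        by_cases hA : y ∈ zpowers σ
        · exact a1 hA
        · obtain ⟨a, ha, rfl⟩ := h.exists_eq_mul hy hA
          exact mul_mem (a1 ha) (subset_closure (by simp)))
    (by
      rw [show 2 ^ (3 - 2) = 2 from rfl, hσ2]
      exact ⟨hone _ h4.ord_right, hone _ (dih_isFour (h.of_notMem (mul_mem h.mem_σ h.mem_τ)
        (h.mul_τ_notMem hm)) hJ hJ2).ord_right⟩)
    χ₁ b1 (by rwa [ne_eq, e]) δ₁ d₁ fun l l0 l4 => (hv l l0 l4).1
  rw [show 2 ^ (3 - 2) = 2 from rfl, hσ2] at q2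
  refine ⟨δ₁ * charDegree χ₁.1, δ₂ * charDegree χ₂.1, δ₃ * charDegree χ₃.1, ?_, ?_, ?_, ?_, ?_, ?_,
    ?_, fun hs hc v hv4 K ho hKt hKs => ?_, fun hs hc K h9 hKt hKs => ?_⟩
  · rcases d₁ with rfl | rfl <;> omega
  · rcases d₁ with rfl | rfl <;> omega
  · rcases d₂ with rfl | rfl <;> omega
  · rcases d₃ with rfl | rfl <;> omega
  · apply Int.cast_injective (α := ℂ)
    push_cast
    linear_combination r1
  · have e : ∀ (δ : ℤ) (d : ℕ), δ = 1 ∨ δ = -1 → (δ : ℂ) * (δ * δ / d) = 1 / (δ * d) := by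
      rintro δ d (rfl | rfl) <;> simp [div_eq_mul_inv]
    rw [e _ _ d₁, e _ _ d₂, e _ _ d₃] at k
    apply Rat.cast_injective (α := ℂ)
    push_cast
    apply mul_left_cancel₀ i0
    linear_combination 4 * k
  · have hi' := (centralizer ({J} : Set G)).card_mul_index
    have hr1 := card_mul_relIndex (centralizer_le (by simp) :
      centralizer ({J, τ} : Set G) ≤ centralizer {J})
    have hr2 := card_mul_relIndex (centralizer_le (by simp) :
      centralizer ({J, σ * τ} : Set G) ≤ centralizer {J})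
    have p2 : 0 < Nat.card (centralizer ({J, τ} : Set G)) := Nat.card_pos
    have p3 : 0 < Nat.card (centralizer ({J, σ * τ} : Set G)) := Nat.card_pos
    have p4 : 0 < Nat.card (centralizer ({J} : Set G)) := Nat.card_pos
    rw [← hi'] at q2
    generalize (centralizer ({J, τ} : Set G)).relIndex (centralizer ({J} : Set G)) = r₁ at *
    generalize (centralizer ({J, σ * τ} : Set G)).relIndex (centralizer ({J} : Set G)) = r₂ at *
    generalize Nat.card (centralizer ({J, τ} : Set G)) = e₁ at *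
    generalize Nat.card (centralizer ({J, σ * τ} : Set G)) = e₂ at *
    generalize Nat.card (centralizer ({J} : Set G)) = c at *
    have f1 : (r₁ : ℚ) = c / e₁ := by
      rw [← hr1]; push_cast; field_simp
    have f2 : (r₂ : ℚ) = c / e₂ := by
      rw [← hr2]; push_cast; field_simp
    have c0 : (c : ℚ) ≠ 0 := by positivity
    rw [f1, f2]
    apply mul_left_cancel₀ c0
    push_cast at q2 ⊢
    rcases d₁ with rfl | rfl <;> push_cast at q2 ⊢ <;> linear_combination q2
  · have key : ∀ (χ : IrrCharacter G) (c : ℤ), χ ≠ IrrCharacter.one G → χ ∈ principalBlock M G →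
        χ J = c → (charDegree χ.1 : ℤ) = 4 + c → K = ⊥ := by
      intro χ c a1 a2 a3 a4
      obtain ⟨a5, a6, a7⟩ := dih_vals h hM hP hi hJ hone a2 hv4 ho hKt hKs a3
      refine eq_bot_of_quarter hv4 a1 ho hKt hKs a5 a6 a7 ?_
      rw [χ.apply_one]
      exact_mod_cast a4
    have r3 : 1 + δ₁ * charDegree χ₁.1 = δ₁ * charDegree Y.1 := by exact_mod_cast r2
    rcases hc with hc | hc | hc
    · refine key Y _ nY bY tY ?_
      rcases d₁ with rfl | rfl <;> omega
    · refine key χ₂ (-δ₂) n2 b2 (by rw [t2, Int.cast_neg]) ?_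
      rcases d₂ with rfl | rfl <;> omega
    · refine key χ₃ (-δ₃) n3 b3 (by rw [t3, Int.cast_neg]) ?_
      rcases d₃ with rfl | rfl <;> omega
  · have ho : Odd (Nat.card K) := by rw [h9]; decide
    haveI : IsMulCommutative K :=
      IsPGroup.isMulCommutative_of_card_eq_prime_sq (p := 3) (by rw [h9]; rfl)
    obtain ⟨a5, a6, a7⟩ := dih_vals h hM hP hi hJ hone bY h4 ho hKt hKs tY
    have r3 : 1 + δ₁ * charDegree χ₁.1 = δ₁ * charDegree Y.1 := by exact_mod_cast r2
    refine isCyclic_of_quarter h4 nY ?_ ho hKt hKs a5 a6 a7 ?_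
    · have a1 := (bar_mem_principalBlock_iff hM Y).2 bY
      have a2 : Y.bar σ = 0 := by rw [Y.bar_apply, xY, map_zero]
      have a3 : ∀ δ : ℤ, δ = 1 ∨ δ = -1 → (δ : ℂ) ≠ 0 := by rintro _ (rfl | rfl) <;> simp
      simp only [hB', coe_insert, coe_singleton, Set.mem_insert_iff, Set.mem_singleton_iff] at a1
      rcases a1 with a1 | a1 | a1 | a1 | a1
      · simp [a1] at a2
      · exact absurd (x1.symm.trans (a1 ▸ a2)) (a3 _ d₁)
      · exact absurd (x2.symm.trans (a1 ▸ a2)) (a3 _ d₂)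
      · exact absurd (x3.symm.trans (a1 ▸ a2)) (a3 _ d₃)
      · exact a1
    · have a4 : (charDegree Y.1 : ℤ) = 12 + -2 * δ₁ := by
        rcases d₁ with rfl | rfl <;> omega
      rw [Y.apply_one]
      exact_mod_cast a4

end Block

end Cfsg.GW
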