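import Cfsg.Agent.GW.Basic
import Cfsg.Agent.GW.NumA

/-!
# The principal `2`-block for Sylow subgroups `V₄` and `D₈`, one class of involutions

Prove the statements first for an abstract group (`M = ⊤`), then transfer to `↥M`.
Notation: `H = C_M(t) = U ⋊ S`, `i = |M:H|` = number of involutions, `U₁ = C_U(s)`, `U₂ = C_U(xs)`,
`e_j = |U:U_j|`, `|C_M(t,s)| = 4|U₁|`. `B₀` is constant on `2`-sections (`irr_apply_eq_pPart`), and
`finsum_mul` gives the column relations `∑_{B₀} χ(a)χ(b)`.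

`v4_data`: `∑ χ(t)² = 4`, values are nonzero integers, so `B₀ = {1,χ₁,χ₂,χ₃}`, `χᵢ(t) = εᵢ = ±1`,
`mᵢ = εᵢ χᵢ(1)`; restriction to `V`: `mᵢ ≡ 1 (4)`; `1 + ∑ mᵢ = 0`. `S4479` (or directly: sum
`θ = ∑ χ(t) χ = 4·1_{section of t}` over products of two involutions:
`i² (1 + ∑ 1/mᵢ) = 4 · i · 2e²`).
`m = 1`: `χ` is linear with `χ(tu) = 1`, `N = ker χ ⊇ U V`.
(N7') If `χ ∈ B₀` is nontrivial, `M` simple and `χ(1) - χ(t) = 4` then `C_U(s) = 1` for every four-group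
`V = ⟨t,s⟩`: with `d = χ(1)`, each nontrivial linear character of `V` has multiplicity one, so
`χ|_{V × U₁} = ψ₀ + ∑ μ_j α_j` with linear `α_j`; `χ(vu) = d - 4` for `v ∈ V^#`, `u ∈ U₁` gives
`α₁ = α₂ = α₃ = α`, `χ|U₁ = 4α + (d-4)`; the determinant is trivial, so `α⁴ = 1`, `α = 1`,
`U₁ ≤ ker χ = 1`. (Character version: `u ↦ (1/4)∑_v χ(vu) μ(v)` is a character of `U₁` of degree one,
equal to `(χ(u) - (d-4))/4`.) `m ∈ {5,-3}` is this case.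

`d8_data`: `∑χ(x)² = 4`, `∑χ(t)² = 8`, `∑χ(x)χ(t) = 0`, `χ(t) ≠ 0`, `χ(x) ≡ χ(t) (2)` integers. So
`B₀ = {1,χ₁,χ₂,χ₃,Y}`, `χᵢ(x) = δᵢ`, `χ₁(t) = δ₁`, `χ₂(t) = -δ₂`, `χ₃(t) = -δ₃`, `Y(x) = 0`, `Y(t) = ±2`,
`mᵢ = δᵢχᵢ(1)`, `Y(1)Y(t) = -2(1+m₁)`. Restriction to `S` gives the congruences. `S4482` is the second
formula. First formula: `θ = ∑ χ(x)χ` is `4` on the section of `x` and `0` elsewhere; a product `ab` of
two involutions has `2`-part of order `4` iff, for the involution `z ∈ ⟨ab⟩`, `a`, `b` lie in the two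
different classes (sizes `2e₁`, `2e₂`) of noncentral involutions of `C(z)`:
`i² (1 + ∑ 1/mᵢ) = 4 · i · 2 · 2e₁ · 2e₂` (`sum_invol_pairs`). (N7') applies to `χ₂` (`m ∈ {3,-5}`) and
to `Y` (`m₁ = -7`). If `m₁ = -15`: `Y(1) = 14`, `Y = 2` on the section of `t`, `Y` is real (the only
member of `B₀` with `Y(x) = 0`). Let `P ≤ C(V)` be elementary abelian of order `9`. For a nontrivial
linear character `κ` of `P` the `κ`-weight space affords a character of `V` vanishing on `V^#`, so has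
dimension divisible by `4`; `κ`, `κ̄` have the same multiplicity; `16 > 14`, so all nontrivial
constituents of `Y|P` have the same kernel `L ≠ 1`, `L ≤ ker Y = 1`, contradiction.
-/

set_option autoImplicit false
set_option linter.unusedSectionVars false

namespace Cfsg.GW

open Subgroup Cfsg.Agent.FT

universe u

variable {G : Type u} [Group G] [Finite G] {M S : Subgroup G} {x s t : G}

theorem DihOf.x_memM (h : DihOf M S x s t) : x ∈ M := h.syl.le h.pair.mem_σ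

theorem DihOf.s_memM (h : DihOf M S x s t) : s ∈ M := h.syl.le h.pair.mem_τ

theorem DihOf.t_memM (h : DihOf M S x s t) : t ∈ M := h.syl.le (h.pair.zpowers_le h.t_mem)

theorem DihOf.pair_sub (h : DihOf M S x s t) :
    IsDihPair (S.subgroupOf M) ⟨x, h.x_memM⟩ ⟨s, h.s_memM⟩ := by
  have e : ∀ y : M, y ∈ zpowers (⟨x, h.x_memM⟩ : M) ↔ (y : G) ∈ zpowers x := fun y => by
    simp only [mem_zpowers_iff, Subtype.ext_iff, SubgroupClass.coe_zpow]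
  exact ⟨h.pair.mem_σ, h.pair.mem_τ, Subtype.ext h.pair.mul_self, Subtype.ext h.pair.conj_eq,
    fun a => h.pair.notMem ((e _).1 a), fun y hy => (h.pair.cases y hy).imp (e _).2 (e _).2⟩

theorem DihOf.isPGroup_sub (h : DihOf M S x s t) : IsPGroup 2 (S.subgroupOf M) :=
  h.syl.pgroup.comap_subtype

theorem OneCl.sub (h1 : OneCl M t) (ht : t ∈ M) (u : M) (hu : orderOf u = 2) :
    IsConj (⟨t, ht⟩ : M) u := by
  obtain ⟨g, hg, e⟩ := h1 u u.2 (by rwa [Subgroup.orderOf_coe])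
  exact isConj_iff.2 ⟨⟨g, hg⟩, Subtype.ext e⟩

theorem index_cent_sub (ht : t ∈ M) :
    (centralizer ({⟨t, ht⟩} : Set M)).index = (𝓒[t] : Subgroup G).relIndex M := by
  rw [centralizer_singleton_subgroupOf, relIndex]

theorem DihOf.relIndex_sub (h : DihOf M S x s t) :
    4 * (centralizer ({⟨t, h.t_memM⟩, ⟨s, h.s_memM⟩} : Set M)).relIndex
      (centralizer {⟨t, h.t_memM⟩}) =
      Nat.card S * (𝓒[s] : Subgroup G).relIndex 𝐎(M ⊓ 𝓒[t]) := by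
  have a1 := card_mul_relIndex (centralizer_le (by simp) :
    centralizer ({⟨t, h.t_memM⟩, ⟨s, h.s_memM⟩} : Set M) ≤ centralizer {⟨t, h.t_memM⟩})
  have e : centralizer ({⟨t, h.t_memM⟩, ⟨s, h.s_memM⟩} : Set M) = (𝓒(four t s)).subgroupOf M := by
    rw [GW.cent_four]
    ext g
    simp only [mem_subgroupOf, mem_inf, mem_centralizer_iff, Set.mem_insert_iff,
      Set.mem_singleton_iff, forall_eq_or_imp, forall_eq]
    simp only [Subtype.ext_iff, coe_mul]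
  rw [e] at a1 ⊢
  rw [centralizer_singleton_subgroupOf] at a1 ⊢
  rw [card_subgroupOf, card_subgroupOf, inf_comm, ← h.cent_four.card, inf_comm _ M, ← h.sdprod.card,
    h.isFour.card, ← card_inf_mul_relIndex 𝓒[s] 𝐎(M ⊓ 𝓒[t]), inf_comm 𝓒[s]] at a1
  have p : 0 < Nat.card (𝐎(M ⊓ 𝓒[t]) ⊓ 𝓒[s] : Subgroup G) := Nat.card_pos
  apply Nat.eq_of_mul_eq_mul_left p
  linear_combination a1

theorem DihOf.core_eq_bot (h : DihOf M S x s t)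
    (hK : ∀ K : Subgroup M, Odd (Nat.card K) → (∀ y ∈ K, Commute y ⟨t, h.t_memM⟩) →
      (∀ y ∈ K, Commute y ⟨s, h.s_memM⟩) → K = ⊥) : 𝐎(M ⊓ 𝓒[t]) ⊓ 𝓒[s] = ⊥ := by
  have hle : 𝐎(M ⊓ 𝓒[t]) ≤ M ⊓ 𝓒[t] := h.sdprod.le_left
  have hle' : 𝐎(M ⊓ 𝓒[t]) ⊓ 𝓒[s] ≤ M := inf_le_left.trans (hle.trans inf_le_left)
  have := hK ((𝐎(M ⊓ 𝓒[t]) ⊓ 𝓒[s]).subgroupOf M) (by
      rw [card_subgroupOf_of_le hle']
      exact (odd_core _).of_dvd_nat (card_dvd_of_le inf_le_left))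
    (fun y hy => Subtype.ext (mem_centralizer_singleton_iff.1 (hle hy.1).2))
    (fun y hy => Subtype.ext (mem_centralizer_singleton_iff.1 hy.2))
  rwa [subgroupOf_eq_bot, disjoint_iff, inf_eq_left.2 hle'] at this

theorem v4_data (h : DihOf M S t s t) (h1 : OneCl M t) : ∃ m₁ m₂ m₃ : ℤ,
    m₁ % 4 = 1 ∧ m₂ % 4 = 1 ∧ m₃ % 4 = 1 ∧ 1 + m₁ + m₂ + m₃ = 0 ∧
    ((𝓒[t] : Subgroup G).relIndex M : ℚ) * (1 + 1 / m₁ + 1 / m₂ + 1 / m₃) =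
      8 * ((𝓒[s] : Subgroup G).relIndex 𝐎(M ⊓ 𝓒[t]) : ℚ) ^ 2 ∧
    (m₁ = 1 ∨ m₂ = 1 ∨ m₃ = 1 → ∃ N, N ⊴ M ∧ N ≠ M ∧ M ⊓ 𝓒[t] ≤ N) ∧
    (IsSimpleGroup M → (m₁ = 5 ∨ m₁ = -3) ∨ (m₂ = 5 ∨ m₂ = -3) ∨ (m₃ = 5 ∨ m₃ = -3) →
      𝐎(M ⊓ 𝓒[t]) ⊓ 𝓒[s] = ⊥) := by
  obtain ⟨m, a1, a2, a3, a4, a5⟩ := v4_abs h.pair_sub h.isPGroup_sub h.syl.not_dvd
    (by rw [← Subgroup.orderOf_coe]; exact h.ord) (h1.sub h.t_memM)
  have a6 := h.relIndex_sub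
  have a7 : Nat.card S = 4 := by rw [h.card_four rfl, h.isFour.card]
  rw [a7, Nat.mul_right_inj (by norm_num)] at a6
  rw [index_cent_sub, a6] at a3
  refine ⟨m 0, m 1, m 2, a1 0, a1 1, a1 2, a2, a3, fun hm => ?_, fun hs hm => h.core_eq_bot ?_⟩
  · obtain ⟨N, hN, b1, b2⟩ : ∃ N : Subgroup M, N.Normal ∧ N ≠ ⊤ ∧ centralizer {⟨t, h.t_memM⟩} ≤ N := by
      rcases hm with hm | hm | hm <;> exact a4 _ hm
    refine ⟨N.map M.subtype, ⟨map_subtype_le N, ?_⟩, fun b3 => b1 ?_, fun y hy => ?_⟩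
    · intro g hg
      refine mem_normalizer_fintype ?_
      rintro _ ⟨y, hy, rfl⟩
      exact ⟨_, hN.conj_mem y hy ⟨g, hg⟩, rfl⟩
    · refine map_injective M.subtype_injective ?_
      rw [b3, ← MonoidHom.range_eq_map, range_subtype]
    · exact ⟨⟨y, hy.1⟩, b2 (mem_centralizer_singleton_iff.2
        (Subtype.ext (mem_centralizer_singleton_iff.1 hy.2))), rfl⟩
  · rcases hm with hm | hm | hm <;> exact a5 hs _ hm

theorem d8_data (h : DihOf M S x s t) (hx : x * x = t) (h1 : OneCl M t) : ∃ m₁ m₂ m₃ : ℤ,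
    m₁ % 8 = 1 ∧ m₁ ≠ 1 ∧ m₂ % 8 = 3 ∧ m₃ % 8 = 3 ∧ 1 + m₁ + m₂ + m₃ = 0 ∧
    ((𝓒[t] : Subgroup G).relIndex M : ℚ) * (1 + 1 / m₁ + 1 / m₂ + 1 / m₃) =
      32 * ((𝓒[s] : Subgroup G).relIndex 𝐎(M ⊓ 𝓒[t]) : ℚ) *
        ((𝓒[x * s] : Subgroup G).relIndex 𝐎(M ⊓ 𝓒[t]) : ℚ) ∧
    ((𝓒[t] : Subgroup G).relIndex M : ℚ) * (m₁ - 1) ^ 2 = 8 * m₁ * (m₁ + 1) *
      (((𝓒[s] : Subgroup G).relIndex 𝐎(M ⊓ 𝓒[t]) : ℚ) +
        ((𝓒[x * s] : Subgroup G).relIndex 𝐎(M ⊓ 𝓒[t]) : ℚ)) ^ 2 ∧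
    (IsSimpleGroup M → m₁ = -7 ∨ (m₂ = 3 ∨ m₂ = -5) ∨ (m₃ = 3 ∨ m₃ = -5) →
      𝐎(M ⊓ 𝓒[t]) ⊓ 𝓒[s] = ⊥ ∧ 𝐎(M ⊓ 𝓒[t]) ⊓ 𝓒[x * s] = ⊥) ∧
    (IsSimpleGroup M → m₁ = -15 → ∀ P : Subgroup G, P ≤ M ⊓ 𝓒(four t s) → Nat.card P = 9 →
      IsCyclic P) := by
  obtain ⟨m₁, m₂, m₃, a1, a2, a3, a4, a5, a6, a7, a8, a9⟩ := d8_abs h.pair_sub h.isPGroup_sub
    h.syl.not_dvd (J := ⟨t, h.t_memM⟩) (Subtype.ext hx)
    (by rw [← Subgroup.orderOf_coe]; exact h.ord) (h1.sub h.t_memM)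
  have b1 := h.relIndex_sub
  have b2 := h.swap.relIndex_sub
  rw [(h.card_eight hx).1] at b1 b2
  have b3 : (centralizer ({⟨t, h.t_memM⟩, ⟨s, h.s_memM⟩} : Set M)).relIndex
      (centralizer {⟨t, h.t_memM⟩}) = 2 * (𝓒[s] : Subgroup G).relIndex 𝐎(M ⊓ 𝓒[t]) := by omega
  have b4 : (centralizer ({⟨t, h.t_memM⟩, ⟨x, h.x_memM⟩ * ⟨s, h.s_memM⟩} : Set M)).relIndex
      (centralizer {⟨t, h.t_memM⟩}) = 2 * (𝓒[x * s] : Subgroup G).relIndex 𝐎(M ⊓ 𝓒[t]) := by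
    apply Nat.eq_of_mul_eq_mul_left (show 0 < 4 by norm_num)
    rw [← mul_assoc]
    exact b2
  rw [index_cent_sub, b3, b4] at a6 a7
  push_cast at a6 a7
  have f4 : ∀ {v} (hv : v ∈ M), IsFour t v → IsFour (⟨t, h.t_memM⟩ : M) ⟨v, hv⟩ := fun hv k =>
    ⟨by rw [← Subgroup.orderOf_coe]; exact k.1, by rw [← Subgroup.orderOf_coe]; exact k.2,
      Subtype.ext k.3, fun e => k.4 (congrArg Subtype.val e)⟩
  refine ⟨m₁, m₂, m₃, a1, a2, a3, a4, a5, by linear_combination a6, by linear_combination a7,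
    fun hs hm => ⟨h.core_eq_bot (a8 hs hm _ (f4 _ h.isFour)),
      h.swap.core_eq_bot (a8 hs hm _ (f4 _ h.swap.isFour))⟩, fun hs hm P hP h9 => ?_⟩
  have hle : P ≤ M := hP.trans inf_le_left
  rw [cent_four] at hP
  have := a9 hs hm (P.subgroupOf M) (by rwa [card_subgroupOf_of_le hle])
    (fun y hy => Subtype.ext (mem_centralizer_singleton_iff.1 (hP hy).2.1))
    (fun y hy => Subtype.ext (mem_centralizer_singleton_iff.1 (hP hy).2.2))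
  exact isCyclic_of_surjective _ (subgroupOfEquivOfLe hle).surjective

end Cfsg.GW
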