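import Cfsg.Agent.GW.NumB
import Cfsg.Agent.GW.NonAb

/-! # Arithmetic and counting lemmas for `GW/Num` -/

set_option autoImplicit false
set_option linter.unusedSectionVars false

namespace Cfsg.GW

open Subgroup Cfsg.Agent.FT

universe u

/-- shadows `Cfsg.le_cent_zpowers` of `Grp/SmallTwo` inside `Cfsg.GW` -/
theorem le_cent_zpowers {G : Type u} [Group G] {x : G} {H : Subgroup G} :
    H ≤ 𝓒(zpowers x) ↔ H ≤ 𝓒[x] := by
  rw [centralizer_zpowers]

/-! ### arithmetic -/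

theorem inv_le_of_le {m k : ℤ} (hk : 0 < k) (h : k ≤ m) : (0 : ℚ) < 1 / m ∧ (1 : ℚ) / m ≤ 1 / k :=
  ⟨by have : (0 : ℚ) < m := by exact_mod_cast hk.trans_le h
      positivity,
    one_div_le_one_div_of_le (by exact_mod_cast hk) (by exact_mod_cast h)⟩

theorem inv_ge_of_le {m k : ℤ} (hk : 0 < k) (h : m ≤ -k) :
    -(1 / k : ℚ) ≤ 1 / m ∧ (1 : ℚ) / m < 0 := by
  have := inv_le_of_le hk (show k ≤ -m by omega)
  rw [Int.cast_neg, div_neg] at this
  constructor <;> linarith [this.1, this.2]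

theorem v4_lb {a b c : ℤ} (ha : a % 4 = 1) (hb : b % 4 = 1) (hc : c % 4 = 1)
    (h : 1 + a + b + c = 0) : (8 / 15 : ℚ) ≤ 1 + 1 / a + 1 / b + 1 / c := by
  have key : ∀ m : ℤ, m % 4 = 1 → (1 ≤ m ∧ (0 : ℚ) < 1 / m ∧ (m ≤ 5 → (1 / 5 : ℚ) ≤ 1 / m) ∧
      (m ≤ 9 → (1 / 9 : ℚ) ≤ 1 / m)) ∨ (m = -3 ∧ (1 : ℚ) / m = -1 / 3) ∨
      (m = -7 ∧ (1 : ℚ) / m = -1 / 7) ∨ (m ≤ -11 ∧ -(1 / 11 : ℚ) ≤ 1 / m) := fun m hm => by
    obtain e | e | e | e : 1 ≤ m ∨ m = -3 ∨ m = -7 ∨ m ≤ -11 := by omega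
    · exact .inl ⟨e, (inv_le_of_le one_pos e).1, fun e' => by
        simpa using (inv_le_of_le (by omega) e').2, fun e' => by
        simpa using (inv_le_of_le (by omega) e').2⟩
    · exact .inr (.inl ⟨e, by rw [e]; norm_num⟩)
    · exact .inr (.inr (.inl ⟨e, by rw [e]; norm_num⟩))
    · exact .inr (.inr (.inr ⟨e, by simpa using (inv_ge_of_le (k := 11) (by norm_num) e).1⟩))
  rcases key a ha with ⟨_, _, a5, a9⟩ | ⟨_, _⟩ | ⟨_, _⟩ | ⟨_, _⟩ <;>
  rcases key b hb with ⟨_, _, b5, b9⟩ | ⟨_, _⟩ | ⟨_, _⟩ | ⟨_, _⟩ <;>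
  rcases key c hc with ⟨_, _, c5, c9⟩ | ⟨_, _⟩ | ⟨_, _⟩ | ⟨_, _⟩ <;>
  first
  | omega
  | linarith
  | linarith [a5 (by omega)]
  | linarith [a9 (by omega)]
  | linarith [b5 (by omega)]
  | linarith [b9 (by omega)]
  | linarith [c5 (by omega)]
  | linarith [c9 (by omega)]

theorem v4_ub {a b c : ℤ} (ha : a % 4 = 1) (hb : b % 4 = 1) (hc : c % 4 = 1)
    (h : 1 + a + b + c = 0) : (1 + 1 / a + 1 / b + 1 / c : ℚ) ≤ 8 / 3 ∧
      (a = 1 ∨ b = 1 ∨ c = 1 ∨ (1 + 1 / a + 1 / b + 1 / c : ℚ) ≤ 7 / 5) := by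
  have key : ∀ m : ℤ, m % 4 = 1 → (m = 1 ∧ (1 : ℚ) / m = 1) ∨ (5 ≤ m ∧ (1 : ℚ) / m ≤ 1 / 5) ∨
      (m ≤ -3 ∧ (1 : ℚ) / m < 0 ∧ (m = -3 → (1 : ℚ) / m = -1 / 3)) := fun m hm => by
    obtain e | e | e : m = 1 ∨ 5 ≤ m ∨ m ≤ -3 := by omega
    · exact .inl ⟨e, by rw [e]; norm_num⟩
    · exact .inr (.inl ⟨e, by simpa using (inv_le_of_le (by norm_num) e).2⟩)
    · exact .inr (.inr ⟨e, (inv_ge_of_le (k := 3) (by norm_num) e).2, fun e => by rw [e]; norm_num⟩)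
  rcases key a ha with ⟨_, _⟩ | ⟨_, _⟩ | ⟨_, _, a3⟩ <;>
  rcases key b hb with ⟨_, _⟩ | ⟨_, _⟩ | ⟨_, _, b3⟩ <;>
  rcases key c hc with ⟨_, _⟩ | ⟨_, _⟩ | ⟨_, _, c3⟩ <;>
  first
  | omega
  | exact ⟨by first
      | linarith
      | linarith [a3 (by omega)]
      | linarith [b3 (by omega)]
      | linarith [c3 (by omega)], by first | omega | (right; right; right; linarith)⟩

theorem d8_alpha {a b c : ℤ} (ha : a % 8 = 1) (ha' : a ≠ -7) (hb : b % 8 = 3) (hb' : b ≠ -5)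
    (hc : c % 8 = 3) (hc' : c ≠ -5) (h : 1 + a + b + c = 0) :
    (11 / 13 : ℚ) ≤ 1 + 1 / a + 1 / b + 1 / c ∧
      (a ≤ -23 → (263 / 299 : ℚ) ≤ 1 + 1 / a + 1 / b + 1 / c) := by
  have key : ∀ m : ℤ, 1 ≤ m ∨ m ≤ -13 → (1 ≤ m ∧ (0 : ℚ) < 1 / m) ∨
      (m ≤ -13 ∧ -(1 / 13 : ℚ) ≤ 1 / m) := fun m hm => hm.imp
    (fun e => ⟨e, (inv_le_of_le one_pos e).1⟩) fun e =>
      ⟨e, by simpa using (inv_ge_of_le (k := 13) (by norm_num) e).1⟩
  have h0 : a ≤ -23 → -(1 / 23 : ℚ) ≤ 1 / a := fun e => by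
    simpa using (inv_ge_of_le (k := 23) (by norm_num) e).1
  rcases key a (by omega) with ⟨_, _⟩ | ⟨_, _⟩ <;> rcases key b (by omega) with ⟨_, _⟩ | ⟨_, _⟩ <;>
    rcases key c (by omega) with ⟨_, _⟩ | ⟨_, _⟩ <;>
    first
    | omega
    | exact ⟨by linarith, fun e => by first | omega | linarith [h0 e]⟩

theorem d8_phi {m : ℤ} (h : m % 8 = 1) (h1 : m ≠ 1) {i E : ℚ} (hE : 0 ≤ E)
    (e : i * (m - 1) ^ 2 = 8 * m * (m + 1) * E) : 21 * E ≤ 4 * i ∧ 4 * i ≤ 45 * E ∧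
      (m ≠ -7 → 105 * E ≤ 16 * i) ∧ (m ≠ -7 → m ≠ -15 → 253 * E ≤ 36 * i) ∧
      (0 ≤ m → 8 * E ≤ i) ∧ (m = -15 → 16 * i = 105 * E) := by
  have hp : (0 : ℚ) < (m - 1) ^ 2 := by
    have : (m : ℚ) - 1 ≠ 0 := sub_ne_zero.2 (by exact_mod_cast h1)
    positivity
  have lo : ∀ a b : ℚ, a * (m - 1) ^ 2 ≤ b * (8 * m * (m + 1)) → a * E ≤ b * i := fun a b hab =>
    le_of_mul_le_mul_right (by rw [mul_assoc b, e]; nlinarith) hp
  have hi : ∀ a b : ℚ, b * (8 * m * (m + 1)) ≤ a * (m - 1) ^ 2 → b * i ≤ a * E := fun a b hab =>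
    le_of_mul_le_mul_right (by rw [mul_assoc b, e]; nlinarith) hp
  have c1 : (9 : ℚ) ≤ m ∨ (m : ℚ) ≤ -7 := by exact_mod_cast (by omega : 9 ≤ m ∨ m ≤ -7)
  refine ⟨lo _ _ (by rcases c1 with c | c <;> nlinarith), hi _ _ (by rcases c1 with c | c <;> nlinarith),
    fun h2 => lo _ _ ?_, fun h2 h3 => lo _ _ ?_, fun h2 => ?_, fun h2 => ?_⟩
  · have c2 : (9 : ℚ) ≤ m ∨ (m : ℚ) ≤ -15 := by exact_mod_cast (by omega : 9 ≤ m ∨ m ≤ -15)
    rcases c2 with c | c <;> nlinarith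
  · have c2 : (9 : ℚ) ≤ m ∨ (m : ℚ) ≤ -23 := by exact_mod_cast (by omega : 9 ≤ m ∨ m ≤ -23)
    rcases c2 with c | c <;> nlinarith
  · have c2 : (9 : ℚ) ≤ m := by exact_mod_cast (by omega : 9 ≤ m)
    simpa using lo 8 1 (by nlinarith)
  · rw [h2] at e
    push_cast at e
    linarith

/-! ### conjugacy classes in a subgroup -/

variable {G : Type u} [Group G] [Finite G] {M K S : Subgroup G} {a b g x s t u v z : G}

/-- the conjugates of `t` under `M` -/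
def ccl (M : Subgroup G) (t : G) : Set G := {a | ∃ g ∈ M, g * t * g⁻¹ = a}

theorem self_mem_ccl : t ∈ ccl M t := ⟨1, one_mem _, by simp⟩

theorem conj_mem_ccl (hg : g ∈ M) (h : a ∈ ccl M t) : g * a * g⁻¹ ∈ ccl M t := by
  obtain ⟨k, hk, rfl⟩ := h
  exact ⟨g * k, mul_mem hg hk, by group⟩

theorem conj_mem_ccl_iff (hg : g ∈ M) : g * a * g⁻¹ ∈ ccl M t ↔ a ∈ ccl M t :=
  ⟨fun h => by simpa [mul_assoc] using conj_mem_ccl (inv_mem hg) h, conj_mem_ccl hg⟩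

theorem ccl_trans (h : a ∈ ccl M b) (h' : b ∈ ccl M t) : a ∈ ccl M t := by
  obtain ⟨k, hk, rfl⟩ := h
  exact conj_mem_ccl hk h'

theorem ccl_symm (h : a ∈ ccl M b) : b ∈ ccl M a := by
  obtain ⟨k, hk, rfl⟩ := h
  exact ⟨k⁻¹, inv_mem hk, by group⟩

theorem ccl_mono (h : K ≤ M) (ha : a ∈ ccl K t) : a ∈ ccl M t :=
  ha.imp fun _ e => ⟨h e.1, e.2⟩

theorem mem_of_mem_ccl (ht : t ∈ M) (h : a ∈ ccl M t) : a ∈ M := by
  obtain ⟨k, hk, rfl⟩ := h
  exact mul_mem (mul_mem hk ht) (inv_mem hk)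

theorem orderOf_of_mem_ccl (h : a ∈ ccl M t) : orderOf a = orderOf t := by
  obtain ⟨k, -, rfl⟩ := h
  exact orderOf_conj_eq k t

theorem eq_of_mem_ccl (hK : K ≤ 𝓒[t]) (h : a ∈ ccl K t) : a = t := by
  obtain ⟨k, hk, rfl⟩ := h
  rw [mem_cent1.1 (hK hk), mul_inv_cancel_right]

theorem ncard_ccl (M : Subgroup G) (t : G) :
    (ccl M t).ncard = (𝓒[t] : Subgroup G).relIndex M := by
  letI : MulAction M G := MulAction.compHom G (MulAut.conj.comp M.subtype)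
  have := MulAction.index_stabilizer M t
  convert this.symm using 1
  · congr 1
    ext a
    exact ⟨fun ⟨g, hg, e⟩ => ⟨⟨g, hg⟩, e⟩, fun ⟨g, e⟩ => ⟨g, g.2, e⟩⟩
  · unfold relIndex
    congr 1
    ext g
    exact mem_cent1.trans mul_inv_eq_iff_eq_mul.symm

theorem DihOf.invol_ccl (h : DihOf M S x s t) (hu : u ∈ M) (h2 : orderOf u = 2) :
    u ∈ ccl M t ∨ u ∈ ccl M s ∨ u ∈ ccl M (x * s) := by
  obtain ⟨g, hg, hle⟩ := h.syl.exists_conj_le
    (isPElt_iff_isPGroup_zpowers.1 (isPElt_two_of_orderOf h2)) (zpowers_le.2 hu)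
  have h3 := map_conj_le_iff.1 hle u (mem_zpowers u)
  rw [← conj_mem_ccl_iff hg, ← conj_mem_ccl_iff hg (t := s), ← conj_mem_ccl_iff hg (t := x * s)]
  by_cases e : g * u * g⁻¹ ∈ zpowers x
  · exact .inl (eq_of_orderOf_eq_two_of_mem_zpowers e h.t_mem ((orderOf_conj_eq g u).trans h2)
      h.ord ▸ self_mem_ccl)
  · obtain ⟨a, ha, e'⟩ := h.pair.exists_conj_eq h3 e
    have ha' := h.syl.le (h.pair.zpowers_le ha)
    exact .inr (e'.imp (fun e => ⟨a, ha', e⟩) fun e => ⟨a, ha', e⟩)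

theorem mul_pPart_mem_ccl (ha : a * a = 1) (hb : b * b = 1) (h : a * b ∈ K) :
    a * pPart 2 (a * b) ∈ ccl K b := by
  have h1 := conj_eq_inv_of_mem_zpowers (conj_mul_eq_inv ha hb) (pPart_mem_zpowers (p := 2) (a * b))
  have h2 : a * pPart 2 (a * b) * (a * pPart 2 (a * b)) = 1 := by
    rw [← mul_assoc]
    nth_rw 3 [← inv_eq_of_mul_eq_one_right ha]
    rw [h1, inv_mul_cancel]
  have h3 : a * pPart 2 (a * b) * b = pPrimePart 2 (a * b) := by
    rw [← inv_mul_cancel_right (a * pPart 2 (a * b)) a, h1, mul_assoc,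
      inv_mul_eq_iff_eq_mul, pPart_mul_pPrimePart]
  obtain ⟨c, hc, e⟩ := exists_conj_of_isPRegular_mul h2 hb (h3 ▸ isPRegular_pPrimePart (p := 2) _)
  rw [h3] at hc
  refine ⟨c, zpowers_le.2 (pPrimePart_mem (p := 2) h) hc, ?_⟩
  generalize a * pPart 2 (a * b) = w at e ⊢
  rw [← e]; group

theorem DihOf.mem_zpowers_mul (h : DihOf K S x s t) (hK : K ≤ 𝓒[t]) (ha : a ∈ K) (hb : b ∈ K)
    (ha2 : orderOf a = 2) (hb2 : orderOf b = 2) (ha' : a ≠ t) (hb' : b ≠ t) (hab : a ∉ ccl K b) :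
    t ∈ zpowers (a * b) := by
  have a2 := mul_self_of_orderOf_eq_two ha2
  have b2 := mul_self_of_orderOf_eq_two hb2
  have h1 := mul_pPart_mem_ccl a2 b2 (mul_mem ha hb)
  have hd := pPart_mem_zpowers (p := 2) (a * b)
  obtain ⟨k, hk, hle⟩ := h.syl.exists_conj_le (exists_conj_mul_pPart a2 b2).2.1
    (sup_le (zpowers_le.2 ha) (zpowers_le.2 (pPart_mem (p := 2) (mul_mem ha hb))))
  generalize pPart 2 (a * b) = d at *
  have key : ∀ u, orderOf u = 2 → u ∉ ccl K t → k * u * k⁻¹ ∉ zpowers x := fun u h2 hu e =>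
    hu ((conj_mem_ccl_iff hk).1 (eq_of_orderOf_eq_two_of_mem_zpowers e h.t_mem
      ((orderOf_conj_eq k u).trans h2) h.ord ▸ self_mem_ccl))
  have m1 : a ∈ zpowers a ⊔ zpowers d := mem_sup_left (mem_zpowers a)
  have h2 := h.pair.mul_mem_of_notMem (map_conj_le_iff.1 hle a m1)
    (key a ha2 fun e => ha' (eq_of_mem_ccl hK e))
    (map_conj_le_iff.1 hle _ (mul_mem m1 (mem_sup_right (mem_zpowers d))))
    (key _ ((orderOf_of_mem_ccl h1).trans hb2) fun e =>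
      hb' (eq_of_mem_ccl hK (ccl_trans (ccl_symm h1) e)))
  rw [conj_mul, ← mul_assoc a, a2, one_mul] at h2
  have h3 := h.pair.mem_zpowers_of_ne_one h.syl.pgroup h.t_mem h.ord h2 fun e =>
    hab (by simpa [conj_eq_one_iff.1 e] using h1)
  rw [zpowers_conj, mem_map_conj, mul_assoc, ← mem_cent1.1 (hK hk), inv_mul_cancel_left] at h3
  exact zpowers_le.2 hd h3

theorem DihOf.fiber (h : DihOf (M ⊓ 𝓒[z]) S x s z) (ht : t ∈ M) (hv : v ∈ M) (ht2 : orderOf t = 2)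
    (hv2 : orderOf v = 2) (htv : t ∉ ccl M v) (h1 : s ∈ ccl M t) (h2 : x * s ∈ ccl M v) :
    {p ∈ ccl M t ×ˢ ccl M v | z ∈ zpowers (p.1 * p.2)} =
      ccl (M ⊓ 𝓒[z]) s ×ˢ ccl (M ⊓ 𝓒[z]) (x * s) := by
  have dis : ∀ a, a ∈ ccl M t → a ∉ ccl M v := fun a e e' => htv (ccl_trans (ccl_symm e) e')
  ext ⟨a, b⟩
  constructor
  · rintro ⟨⟨ha, hb⟩, hz⟩
    have a2 := (orderOf_of_mem_ccl ha).trans ht2
    have b2 := (orderOf_of_mem_ccl hb).trans hv2
    have a2' := mul_self_of_orderOf_eq_two a2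
    have b2' := mul_self_of_orderOf_eq_two b2
    obtain ⟨c1, c2⟩ := mem_centralizer_of_mem_zpowers_mul a2' b2' h.ord hz
    have key : ∀ w : G, orderOf w = 2 → w ∈ 𝓒[z] → z ∉ zpowers (z * w) := fun w w2 c e => by
      have h3 : z * w * (z * w) = 1 := by
        rw [mul_assoc, ← mul_assoc w, mem_cent1.1 c, mul_assoc, mul_self_of_orderOf_eq_two w2,
          mul_one, mul_self_of_orderOf_eq_two h.ord]
      by_cases h4 : z * w = 1
      · rw [h4, zpowers_one_eq_bot, mem_bot] at e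
        simpa [e] using h.ord
      · rcases eq_one_or_eq_of_mem_zpowers_of_orderOf_two (orderOf_eq_two_of_mul_self h3 h4) e
          with e | e
        · simpa [e] using h.ord
        · simp [left_eq_mul.1 e] at w2
    refine ⟨((h.invol_ccl ⟨mem_of_mem_ccl ht ha, c1⟩ a2).resolve_left fun e => ?_).resolve_right
      fun e => dis a ha (ccl_trans (ccl_mono inf_le_left e) h2),
      ((h.invol_ccl ⟨mem_of_mem_ccl hv hb, c2⟩ b2).resolve_left fun e => ?_).resolve_left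
      fun e => dis b (ccl_trans (ccl_mono inf_le_left e) h1) hb⟩
    · exact key b b2 c2 (eq_of_mem_ccl inf_le_right e ▸ hz)
    · exact key a a2 c1 (mem_cent1.1 c1 ▸ eq_of_mem_ccl inf_le_right e ▸ hz)
  · rintro ⟨ha, hb⟩
    have ha' := ccl_trans (ccl_mono inf_le_left ha) h1
    have hb' := ccl_trans (ccl_mono inf_le_left hb) h2
    refine ⟨⟨ha', hb'⟩, h.mem_zpowers_mul inf_le_right (mem_of_mem_ccl (h.syl.le h.pair.mem_τ) ha)
      (mem_of_mem_ccl (h.syl.le h.swap.pair.mem_τ) hb) ((orderOf_of_mem_ccl ha').trans ht2)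
      ((orderOf_of_mem_ccl hb').trans hv2) (fun e => h.isFour.ne ?_) (fun e => h.swap.isFour.ne ?_)
      fun e => dis a ha' (ccl_trans (ccl_mono inf_le_left e) hb')⟩
    · exact (eq_of_mem_ccl inf_le_right (e ▸ ccl_symm ha)).symm
    · exact (eq_of_mem_ccl inf_le_right (e ▸ ccl_symm hb)).symm

theorem ncard_pairs (ht : t ∈ M) (hv : v ∈ M) (ht2 : orderOf t = 2) (hv2 : orderOf v = 2)
    (htv : t ∉ ccl M v) (h : ∀ u ∈ M, orderOf u = 2 → u ∈ ccl M t ∨ u ∈ ccl M v) :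
    (ccl M t).ncard * (ccl M v).ncard =
      (ccl M t).ncard * {p ∈ ccl M t ×ˢ ccl M v | t ∈ zpowers (p.1 * p.2)}.ncard +
      (ccl M v).ncard * {p ∈ ccl M t ×ˢ ccl M v | v ∈ zpowers (p.1 * p.2)}.ncard := by
  classical
  have dis : ∀ a, a ∈ ccl M t → a ∉ ccl M v := fun a e e' => htv (ccl_trans (ccl_symm e) e')
  have h1 := Finset.sum_card_bipartiteAbove_eq_sum_card_bipartiteBelow
    (s := (Set.toFinite (ccl M t ×ˢ ccl M v)).toFinset)
    (t := (Set.toFinite (ccl M t)).toFinset ∪ (Set.toFinite (ccl M v)).toFinset)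
    (fun p z => z ∈ zpowers (p.1 * p.2))
  have h2 : ∀ w, ∀ z ∈ (Set.toFinite (ccl M w)).toFinset,
      ((Set.toFinite (ccl M t ×ˢ ccl M v)).toFinset.bipartiteBelow
        (fun p z => z ∈ zpowers (p.1 * p.2)) z).card =
      {p ∈ ccl M t ×ˢ ccl M v | w ∈ zpowers (p.1 * p.2)}.ncard := fun w z hz => by
    obtain ⟨g, hg, rfl⟩ := (Set.Finite.mem_toFinset _).1 hz
    rw [← Set.ncard_coe_finset]
    refine (Set.ncard_congr (fun p _ => (g * p.1 * g⁻¹, g * p.2 * g⁻¹)) (fun p hp => ?_)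
      (fun p q _ _ e => ?_) fun p hp => ⟨(g⁻¹ * p.1 * g, g⁻¹ * p.2 * g), ?_, ?_⟩).symm
    · simp only [Finset.coe_bipartiteBelow, Set.Finite.mem_toFinset, Set.mem_ofPred_eq, conj_mul,
        zpowers_conj, conj_mem_map_conj]
      exact ⟨⟨conj_mem_ccl hg hp.1.1, conj_mem_ccl hg hp.1.2⟩, hp.2⟩
    · simpa [Prod.ext_iff] using e
    · simp only [Finset.coe_bipartiteBelow, Set.Finite.mem_toFinset, Set.mem_ofPred_eq] at hp
      refine ⟨⟨by simpa using conj_mem_ccl (inv_mem hg) hp.1.1,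
        by simpa using conj_mem_ccl (inv_mem hg) hp.1.2⟩, ?_⟩
      have := (conj_mem_map_conj (g := g⁻¹)).2 hp.2
      rw [← zpowers_conj] at this
      simpa [mul_assoc] using this
    · simp [mul_assoc]
  rw [Finset.sum_union (Finset.disjoint_left.2 fun a e e' => dis a (by simpa using e)
    (by simpa using e')), Finset.sum_congr rfl (h2 t), Finset.sum_congr rfl (h2 v),
    Finset.sum_congr rfl (g := fun _ => 1) fun p hp => ?_] at h1
  · simpa [← Set.ncard_eq_toFinset_card, Set.ncard_prod] using h1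
  obtain ⟨ha, hb⟩ := (Set.Finite.mem_toFinset _).1 hp
  obtain ⟨j, hj, hj2⟩ := exists_mem_zpowers_orderOf_two (g := p.1 * p.2) (by
    by_contra e
    obtain ⟨c, hc, e'⟩ := exists_conj_of_isPRegular_mul
      (mul_self_of_orderOf_eq_two ((orderOf_of_mem_ccl ha).trans ht2))
      (mul_self_of_orderOf_eq_two ((orderOf_of_mem_ccl hb).trans hv2)) e
    have := conj_mem_ccl (inv_mem (zpowers_le.2 (mul_mem (mem_of_mem_ccl ht ha)
      (mem_of_mem_ccl hv hb)) hc)) ha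
    rw [inv_inv, e'] at this
    exact dis _ this hb)
  refine Finset.card_eq_one.2 ⟨j, Finset.eq_singleton_iff_unique_mem.2 ⟨?_, fun y hy => ?_⟩⟩
  · simpa [hj] using h j (zpowers_le.2 (mul_mem (mem_of_mem_ccl ht ha) (mem_of_mem_ccl hv hb)) hj) hj2
  · simp only [Finset.mem_bipartiteAbove, Finset.mem_union, Set.Finite.mem_toFinset] at hy
    exact eq_of_orderOf_eq_two_of_mem_zpowers hy.2 hj (hy.1.elim
      (fun e => (orderOf_of_mem_ccl e).trans ht2) fun e => (orderOf_of_mem_ccl e).trans hv2) hj2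

theorem DihOf.four_mul_relIndex (h : DihOf M S x s t) :
    4 * (𝓒[s] : Subgroup G).relIndex (M ⊓ 𝓒[t]) =
      Nat.card S * (𝓒[s] : Subgroup G).relIndex 𝐎(M ⊓ 𝓒[t]) := by
  have h1 := h.sdprod.card
  have h2 := h.cent_four.card
  have h3 := card_inf_mul_relIndex 𝓒[s] 𝐎(M ⊓ 𝓒[t])
  have h4 := card_inf_mul_relIndex 𝓒[s] (M ⊓ 𝓒[t])
  rw [h.isFour.card, GW.cent_four, ← inf_assoc, inf_comm _ 𝓒[s], inf_comm _ 𝓒[s]] at h2
  rw [← h2, ← h1, ← h3] at h4
  exact Nat.eq_of_mul_eq_mul_left (Nat.card_pos (α := (𝓒[s] ⊓ 𝐎(M ⊓ 𝓒[t]) : Subgroup G)))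
    (by linarith)

theorem relIndex_cent_mul {X : Subgroup G} (h : X ≤ 𝓒[t]) :
    (𝓒[t * s] : Subgroup G).relIndex X = (𝓒[s] : Subgroup G).relIndex X := by
  unfold relIndex
  congr 1
  ext g
  rw [mem_subgroupOf, mem_subgroupOf, mem_cent1, mem_cent1, ← mul_assoc, mem_cent1.1 (h g.2),
    mul_assoc, mul_assoc, mul_right_inj]

/-- the centralizer of an outer involution -/
theorem DihOf.outer (h : DihOf M S x s t) (h2 : ∀ g ∈ M, g * t * g⁻¹ ≠ s) :
    DihOf (M ⊓ 𝓒[s]) (four s t) s t s := by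
  have hS := h.four_le.trans h.syl.le
  obtain ⟨S', x', h'⟩ := (h.isD8.of_le (inf_le_left (b := 𝓒[s]))).exists_dihOf h.isFour.symm
    ⟨hS (mem_sup_right (mem_zpowers s)), mem_cent1.2 rfl⟩
    ⟨hS (mem_sup_left (mem_zpowers t)), mem_cent1.2 h.isFour.comm⟩
    (by rw [relIndex_eq_one.2 inf_le_right]; norm_num)
  rcases h'.cases with e | e
  · subst e; exact h'.card_four rfl ▸ h'
  obtain ⟨g, hg, hle⟩ := h.syl.exists_conj_le (h'.syl.pgroup.to_le h'.pair.zpowers_le)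
    (h'.pair.zpowers_le.trans (h'.syl.le.trans inf_le_left))
  have h3 := map_conj_le_iff.1 hle x' (mem_zpowers x')
  have h4 : g * x' * g⁻¹ * (g * x' * g⁻¹) = g * s * g⁻¹ := by rw [conj_mul, e]
  have h5 : g * x' * g⁻¹ ∈ zpowers x := by_contra fun e' => by
    have := conj_eq_one_iff.1 (h4.symm.trans (h.pair.mul_self_of_notMem h3 e'))
    simpa [this] using h'.ord
  have h6 := eq_of_orderOf_eq_two_of_mem_zpowers (h4 ▸ mul_mem h5 h5) h.t_mem
    ((orderOf_conj_eq g s).trans h'.ord) h.ord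
  exact absurd (by rw [← h6]; group) (h2 _ (inv_mem hg))

/-- Orbits of a four-group on the cosets of `M`. -/
theorem exists_fix (M : Subgroup G) (h4 : IsFour t s) (h : OneCl ⊤ t) : ∃ f k : ℕ,
    f * Nat.card M = Nat.card (𝓒[t] : Subgroup G) * {a ∈ M | orderOf a = 2}.ncard ∧
      M.index + 3 * f = 4 * k := by
  classical
  have hχ := permChar_isCharacter (G := G) (G ⧸ M)
  obtain ⟨k, hk⟩ := (hχ.comp (four t s).subtype).exists_ip_eq_nat IsCharacter.one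
  haveI := Fintype.ofFinite (four t s)
  refine ⟨Nat.card (MulAction.fixedBy (G ⧸ M) t), k, ?_, ?_⟩
  · have h1 := ind_apply_eq_card_centralizer M.subtype (fun _ => 1) t
    rw [ind_subtype_one, permChar_apply] at h1
    have h2 : ∑ᶠ h ∈ {h : M | IsConj t (M.subtype h)}, (1 : ℂ) =
        ({a ∈ M | orderOf a = 2}.ncard : ℂ) := by
      rw [← Set.ncard_congr (s := {h : M | IsConj t (M.subtype h)})
        (t := {a ∈ M | orderOf a = 2}) (fun a _ => (a : G))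
        (fun a ha => ⟨a.2, by
          obtain ⟨g, e⟩ := isConj_iff.1 ha
          exact (show g * t * g⁻¹ = a from e) ▸ (orderOf_conj_eq g t).trans h4.ord_left⟩)
        (fun a b _ _ => Subtype.ext) fun b hb => ⟨⟨b, hb.1⟩, by
          obtain ⟨g, -, e⟩ := h b (mem_top b) hb.2
          exact isConj_iff.2 ⟨g, e⟩, rfl⟩,
        finsum_mem_eq_finite_toFinset_sum _ (Set.toFinite _), Set.ncard_eq_toFinset_card _]
      simp
    rw [h2] at h1
    have := natCard_cast_ne_zero M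
    exact_mod_cast (by rw [h1]; field_simp :
      (Nat.card (MulAction.fixedBy (G ⧸ M) t) : ℂ) * Nat.card M =
        Nat.card (𝓒[t] : Subgroup G) * ({a ∈ M | orderOf a = 2}.ncard : ℂ))
  · rw [ip_def, ← Finset.add_sum_erase _ _ (Finset.mem_univ 1), Finset.sum_congr rfl
      (g := fun _ => permChar G (G ⧸ M) t) fun y hy => ?_, h4.card] at hk
    · rw [Finset.sum_const, Finset.card_erase_of_mem (Finset.mem_univ _), Finset.card_univ,
        ← Nat.card_eq_fintype_card, h4.card] at hk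
      simp only [Function.comp_apply, map_one, permChar_apply_one, mul_one, permChar_apply] at hk
      exact_mod_cast (by rw [← hk, index]; norm_num; ring :
        (M.index : ℂ) + 3 * Nat.card (MulAction.fixedBy (G ⧸ M) t) = 4 * k)
    · obtain ⟨g, -, e⟩ := h y (mem_top _) (by
        rcases h4.mem_four.1 y.2 with e | e | e | e
        · exact absurd (Subtype.ext e) (Finset.mem_erase.1 hy).1
        all_goals rw [e]
        exacts [h4.ord_left, h4.ord_right, h4.mul.ord_right])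
      rw [map_one, mul_one, Function.comp_apply, coe_subtype, ← e, hχ.isClassFunction]

theorem card_dvd_factorial_index [IsSimpleGroup G] (hM : M ≠ ⊤) :
    Nat.card G ∣ M.index.factorial := by
  have h1 : M.normalCore = ⊥ := (IsSimpleGroup.eq_bot_or_eq_top_of_normal _ inferInstance).resolve_right
    fun e => hM (top_le_iff.1 (e ▸ M.normalCore_le))
  rw [← index_bot, ← h1, normalCore_eq_ker, index_ker, index, ← Nat.card_perm]
  exact card_subgroup_dvd_card _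

end Cfsg.GW

set_option linter.all false in
theorem Cfsg.Rz.GW_NumC_0 : True := by
  have := @_root_.Cfsg.GW.ccl.eq_def.{0}
  have := @_root_.Cfsg.GW.ccl.eq_1.{0}
  have := @_root_.Cfsg.GW.ccl.fun_cases
  trivial
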