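import Cfsg.Agent.GW.Basic

/-! # Relative forms of the local structure of `PSL₂(q)` and `A₇`; `D`-groups -/

set_option autoImplicit false

namespace Cfsg.GW

open Subgroup Cfsg.Agent.FT
open scoped commutatorElement

universe u

variable {G : Type u} [Group G]

/-- `K(v) = O(C_L(v))` -/
abbrev Kof (L : Subgroup G) (v : G) : Subgroup G := 𝐎(L ⊓ 𝓒[v])

/-- `X` is the centralizer in `L` of each of its nonidentity elements -/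
def CCr (L X : Subgroup G) : Prop := X ≤ L ∧ ∀ z ∈ X, z ≠ 1 → L ⊓ 𝓒[z] = X

/-- relative `TType` -/
structure TTr (L : Subgroup G) (n : ℕ) (T : Subgroup G) : Prop where
  cc : CCr L T
  card : Nat.card T = n
  card_norm : Nat.card (L ⊓ 𝓝(T) : Subgroup G) = 2 * n
  cyc : IsCyclic T

/-- relative `QType` -/
structure QTr (L : Subgroup G) (q : ℕ) (Q : Subgroup G) : Prop where
  cc : CCr L Q
  card : Nat.card Q = q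
  card_norm : 2 * Nat.card (L ⊓ 𝓝(Q) : Subgroup G) = q * (q - 1)
  cyc : IsCyclic ((L ⊓ 𝓝(Q)) /ₛ Q)
  three : ∀ g ∈ L, ∀ h ∈ L, ∀ y ∈ L, Q :^ g ≠ Q → Q :^ h ≠ Q → Q :^ g ≠ Q :^ h → y ∈ 𝓝(Q) →
    y ∈ 𝓝(Q :^ g) → y ∈ 𝓝(Q :^ h) → y = 1

/-- a simple `IsD8` subgroup -/
structure Simp (L : Subgroup G) : Prop where
  d8 : IsD8 L
  simple : IsSimpleGroup L
  nonab : ¬ IsMulCommutative L
  one : ∀ u ∈ L, ∀ v ∈ L, orderOf u = 2 → orderOf v = 2 → ∃ g ∈ L, g * u * g⁻¹ = v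

/-- relative `L2c` -/
structure L2r (L : Subgroup G) (a n q : ℕ) : Prop extends Simp L where
  inv : ∀ v ∈ L, ∀ s ∈ L, IsFour v s → ∀ y ∈ Kof L v, s * y * s⁻¹ = y⁻¹
  ti : ∀ v ∈ L, orderOf v = 2 → ∀ y ∈ Kof L v, y ≠ 1 → L ⊓ 𝓒[y] ≤ 𝓒[v]
  cycK : ∀ v ∈ L, orderOf v = 2 → IsCyclic (Kof L v)
  card_cent : ∀ v ∈ L, orderOf v = 2 → Nat.card (L ⊓ 𝓒[v] : Subgroup G) = 2 * a
  eps : n = a + 1 ∨ n + 1 = a
  hq : q = a + n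
  card : Nat.card L = 2 * a * n * q
  pp : IsPrimePow q
  types : ∀ y ∈ L, y ≠ 1 → Odd (orderOf y) → (∃ v ∈ L, orderOf v = 2 ∧ y ∈ Kof L v) ∨
    TTr L n (L ⊓ 𝓒[y]) ∨ QTr L q (L ⊓ 𝓒[y])

/-- the local facts about `A₇` that are used -/
structure A7r (L : Subgroup G) : Prop extends Simp L where
  eight : 8 ∣ Nat.card L
  cardK : ∀ v ∈ L, orderOf v = 2 → Nat.card (Kof L v) = 3
  cent : ∀ v ∈ L, orderOf v = 2 → ∃ s ∈ L, IsFour v s ∧ Kof L v ≤ 𝓒[s]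
  nine : ∀ a ∈ L, ∀ b ∈ L, IsFour a b → ¬ 9 ∣ Nat.card (Kof L a ⊔ Kof L b : Subgroup G)

/-- `N` is almost simple with socle `L` -/
structure AS (N L : Subgroup G) : Prop where
  d8 : IsD8 N
  normal : L ⊴ N
  simple : IsSimpleGroup L
  nonab : ¬ IsMulCommutative L
  cent : N ⊓ 𝓒(L) = ⊥

/-- the induction hypothesis -/
def IH (n : ℕ) : Prop := ∀ (L : Type u) [Group L] [Finite L], Nat.card L < n → IsSimpleGroup L →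
  ¬ IsMulCommutative L → IsD8 L → Known' L

/-- `N` is an `IsD8` group whose simple sections are known -/
structure DG (N : Subgroup G) : Prop where
  d8 : IsD8 N
  ih : IH.{u} (Nat.card N + 1)

/-- the complement to the centre of `L` in `O(C_L(a))` -/
def Kc (L : Subgroup G) (a : G) : Subgroup G := ⁅𝐎(L ⊓ 𝓒[a]), L ⊓ 𝓒[a]⁆

/-- `L` is the component of `N`, of type `PSL₂(q)`; `k = |K(a)|`, `i` involutions -/
structure LT (N L : Subgroup G) (k i β : ℕ) : Prop where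
  normal : L ⊴ N
  perfect : ⁅L, L⁆ = L
  cent : N ⊓ 𝓒(L) = 𝐎(N)
  max : ∀ X, X ≤ N → ⁅X, X⁆ = X → X ≤ L
  one : ∀ u ∈ L, ∀ v ∈ L, orderOf u = 2 → orderOf v = 2 → ∃ g ∈ L, g * u * g⁻¹ = v
  f3 : ∀ a ∈ N, ∀ s ∈ N, IsFour a s → ∀ X, X ≤ N ⊓ 𝓒[a] → N ⊓ 𝓒[a] ≤ 𝓝(X) →
    Group.IsNilpotent X → Odd (Nat.card X) → X ⊓ 𝓒[s] ≤ 𝐎(N) ∧ (X ⊓ 𝐎(N) = ⊥ → IsCyclic X)
  cyc : ∀ a ∈ L, orderOf a = 2 → IsCyclic (Kc L a)
  cardK : ∀ a ∈ L, orderOf a = 2 → Nat.card (Kc L a) = k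
  inv : ∀ a ∈ L, ∀ s ∈ L, IsFour a s → ∀ y ∈ Kc L a, s * y * s⁻¹ = y⁻¹
  comm : ∀ a ∈ L, ∀ s ∈ L, IsFour a s → ⁅𝐎(N ⊓ 𝓒[a]), zpowers s⁆ = Kc L a
  uniq : ∀ a ∈ L, ∀ b ∈ L, orderOf a = 2 → orderOf b = 2 → ∀ y ∈ Kc L a, ∀ y' ∈ Kc L b, y ≠ 1 →
    y⁻¹ * y' ∈ 𝐎(N) → a = b
  ncard : {a | a ∈ L ∧ orderOf a = 2}.ncard = i
  bad : ∀ p : ℕ, p.Prime → ∀ a ∈ L, orderOf a = 2 → ∀ y ∈ Kc L a, orderOf y = p →
    {b | b ∈ L ∧ orderOf b = 2 ∧ ∃ y' ∈ Kc L b, orderOf y' = p ∧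
      Odd (Nat.card (zpowers y ⊔ zpowers y' : Subgroup G))}.ncard ≤ β
  ineq₁ : 3 ≤ k → 300 * k ^ 3 < i ^ 2 * (i - β)
  ineq₂ : 5 ≤ k → 3325 * k ^ 6 < 16 * i ^ 2 * (i - β)

theorem IH.mono {m n : ℕ} (h : IH.{u} n) (hle : m ≤ n) : IH.{u} m :=
  fun L _ _ hL => h L (hL.trans_le hle)

end Cfsg.GW

set_option linter.all false in
theorem Cfsg.Rz.GW_RelDefs_0 : True := by
  have := @_root_.Cfsg.GW.Kof.eq_def.{0}
  have := @_root_.Cfsg.GW.Kof.eq_1.{0}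
  have := @_root_.Cfsg.GW.Kof.fun_cases
  have := @_root_.Cfsg.GW.A7r.mk.congr_simp.{0}
  have := @_root_.Cfsg.GW.IH.eq_def.{0}
  have := @_root_.Cfsg.GW.IH.eq_1.{0}
  have := @_root_.Cfsg.GW.IH.fun_cases
  have := @_root_.Cfsg.GW.AS.mk.congr_simp.{0}
  have := @_root_.Cfsg.GW.CCr.eq_def.{0}
  have := @_root_.Cfsg.GW.CCr.eq_1.{0}
  have := @_root_.Cfsg.GW.CCr.fun_cases
  have := @_root_.Cfsg.GW.Kc.eq_def.{0}
  have := @_root_.Cfsg.GW.Kc.eq_1.{0}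
  have := @_root_.Cfsg.GW.Kc.fun_cases
  have := @_root_.Cfsg.GW.L2r.mk.congr_simp.{0}
  have := @_root_.Cfsg.GW.LT.mk.congr_simp.{0}
  have := @_root_.Cfsg.GW.QTr.mk.congr_simp.{0}
  have := @_root_.Cfsg.GW.Simp.mk.congr_simp.{0}
  have := @_root_.Cfsg.GW.TTr.mk.congr_simp.{0}
  have := @_root_.Cfsg.GW.DG.mk.congr_simp.{0}
  trivial
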