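import Cfsg.Agent.Blk.PrinSec
import Cfsg.Agent.Char.BrauerInd

/-!
# Averages of functions of the `p`-part only depend on fusion
-/

set_option autoImplicit false
set_option linter.unusedSectionVars false
set_option linter.unusedVariables false
set_option linter.style.haveILetI false

namespace Cfsg

open Subgroup
open scoped ComplexConjugate

universe u v

variable {G : Type u} [Group G] [Finite G] {Y : Type v} [Group Y] [Finite Y] {p : ℕ}
  [hp : Fact p.Prime] {i : Y →* G}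

local notation "C₁(" u ")" => Subgroup.centralizer ({u} : Set _)

/-- The image of `i` contains a Sylow `p`-subgroup and controls fusion of `p`-subgroups. -/
structure CtlFus (p : ℕ) (i : Y →* G) : Prop where
  inj : Function.Injective i
  into : ∀ Q : Subgroup G, IsPGroup p Q → ∃ g : G, ∀ x ∈ Q, g * x * g⁻¹ ∈ i.range
  ctl : ∀ Q : Subgroup Y, IsPGroup p Q → ∀ g : G, (∀ x ∈ Q, g * i x * g⁻¹ ∈ i.range) →
    ∃ y : Y, ∀ x ∈ Q, g * i x * g⁻¹ = i (y * x * y⁻¹)

theorem ctlFus_id : CtlFus p (MonoidHom.id G) :=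
  ⟨fun _ _ h => h, fun _ _ => ⟨1, fun x _ => ⟨_, rfl⟩⟩, fun _ _ g _ => ⟨g, fun _ _ => rfl⟩⟩

theorem ctlFus_subtype (S : Sylow p G) {Y : Subgroup G} (hS : (S : Subgroup G) ≤ Y)
    (h : ∀ Q ≤ (S : Subgroup G), ∀ g : G, (∀ x ∈ Q, g * x * g⁻¹ ∈ (S : Subgroup G)) →
      ∃ y ∈ Y, ∀ x ∈ Q, g * x * g⁻¹ = y * x * y⁻¹) : CtlFus p Y.subtype := by
  have key : ∀ Q : Subgroup Y, IsPGroup p Q →
      ∃ y : Y, ∀ x ∈ Q, (y : G) * x * (y : G)⁻¹ ∈ (S : Subgroup G) := fun Q hQ => by
    obtain ⟨R, hR⟩ := hQ.exists_le_sylow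
    obtain ⟨y, hy⟩ := MulAction.exists_smul_eq Y R (S.subtype hS)
    refine ⟨y, fun x hx => ?_⟩
    have : y * x * y⁻¹ ∈ ((y • R : Sylow p Y) : Subgroup Y) := ⟨x, hR hx, rfl⟩
    rw [hy] at this
    exact this
  refine ⟨subtype_injective _, fun Q hQ => ?_, fun Q hQ g hg => ?_⟩
  · obtain ⟨R, hR⟩ := hQ.exists_le_sylow
    obtain ⟨g, hg⟩ := MulAction.exists_smul_eq G R S
    refine ⟨g, fun x hx => ⟨⟨_, hS ?_⟩, rfl⟩⟩
    rw [← hg]
    exact ⟨x, hR hx, rfl⟩
  · simp only [range_subtype, coe_subtype] at hg ⊢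
    obtain ⟨a, ha⟩ := key Q hQ
    obtain ⟨b, hb⟩ := key (((Q.map Y.subtype).map (MulAut.conj g).toMonoidHom).subgroupOf Y)
      (((hQ.map _).map _).comap_subtype)
    obtain ⟨y, hy, e⟩ := h ((Q.map Y.subtype).map (MulAut.conj (a : G)).toMonoidHom)
      (by rintro _ ⟨_, ⟨x, hx, rfl⟩, rfl⟩; exact ha x hx) (b * g * (a : G)⁻¹) (by
        rintro _ ⟨_, ⟨x, hx, rfl⟩, rfl⟩
        convert hb ⟨_, hg x hx⟩ ⟨_, ⟨x, hx, rfl⟩, rfl⟩ using 1
        simp [mul_assoc])
    refine ⟨b⁻¹ * ⟨y, hy⟩ * a, fun x hx => ?_⟩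
    have := e _ ⟨_, ⟨x, hx, rfl⟩, rfl⟩
    simp only [MulEquiv.coe_toMonoidHom, MulAut.conj_apply, coe_subtype] at this
    simp only [coe_mul, coe_inv]
    calc g * x * g⁻¹ = (b : G)⁻¹ * (b * g * (a : G)⁻¹ * (a * x * (a : G)⁻¹) *
          (b * g * (a : G)⁻¹)⁻¹) * b := by group
      _ = _ := by rw [this]; group

namespace CtlFus

theorem isConj_map_iff (h : CtlFus p i) {u v : Y} (hu : IsPElt p u) :
    IsConj (i u) (i v) ↔ IsConj u v := by
  refine ⟨fun e => ?_, i.map_isConj⟩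
  obtain ⟨g, hg⟩ := isConj_iff.1 e
  obtain ⟨y, hy⟩ := h.ctl _ (isPElt_iff_isPGroup_zpowers.1 hu) g (by
    rintro _ ⟨k, rfl⟩
    exact ⟨v ^ k, by rw [map_zpow, map_zpow, ← hg, conj_zpow]⟩)
  exact isConj_iff.2 ⟨y, h.inj (by rw [← hy u (mem_zpowers u), hg])⟩

theorem exists_isConj (h : CtlFus p i) {x : G} (hx : IsPElt p x) : ∃ u, IsConj x (i u) := by
  obtain ⟨g, hg⟩ := h.into _ (isPElt_iff_isPGroup_zpowers.1 hx)
  obtain ⟨u, hu⟩ := hg x (mem_zpowers x)
  exact ⟨u, isConj_iff.2 ⟨g, hu.symm⟩⟩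

theorem isPElt_iff (h : CtlFus p i) {u : Y} : IsPElt p (i u) ↔ IsPElt p u := by
  simp only [IsPElt, orderOf_injective i h.inj]

theorem secOne_comp (h : CtlFus p i) (u : Y) : secOne p (i u) ∘ i = secOne p u := by
  funext y
  have : i y ∈ pSection p (i u) ↔ y ∈ pSection p u := by
    rw [mem_pSection, mem_pSection, ← map_pPart, h.isConj_map_iff (isPElt_pPart p y)]
  by_cases hy : y ∈ pSection p u
  · rw [Function.comp_apply, secOne_of_mem hy, secOne_of_mem (this.2 hy)]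
  · rw [Function.comp_apply, secOne_of_notMem hy, secOne_of_notMem (mt this.1 hy)]

theorem eq_sum_secOne (h : CtlFus p i) [Fintype (ConjClasses Y)] {f : G → ℂ}
    (hf : IsClassFunction G f) :
    (fun g => f (pPart p g)) = ∑ c : ConjClasses Y, f (i c.out) • secOne p (i c.out) := by
  funext g
  obtain ⟨u, hu⟩ := h.exists_isConj (isPElt_pPart p g)
  have hu' : IsPElt p u := h.isPElt_iff.1 ((isPElt_iff_of_isConj hu).1 (isPElt_pPart p g))
  have h1 : IsConj (pPart p g) (i (ConjClasses.mk u).out) :=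
    hu.trans (i.map_isConj (ConjClasses.mk_eq_mk_iff_isConj.1 (Quotient.out_eq _).symm))
  rw [Finset.sum_apply, Finset.sum_eq_single (ConjClasses.mk u)]
  · rw [Pi.smul_apply, secOne_of_mem (mem_pSection.2 h1), smul_eq_mul, mul_one]
    obtain ⟨x, hx⟩ := isConj_iff.1 h1
    rw [← hx, hf]
  · intro c _ hc
    rw [Pi.smul_apply, secOne_of_notMem fun e => hc ?_, smul_zero]
    rw [← Quotient.out_eq c]
    exact (ConjClasses.mk_eq_mk_iff_isConj.2 ((h.isConj_map_iff hu').1 (hu.symm.trans e))).symm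
  · simp

theorem cent (h : CtlFus p i) {u : Y} (hu : IsPElt p u) :
    ∃ j : (C₁(u) : Subgroup Y) →* (C₁(i u) : Subgroup G), CtlFus p j := by
  have hm : ∀ y, i y ∈ C₁(i u) ↔ y ∈ C₁(u) := fun y => by
    rw [mem_centralizer_singleton_iff, mem_centralizer_singleton_iff, ← map_mul, ← map_mul,
      h.inj.eq_iff]
  have hz := isPElt_iff_isPGroup_zpowers.1 hu
  refine ⟨(i.comp (Subgroup.subtype _)).codRestrict _ fun y => (hm y).2 y.2,
    fun a b e => Subtype.ext (h.inj (congrArg Subtype.val e)), fun Q hQ => ?_, fun Q hQ g hg => ?_⟩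
  · have hQ' : IsPGroup p (Q.map (Subgroup.subtype _) ⊔ zpowers (i u) : Subgroup G) :=
      IsPGroup.to_sup_of_normal_right' (hQ.map _) (isPElt_iff_isPGroup_zpowers.1 (hu.map i))
        ((map_subtype_le Q).trans (by
          rw [← centralizer_zpowers]; exact centralizer_le_normalizer _))
    obtain ⟨g, hg⟩ := h.into _ hQ'
    obtain ⟨y, hy⟩ := h.ctl _ hz g (by
      rintro _ ⟨k, rfl⟩
      exact hg _ (mem_sup_right ⟨k, (map_zpow i u k).symm⟩))
    have e := hy u (mem_zpowers u)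
    have hc : (i y)⁻¹ * g ∈ C₁(i u) := mem_centralizer_singleton_iff.2 (by
      rw [map_mul, map_mul, map_inv] at e
      calc (i y)⁻¹ * g * i u = (i y)⁻¹ * (g * i u * g⁻¹) * g := by group
        _ = _ := by rw [e]; group)
    refine ⟨⟨_, hc⟩, fun x hx => ?_⟩
    obtain ⟨w, hw⟩ := hg x (mem_sup_left ⟨x, hx, rfl⟩)
    have e2 : i (y⁻¹ * w * y) = (i y)⁻¹ * g * x * ((i y)⁻¹ * g)⁻¹ := by
      rw [map_mul, map_mul, map_inv, hw]; group
    exact ⟨⟨y⁻¹ * w * y, (hm _).1 (e2 ▸ mul_mem (mul_mem hc x.2) (inv_mem hc))⟩, Subtype.ext e2⟩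
  · have hQ' : IsPGroup p (Q.map (Subgroup.subtype _) ⊔ zpowers u : Subgroup Y) :=
      IsPGroup.to_sup_of_normal_right' (hQ.map _) hz
        ((map_subtype_le Q).trans (by
          rw [← centralizer_zpowers]; exact centralizer_le_normalizer _))
    have e : (g : G) * i u * (g : G)⁻¹ = i u :=
      mul_inv_eq_iff_eq_mul.2 (mem_centralizer_singleton_iff.1 g.2)
    have hle : Q.map (Subgroup.subtype _) ⊔ zpowers u ≤
        (i.range.comap (MulAut.conj (g : G)).toMonoidHom).comap i := by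
      refine sup_le ?_ (zpowers_le.2 ⟨u, e.symm⟩)
      rintro _ ⟨x, hx, rfl⟩
      obtain ⟨w, hw⟩ := hg x hx
      exact ⟨w, congrArg Subtype.val hw⟩
    obtain ⟨y, hy⟩ := h.ctl _ hQ' g fun x hx => hle hx
    refine ⟨⟨y, mem_centralizer_singleton_iff.2 (mul_inv_eq_iff_eq_mul.1 (h.inj ?_))⟩,
      fun x hx => Subtype.ext (hy x (mem_sup_left ⟨x, hx, rfl⟩))⟩
    rw [← hy u (mem_sup_right (mem_zpowers u)), e]

end CtlFus

theorem IsSec.ip_secOne_one {H : Type v} [Group H] [Finite H] {f : H →* G} {x : G}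
    (h : IsSec p f x) : ip (secOne p x) (fun _ => 1) = ip (secOne p (1 : H)) fun _ => 1 := by
  rw [secOne, secOne, h.ip_indicator_pSection (IsClassFunction.const 1) (IsClassFunction.const 1),
    isSec_id_one.ip_indicator_pSection (IsClassFunction.const 1) (IsClassFunction.const 1)]
  rfl

theorem secOne_of_not_isPElt {u : G} (hu : ¬ IsPElt p u) : secOne p u = 0 := funext fun g =>
  secOne_of_notMem fun h => hu ((isPElt_iff_of_isConj h).1 (isPElt_pPart p g))

theorem CtlFus.ip_secOne_aux (n : ℕ) : ∀ (G : Type u) [Group G] [Finite G] (Y : Type v) [Group Y]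
    [Finite Y] (i : Y →* G), Nat.card G = n → CtlFus p i →
    ∀ u : Y, ip (secOne p (i u)) (fun _ => 1) = ip (secOne p u) fun _ => 1 := by
  classical
  induction n using Nat.strong_induction_on with
  | _ n ih =>
  intro G _ _ Y _ _ i hn h
  haveI := Fintype.ofFinite (ConjClasses Y)
  have h1 : ∀ u : Y, ¬ (IsPElt p u ∧ i u ∈ center G) →
      ip (secOne p (i u)) (fun _ => 1) = ip (secOne p u) fun _ => 1 := by
    intro u hu
    by_cases hu' : IsPElt p u
    · obtain ⟨j, hj⟩ := h.cent hu'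
      rw [(isSec_centralizer hu').ip_secOne_one, (isSec_centralizer (hu'.map i)).ip_secOne_one,
        ← map_one j]
      refine ih _ ?_ _ _ j rfl hj 1
      rw [← hn]
      refine card_lt_of_ne_top fun e => hu ⟨hu', mem_center_iff.2 fun g => ?_⟩
      exact mem_centralizer_singleton_iff.1 (e ▸ mem_top g)
    · rw [secOne_of_not_isPElt hu', secOne_of_not_isPElt (mt h.isPElt_iff.1 hu'), ip_zero_left,
        ip_zero_left]
  have h2 : ∀ u : Y, IsPElt p u ∧ i u ∈ center G →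
      ip (secOne p (i u)) (fun _ => 1) = ip (secOne p (1 : G)) (fun _ => 1) ∧
      ip (secOne p u) (fun _ => 1) = ip (secOne p (1 : Y)) (fun _ => 1) := fun u hu =>
    ⟨(isSec_id (hu.1.map i) hu.2).ip_secOne_one, (isSec_id hu.1 (mem_center_iff.2 fun y =>
      h.inj (by rw [map_mul, map_mul, mem_center_iff.1 hu.2]))).ip_secOne_one⟩
  have h3 : ip (secOne p (1 : G)) (fun _ => 1) = ip (secOne p (1 : Y)) (fun _ => 1) := by
    have e1 := congrArg (ip · fun _ => 1) (h.eq_sum_secOne (IsClassFunction.const 1))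
    have e2 := congrArg (ip · fun _ => 1)
      ((ctlFus_id (p := p) (G := Y)).eq_sum_secOne (IsClassFunction.const 1))
    simp only [ip_sum_left, one_smul, ip_one_one, MonoidHom.id_apply] at e1 e2
    have e3 : ∑ c : ConjClasses Y, (if IsPElt p c.out ∧ i c.out ∈ center G then
        ip (secOne p (1 : G)) (fun _ => 1) - ip (secOne p (1 : Y)) (fun _ => 1) else 0) = 0 := by
      refine Eq.trans ?_ (sub_eq_zero.2 (e1.symm.trans e2))
      rw [← Finset.sum_sub_distrib]
      refine Finset.sum_congr rfl fun c _ => ?_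
      split_ifs with hc
      · rw [(h2 _ hc).1, (h2 _ hc).2]
      · rw [h1 _ hc, sub_self]
    rw [← Finset.sum_filter, Finset.sum_const, nsmul_eq_mul, mul_eq_zero] at e3
    refine sub_eq_zero.1 (e3.resolve_left
      (Nat.cast_ne_zero.2 (Finset.card_ne_zero.2 ⟨ConjClasses.mk 1, ?_⟩)))
    have : (ConjClasses.mk (1 : Y)).out = 1 :=
      isConj_one_left.1 (ConjClasses.mk_eq_mk_iff_isConj.1 (Quotient.out_eq _))
    simp [this, isPElt_one, one_mem]
  intro u
  by_cases hu : IsPElt p u ∧ i u ∈ center G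
  · rw [(h2 u hu).1, (h2 u hu).2, h3]
  · exact h1 u hu

theorem CtlFus.ip_one_eq (h : CtlFus p i) {f : G → ℂ} (hf : IsClassFunction G f) :
    ip (fun g => f (pPart p g)) (fun _ => 1) = ip (fun y => f (i (pPart p y))) fun _ => 1 := by
  haveI := Fintype.ofFinite (ConjClasses Y)
  rw [h.eq_sum_secOne hf]
  refine Eq.trans ?_ (congrArg (ip · fun _ => 1)
    ((ctlFus_id (p := p) (G := Y)).eq_sum_secOne (hf.comp i))).symm
  simp only [ip_sum_left, ip_smul_left, CtlFus.ip_secOne_aux _ G Y i rfl h, MonoidHom.id_apply,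
    Function.comp_apply]

theorem ip_comp_pPart_of_notMem {M : Ideal AlgInt} (hM : IsPModular p M) {f : G → ℂ}
    (hf : IsClassFunction G f) {χ : IrrCharacter G} (hχ : χ ∉ principalBlock M G) :
    ip (fun g => f (pPart p g)) χ.1 = 0 := by
  haveI := Fintype.ofFinite (ConjClasses G)
  simp only [ctlFus_id.eq_sum_secOne hf, ip_sum_left, ip_smul_left, ip_secOne_of_notMem hM _ hχ,
    mul_zero, Finset.sum_const_zero]

end Cfsg

set_option linter.all false in
theorem Cfsg.Rz.GW_StabSec_0 : True := by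
  have := @_root_.Cfsg.CtlFus.mk.congr_simp.{0, 0}
  trivial
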