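import Cfsg.Agent.GW.StepDefs
import Cfsg.Agent.GW.DGrp

/-!
# `C(t)` not maximal: set-up and the case `|π(F(M))| ≥ 2`

`P_v = O_p(M_v)`, `M_t = M`, `M_s = M^ρ`, `M_{ts} = M^{ρ²}`; `C(v) ≤ M_v`; these are three distinct
subgroups (`ρ³ ∈ C(V) ≤ M`, `N(M) = M`). (★) = `DG.star` (every proper subgroup is `DG`, `IH.dg`).

`exists_A2`: a maximal `M₀ ⊇ C(t)` is a proper overgroup; `t` does not centralize `F(O(M₀))`
(`coprime_cent_fitting`), so not some `O_p(M₀)`. Among maximal `M ⊇ C(t)` choose `W(M) = [O_p(M),t]` of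
largest order; let `M' ⊇ N(W(M)) ⊇ C(t)` be maximal. (★) in `M'`: `W(M) = [W(M),t] ≤ W(M')`, so they are
equal and `N(W(M')) ≤ M'`. `M'` has not one class, so (`DihOf.oneCl`) `t` is not fused in `M'` to
`s'` for `s' = s` or `xs`; take `ρ` from `exists_rho` in `G`. `P = ⟨C_P(v)⟩` (`le_of_four`), so `t` does
not centralize `C_P(s')` or `C_P(ts')` (`A2.swap`).

`nc`: `Q = O_p(N) ≤ C(t) ≤ M`. `Y = P_t ∩ N` is normalized by `C_N(t)`; (★): `[Y,t] ≤ Q ≤ C(t)`, so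
`t` centralizes `Y ⊇ C_{P_t}(Q)`, and `axb` for `Q × ⟨t⟩` on `P_t` contradicts `ne`.
`odd_of_cent`: `exists_mem_four` and `nc` for the three conjugate configurations.
`inf_not_le`: `X = [C_{P_t}(s), t] ≠ 1`; `Y = P_t ∩ M_s` is normalized by `C_{M_s}(t)`, (★) in `M_s`:
`X ≤ [Y,t] ≤ P_s`.
`norm_le`: `N' ⊇ N(Y)` maximal is infected by `M`, contains `P_t` and `V`; (★): `W ≤ O_p(N')`;
`selfcent`; `R' = O_{π'}(F(N'))` centralizes `W`, so `R' ≤ M`, `R' = 1` (`Infects.inf_eq_bot`);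
`Infects.eq`.
`not_multi`: `D = P_t ∩ P_s`, `N ⊇ N(D)` maximal, infected by `M_t` and `M_s`, `V ≤ N`; (★):
`1 ≠ [D,t] ≤ O_p(N)`; `selfcent`. `R = O_{π'}(F(N)) ≠ 1` (else `N = M_t = M_s`), `R` is odd,
`R ∩ M_t = R ∩ M_s = 1`, so `t`, `s` invert `R`, `u = ts` centralizes it, `R ≤ M_u`. `F(M)` is odd
(`odd_of_cent` for `N = M`). Let `E = O_{p'}(F(M_t)) ≤ C(D) ≤ N`. By `norm_le`, `C_R(Y) = 1` for
`V`-invariant `1 ≠ Y ≤ E`. For a prime `r ≠ p`, (★) in `N`: `[O_r(M_t),t] ≤ O_r(N)` centralizes `R`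
(`r ∈ π`), so it is trivial; `[O_r(M_t), u]` centralizes `R`, so it is trivial: `V` centralizes `E`,
and (conjugating by `ρ²`) `E_u = O_{p'}(F(M_u))`. So `R = [R,t]` centralizes `E_u`. `Q = O_q(M_t) ≠ 1`
lies in `C(V) ≤ M_u`, `[C_{P_u}(t), Q] ≤ P_u ∩ Q = 1`; `wf` for `b ∈ Q`: `[R,b]` centralizes `P_u`, and
`R = [R,Q]` as `C_R(Q) = 1`. So `R ≤ C_{M_u}(F(M_u)) ≤ F(M_u)`, a `π`-group: `R = 1`.
-/

set_option autoImplicit false
set_option linter.unusedSectionVars false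
set_option linter.style.haveILetI false

namespace Cfsg.GW

open Subgroup Cfsg.Agent.FT
open scoped commutatorElement

universe u

variable {G : Type u} [Group G] [Finite G] {M N S : Subgroup G} {x s t ρ : G} {p : ℕ}

theorem A2.conj (h : A2 t s ρ p M) : A2 s (t * s) ρ p (M :^ ρ) := by
  have e : 𝓒[s] = (𝓒[t] : Subgroup G) :^ ρ := by rw [← centralizer_singleton_conj, h.rho_t]
  refine ⟨h.simple, h.d8, h.ih, ?_, h.rho_s, ?_, coatom_conj h.max ρ, e ▸ conj_mono h.cent ρ,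
    isSolvable_conj_iff.2 h.sol, fun a => h.rho ?_, h.prime, h.odd, fun a => h.ne ?_, ?_⟩
  · have := h.four.conj ρ
    rwa [h.rho_t, h.rho_s] at this
  · rw [← conj_mul, h.rho_t, h.rho_s]
  · rwa [mem_map_conj, inv_mul_cancel, one_mul] at a
  · rwa [e, piCoreOf_map_conj, map_conj_le_map_conj_iff] at a
  · rw [← h.rho_t, zpowers_conj, piCoreOf_map_conj, ← conj_comm, normalizer_map_conj]
    exact conj_mono h.norm ρ

theorem A2.rho_u (h : A2 t s ρ p M) : ρ * (t * s) * ρ⁻¹ = t := by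
  rw [← conj_mul, h.rho_t, h.rho_s, h.four.comm.eq, ← mul_assoc, h.four.ss, one_mul]

theorem A2.swap (h : A2 t s ρ p M) : A2 t (t * s) (ρ * ρ) p M := by
  have e : ∀ y, ρ * ρ * y * (ρ * ρ)⁻¹ = ρ * (ρ * y * ρ⁻¹) * ρ⁻¹ := fun y => by group
  refine ⟨h.simple, h.d8, h.ih, h.four.mul, ?_, ?_, h.max, h.cent, h.sol, fun a => h.rho ?_,
    h.prime, h.odd, h.ne, h.norm⟩
  · rw [e, h.rho_t, h.rho_s]
  · rw [e, h.rho_u, h.rho_t, ← mul_assoc, h.four.tt, one_mul]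
  · refine (M.mul_mem_cancel_right a).1 (h.cent (mem_cent1.2 ?_))
    rw [← mul_inv_eq_iff_eq_mul, show ρ * (ρ * ρ) * t * (ρ * (ρ * ρ))⁻¹ =
      ρ * (ρ * (ρ * t * ρ⁻¹) * ρ⁻¹) * ρ⁻¹ by group, h.rho_t, h.rho_s, h.rho_u]

theorem A2.t_mem (h : A2 t s ρ p M) : t ∈ M := h.cent (mem_cent1.2 rfl)

theorem A2.four_le (h : A2 t s ρ p M) : Cfsg.GW.four t s ≤ M :=
  four_le_iff.2 ⟨h.t_mem, h.cent (mem_cent1.2 h.four.comm.eq.symm)⟩

theorem A2.conj_ne (h : A2 t s ρ p M) : M :^ ρ ≠ M := by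
  haveI := h.simple
  intro e
  refine h.rho (norm_eq_of_coatom h.max (IsNormalOf.refl M) (fun e0 => ?_) ▸ map_conj_eq_iff.1 e)
  exact ne_one_of_ord h.four.ord_left (mem_bot.1 (e0 ▸ h.t_mem))

theorem le_cent1_iff_comm {X : Subgroup G} : X ≤ 𝓒[t] ↔ ⁅X, zpowers t⁆ = ⊥ := by
  rw [← le_cent_zpowers, le_cent_iff_comm]

theorem Base.exists_A2 (h : Base S x s t) (ih : IH.{u} (Nat.card G))
    (hH : ¬ IsCoatom (𝓒[t] : Subgroup G))
    (hA : ∀ M : Subgroup G, M ≠ ⊤ → 𝓒[t] < M →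
      Group.IsSolvable M ∧ ¬ 𝐎(M) ≤ 𝓒[t] ∧ ¬ OneCl M t) :
    ∃ (s ρ : G) (p : ℕ) (M : Subgroup G), A2 t s ρ p M ∧ ¬ piCoreOf {p} M ⊓ 𝓒[s] ≤ 𝓒[t] := by
  haveI := h.simple
  have h4 := h.dih.isFour
  have tC : t ∈ (𝓒[t] : Subgroup G) := mem_cent1.2 rfl
  have hA' : ∀ M : Subgroup G, IsCoatom M → 𝓒[t] ≤ M →
      Group.IsSolvable M ∧ ¬ 𝐎(M) ≤ 𝓒[t] ∧ ¬ OneCl M t := fun M hM hle =>
    hA M hM.1 (lt_of_le_of_ne hle fun e => hH (e ▸ hM))
  obtain ⟨M₀, hM₀, l₀⟩ := exists_coatom_ge (X := 𝓒[t]) fun e => norm_ne_top (X := zpowers t)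
    (by simpa using ne_one_of_ord h4.ord_left) (fun e' => h4.notMem (e' ▸ mem_top s))
    (top_le_iff.1 (e ▸ cent1_le_norm_zpowers t))
  obtain ⟨p, hp, hp2, hne⟩ : ∃ p : ℕ, p.Prime ∧ p ≠ 2 ∧ ¬ piCoreOf {p} M₀ ≤ 𝓒[t] := by
    by_contra hc
    push Not at hc
    refine (hA' M₀ hM₀ l₀).2.1 (le_cent1_iff.2 (coprime_cent_fitting (A := zpowers t)
      (zpowers_le.2 ((piCoreOf_normalOf _ _).norm (l₀ tC))) ?_ (sol_of_odd (odd_core _))
      ⟨mem_zpowers t, le_cent1_iff.1 (fittingOf_le_of_pcore fun q hq hd => ?_)⟩))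
    · rw [Nat.card_zpowers]
      exact coprime_orderOf_of_odd (odd_core _) h4.tt
    · refine (piCoreOf_le_of_normal (piCoreOf_normalOf _ _)).trans (hc q hq ?_)
      rintro rfl
      exact (odd_core M₀).not_two_dvd_nat (hd.trans (card_dvd_of_le (fittingOf_le _)))
  haveI := Fact.mk hp
  obtain ⟨M₁, ⟨hM₁, l₁⟩, hmax⟩ := Set.exists_max_image {M : Subgroup G | IsCoatom M ∧ 𝓒[t] ≤ M}
    (fun M => Nat.card (⁅piCoreOf {p} M, zpowers t⁆ : Subgroup G)) (Set.toFinite _) ⟨M₀, hM₀, l₀⟩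
  have n₁ : M₁ ≤ 𝓝(piCoreOf {p} M₁) := (piCoreOf_normalOf _ _).norm
  set W := ⁅piCoreOf {p} M₁, zpowers t⁆ with hW
  have hWP : W ≤ piCoreOf {p} M₁ := comm_le_left (zpowers_le.2 (n₁ (l₁ tC)))
  have hW0 : W ≠ ⊥ := fun e => hne (le_cent1_iff_comm.2 (by
    have := hmax M₀ ⟨hM₀, l₀⟩
    simp only [e, card_bot] at this
    exact (card_le_one_iff_eq_bot _).1 this))
  obtain ⟨M, hM, l⟩ := exists_coatom_ge (norm_ne_top hW0 fun e =>
    hM₁.1 (top_le_iff.1 (e ▸ hWP.trans (piCoreOf_le _))))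
  have nW : 𝓒[t] ≤ 𝓝(W) := le_norm_comm (l₁.trans n₁) (cent1_le_norm_zpowers t)
  have lM : 𝓒[t] ≤ M := nW.trans l
  have hs := (ih.dg h.isD8 hM.1).star (lM tC) h4.ord_left hp2 (le_normalizer.trans l)
    ((pgroup_piCoreOf p M₁).to_le hWP) (inf_le_right.trans nW)
  have cc := comm_comm_eq (odd_of_pgroup hp2 (pgroup_piCoreOf p M₁)) h4.tt (n₁ (l₁ tC))
  rw [hW, cc] at hs
  have hWW : W = ⁅piCoreOf {p} M, zpowers t⁆ :=
    eq_of_le_of_card_le (by rw [hW, ← cc]; exact comm_mono hs le_rfl) (hmax M ⟨hM, lM⟩)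
  obtain ⟨sol, -, hone⟩ := hA' M hM lM
  have hne' : ¬ piCoreOf {p} M ≤ 𝓒[t] := fun e => hW0 (hWW ▸ le_cent1_iff_comm.1 e)
  have key : ∀ s', Base S x s' t → (¬ ∃ g ∈ M, g * t * g⁻¹ = s') →
      ∃ (s ρ : G) (p : ℕ) (M : Subgroup G), A2 t s ρ p M ∧ ¬ piCoreOf {p} M ⊓ 𝓒[s] ≤ 𝓒[t] := by
    intro s' hb hn
    have f4 := hb.dih.isFour
    obtain ⟨ρ, -, r1, r2⟩ := hb.dih.exists_rho (hb.one s' (mem_top _) f4.ord_right)
    have a : A2 t s' ρ p M := ⟨h.simple, h.isD8, ih, f4, r1, r2, hM, lM, sol,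
      fun hρ => hn ⟨ρ, hρ, r1⟩, hp, hp2, hne', hWW ▸ l⟩
    by_cases c : piCoreOf {p} M ⊓ 𝓒[s'] ≤ 𝓒[t]
    · have nP := a.four_le.trans (piCoreOf_normalOf {p} M).norm
      exact ⟨_, _, p, M, a.swap, fun c' => hne' (le_of_four
        (odd_of_pgroup hp2 (pgroup_piCoreOf p M)) f4 (nP (left_mem_four _ _))
        (nP (right_mem_four _ _)) inf_le_right c c')⟩
    · exact ⟨_, _, p, M, a, c⟩
  by_cases c : ∃ g ∈ M, g * t * g⁻¹ = s
  · exact key _ h.swap fun c' => hone ((h.dih.mono (h.dih.le_cent.trans lM) le_top).oneCl c c')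
  · exact key _ h c

/-- (★) for the intersection of `N` with a `p`-group normalized by `C(t)` -/
theorem A2.star (h : A2 t s ρ p M) (hN : N ≠ ⊤) (ht : t ∈ N) {r : ℕ} [Fact r.Prime] (hr : r ≠ 2) :
    ⁅piCoreOf {r} M ⊓ N, zpowers t⁆ ≤ piCoreOf {r} N :=
  (h.ih.dg h.d8 hN).star ht h.four.ord_left hr inf_le_right (pgroup_piCoreOf r M).to_inf_left
    (le_normalizer_inf (inf_le_right.trans (h.cent.trans (piCoreOf_normalOf _ _).norm))
      (inf_le_left.trans le_normalizer))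

theorem A2.nc (h : A2 t s ρ p M) (hN : N ≠ ⊤) (ht : t ∈ N) (hC : 𝓒(piCoreOf {p} N) ≤ N) :
    ¬ piCoreOf {p} N ≤ 𝓒[t] := by
  haveI := Fact.mk h.prime
  intro hQ
  have nP : M ≤ 𝓝(piCoreOf {p} M) := (piCoreOf_normalOf _ _).norm
  have h1 : piCoreOf {p} M ⊓ N ≤ 𝓒[t] := le_cent1_of_comm_le
    (odd_of_pgroup h.odd (pgroup_piCoreOf p M).to_inf_left) h.four.ord_left
    (zpowers_le.1 (le_normalizer_inf (zpowers_le.2 (nP h.t_mem))
      ((zpowers_le.2 ht).trans le_normalizer))) ((h.star hN ht h.odd).trans hQ)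
  refine h.ne (le_cent_zpowers.1 (le_cent_symm (axb (pgroup_piCoreOf p M) (pgroup_piCoreOf p N) ?_
    (hQ.trans (h.cent.trans nP)) (zpowers_le.2 (nP h.t_mem)) (le_cent_zpowers.2 hQ)
    (le_cent_zpowers.2 ((inf_le_inf_left _ hC).trans h1)))))
  rw [Nat.card_zpowers, h.four.ord_left, Nat.prime_dvd_prime_iff_eq h.prime Nat.prime_two]
  exact h.odd

theorem A2.odd_of_cent (h : A2 t s ρ p M) (hN : N ≠ ⊤) (hV : Cfsg.GW.four t s ≤ N)
    (hC : 𝓒(piCoreOf {p} N) ≤ N) {C : Subgroup G} (hn : C ⊴ N) (hc : C ≤ 𝓒(piCoreOf {p} N)) :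
    Odd (Nat.card C) := by
  by_contra ho
  obtain ⟨ht, hs⟩ := four_le_iff.1 hV
  rcases (h.d8.sub N).exists_mem_four h.four ht hs hn ho with a | a | a
  · exact h.nc hN ht hC (le_cent1_iff.2 (hc a))
  · exact h.conj.nc hN hs hC (le_cent1_iff.2 (hc a))
  · exact h.conj.conj.nc hN (mul_mem ht hs) hC (le_cent1_iff.2 (hc a))

theorem A2.selfcent (h : A2 t s ρ p M) (hN : N ≠ ⊤) (hV : Cfsg.GW.four t s ≤ N)
    (hC : 𝓒(piCoreOf {p} N) ≤ N) : N ⊓ 𝓒(𝓕(N)) ≤ 𝓕(N) := by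
  haveI := Fact.mk h.prime
  have hn : N ⊓ 𝓒(𝓕(N)) ⊴ N := IsNormalOf.cent (fittingOf_normal N).norm
  have ho := h.odd_of_cent hN hV hC hn (inf_le_right.trans (cent_anti (pcore_le_fittingOf p N)))
  have h1 := fittingOf_le_of_normal hn
  exact (le_inf le_rfl (inf_le_right.trans (cent_anti h1))).trans
    ((cent_sub_fitting (sol_of_odd ho)).trans h1)

theorem A2.inf_not_le (h : A2 t s ρ p M) (hX : ¬ piCoreOf {p} M ⊓ 𝓒[s] ≤ 𝓒[t]) :
    ¬ piCoreOf {p} M ⊓ piCoreOf {p} (M :^ ρ) ≤ 𝓒[t] := by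
  haveI := Fact.mk h.prime
  have ts : t ∈ (𝓒[s] : Subgroup G) := mem_cent1.2 h.four.comm.eq
  have nP := zpowers_le.2 ((piCoreOf_normalOf {p} M).norm h.t_mem)
  refine fun hc => hX (le_cent1_of_comm_le (odd_of_pgroup h.odd (pgroup_piCoreOf p M).to_inf_left)
    h.four.ord_left (zpowers_le.1 (le_normalizer_inf nP ((zpowers_le.2 ts).trans le_normalizer)))
    (le_trans (le_inf ?_ ?_) hc))
  · exact (comm_mono inf_le_left le_rfl).trans (comm_le_left nP)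
  · exact (comm_mono (inf_le_inf_left _ h.conj.cent) le_rfl).trans
      (h.star h.conj.max.1 (h.conj.cent ts) h.odd)

theorem dvd_fitting_of_ne_bot [Fact p.Prime] (h : piCoreOf {p} M ≠ ⊥) : p ∣ Nat.card 𝓕(M) :=
  (pcore_sylow_fittingOf p M).ne_bot_iff.1 h

theorem A2.dvd (h : A2 t s ρ p M) : p ∣ Nat.card 𝓕(M) :=
  haveI := Fact.mk h.prime
  dvd_fitting_of_ne_bot fun e => h.ne (e ▸ bot_le)

theorem pcore_cent_of_ne {q r : ℕ} (h : q ≠ r) (M : Subgroup G) :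
    piCoreOf {q} M ≤ 𝓒(piCoreOf {r} M) :=
  piCoreOf_cent_of_disjoint (Set.disjoint_singleton.2 h) M

theorem exists_prime_of_p'core [Fact p.Prime] {Y : Subgroup G} (hY : Y ≤ piCoreOf {p}ᶜ 𝓕(M))
    (h0 : Y ≠ ⊥) : ∃ q : ℕ, q.Prime ∧ p ≠ q ∧ q ∣ Nat.card 𝓕(M) := by
  obtain ⟨X, hX, hq⟩ := exists_prime_le h0
  have h1 := card_dvd_of_le (hX.trans hY)
  exact ⟨_, hq, fun e => not_dvd_piCoreOf p 𝓕(M) (e ▸ h1),
    h1.trans (card_dvd_of_le (piCoreOf_le _))⟩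

theorem A2.norm_le (h : A2 t s ρ p M) {Y : Subgroup G} (hY : Y ≤ piCoreOf {p}ᶜ 𝓕(M)) (h0 : Y ≠ ⊥)
    (hV : Cfsg.GW.four t s ≤ 𝓝(Y)) : 𝓝(Y) ≤ M := by
  haveI := Fact.mk h.prime
  haveI := h.simple
  have hYF := hY.trans (piCoreOf_le _)
  obtain ⟨N, hN, l⟩ := exists_coatom_ge (norm_ne_top h0 fun e =>
    h.max.1 (top_le_iff.1 (e ▸ hYF.trans (fittingOf_le M))))
  have hi := infects_of_norm_le hYF l
  have hP : piCoreOf {p} M ≤ N := (pcore_fittingOf p M).ge.trans ((piCoreOf_cent_compl _).trans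
    ((cent_anti hY).trans ((cent_le_norm Y).trans l)))
  have hW := h.star hN.1 (l (hV (left_mem_four _ _))) h.odd
  rw [inf_eq_left.2 hP] at hW
  have hp := dvd_fitting_of_ne_bot (ne_bot_of_le (fun e => h.ne (le_cent1_iff_comm.2 e)) hW)
  obtain ⟨q, hq, hpq, hqM⟩ := exists_prime_of_p'core hY h0
  have cM := cent_sub_fitting h.sol
  rw [hi.eq h.max hN cM (h.selfcent hN.1 (hV.trans l) (cent_pcore_le hN hp)) h.prime hq hpq h.dvd
    hqM fun r hr hd => ?_]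
  · exact l
  by_contra hn
  haveI := Fact.mk hr
  have h1 := hi.inf_eq_bot cM (piCoreOf_normalOf {r} N).norm
    (coprime_of_pgroup_of_not_dvd (pgroup_piCoreOf r N) hn).symm
  rw [inf_eq_left.2 ((pcore_cent_of_ne (fun e : r = p => hn (e ▸ h.dvd)) N).trans
    ((cent_anti hW).trans ((cent_le_norm _).trans h.norm)))] at h1
  exact (pcore_sylow_fittingOf r N).ne_bot_iff.2 hd h1

theorem A2.not_multi (h : A2 t s ρ p M) (hX : ¬ piCoreOf {p} M ⊓ 𝓒[s] ≤ 𝓒[t]) :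
    piCoreOf {p}ᶜ M = ⊥ := by
  haveI := Fact.mk h.prime
  haveI := h.simple
  by_contra h0
  have hs := h.conj
  have hu := hs.conj
  have h4 := h.four
  set E := piCoreOf {p}ᶜ 𝓕(M) with hE
  have nE : E ⊴ M := (fittingOf_normal M).piCoreOf _
  have E0 : E ≠ ⊥ := by
    rw [hE, piCoreOf_fittingOf]
    exact fittingOf_ne_bot (sol_of_le h.sol (piCoreOf_le _)) h0
  obtain ⟨q, hq, hpq, hqM⟩ := exists_prime_of_p'core le_rfl E0
  have hD := h.inf_not_le hX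
  set D := piCoreOf {p} M ⊓ piCoreOf {p} (M :^ ρ)
  have Vs : Cfsg.GW.four t s ≤ M :^ ρ :=
    four_le_iff.2 ⟨hs.cent (mem_cent1.2 h4.comm.eq), hs.t_mem⟩
  have nD : Cfsg.GW.four t s ≤ 𝓝(D) := le_normalizer_inf
    (h.four_le.trans (piCoreOf_normalOf _ _).norm) (Vs.trans (piCoreOf_normalOf _ _).norm)
  obtain ⟨N, hN, l⟩ := exists_coatom_ge (norm_ne_top (X := D) (fun e => hD (e ▸ bot_le)) fun e =>
    h.max.1 (top_le_iff.1 (e ▸ inf_le_left.trans (piCoreOf_le _))))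
  have i1 : Infects M N := infects_of_norm_le (inf_le_left.trans (pcore_le_fittingOf p _)) l
  have i2 : Infects (M :^ ρ) N :=
    infects_of_norm_le (inf_le_right.trans (pcore_le_fittingOf p _)) l
  have VN := nD.trans l
  obtain ⟨tN, sN⟩ := four_le_iff.1 VN
  have hp : p ∣ Nat.card 𝓕(N) := dvd_fitting_of_ne_bot (ne_bot_of_le
    (fun e => hD (le_cent1_iff_comm.2 e)) ((comm_mono (le_inf inf_le_left (le_normalizer.trans l))
      le_rfl).trans (h.star hN.1 tN h.odd)))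
  have hC := cent_pcore_le hN hp
  have cN := h.selfcent hN.1 VN hC
  have cM := cent_sub_fitting h.sol
  have cs := cent_sub_fitting hs.sol
  have e1 : Nat.card 𝓕(M :^ ρ) = Nat.card 𝓕(M) := by rw [fittingOf_conj, card_map_conj]
  have e2 : Nat.card 𝓕((M :^ ρ) :^ ρ) = Nat.card 𝓕(M) := by
    rw [fittingOf_conj, card_map_conj, e1]
  obtain ⟨r, hr, hrN, hrM⟩ : ∃ r : ℕ, r.Prime ∧ r ∣ Nat.card 𝓕(N) ∧ ¬ r ∣ Nat.card 𝓕(M) := by
    by_contra hc
    push Not at hc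
    exact h.conj_ne ((i2.eq hs.max hN cs cN h.prime hq hpq hs.dvd (e1 ▸ hqM) (e1 ▸ hc)).trans
      (i1.eq h.max hN cM cN h.prime hq hpq h.dvd hqM hc).symm)
  haveI := Fact.mk hr
  have hrp : r ≠ p := fun e => hrM (e ▸ h.dvd)
  set R := piCoreOf {r} N
  have nR : N ≤ 𝓝(R) := (piCoreOf_normalOf _ _).norm
  have R0 : R ≠ ⊥ := (pcore_sylow_fittingOf r N).ne_bot_iff.2 hrN
  have pR : IsPGroup r R := pgroup_piCoreOf r N
  have oR := h.odd_of_cent hN.1 VN hC (piCoreOf_normalOf {r} N) (pcore_cent_of_ne hrp N)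
  have cop := (coprime_of_pgroup_of_not_dvd pR hrM).symm
  have b1 : R ⊓ M = ⊥ := i1.inf_eq_bot cM nR cop
  have b2 : R ⊓ M :^ ρ = ⊥ := i2.inf_eq_bot cs nR (e1 ▸ cop)
  have it := inv_of_cent_eq_bot oR h4.tt (nR tN)
    (eq_bot_iff.2 ((inf_le_inf_left _ h.cent).trans b1.le))
  have is := inv_of_cent_eq_bot oR h4.ss (nR sN)
    (eq_bot_iff.2 ((inf_le_inf_left _ hs.cent).trans b2.le))
  have Ru : R ≤ 𝓒[t * s] := fun y hy => by
    rw [mem_cent1, eq_comm, ← mul_inv_eq_iff_eq_mul, show t * s * y * (t * s)⁻¹ =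
      t * (s * y * s⁻¹) * t⁻¹ by group, is y hy, it _ (inv_mem hy), inv_inv]
  have RM := Ru.trans hu.cent
  have EP : E ≤ 𝓒(piCoreOf {p} M) := (piCoreOf_compl_cent _).trans (by rw [pcore_fittingOf])
  have oE := h.odd_of_cent h.max.1 h.four_le (cent_pcore_le h.max h.dvd) nE EP
  have EN : E ≤ N := EP.trans ((cent_anti inf_le_left).trans ((cent_le_norm _).trans l))
  have k : ∀ Y ≤ E, Cfsg.GW.four t s ≤ 𝓝(Y) → Y ≤ 𝓒(R) → Y = ⊥ := fun Y a1 a2 a3 => by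
    by_contra a4
    exact R0 (inf_eq_left.2 ((le_cent_symm a3).trans
      ((cent_le_norm _).trans (h.norm_le a1 a4 a2))) ▸ b1)
  have Vt : Cfsg.GW.four t s ≤ 𝓒[t] := four_le_iff.2 ⟨mem_cent1.2 rfl, mem_cent1.2 h4.comm.eq.symm⟩
  have Vu : Cfsg.GW.four t s ≤ 𝓒[t * s] := h4.le_cent.trans (cent_le_cent1 (mul_mem_four _ _))
  have Eu : E ≤ 𝓒[t * s] := le_cent1_iff_comm.2 (k _
    (comm_le_left (zpowers_le.2 (nE.norm (h.four_le (mul_mem_four _ _)))))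
    (le_norm_comm (h.four_le.trans nE.norm) (Vu.trans (cent1_le_norm_zpowers _)))
    (comm_le_cent_of_cent Ru (EN.trans nR)))
  have Et : E ≤ 𝓒[t] := by
    refine le_of_forall_sylow fun q hq hd => ?_
    haveI := Fact.mk hq
    have hqF := hd.trans (card_dvd_of_le (piCoreOf_le _))
    have a1 : piCoreOf {q} M ≤ E := (pcore_fittingOf q M).ge.trans (piCoreOf_mono_pi (by
      rintro q' rfl (e : q' = p)
      exact not_dvd_piCoreOf p 𝓕(M) (by rw [e] at hd; exact hd)) _)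
    refine ⟨_, (pcore_sylow_fittingOf q M).of_le a1 (piCoreOf_le _), le_cent1_iff_comm.2 (k _
      ((comm_le_left (zpowers_le.2 ((piCoreOf_normalOf _ _).norm h.t_mem))).trans a1)
      (le_norm_comm (h.four_le.trans (piCoreOf_normalOf _ _).norm)
        (Vt.trans (cent1_le_norm_zpowers _))) ?_)⟩
    have a2 := h.star hN.1 tN (r := q) (by rintro rfl; exact oE.not_two_dvd_nat hd)
    rw [inf_eq_left.2 (a1.trans EN)] at a2
    exact a2.trans (pcore_cent_of_ne (fun e : q = r => hrM (e ▸ hqF)) N)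
  set U := (M :^ ρ) :^ ρ with hU
  have nP : U ≤ 𝓝(piCoreOf {p} U) := (piCoreOf_normalOf _ _).norm
  have c1 : R ≤ 𝓒(piCoreOf {p}ᶜ 𝓕(U)) := by
    refine le_trans (fun y hy => mem_comm_of_inv oR hy (is y hy)) (comm_le_cent_of_cent ?_
      (RM.trans ((fittingOf_normal U).piCoreOf _).norm))
    rw [hU, fittingOf_conj, fittingOf_conj, piCoreOf_map_conj, piCoreOf_map_conj, ← h.rho_t,
      centralizer_singleton_conj, map_conj_le_map_conj_iff, ← h.rho_u, centralizer_singleton_conj,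
      map_conj_le_map_conj_iff]
    exact Eu
  have c2 : R ≤ 𝓒(piCoreOf {p} U) := by
    have a1 := (coprimeAction (EN.trans nR) (cop.coprime_dvd_right
      (card_dvd_of_le (piCoreOf_le _))) (Or.inl (sol_of_odd oR))).inf_centralizer_sup_commutator
    have a2 : R ⊓ 𝓒(E) = ⊥ := eq_bot_iff.2 ((inf_le_inf_left _ ((cent_le_norm E).trans
      (norm_eq_of_coatom h.max nE E0).le)).trans b1.le)
    rw [a2, bot_sup_eq] at a1
    have a3 : piCoreOf {p} U ⊓ 𝓒[t] ≤ 𝓒(E) := le_cent_iff_comm.2 (eq_bot_iff.2 (by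
      rw [← inf_eq_bot_of_coprime_card
        (coprime_of_pgroup_of_not_dvd (pgroup_piCoreOf p U) (not_dvd_piCoreOf p 𝓕(M)))]
      exact le_inf (comm_le_right (inf_le_right.trans (h.cent.trans nE.norm)))
        ((comm_mono inf_le_left le_rfl).trans (comm_le_left (Eu.trans (hu.cent.trans nP))))))
    rw [← a1, comm_le_iff]
    intro a ha b hb
    exact wf h.odd (pgroup_piCoreOf p U) (not_dvd_of_pgroup pR hrp.symm) oR h4.tt it (RM.trans nP)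
      (nP (hu.cent (Vu (left_mem_four _ _)))) (nP (hu.cent (Eu hb))) (odd_orderOf oE hb)
      (nR (EN hb)) (mem_cent1.1 (Et hb)) (a3.trans (cent_le_cent1 hb))
      (commutator_mem_commutator ha (mem_zpowers b))
  have c3 : R ≤ 𝓕(U) := by
    refine le_trans (le_inf RM ?_) (cent_sub_fitting hu.sol)
    rw [← nil_piCoreOf_sup (fittingOf_nil U) {p}, pcore_fittingOf]
    exact le_cent_sup c2 c1
  exact R0 (eq_bot_of_card_eq R (cop.eq_one_of_dvd (e2 ▸ card_dvd_of_le c3)))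

end Cfsg.GW
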