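import Cfsg.Agent.GW.StepDefs
import Cfsg.Agent.GW.DGrp

/-! # `C(t)` maximal: infected maximal subgroups -/

set_option autoImplicit false
set_option linter.unusedSectionVars false

namespace Cfsg.GW

open Subgroup Cfsg.Agent.FT
open scoped commutatorElement

universe u

variable {G : Type u} [Group G] [Finite G] {N Y : Subgroup G} {s t : G}

theorem BB.base (h : BB G) (h4 : IsFour t s) : ∃ S x, Base S x s t := by
  haveI := h.simple
  obtain ⟨S, x, s₀, t₀, hb⟩ := exists_base h.nonab h.d8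
  exact hb.of_isFour h4

theorem BB.exists_conj (h : BB G) (ot : orderOf t = 2) (os : orderOf s = 2) :
    ∃ g : G, g * t * g⁻¹ = s := by
  haveI := h.simple
  obtain ⟨S, x, s₀, t₀, hb⟩ := exists_base h.nonab h.d8
  obtain ⟨g, -, hg⟩ := (hb.one.of_ord (mem_top t) ot) s (mem_top s) os
  exact ⟨g, hg⟩

theorem BB.exists_rho (h : BB G) (h4 : IsFour t s) :
    ∃ ρ : G, ρ * t * ρ⁻¹ = s ∧ ρ * s * ρ⁻¹ = t * s := by
  obtain ⟨S, x, hb⟩ := h.base h4
  obtain ⟨ρ, -, hρ⟩ := hb.dih.exists_rho (hb.one s (mem_top s) h4.ord_right)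
  exact ⟨ρ, hρ⟩

theorem IsD8.sb_le_core {M : Subgroup G} (h : IsD8 M) (ht : t ∈ M) (ho : orderOf t = 2)
    {X : Subgroup G} (hX : X ≤ M ⊓ 𝓒[t]) (hodd : Odd (Nat.card X)) : X ≤ 𝐎(M ⊓ 𝓒[t]) :=
  le_core_of_npc (h.npc_cent ht ho) hX hodd

theorem BB.le_core (h : BB G) (ho : orderOf t = 2) {X : Subgroup G} (hX : X ≤ 𝓒[t])
    (hodd : Odd (Nat.card X)) : X ≤ 𝐎(𝓒[t]) := by
  have := (h.d8.sub ⊤).sb_le_core (mem_top t) ho (le_inf le_top hX) hodd
  rwa [top_inf_eq] at this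

theorem BB.sol (h : BB G) (ho : orderOf t = 2) : Group.IsSolvable (𝓒[t] : Subgroup G) := by
  have := sol_of_npc ((h.d8.sub ⊤).npc_cent (mem_top t) ho)
  rwa [top_inf_eq] at this

theorem BB.norm_eq (h : BB G) (ho : orderOf t = 2) {X : Subgroup G} (hX : X ≤ 𝓒[t])
    (hn : 𝓒[t] ≤ 𝓝(X)) (h0 : X ≠ ⊥) : 𝓝(X) = 𝓒[t] := by
  haveI := h.simple
  exact norm_eq_of_coatom (h.max t ho) ⟨hX, hn⟩ h0

theorem SB.core_cent1_conj (t g : G) : 𝐎(𝓒[g * t * g⁻¹]) = 𝐎(𝓒[t]) :^ g := by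
  rw [centralizer_singleton_conj, piCoreOf_map_conj]

theorem fit_conj (t g : G) : Fit (g * t * g⁻¹) = Fit t :^ g := by
  rw [Fit, SB.core_cent1_conj, fittingOf_conj]

theorem SB.core_cent_normal (t : G) : 𝐎(𝓒[t]) ⊴ 𝓒[t] := piCoreOf_normalOf _ _

theorem fit_normal (t : G) : Fit t ⊴ 𝓒[t] := (SB.core_cent_normal t).fittingOf

theorem SB.odd_of_le {X Y : Subgroup G} (h : Odd (Nat.card Y)) (hle : X ≤ Y) : Odd (Nat.card X) :=
  h.of_dvd_nat (card_dvd_of_le hle)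

theorem odd_fit (t : G) : Odd (Nat.card (Fit t)) := SB.odd_of_le (odd_core _) (fittingOf_le _)

theorem BB.not_cent (h : BB G) (h4 : IsFour t s) : ¬ 𝐎(𝓒[t]) ≤ 𝓒[s] := fun hc => by
  obtain ⟨ρ, h1, -⟩ := h.exists_rho h4
  have h2 : 𝐎(𝓒[t]) ≤ 𝐎(𝓒[t]) :^ ρ := by
    rw [← SB.core_cent1_conj, h1]; exact h.le_core h4.ord_right hc (odd_core _)
  have h3 : 𝐎(𝓒[t]) :^ ρ = 𝐎(𝓒[t]) :=
    (eq_of_le_of_card_le h2 (card_map_conj ρ _).le).symm
  have h5 : ρ ∈ (𝓒[t] : Subgroup G) := by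
    rw [← h.norm_eq h4.ord_left (SB.core_cent_normal t).1 (SB.core_cent_normal t).2 (h.ne t h4.ord_left)]
    exact map_conj_eq_iff.1 h3
  refine h4.ne ?_
  rw [← h1, mem_cent1.1 h5]; group

theorem fit_le (t : G) : Fit t ≤ 𝓕(𝓒[t]) := fittingOf_le_of_normal (SB.core_cent_normal t)

theorem SB.mem_cent_self (t : G) : t ∈ (𝓒[t] : Subgroup G) := mem_cent1.2 rfl

theorem SB.zpowers_normal_cent (t : G) : zpowers t ⊴ 𝓒[t] :=
  ⟨zpowers_le.2 (SB.mem_cent_self t), cent1_le_norm_zpowers t⟩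

theorem SB.pgroup_zpowers_two (ho : orderOf t = 2) : IsPGroup 2 (zpowers t) :=
  pgroup_of_card (by rw [Nat.card_zpowers, ho])

theorem SB.mem_center_two (ho : orderOf t = 2) : t ∈ 𝓩(piCoreOf {2} (𝓒[t] : Subgroup G)) :=
  ⟨(SB.zpowers_normal_cent t).le_pcore (SB.pgroup_zpowers_two ho) (mem_zpowers t),
    le_cent1_iff.1 (piCoreOf_le _)⟩

theorem two_dvd_fit (ho : orderOf t = 2) : 2 ∣ Nat.card 𝓕((𝓒[t] : Subgroup G)) := by
  rw [← ho]
  exact Subgroup.orderOf_dvd_natCard _ (pcore_le_fittingOf 2 _ (SB.mem_center_two ho).1)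

theorem BB.fit_ne_bot (h : BB G) (ho : orderOf t = 2) : Fit t ≠ ⊥ :=
  fittingOf_ne_bot (sol_of_odd (odd_core _)) (h.ne t ho)

theorem BB.exists_odd_prime (h : BB G) (ho : orderOf t = 2) :
    ∃ q : ℕ, q.Prime ∧ 2 ≠ q ∧ q ∣ Nat.card 𝓕((𝓒[t] : Subgroup G)) := by
  obtain ⟨X, hX, hp⟩ := exists_prime_le (h.fit_ne_bot ho)
  refine ⟨_, hp, fun e => ?_, card_dvd_of_le (hX.trans (fit_le t))⟩
  have := SB.odd_of_le (odd_fit t) hX
  rw [← e] at this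
  exact absurd this (by decide)

theorem BB.card_fit (h : BB G) (ot : orderOf t = 2) (os : orderOf s = 2) :
    Nat.card 𝓕((𝓒[s] : Subgroup G)) = Nat.card 𝓕((𝓒[t] : Subgroup G)) := by
  obtain ⟨g, rfl⟩ := h.exists_conj ot os
  rw [centralizer_singleton_conj, fittingOf_conj, card_map_conj]

theorem BB.eq_of_infects (h : BB G) (ot : orderOf t = 2) (hN : IsCoatom N)
    (hi : Infects 𝓒[t] N) (cN : N ⊓ 𝓒(𝓕(N)) ≤ 𝓕(N))
    (hπ : ∀ r : ℕ, r.Prime → r ∣ Nat.card 𝓕(N) → r ∣ Nat.card 𝓕((𝓒[t] : Subgroup G))) :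
    𝓒[t] = N := by
  haveI := h.simple
  obtain ⟨q, hq, h2, hd⟩ := h.exists_odd_prime ot
  exact hi.eq (h.max t ot) hN (cent_sub_fitting (h.sol ot)) cN Nat.prime_two hq h2
    (two_dvd_fit ot) hd hπ

/-- `C(t)` does not infect `C(s)` -/
theorem BB.not_infects (h : BB G) (ot : orderOf t = 2) (os : orderOf s = 2) (hne : t ≠ s) :
    ¬ Infects 𝓒[t] 𝓒[s] := fun hi => by
  have e := h.eq_of_infects ot (h.max s os) hi (cent_sub_fitting (h.sol os))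
    fun r _ hr => h.card_fit ot os ▸ hr
  have hs : s ∈ (𝓒[t] : Subgroup G) := e ▸ SB.mem_cent_self s
  exact h.not_cent ⟨ot, os, (mem_cent1.1 hs).symm, hne⟩ ((SB.core_cent_normal t).1.trans e.le)

theorem SB.comm_eq_bot_iff_cent {X : Subgroup G} : ⁅X, zpowers t⁆ = ⊥ ↔ X ≤ 𝓒[t] :=
  le_cent_iff_comm.symm.trans le_cent_zpowers

theorem SB.inf_cent_conj {R : Subgroup G} {g : G} (hg : g ∈ 𝓝(R)) (h : R ⊓ 𝓒[t] = ⊥) :
    R ⊓ 𝓒[g * t * g⁻¹] = ⊥ := by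
  rw [centralizer_singleton_conj, ← conj_eq_of_mem_norm hg, ← map_conj_inf, h, conj_bot]

theorem BB.infected (h : BB G) (h4 : IsFour t s) (hN : IsCoatom N) (hi : Infects 𝓒[t] N)
    (hne : 𝓒[t] ≠ N) (ht : t ∈ N) (hs : s ∈ N)
    (hR : 𝓒(four t s) ≤ N ∨ (∃ g ∈ N, g * t * g⁻¹ = s) ∧ ∃ g ∈ N, g * t * g⁻¹ = t * s) :
    𝐎(N) ≤ 𝓒[t] ∧ ¬ Group.IsSolvable N := by
  haveI := h.simple
  have ot := h4.ord_left
  have hπ : ∀ r : ℕ, r.Prime → r ∣ Nat.card 𝓕(N) → r ∣ Nat.card 𝓕((𝓒[t] : Subgroup G)) := by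
    intro r hr hd
    haveI := Fact.mk hr
    by_contra hnd
    have hr2 : r ≠ 2 := fun e => hnd (e ▸ two_dvd_fit ot)
    set R := piCoreOf {r} N with hRdef
    have hRn : R ⊴ N := piCoreOf_normalOf _ _
    have hRp : IsPGroup r R := pgroup_piCoreOf r N
    have hRo : Odd (Nat.card R) := odd_card_of_pgroup hRp hr2
    have h1 : R ⊓ 𝓒[t] = ⊥ := hi.inf_eq_bot (cent_sub_fitting (h.sol ot)) hRn.2
      (coprime_of_pgroup_of_not_dvd hRp hnd).symm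
    have key : ∀ v, IsFour t v → v ∈ N →
        (𝓒(four t v) ≤ N ∨ ∃ g ∈ N, g * t * g⁻¹ = v) → R ⊓ 𝓒[v] = ⊥ := by
      intro v hv hvN hc
      rcases hc with hc | ⟨g, hg, rfl⟩
      swap
      · exact SB.inf_cent_conj (hRn.2 hg) h1
      have ov := hv.ord_right
      have hle : R ⊓ 𝓒[v] ≤ 𝐎(𝓒[v]) := h.le_core ov inf_le_right (SB.odd_of_le hRo inf_le_left)
      have htv : t ∈ (𝓒[v] : Subgroup G) := mem_cent1.2 hv.comm.eq
      have h2 := comm_le_pcore (p := r) (odd_core _) hv.tt ((SB.core_cent_normal v).2 htv) hle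
        (hRp.to_le inf_le_left) (le_normalizer_inf (zpowers_le.2 (hRn.2 ht))
          (zpowers_le.2 (le_normalizer htv)) (mem_zpowers t))
        (le_normalizer_inf ((((le_inf inf_le_right (inf_le_left.trans (SB.core_cent_normal v).1)).trans
          (cent_four t v).ge).trans hc).trans hRn.2)
          ((inf_le_left.trans (SB.core_cent_normal v).1).trans le_normalizer))
      have h3 : piCoreOf {r} 𝐎((𝓒[v] : Subgroup G)) = ⊥ := IsPGroup.eq_bot_of_not_dvd'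
        (pgroup_piCoreOf r _)
        fun e => hnd (h.card_fit ot ov ▸ e.trans (card_dvd_of_le ((pcore_le_fittingOf r _).trans
          (fit_le v))))
      rw [h3, le_bot_iff, SB.comm_eq_bot_iff_cent] at h2
      exact le_bot_iff.1 ((le_inf inf_le_left h2).trans h1.le)
    have h5 : R ≤ ⊥ := le_of_four hRo h4 (hRn.2 ht) (hRn.2 hs) h1.le
      (key s h4 hs (hR.imp id And.left)).le
      (key _ h4.mul (N.mul_mem ht hs) (hR.imp (fun e => h4.four_mul ▸ e) And.right)).le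
    exact ((pcore_sylow_fittingOf r N).ne_bot_iff.2 hd) (le_bot_iff.1 h5)
  refine ⟨?_, fun hsol => hne (h.eq_of_infects ot hN hi (cent_sub_fitting hsol) hπ)⟩
  have hOn : 𝐎(N) ⊴ N := piCoreOf_normalOf _ _
  have h1 : 𝓕(𝐎(N)) ≤ 𝓒[t] := by
    refine fittingOf_le_of_pcore fun q hq hd => ?_
    haveI := Fact.mk hq
    have hq2 : q ≠ 2 := ne_two_of_dvd_odd (SB.odd_of_le (odd_core N) (fittingOf_le _)) hd
    have h2 := (hi.pcore_le (h.max t ot) (hπ q hq (hd.trans (card_dvd_of_le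
      (fittingOf_le_of_normal hOn)))) (two_dvd_fit ot) hq2).1
    exact (piCoreOf_le_of_normal hOn).trans (le_cent1_iff.2 (h2 (SB.mem_center_two ot)))
  have h2 := coprime_cent_fitting (A := zpowers t) (zpowers_le.2 (hOn.2 ht))
    (by rw [Nat.card_zpowers]; exact coprime_orderOf_of_odd (odd_core N) h4.tt)
    (sol_of_odd (odd_core N))
  exact le_cent1_iff.2 (h2 ⟨mem_zpowers t, le_cent1_iff.1 h1⟩)

theorem BB.cent_of_fit (h : BB G) (h4 : IsFour t s) : ¬ Fit t ≤ 𝓒[s] := fun h1 => by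
  have hs : s ∈ (𝓒[t] : Subgroup G) := mem_cent1.2 h4.comm.eq.symm
  have h2 := coprime_cent_fitting (A := zpowers s) (zpowers_le.2 ((SB.core_cent_normal t).2 hs))
    (by rw [Nat.card_zpowers]; exact coprime_orderOf_of_odd (odd_core _) h4.ss)
    (sol_of_odd (odd_core _))
  exact h.not_cent h4 (le_cent1_iff.2 (h2 ⟨mem_zpowers s, le_cent1_iff.1 h1⟩))

theorem BB.core_inf (h : BB G) (ot : orderOf t = 2) (ht : t ∈ N) :
    𝐎(N ⊓ 𝓒[t]) = 𝐎(𝓒[t]) ⊓ N :=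
  le_antisymm (le_inf (h.le_core ot ((piCoreOf_le _).trans inf_le_right) (odd_core _))
    ((piCoreOf_le _).trans inf_le_left))
    ((h.d8.sub N).sb_le_core ht ot (le_inf inf_le_right (inf_le_left.trans (piCoreOf_le _)))
      (SB.odd_of_le (odd_core _) inf_le_left))

theorem BB.exists_LT (h : BB G) (h4 : IsFour t s) (hN : IsCoatom N) (hY : Y ≤ Fit t)
    (hYN : 𝓝(Y) ≤ N) (hne : 𝓒[t] ≠ N) (hs : s ∈ N)
    (hR : 𝓒(four t s) ≤ N ∨ (∃ g ∈ N, g * t * g⁻¹ = s) ∧ ∃ g ∈ N, g * t * g⁻¹ = t * s) :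
    ∃ L k i β, LT N L k i β ∧ (t ∈ L ∨ s ∈ L ∨ t * s ∈ L) := by
  have ot := h4.ord_left
  have ht : t ∈ N := hYN (cent_le_norm _ (le_cent1_iff.1 (hY.trans (fit_normal t).1)))
  obtain ⟨h1, h2⟩ := h.infected h4 hN (infects_of_norm_le (hY.trans (fit_le t)) hYN) hne ht hs hR
  refine ((h.ih.dg h.d8 hN.1).exists_LT h2 ht hs h4 h1).resolve_left ?_
  rintro ⟨s₁, -, h5, h6⟩
  rw [h.core_inf ot ht] at h6
  have hs₁ : s₁ ∈ (𝓒[t] : Subgroup G) := mem_cent1.2 h5.comm.eq.symm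
  have h7 := coprime_nil_faithful_cent_stab (A := zpowers s₁) (M := Fit t)
    (zpowers_le.2 ((fit_normal t).2 hs₁))
    (by rw [Nat.card_zpowers]; exact coprime_orderOf_of_odd (odd_fit _) h5.ss) (fittingOf_nil _) (by
      rw [centralizer_zpowers]
      have h8 : Y ≤ Fit t ⊓ 𝓒[s₁] := le_inf hY
        ((le_inf (hY.trans (fittingOf_le _)) (le_normalizer.trans hYN)).trans h6)
      exact (le_inf (inf_le_left.trans (fittingOf_le _))
        (inf_le_right.trans ((cent_anti h8).trans ((cent_le_norm _).trans hYN)))).trans h6)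
  exact h.cent_of_fit h5 (le_cent1_iff.2 (h7 (mem_zpowers s₁)))

end Cfsg.GW
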