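import Cfsg.Agent.GW.RelDefs
import Cfsg.Agent.GW.Bender

/-! # The two local configurations -/

set_option autoImplicit false

namespace Cfsg.GW

open Subgroup Cfsg.Agent.FT
open scoped commutatorElement

universe u

variable {G : Type u} [Group G]

/-- `C(t)` is not maximal: `M = M_t` is a solvable maximal overgroup. `V = ⟨t,s⟩`, `ρ` permutes
`t ↦ s ↦ ts`. -/
structure A2 (t s ρ : G) (p : ℕ) (M : Subgroup G) : Prop where
  simple : IsSimpleGroup G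
  d8 : IsD8 G
  ih : IH.{u} (Nat.card G)
  four : IsFour t s
  rho_t : ρ * t * ρ⁻¹ = s
  rho_s : ρ * s * ρ⁻¹ = t * s
  max : IsCoatom M
  cent : 𝓒[t] ≤ M
  sol : Group.IsSolvable M
  rho : ρ ∉ M
  prime : p.Prime
  odd : p ≠ 2
  ne : ¬ piCoreOf {p} M ≤ 𝓒[t]
  norm : 𝓝(⁅piCoreOf {p} M, zpowers t⁆) ≤ M

variable (G) in
/-- involution centralizers are maximal -/
structure BB : Prop where
  simple : IsSimpleGroup G
  nonab : ¬ IsMulCommutative G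
  d8 : IsD8 G
  ih : IH.{u} (Nat.card G)
  max : ∀ t : G, orderOf t = 2 → IsCoatom (𝓒[t] : Subgroup G)
  ne : ∀ t : G, orderOf t = 2 → 𝐎(𝓒[t]) ≠ ⊥

/-- `F_t = F(O(C(t)))` -/
abbrev Fit (t : G) : Subgroup G := 𝓕(𝐎(𝓒[t]))

/-- case (H) for the four-group `⟨t,s⟩` -/
def Hp (t s : G) : Prop :=
  ∀ Y : Subgroup G, Y ≤ Fit t → Y ≠ ⊥ → 𝓒(four t s) ≤ 𝓝(Y) → 𝓝(Y) ≤ 𝓒[t]

/-- `s` inverts every abelian normal subgroup of odd order of `C(t)` -/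
def NoW (t s : G) : Prop :=
  ∀ W : Subgroup G, W ≤ 𝐎(𝓒[t]) → IsMulCommutative W → 𝓒[t] ≤ 𝓝(W) → W ⊓ 𝓒[s] = ⊥

/-- `s` inverts `[O(C(t)), s]` -/
def Inv (t s : G) : Prop := ∀ y ∈ ⁅𝐎(𝓒[t]), zpowers s⁆, s * y * s⁻¹ = y⁻¹

theorem coatom_conj {M : Subgroup G} (hM : IsCoatom M) (g : G) : IsCoatom (M :^ g) := by
  refine ⟨fun e => hM.1 (conj_eq_top_iff.1 e), fun L hL => ?_⟩
  have h : M < L :^ g⁻¹ := lt_of_le_of_ne (conj_le_iff.1 hL.le) fun e =>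
    hL.ne (by rw [e, conj_conj_inv])
  exact conj_eq_top_iff.1 (hM.2 _ h)

theorem IH.dg [Finite G] (ih : IH.{u} (Nat.card G)) (h8 : IsD8 G) {N : Subgroup G} (hN : N ≠ ⊤) :
    DG N := by
  refine ⟨h8.sub N, ih.mono ?_⟩
  have h1 := card_le_card_group N
  have h2 : Nat.card N ≠ Nat.card G := fun e => hN (eq_top_of_card_eq N e)
  omega

end Cfsg.GW

set_option linter.all false in
theorem Cfsg.Rz.GW_StepDefs_0 : True := by
  have := @_root_.Cfsg.GW.A2.mk.congr_simp.{0}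
  have := @_root_.Cfsg.GW.BB.mk.congr_simp.{0}
  have := @_root_.Cfsg.GW.Fit.eq_def.{0}
  have := @_root_.Cfsg.GW.Fit.eq_1.{0}
  have := @_root_.Cfsg.GW.Fit.fun_cases
  have := @_root_.Cfsg.GW.NoW.eq_def.{0}
  have := @_root_.Cfsg.GW.NoW.eq_1.{0}
  have := @_root_.Cfsg.GW.NoW.fun_cases
  have := @_root_.Cfsg.GW.Inv.eq_def.{0}
  have := @_root_.Cfsg.GW.Inv.eq_1.{0}
  have := @_root_.Cfsg.GW.Inv.fun_cases
  have := @_root_.Cfsg.GW.Hp.eq_def.{0}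
  have := @_root_.Cfsg.GW.Hp.eq_1.{0}
  have := @_root_.Cfsg.GW.Hp.fun_cases
  trivial
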