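import Cfsg.Agent.GW.StepHA
import Cfsg.Agent.GW.Kill

/-!
# `C(t)` maximal: case (H) and the conclusion

`V = ⟨t,s⟩`, `U_v = O(C(v))`, `H_v = C(v)`. `Hp` for `(t,V)` gives `Hp` for `(s,V)`, `(ts,V)` (conjugate by
`ρ`). Let `P_v = C_{O_p(U_v)}(V)`, normal in `C(V)`, and suppose `P_t ≠ 1`, so `N(P_v) ≤ H_v`.
`Hp.inf`: if `D = P_t ∩ P_s ≠ 1` then `N(D) ≤ H_s`, so `H_t` infects `H_s` (`not_infects`).
`Hp.pcore`: so `[P_t,P_s] = 1`; on `R = O_p(U_s)`: `C_R(P_t) ≤ H_t`, `axb` for `P_t × ⟨t⟩`: `t`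
centralizes `R`; conjugate back.
`Hp.inv`: `F = F(U) = Y × I`, `s` centralizes `Y`, inverts `I`; `[U,s]` centralizes both, so lies in
`F`, `[U,s] = [U,s,s] ≤ [F,s]`; check prime by prime: `[U,s] ≤ Z(F)` is abelian and equals its
commutator with `s`, so `s` inverts it.
`cent_x` (`D₈`; `s₁ = s`, `s₂ = xs`): `K_j = [U,s_j]` are abelian, normal in `H`, inverted by `s_j`.
`A₁ = C_{K₂}(s₁)`, `A₂ = C_{K₁}(s₂)`, `K₀ = K₁ ∩ K₂`, `K₁ = K₀ × A₂`, `K₂ = K₀ × A₁`, `e_j = |K_j|`.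
`A₁ ≠ 1` contradicts `NoW t s₁` (`W = K₂`), so gives `Hp t s₁`; likewise `A₂ ≠ 1` gives `Hp t s₂`.
Both nontrivial: primes `p ∣ |A₁|`, `q ∣ |A₂|`; `V₁` centralizes `P_t = O_p(U)`, `s₂` does not, so
inverts it; `V₂` centralizes `Q_t = O_q(U)`, `s₁` inverts it; `p ≠ q`. With `u = s₁`, `w = ts₁ = x u x⁻¹`:
`P_t, P_u, P_w ⊴ C(V₁)` meet pairwise trivially, `s₂` swaps `P_u`, `P_w`. For `y ∈ P_u`,
`y⁻¹ y^{s₂} ∈ K₂ ∩ P_uP_w ≤ P_t`; write `1 ≠ y ∈ P_u` as `y = c z` (`exists_cent_mul_inv` in `P_tP_u`), `c`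
centralized by `s₂`, `z ∈ P_t`. So `P₀ = C_{P_tP_u}(s₂)` satisfies `P_tP₀ = P_tP_u`, and
`C_{Q_t}(P₀) = C_{Q_t}(P_u) ≤ N(P_u) = H_u`, so `C_{Q_t}(P₀) = 1`. Symmetrically `Q = Q_tQ_{u'}`
(`u' = s₂`, `w' = ts₂`), `Q₀ = C_Q(s₁)`, `Q = Q_tQ₀ ⊇ Q_{w'}`, and `Q = Q_{u'}Q_{w'}` (orders). `P₀`, `Q₀` are
normal in `C_U(S)`, so commute. `P₀ ≤ C(V₂)` normalizes `Q_{u'}`, `Q_{w'}` and acts trivially on
`Q/Q_t`, so `[Q_{u'},P₀] ≤ Q_{u'} ∩ Q_t = 1`, likewise `w'`; so `P₀` centralizes `Q ⊇ Q_t ≠ 1`.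
`A₂ = 1 ≠ A₁`: `e₂ = |A₁| e₁`, `Base.ratio`: `|A₁| = 3`; `P_t × P_u ≤ C(V₁)` (`p = 3`) contains a
noncyclic subgroup of order `9`, against `Base.n14`. Symmetric case by `Base.swap` (`x (xs) = ts`).
So `K₁ = K₂ = K₀` is centralized by `x = s₂ s₁⁻¹`, and `[U,x] ≤ K₁K₂`, so `x` centralizes `U`.
`bsw`: `Base.kill`, `inv_of_cent_eq_bot`; for `1 ≠ y ∈ U`, `⟨y⟩ ⊴ H`, `norm_eq`.
-/

set_option autoImplicit false
set_option linter.unusedSectionVars false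
set_option linter.style.haveILetI false

namespace Cfsg.GW

open Subgroup Cfsg.Agent.FT
open scoped commutatorElement

universe u

variable {G : Type u} [Group G] [Finite G] {S : Subgroup G} {x s t : G} {p : ℕ}

theorem BB.inv (h : BB G) (h4 : IsFour t s) : Inv t s :=
  (h.dich h4).elim (h.hp_inv h4) And.right

namespace SH

/-- `O_p(U_v)` -/
local notation "𝐏(" p "," v ")" => piCoreOf {p} 𝐎(𝓒[v])

/-- `[U_t, s]` -/
local notation "𝐊(" t "," s ")" => ⁅𝐎(𝓒[t]), zpowers s⁆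

variable {a b : G}

theorem norm_U (h : a ∈ 𝓒[t]) : a ∈ 𝓝(𝐎(𝓒[t])) := (SB.core_cent_normal t).norm h

theorem K_le (h4 : IsFour t a) : 𝐊(t, a) ≤ 𝐎(𝓒[t]) :=
  comm_le_left (zpowers_le.2 (norm_U (mem_cent1.2 h4.comm.eq.symm)))

theorem K_odd (h4 : IsFour t a) : Odd (Nat.card (𝐊(t, a) : Subgroup G)) :=
  SB.odd_of_le (odd_core _) (K_le h4)

theorem mem_K (h : BB G) (h4 : IsFour t a) {y : G} :
    y ∈ 𝐊(t, a) ↔ y ∈ 𝐎(𝓒[t]) ∧ a * y * a⁻¹ = y⁻¹ :=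
  ⟨fun hy => ⟨K_le h4 hy, h.inv h4 y hy⟩, fun hy => mem_comm_of_inv (odd_core _) hy.1 hy.2⟩

theorem K_mul (h : BB G) (h4 : IsFour t a) : 𝐊(t, t * a) = 𝐊(t, a) := by
  ext y
  rw [mem_K h h4, mem_K h h4.mul]
  refine and_congr_right fun hy => ?_
  have h1 := mem_cent1.1 ((SB.core_cent_normal t).le hy)
  rw [h4.comm.eq, show a * t * y * (a * t)⁻¹ = a * (t * y) * t⁻¹ * a⁻¹ by group, ← h1]
  simp [mul_assoc]

theorem K_normal (h : BB G) (h4 : IsFour t a) : 𝓒[t] ≤ 𝓝(𝐊(t, a)) := by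
  obtain ⟨S, x, hb⟩ := h.base h4
  have h1 := hb.dih.sdprod.sup
  rw [top_inf_eq] at h1
  conv_lhs => rw [← h1]
  refine sup_le (left_le_norm_comm _ _) fun g hg => ?_
  have h2 : 𝐊(t, a) :^ g = 𝐊(t, g * a * g⁻¹) := by
    rw [conj_comm, conj_eq_of_mem_norm (norm_U (hb.dih.le_cent hg)), zpowers_conj]
  rw [← map_conj_eq_iff, h2]
  have h3 := conj_mem_of_mem_normalizer (hb.dih.le_norm_four hg) (right_mem_four t a)
  have h5 := h4.conj g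
  rw [hb.dih.conj_t hg] at h5
  rcases h4.mem_four.1 h3 with e | e | e | e
  · exact absurd e (ne_one_of_ord h5.ord_right)
  · exact absurd e.symm h5.ne
  · rw [e]
  · rw [e, K_mul h h4]

theorem hp_of_ne (h : BB G) (ha : IsFour t a) (hb : IsFour t b)
    (h0 : 𝐊(t, b) ⊓ 𝓒[a] ≠ ⊥) : Hp t a :=
  (h.dich ha).resolve_right fun hn =>
    h0 (hn.1 _ (K_le hb) (comm_of_inv (h.inv hb)) (K_normal h hb))

theorem le_P [Fact p.Prime] (h : BB G) (h4 : IsFour t a) {X : Subgroup G} (hX : X ≤ 𝐊(t, a))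
    (hp : IsPGroup p X) : X ≤ 𝐏(p, t) :=
  (nil_le_pcore (nil_of_comm (comm_of_inv (h.inv h4))) hp hX).trans
    (piCoreOf_le_of_normal ⟨K_le h4, left_le_norm_comm _ _⟩)

theorem P_normal (p : ℕ) (v : G) : 𝐏(p, v) ⊴ 𝓒[v] := (SB.core_cent_normal v).piCoreOf _

theorem P_conj (p : ℕ) (v g : G) : 𝐏(p, v) :^ g = 𝐏(p, g * v * g⁻¹) := by
  rw [core_cent_conj, piCoreOf_map_conj]

theorem P_odd (p : ℕ) (v : G) : Odd (Nat.card 𝐏(p, v)) :=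
  SB.odd_of_le (odd_core _) (piCoreOf_le _)

theorem tri [Fact p.Prime] (h : BB G) (h4 : IsFour t a) (hp : Hp t a)
    (h0 : 𝐏(p, t) ⊓ 𝓒[a] ≠ ⊥) : 𝐏(p, t) ≤ 𝓒[a] ∧ 𝐏(p, a) ≤ 𝓒[t] ∧ 𝐏(p, a) ≤ 𝓒[t * a] ∧
      𝐏(p, a) ⊓ 𝐏(p, t * a) = ⊥ ∧ 𝐏(p, t) ⊓ 𝐏(p, a) = ⊥ ∧ 𝐏(p, t) ≤ 𝓒(𝐏(p, a)) ∧
        ∃ ρ : G, 𝐏(p, t) :^ ρ = 𝐏(p, a) := by
  obtain ⟨h1, h2⟩ := h.hp_pcore h4 hp h0
  obtain ⟨ρ, e1, e2⟩ := h.exists_rho h4
  have h3 := conj_mono h1 ρ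
  rw [P_conj, ← centralizer_singleton_conj, e1, e2] at h3
  have h5 := congrArg (· :^ ρ) h2
  simp only [map_conj_inf, P_conj, e1, e2, conj_bot] at h5
  have h6 : 𝐏(p, a) ≤ 𝓒[t] := fun y hy => by
    have c1 : Commute y (t * a) := mem_cent1.1 (h3 hy)
    have c2 : Commute y a := mem_cent1.1 ((P_normal p a).le hy)
    have := c1.mul_right c2.inv_right
    rw [mul_inv_cancel_right] at this
    exact mem_cent1.2 this
  refine ⟨h1, h6, h3, h5, h2, le_cent_iff_comm.2 (eq_bot_iff.2 (h2 ▸ le_inf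
    (comm_le_left (h6.trans (P_normal p t).norm)) (comm_le_right (h1.trans (P_normal p a).norm)))),
    ρ, by rw [P_conj, e1]⟩

theorem step [Fact p.Prime] (h : BB G) (ha : IsFour t a) (hb : IsFour t b)
    (hab : b * a * b⁻¹ = t * a) (hp : Hp t a) (h0 : 𝐏(p, t) ⊓ 𝓒[a] ≠ ⊥) {y : G}
    (hy : y ∈ 𝐏(p, a)) : y⁻¹ * (b * y * b⁻¹) ∈ 𝐏(p, t) ∧
      ∃ c ∈ (𝐏(p, t) ⊔ 𝐏(p, a)) ⊓ 𝓒[b], ∃ z ∈ 𝐏(p, t), y = c * z := by
  obtain ⟨-, h1, h2, -, -, h3, -⟩ := tri h ha hp h0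
  have hU := h.le_core ha.ord_left h1 (P_odd p a)
  have hK : y⁻¹ * (b * y * b⁻¹) ∈ 𝐊(t, b) := by
    have := commutator_mem_commutator (inv_mem (hU hy)) (mem_zpowers b)
    rwa [commutatorElement_def, inv_inv, mul_assoc, mul_assoc, ← mul_assoc b] at this
  have hw : b * y * b⁻¹ ∈ 𝐏(p, t * a) := by
    rw [← hab, ← P_conj]; exact conj_mem_map_conj.2 hy
  have hP : y⁻¹ * (b * y * b⁻¹) ∈ 𝐏(p, t) := by
    refine le_P h hb (zpowers_le.2 hK) ((pgroup_sup (pgroup_piCoreOf p _) (pgroup_piCoreOf p _)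
      (h2.trans (P_normal p (t * a)).norm)).to_le (zpowers_le.2 ?_)) (mem_zpowers _)
    exact mul_mem (mem_sup_left (inv_mem hy)) (mem_sup_right hw)
  refine ⟨hP, ?_⟩
  obtain ⟨z, hz, e⟩ := exists_sqrt (odd_orderOf (P_odd p t) hP)
  have hzP := zpowers_le.2 hP hz
  have hi := conj_inv_of_mem_zpowers (h.inv hb _ hK) hz
  refine ⟨y * z, ⟨mul_mem (mem_sup_right hy) (mem_sup_left hzP), mem_cent1.2 ?_⟩, z⁻¹,
    inv_mem hzP, by group⟩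
  symm
  rw [← mul_inv_eq_iff_eq_mul]
  calc b * (y * z) * b⁻¹ = y * (y⁻¹ * (b * y * b⁻¹)) * (b * z * b⁻¹) := by group
    _ = _ := by rw [hi, ← e]; group

theorem exists_prime (h : BB G) (hb : IsFour t b) (h0 : 𝐊(t, b) ⊓ 𝓒[a] ≠ ⊥) :
    ∃ p : ℕ, p.Prime ∧ 𝐏(p, t) ⊓ 𝓒[a] ≠ ⊥ ∧ ¬ 𝐏(p, t) ≤ 𝓒[b] := by
  obtain ⟨X, hX, hp⟩ := exists_prime_le h0
  haveI := Fact.mk hp
  have h1 := le_P h hb (hX.trans inf_le_left) (pgroup_of_card rfl)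
  refine ⟨_, hp, fun e => ne_bot_of_prime_card hp (eq_bot_iff.2 (e ▸ le_inf h1
    (hX.trans inf_le_right))), fun e => ne_bot_of_prime_card hp (eq_bot_iff.2 ?_)⟩
  rw [← cent_eq_bot_of_inv (K_odd hb) (h.inv hb)]
  exact le_inf (hX.trans inf_le_left) (h1.trans e)

theorem not_both (h : BB G) (ha : IsFour t a) (hb : IsFour t b) (hab : b * a * b⁻¹ = t * a)
    (hba : a * b * a⁻¹ = t * b) (h1 : 𝐊(t, b) ⊓ 𝓒[a] ≠ ⊥) (h2 : 𝐊(t, a) ⊓ 𝓒[b] ≠ ⊥) : False := by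
  have Ha := hp_of_ne h ha hb h1
  have Hb := hp_of_ne h hb ha h2
  obtain ⟨p, hp, p0, -⟩ := exists_prime h hb h1
  obtain ⟨q, hq, q0, qn⟩ := exists_prime h ha h2
  haveI := Fact.mk hp
  haveI := Fact.mk hq
  obtain ⟨p1, p2, -, -, -, -, ρ, p7⟩ := tri h ha Ha p0
  obtain ⟨q1, q2, -, q4, q5, -, σ, q7⟩ := tri h hb Hb q0
  have hQa : 𝐏(q, t) ⊓ 𝓒[a] = ⊥ := by_contra fun e => qn (h.hp_pcore ha Ha e).1
  have hpq : p ≠ q := by
    rintro rfl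
    exact p0 hQa
  have hD : ∀ {r : ℕ} [Fact r.Prime] {a b : G}, 𝐏(r, t) ≤ 𝓒[a] → 𝐏(r, a) ≤ 𝓒[t] →
      (𝐏(r, t) ⊔ 𝐏(r, a)) ⊓ 𝓒[b] ⊴ 𝓒[t] ⊓ 𝓒[a] ⊓ 𝓒[b] ∧
        IsPGroup r ((𝐏(r, t) ⊔ 𝐏(r, a)) ⊓ 𝓒[b] : Subgroup G) := by
    intro r _ a b e1 e2
    refine ⟨⟨inf_le_inf_right _ (sup_le (le_inf (P_normal r t).le e1)
      (le_inf e2 (P_normal r a).le)), le_normalizer_inf (le_normalizer_sup
        ((inf_le_left.trans inf_le_left).trans (P_normal r t).norm)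
        ((inf_le_left.trans inf_le_right).trans (P_normal r a).norm))
          (inf_le_right.trans le_normalizer)⟩,
      (pgroup_sup (pgroup_piCoreOf r _) (pgroup_piCoreOf r _)
        (e1.trans (P_normal r a).norm)).to_inf_left⟩
  obtain ⟨nP, gP⟩ := hD (b := b) p1 p2
  obtain ⟨nQ, gQ⟩ := hD (b := a) q1 q2
  rw [inf_right_comm] at nQ
  have hPQ := cent_of_normal_of_coprime nP nQ (coprime_of_pgroup gP gQ hpq)
  set P₀ := (𝐏(p, t) ⊔ 𝐏(p, a)) ⊓ 𝓒[b]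
  have c2 : ∀ g ∈ P₀, ∀ y ∈ 𝐏(q, b), g * y * g⁻¹ = y := by
    intro g hg y hy
    obtain ⟨-, c, hc, z, hz, e⟩ := step h hb ha hba Hb q0 hy
    have e1 : c * g = g * c := mem_cent_sub.1 (hPQ hg) c hc
    have m1 : y⁻¹ * (g * y * g⁻¹) ∈ 𝐏(q, t) := by
      rw [show y⁻¹ * (g * y * g⁻¹) = z⁻¹ * (g * z * g⁻¹) by
        rw [e, ← mul_assoc g c, ← e1]; group]
      exact mul_mem (inv_mem hz) ((P_normal q t).conj_mem (nP.le hg).1.1 hz)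
    have m2 : y⁻¹ * (g * y * g⁻¹) ∈ 𝐏(q, b) :=
      mul_mem (inv_mem hy) ((P_normal q b).conj_mem (nP.le hg).2 hy)
    exact (inv_mul_eq_one.1 (mem_bot.1 (q5 ▸ mem_inf.2 ⟨m1, m2⟩))).symm
  have hQ0 : 𝐏(q, b) ≠ ⊥ := fun e => q0 (by
    rw [← q7, map_conj_eq_bot_iff] at e; rw [e, bot_inf_eq])
  have hP0 : 𝐏(p, a) ≠ ⊥ := fun e => p0 (by
    rw [← p7, map_conj_eq_bot_iff] at e; rw [e, bot_inf_eq])
  obtain ⟨⟨y, hy⟩, hy1⟩ := ne_bot_iff_exists_ne_one.1 hQ0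
  have hz := (step h hb ha hba Hb q0 hy).1
  have hz1 : y⁻¹ * (a * y * a⁻¹) ≠ 1 := fun e => by
    have m : y ∈ 𝐏(q, t * b) := by
      rw [inv_mul_eq_one.1 e, ← hba, ← P_conj]; exact conj_mem_map_conj.2 hy
    exact hy1 (Subtype.ext (mem_bot.1 (q4 ▸ mem_inf.2 ⟨hy, m⟩)))
  have hzc : ∀ g ∈ P₀, Commute g (y⁻¹ * (a * y * a⁻¹)) := fun g hg => by
    have e1 : Commute g y := mul_inv_eq_iff_eq_mul.1 (c2 g hg y hy)
    have e2 : Commute g a := mem_cent1.1 (nP.le hg).1.2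
    exact e1.inv_right.mul_right ((e2.mul_right e1).mul_right e2.inv_right)
  have hzP := piCoreOf_cent_of_disjoint (Set.disjoint_singleton.2 hpq.symm) 𝐎(𝓒[t]) hz
  generalize y⁻¹ * (a * y * a⁻¹) = z at hz hz1 hzc hzP
  have hza : z ∈ 𝓒(𝐏(p, a)) := mem_cent_sub.2 fun y' hy' => by
    obtain ⟨-, c, hc, z', hz', rfl⟩ := step h ha hb hab Ha p0 hy'
    exact ((hzc c hc).mul_left (mem_cent_sub.1 hzP z' hz')).eq
  have := cent_le_norm _ hza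
  rw [h.norm_eq ha.ord_right (P_normal p a).le (P_normal p a).norm hP0] at this
  exact hz1 (mem_bot.1 (hQa ▸ mem_inf.2 ⟨hz, this⟩))

theorem K_le_K (h : BB G) (ha : IsFour t a) (hb : IsFour t b) (h2 : 𝐊(t, a) ⊓ 𝓒[b] = ⊥) :
    𝐊(t, a) ≤ 𝐊(t, b) := fun y hy =>
  (mem_K h hb).2 ⟨K_le ha hy, inv_of_cent_eq_bot (K_odd ha) hb.ss
    (K_normal h ha (mem_cent1.2 hb.comm.eq.symm)) h2 y hy⟩

theorem relIndex_eq (h : BB G) (ha : IsFour t a) :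
    (𝓒[a] : Subgroup G).relIndex 𝐎(𝓒[t]) = Nat.card (𝐊(t, a) : Subgroup G) := by
  rw [relIndex_cent_eq (odd_core _) ha.ss (norm_U (mem_cent1.2 ha.comm.eq.symm)),
    ← Nat.card_coe_set_eq]
  exact Nat.card_congr (Equiv.subtypeEquivRight fun y => (mem_K h ha).symm)

theorem not_one (h : BB G) (hb : Base S x s t) (hx : x * x = t)
    (h1 : 𝐊(t, x * s) ⊓ 𝓒[s] ≠ ⊥) (h2 : 𝐊(t, s) ⊓ 𝓒[x * s] = ⊥) : False := by
  have ha := hb.dih.isFour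
  have ha' := hb.dih.swap.isFour
  have hle := K_le_K h ha ha' h2
  have e1 := card_inf_mul_relIndex (𝓒[s] : Subgroup G) 𝐊(t, x * s)
  rw [relIndex_cent_eq (K_odd ha') ha.ss (K_normal h ha' (mem_cent1.2 ha.comm.eq.symm)),
    show {z | z ∈ 𝐊(t, x * s) ∧ s * z * s⁻¹ = z⁻¹} = (𝐊(t, s) : Subgroup G) from Set.ext fun y =>
      ⟨fun e => (mem_K h ha).2 ⟨K_le ha' e.1, e.2⟩, fun e => ⟨hle e, h.inv ha y e⟩⟩,
    ← Nat.card_coe_set_eq, inf_comm] at e1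
  change _ * Nat.card (𝐊(t, s) : Subgroup G) = _ at e1
  have e2 := hb.ratio hx fun e => h1 (eq_bot_iff.2 (e ▸ inf_le_inf_right _ (K_le ha')))
  rw [relIndex_eq h ha, relIndex_eq h ha', ← e1] at e2
  set A := 𝐊(t, x * s) ⊓ 𝓒[s] with hA
  have h3 : Nat.card A = 3 := by
    have e3 : Odd (Nat.card A) := SB.odd_of_le (K_odd ha') inf_le_left
    have e4 : Nat.card A ≠ 1 := fun e => h1 (card_eq_one.1 e)
    have e5 : 2 * Nat.card A < 7 := by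
      rw [← mul_assoc] at e2
      exact lt_of_mul_lt_mul_right e2 (Nat.zero_le _)
    obtain ⟨k, hk⟩ := e3
    omega
  haveI := Fact.mk Nat.prime_three
  have hAP : A ≤ 𝐏(3, t) := le_P h ha' inf_le_left (pgroup_of_card h3)
  obtain ⟨p1, p2, -, -, p5, p6, ρ, p7⟩ := tri h ha (hp_of_ne h ha ha' h1)
    fun e => h1 (eq_bot_iff.2 (e ▸ le_inf hAP inf_le_right))
  have hB : A :^ ρ ≤ 𝐏(3, s) := p7 ▸ conj_mono hAP ρ
  have hAB : A ⊓ A :^ ρ = ⊥ := eq_bot_iff.2 (p5 ▸ inf_le_inf hAP hB)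
  have h3' : Nat.card (A :^ ρ : Subgroup G) = 3 := by rw [card_map_conj, h3]
  have hc := hb.n14 hx (by rw [relIndex_eq h ha, relIndex_eq h ha', ← e1, h3])
    (P := A ⊔ A :^ ρ) (by
      rw [cent_four]
      exact sup_le (hAP.trans (le_inf (P_normal 3 t).le p1)) (hB.trans (le_inf p2 (P_normal 3 s).le)))
    (by rw [card_sup_of_le_normalizer_of_disjoint
      (le_norm_of_le_cent (hAP.trans (p6.trans (cent_anti hB)))) hAB, h3, h3'])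
  have i1 := omegaOne_le_of_cyclic (p := 3) hc le_sup_left h3.symm.dvd
  have i2 := omegaOne_le_of_cyclic (p := 3) hc le_sup_right h3'.symm.dvd
  have i3 := card_omegaOne_cyclic (p := 3) hc (h3.symm.dvd.trans (card_dvd_of_le le_sup_left))
  rw [eq_bot_iff.2 ((le_inf i1 i2).trans hAB.le), card_bot] at i3
  omega

end SH

open SH in
theorem BB.cent_x (h : BB G) (hb : Base S x s t) : 𝐎(𝓒[t]) ≤ 𝓒[x] := by
  rcases hb.dih.cases with rfl | hx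
  · exact (SB.core_cent_normal _).le
  have ha := hb.dih.isFour
  have ha' := hb.dih.swap.isFour
  have hab : x * s * s * (x * s)⁻¹ = t * s := by
    rw [← (hb.dih.card_eight hx).2.2]; group
  have hba : s * (x * s) * s⁻¹ = t * (x * s) := by
    have e1 := hb.dih.pair.conj_eq
    have e2 : x * x * (x * x) = 1 := by rw [hx]; exact ha.tt
    calc s * (x * s) * s⁻¹ = s * x * s⁻¹ * s := by group
      _ = x⁻¹ * (x * x * (x * x)) * s := by rw [e1, e2, mul_one]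
      _ = _ := by rw [← hx]; group
  have hct : ∀ {X : Subgroup G}, X ≤ 𝓒[t] → X ⊓ 𝓒[t * s] = X ⊓ 𝓒[s] := fun {X} hX => by
    ext y
    refine and_congr_right fun hy => ?_
    have c : Commute y t := mem_cent1.1 (hX hy)
    refine ⟨fun e => mem_cent1.2 ?_, fun e => mem_cent1.2 (c.mul_right (mem_cent1.1 e))⟩
    have := c.inv_right.mul_right (show Commute y (t * s) from mem_cent1.1 e)
    rwa [inv_mul_cancel_left] at this
  by_cases h1 : ⁅𝐎(𝓒[t]), zpowers (x * s)⁆ ⊓ 𝓒[s] = ⊥ <;>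
    by_cases h2 : ⁅𝐎(𝓒[t]), zpowers s⁆ ⊓ 𝓒[x * s] = ⊥
  · have k1 := K_le_K h ha ha' h2
    have k2 := K_le_K h ha' ha h1
    have k3 : ⁅𝐎(𝓒[t]), zpowers (x * s) ⊔ zpowers s⁆ ≤ ⁅𝐎(𝓒[t]), zpowers s⁆ :=
      comm_sup_le' ((zpowers_le.2 (mem_cent1.2 ha'.comm.eq.symm)).trans (K_normal h ha))
        (right_le_norm_comm _ _) k2 le_rfl
    intro u hu
    have hxm : x ∈ zpowers (x * s) ⊔ zpowers s := by
      simpa using mul_mem (mem_sup_left (mem_zpowers (x * s)))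
        (mem_sup_right (inv_mem (mem_zpowers s)))
    have hc := k3 (commutator_mem_commutator (inv_mem hu) hxm)
    rw [commutatorElement_def, inv_inv] at hc
    have i1 := h.inv ha _ hc
    have i2 := h.inv ha' _ (k1 hc)
    have i3 := odd_orderOf (K_odd ha) hc
    have i4 := mem_cent1.1 ((SB.core_cent_normal t).le hu)
    generalize hcd : u⁻¹ * x * u * x⁻¹ = c at i1 i2 i3
    have i5 : x * c⁻¹ * x⁻¹ = c⁻¹ := by nth_rewrite 1 [← i1]; rw [← i2]; group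
    have i6 : x * u * x⁻¹ = u * c := by rw [← hcd]; group
    have i7 : x * c * x⁻¹ = c := by rw [← inv_inj, ← i5]; group
    have i8 : u * (c * c) = u := by
      calc u * (c * c) = x * u * x⁻¹ * (x * c * x⁻¹) := by rw [i6, i7, mul_assoc]
        _ = x * (u * c) * x⁻¹ := by group
        _ = x * (x * u * x⁻¹) * x⁻¹ := by rw [i6]
        _ = t * u * t⁻¹ := by rw [← hx]; group
        _ = u := by rw [← i4, mul_inv_cancel_right]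
    rw [eq_one_of_odd i3 (mul_eq_left.1 i8), mul_one] at i6
    exact mem_cent1.2 (mul_inv_eq_iff_eq_mul.1 i6).symm
  · refine (not_one h hb.swap hx ?_ ?_).elim
    · rwa [← mul_assoc, hx, K_mul h ha]
    · rwa [← mul_assoc, hx, hct ((K_le ha').trans (SB.core_cent_normal t).le)]
  · exact (not_one h hb hx h1 h2).elim
  · exact (not_both h ha ha' hab hba h1 h2).elim

theorem BB.bsw (h : BB G) (hb : Base S x s t) : BswHyp S x s t := by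
  have ha := hb.dih.isFour
  have hx := h.cent_x hb
  have hinv := inv_of_cent_eq_bot (odd_core _) ha.ss
    (SH.norm_U (mem_cent1.2 ha.comm.eq.symm)) (hb.kill hx (h.inv ha))
  refine ⟨hb.dih, hb.one, hinv, fun y hy => (mem_cent1.1 (hx hy)).symm, fun y hy h1 => ?_⟩
  have h2 := hb.dih.sdprod.sup
  rw [top_inf_eq] at h2
  have hyU := zpowers_le.2 hy
  rw [← h.norm_eq ha.ord_left (hyU.trans (SB.core_cent_normal t).le) ?_
    (mt zpowers_eq_bot.1 h1)]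
  · exact cent1_le_norm_zpowers y
  conv_lhs => rw [← h2, hb.dih.eq_sup]
  refine sup_le (le_norm_of_comm (comm_of_inv hinv) hyU) (sup_le (zpowers_le.2
    (cent1_le_norm_zpowers y (mem_cent1.2 (mem_cent1.1 (hx hy)).symm))) (zpowers_le.2
      (mem_normalizer_of_forall_conj_mem fun z hz => ?_)))
  rw [hinv z (hyU hz)]
  exact inv_mem hz

end Cfsg.GW
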