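import Cfsg.Agent.GW.StepL

/-! # `C(t)` maximal: consequences of case (H) -/

set_option autoImplicit false

namespace Cfsg.GW

open Subgroup Cfsg.Agent.FT
open scoped commutatorElement

universe u

variable {G : Type u} [Group G] [Finite G] {s t : G} {p : ℕ}

theorem BB.hp_fit_inf (h : BB G) (h4 : IsFour t s) (hp : Hp t s) : Fit t ⊓ Fit s = ⊥ :=
  by_contra fun e => h.not_infects h4.ord_right h4.ord_left h4.ne.symm (infects_of_norm_le
    (inf_le_right.trans (fit_le s)) (hp _ inf_le_left e (le_normalizer_inf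
      ((cent_le_cent1 (left_mem_four t s)).trans (fit_normal t).2)
      ((cent_le_cent1 (right_mem_four t s)).trans (fit_normal s).2))))

theorem BB.hp_pcore [Fact p.Prime] (h : BB G) (h4 : IsFour t s) (hp : Hp t s)
    (h0 : piCoreOf {p} 𝐎(𝓒[t]) ⊓ 𝓒[s] ≠ ⊥) : piCoreOf {p} 𝐎(𝓒[t]) ≤ 𝓒[s] ∧
      piCoreOf {p} 𝐎(𝓒[t]) ⊓ piCoreOf {p} 𝐎(𝓒[s]) = ⊥ := by
  refine ⟨?_, le_bot_iff.1 (h.hp_fit_inf h4 hp ▸
    inf_le_inf (pcore_le_fittingOf p _) (pcore_le_fittingOf p _))⟩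
  have hn : ∀ v : G, piCoreOf {p} 𝐎(𝓒[v]) ⊴ 𝓒[v] := fun v => (SB.core_cent_normal v).piCoreOf _
  have hX : piCoreOf {p} 𝐎(𝓒[t]) ⊓ 𝓒[s] ≤ 𝓒(four t s) :=
    (cent_four t s).symm ▸ inf_le_inf_right _ (hn t).1
  have h1 := hp _ (inf_le_left.trans (pcore_le_fittingOf p _)) h0 (le_normalizer_inf
    ((cent_le_cent1 (left_mem_four t s)).trans (hn t).2)
    (le_norm_cent1 (cent_le_cent1 (right_mem_four t s))))
  have h2 : ¬ p ∣ Nat.card (zpowers t) := by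
    rw [Nat.card_zpowers, h4.ord_left, Nat.prime_dvd_prime_iff_eq Fact.out Nat.prime_two]
    rintro rfl
    exact h0 (le_bot_iff.1 (inf_le_left.trans ((le_inf le_rfl (piCoreOf_le _)).trans
      (inf_eq_bot_of_coprime (coprime_of_pgroup_of_not_dvd (pgroup_piCoreOf 2 _)
        (odd_iff_not_two_dvd.1 (odd_core _))).symm).le)))
  have h3 := axb (pgroup_piCoreOf p 𝐎(𝓒[t * s])) ((pgroup_piCoreOf p _).to_le inf_le_left) h2
    ((hX.trans (cent_le_cent1 (mul_mem_four t s))).trans (hn _).2)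
    (zpowers_le.2 ((hn _).2 (mem_cent1.2 h4.mul.comm.eq)))
    ((inf_le_left.trans (hn t).1).trans (centralizer_zpowers t).ge)
    ((inf_le_right.trans ((cent_le_norm _).trans h1)).trans (centralizer_zpowers t).ge)
  obtain ⟨ρ, e1, e2⟩ := h.exists_rho h4
  have e3 : ρ * (t * s) * ρ⁻¹ = t := by
    rw [show ρ * (t * s) * ρ⁻¹ = ρ * t * ρ⁻¹ * (ρ * s * ρ⁻¹) by group, e1, e2, ← mul_assoc,
      ← h4.comm.eq, mul_assoc, h4.ss, mul_one]
  have h5 := conj_mono (le_cent1_iff.2 (zpowers_le.1 h3)) ρ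
  rwa [← piCoreOf_map_conj, ← SB.core_cent1_conj, e3, ← centralizer_singleton_conj, e1] at h5

theorem BB.hp_inv (h : BB G) (h4 : IsFour t s) (hp : Hp t s) : Inv t s := by
  have hs : s ∈ (𝓒[t] : Subgroup G) := mem_cent1.2 h4.comm.eq.symm
  have hU := SB.core_cent_normal t
  have hA : ⁅𝐎(𝓒[t]), zpowers s⁆ ≤ 𝐎(𝓒[t]) := comm_le_left (zpowers_le.2 (hU.2 hs))
  have h1 : ⁅𝐎(𝓒[t]), zpowers s⁆ ≤ 𝓒(Fit t) := by
    refine le_cent_symm (fittingOf_le_of_pcore fun q hq _ => le_cent_symm ?_)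
    have : Fact q.Prime := ⟨hq⟩
    by_cases h0 : piCoreOf {q} 𝐎(𝓒[t]) ⊓ 𝓒[s] = ⊥
    · exact comm_le_cent_of_inv (inv_of_cent_eq_bot (SB.odd_of_le (odd_core _) (piCoreOf_le _)) h4.ss
        ((hU.piCoreOf _).2 hs) h0) (piCoreOf_normalOf _ _).2
    · exact comm_le_cent_of_cent (h.hp_pcore h4 hp h0).1 (piCoreOf_normalOf _ _).2
  have h2 := (le_inf hA h1).trans (cent_sub_fitting (sol_of_odd (odd_core _)))
  have ho := SB.odd_of_le (odd_core _) hA
  have hn := right_le_norm_comm 𝐎(𝓒[t]) (zpowers s)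
  have h3 := (coprime_abelian_cent_dprod hn (Nat.card_zpowers s ▸ coprime_orderOf_of_odd ho h4.ss)
    (comm_iff_le_cent.2 (h1.trans (cent_anti h2)))).inf
  rw [comm_comm_eq (odd_core _) h4.ss (hU.2 hs), ← inf_assoc, inf_idem, centralizer_zpowers] at h3
  exact inv_of_cent_eq_bot ho h4.ss (zpowers_le.1 hn) h3

end Cfsg.GW
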