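import Cfsg.Agent.GW.StepL4

/-! # `C(t)` maximal: case (L) -/

set_option autoImplicit false
set_option linter.unusedSectionVars false

namespace Cfsg.GW

open Subgroup Cfsg.Agent.FT
open scoped commutatorElement

universe u

variable {G : Type u} [Group G] [Finite G] {M L A B : Subgroup G} {k i β p : ℕ} {s t : G}

theorem SL.ncard_le_mul {α ι : Type*} [Finite α] [Finite ι] {I : Set ι} {f : ι → Set α}
    {X : Set α} {m : ℕ} (h1 : ∀ x ∈ X, ∃ i ∈ I, x ∈ f i) (h2 : ∀ i ∈ I, (f i).ncard ≤ m) :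
    X.ncard ≤ I.ncard * m := by
  classical
  rw [Set.ncard_eq_toFinset_card I, Set.ncard_eq_toFinset_card X]
  refine le_trans (Finset.card_le_card fun x hx => ?_) (Finset.card_biUnion_le_card_mul _
    (fun i => (f i).toFinite.toFinset) m fun i hi => ?_)
  · obtain ⟨i, hi, h⟩ := h1 x (by simpa using hx)
    exact Finset.mem_biUnion.2 ⟨i, by simpa using hi, by simpa using h⟩
  · rw [← Set.ncard_eq_toFinset_card]
    exact h2 i (by simpa using hi)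

/-- an orbit of `p` of the `p + 1` lines leaves a fixed line -/
theorem SL.exists_line [hp : Fact p.Prime] {H : Subgroup G} (hAB : A ⊴ B) (hA : H ≤ 𝓝(A))
    (hB : H ≤ 𝓝(B)) (hc : Nat.card B = p ^ 2 * Nat.card A) (hpow : ∀ b ∈ B, b ^ p ∈ A)
    {𝓛 : Set (Subgroup G)} (h : ∀ Z ∈ 𝓛, A ≤ Z ∧ Z ≤ B ∧ Nat.card Z = p * Nat.card A)
    (hn : 𝓛.ncard = p) (hH : ∀ Z ∈ 𝓛, ∀ g ∈ H, Z :^ g ∈ 𝓛) :
    ∃ b ∈ B, b ∉ A ∧ H ≤ 𝓝(A ⊔ zpowers b) := by
  obtain ⟨b, ⟨hb, hbA⟩, hb'⟩ : ∃ b ∈ (B : Set G) \ A, ∀ Z ∈ 𝓛, b ∉ (Z : Set G) \ A := by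
    by_contra hc'
    push Not at hc'
    have h1 := SL.ncard_le_mul (f := fun Z : Subgroup G => (Z : Set G) \ A)
      (m := (p - 1) * Nat.card A) hc' fun Z hZ => by
        rw [SL.ncard_diff (h Z hZ).1, (h Z hZ).2.2, Nat.sub_mul, one_mul]
    rw [SL.ncard_diff hAB.1, hc, hn] at h1
    obtain ⟨m, rfl⟩ := Nat.exists_eq_add_of_le' hp.out.two_le
    have h2 := Nat.card_pos (α := A)
    have h3 := Nat.le_add_of_sub_le h1
    rw [show m + 2 - 1 = m + 1 from rfl] at h3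
    nlinarith
  have h1 : Nat.card (A ⊔ zpowers b : Subgroup G) = p * Nat.card A := by
    have hn := hAB.2 hb
    rw [← card_mul_card_quo (hAB.mono le_sup_left (sup_le hAB.1 (zpowers_le.2 hb))),
      quo_self_sup (zpowers_le.2 hn), quo_zpowers ⟨b, hn⟩, mul_comm, card_zpowers_of_pow (p := p)]
    · rw [← map_pow, coset_eq_one]; exact hpow b hb
    · exact fun e => hbA (coset_eq_one.1 e)
  have h2 : ∀ g ∈ H, A ≤ (A ⊔ zpowers b) :^ g ∧ (A ⊔ zpowers b) :^ g ≤ B ∧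
      Nat.card ((A ⊔ zpowers b) :^ g) = p * Nat.card A := fun g hg =>
    ⟨(conj_eq_of_mem_norm (hA hg)).ge.trans (conj_mono le_sup_left g),
      conj_le_of_mem_norm (sup_le hAB.1 (zpowers_le.2 hb)) (hB hg), (card_map_conj g _).trans h1⟩
  have h3 : ∀ g ∈ H, (A ⊔ zpowers b) :^ g ∉ 𝓛 := fun g hg hZ => by
    have := hH _ hZ _ (H.inv_mem hg)
    rw [conj_inv_conj] at this
    exact hb' _ this ⟨mem_sup_right (mem_zpowers b), hbA⟩
  refine ⟨b, hb, hbA, fun g hg => map_conj_eq_iff.1 ?_⟩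
  by_contra hne
  have h5 := SL.lines hp.out hAB.1 hc.le
    (𝓛 := insert ((A ⊔ zpowers b) :^ g) (insert ((A ⊔ zpowers b) :^ 1) 𝓛)) (by
      rintro Z (rfl | rfl | hZ)
      exacts [h2 g hg, h2 1 H.one_mem, h Z hZ])
  rw [Set.ncard_insert_of_notMem, Set.ncard_insert_of_notMem (h3 1 H.one_mem), hn] at h5
  · omega
  · rintro (e | e)
    exacts [hne (e.trans (map_conj_one _)), h3 g hg e]

theorem SL.inv_of [Fact p.Prime] (h4 : IsFour t s) (nA : 𝓒[t] ≤ 𝓝(A))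
    (hA : ∀ y ∈ A, s * y * s⁻¹ = y⁻¹) (hR : ∀ y ∈ piCoreOf {p}ᶜ (Fit t), s * y * s⁻¹ = y⁻¹)
    (hc : piCoreOf {p} (Fit t) ⊓ 𝓒(A) ≤ A) : Inv t s := by
  have hU := (SB.core_cent_normal t).1
  have hF := fittingOf_nil 𝐎(𝓒[t])
  set K := ⁅𝐎(𝓒[t]), zpowers s⁆
  have hK : K ⊴ 𝐎(𝓒[t]) :=
    ⟨comm_le_left (zpowers_le.2 (SL.s_mem_norm h4)), left_le_norm_comm _ _⟩
  have h1 : K ≤ 𝓒(A) := comm_le_cent_of_inv hA (hU.trans nA)
  have h2 : K ≤ 𝓒(piCoreOf {p}ᶜ (Fit t)) :=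
    comm_le_cent_of_inv hR (hU.trans ((fit_normal t).piCoreOf _).2)
  have hP := (fit_normal t).piCoreOf {p}
  have hPp := (nil_pcore_sylow p hF).pgroup
  have h3 : ∀ q : ℕ, q.Prime → q ≠ p → ∀ Q, IsSylowOf q Q K → Q ≤ piCoreOf {p}ᶜ (Fit t) := by
    intro q hq hne Q hQ
    haveI := Fact.mk hq
    have nQ := hQ.le.trans (hK.1.trans (hU.trans hP.2))
    have h5 : Q ≤ 𝓒(piCoreOf {p} (Fit t)) := by
      refine coprime_comm_comm_eq_bot nQ (coprime_of_pgroup hPp hQ.pgroup hne.symm)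
        (le_cent_iff_comm'.1 ((hQ.le.trans h1).trans (cent_anti (le_trans ?_ hc))))
      exact le_inf (comm_le_left nQ) ((commutator_mono le_rfl (hQ.le.trans h1)).trans
        (comm_le_right (le_norm_cent (hP.1.trans nA))))
    refine nil_le_piCoreOf hF (isPiGroup_of_pgroup hQ.pgroup hne) (le_trans (le_inf
      (hQ.le.trans hK.1) ?_) (cent_sub_fitting (sol_of_odd (odd_core _))))
    rw [← nil_piCoreOf_sup hF {p}]
    exact le_cent_sup h5 (hQ.le.trans h2)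
  have h5 : K ≤ Fit t := hK.le_fittingOf (nil_of_forall_sylow fun q hq _ => by
    haveI := Fact.mk hq
    obtain ⟨Q, hQ⟩ := exists_sylow q K
    refine ⟨Q, hQ, ?_⟩
    by_cases e : q = p
    · refine le_of_forall_sylow fun r hr _ => ?_
      haveI := Fact.mk hr
      by_cases e' : r = q
      · subst e'; exact ⟨Q, hQ, le_normalizer⟩
      · obtain ⟨R, hR⟩ := exists_sylow r K
        exact ⟨R, hR, le_norm_of_le_cent (le_cent_symm ((hQ.le.trans h2).trans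
          (cent_anti (h3 r hr (e ▸ e') R hR))))⟩
    · exact le_norm_of_le_cent (h2.trans (cent_anti (h3 q hq e Q hQ))))
  have h6 : K ≤ (piCoreOf {p} (Fit t) ⊓ 𝓒(A)) ⊔ piCoreOf {p}ᶜ (Fit t) :=
    le_of_forall_sylow fun q hq _ => by
      haveI := Fact.mk hq
      obtain ⟨Q, hQ⟩ := exists_sylow q K
      refine ⟨Q, hQ, ?_⟩
      by_cases e : q = p
      · subst e
        exact le_sup_of_le_left (le_inf (nil_le_pcore hF hQ.pgroup (hQ.le.trans h5))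
          (hQ.le.trans h1))
      · exact le_sup_of_le_right (h3 q hq e Q hQ)
  intro y hy
  have h7 : piCoreOf {p} (Fit t) ⊓ 𝓒(A) ≤ _ :=
    inf_le_left.trans (le_cent_symm (nil_dprod hF {p}).cent)
  obtain ⟨a, ha, r, hr, rfl⟩ := (mem_sup_of_le_normalizer (le_norm_of_le_cent h7)).1 (h6 hy)
  calc _ = s * a * s⁻¹ * (s * r * s⁻¹) := by group
    _ = (r * a)⁻¹ := by rw [hA a (hc ha), hR r hr, mul_inv_rev]
    _ = _ := by rw [mem_cent_sub.1 (h7 ha) r hr]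

/-- inverted elements of a group of class two with inverted derived group commute -/
theorem SL.comm_of_inv (ho : Odd (Nat.card A)) (hA : ∀ y ∈ A, s * y * s⁻¹ = y⁻¹) (hc : B ≤ 𝓒(A))
    (hd : ⁅B, B⁆ ≤ A) {z w : G} (hz : z ∈ B) (hw : w ∈ B) (e1 : s * z * s⁻¹ = z⁻¹)
    (e2 : s * w * s⁻¹ = w⁻¹) : z * w = w * z := by
  have h1 := hd (commutator_mem_commutator hz hw)
  have h2 := hA _ h1
  have h3 := mem_cent_sub.1 (hc (B.mul_mem hw hz)) _ h1
  rw [← commutatorElement_eq_one_iff_mul_comm]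
  refine eq_one_of_odd (odd_orderOf ho h1) (mul_eq_one_iff_eq_inv.2 ?_)
  calc _ = (w * z)⁻¹ * (⁅z, w⁆ * (w * z)) := by rw [h3]; group
    _ = (s * z * s⁻¹) * (s * w * s⁻¹) * (s * z * s⁻¹)⁻¹ * (s * w * s⁻¹)⁻¹ := by
      rw [e1, e2, commutatorElement_def]; group
    _ = _ := by rw [← h2, commutatorElement_def]; group

section
variable (hB : BB G) (h : Good M L k i β) (ht : t ∈ L) (hs : s ∈ L) (h4 : IsFour t s)
include hB h ht hs h4

theorem Good.exists_E [hp : Fact p.Prime] (hp2 : p ≠ 2) {P : Subgroup G} (hP : IsPGroup p P)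
    (hF : P ≤ Fit t) (hn : 𝓒[t] ≤ 𝓝(P)) (hM : ¬ P ≤ M) (h0 : P ⊓ 𝓒[s] ≠ ⊥) :
    ∃ E : Subgroup G, Nat.card E = p ∧ E ≤ 𝓒[s] ∧ 𝓝(E) = M ∧
      (∀ e ∈ 𝓩(P ⊓ 𝓒[s]), e ^ p = 1 → e ∈ E) ∧ p ≤ k ∧ ∃ ν, p ≤ ν ∧
        i ^ 2 * (i - β) * (ν - 1) ^ 2 ≤ 133 * M.relIndex 𝐎(𝓒[t]) ^ 3 * k ^ 2 := by
  have hst : s ∈ (𝓒[t] : Subgroup G) := mem_cent1.2 h4.comm.symm.eq
  have hMn : M ⊓ 𝓒[t] ≤ 𝓝(P ⊓ M) :=
    le_normalizer_inf (inf_le_right.trans hn) (inf_le_left.trans le_normalizer)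
  have n1 : s ∈ 𝓝(P ⊓ M) := hMn ⟨h.lt.normal.1 hs, hst⟩
  have hT : ¬ P ⊓ 𝓝(P ⊓ M) ≤ M := fun e => hM (nil_le_of_norm_le (nil_of_pgroup hP) e)
  have hTU : P ⊓ 𝓝(P ⊓ M) ≤ _ := inf_le_left.trans (hF.trans (SL.fit_le t))
  obtain ⟨c, hc, hcs, hcM⟩ := h.exists_inv hB ht hs h4 hTU
    (inf_normalizer_le_normalizer_inf ⟨hn hst, le_normalizer n1⟩) hT
  have e1 : P ⊓ M ⊓ 𝓒[s] = P ⊓ 𝓒[s] := by
    rw [inf_right_comm, inf_eq_left]
    exact (inf_le_inf_right _ (hF.trans (fit_normal t).1)).trans (h.cent_four_le ht hs h4)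
  have hF1 : P ⊓ M ≤ _ := inf_le_left.trans hF
  have hZ := h.center_ne hB ht hs h4 hF1 inf_le_right n1 (e1 ▸ h0)
  have hN : 𝓝(P ⊓ M) ≤ 𝓝(omegaOne p 𝓩(P ⊓ M)) := le_norm_omegaOne (le_norm_center le_rfl)
  have hWF : omegaOne p 𝓩(P ⊓ M) ≤ Fit t := (omegaOne_le _).trans (inf_le_left.trans hF1)
  have h1 : omegaOne p 𝓩(P ⊓ M) ⊓ 𝓒[s] ≠ ⊥ := fun e => omegaOne_ne_bot_of_pgroup
    (hP.to_le (inf_le_left.trans (inf_le_left.trans inf_le_left))) hZ (eq_bot_iff.2 ((le_inf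
      (omegaOne_mono inf_le_left) ((omegaOne_le _).trans inf_le_right)).trans e.le))
  obtain ⟨hE, y, hy, oy, hW⟩ := h.lw hB ht hs h4 (abelem_omegaOne_center _) hWF (hN n1) (hN hc.2)
    (odd_orderOf (odd_core _) (hTU hc)) hcs hcM h1
  obtain ⟨hEM, hN'⟩ := h.norm_inf hB ht hs h4 hWF (hMn.trans hN) h1
  obtain ⟨h2, h3⟩ := h.ineq hB ht hs h4 hp.out hp2 hE hEM hN' hy oy (T := P ⊓ 𝓝(P ⊓ M))
    (by rw [hW]; exact le_inf (hTU.trans (SB.core_cent_normal t).1) (inf_le_right.trans hN))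
  refine ⟨_, hE, inf_le_right, hN', fun e he hep => ⟨mem_omegaOne (h.center_le hB ht hs h4 hF1
    inf_le_right n1 (e1.symm ▸ he)) hep, he.1.2⟩, h3, _, ?_, h2⟩
  obtain ⟨n, hn⟩ := (hP.to_le (inf_le_left : P ⊓ 𝓝(P ⊓ M) ≤ P)).exists_card_eq
  obtain ⟨j, -, hj⟩ := (Nat.dvd_prime_pow hp.out).1 (hn ▸ relIndex_dvd_card M _)
  rw [hj]
  exact Nat.le_self_pow (fun e => hT (relIndex_eq_one.1 (by rw [hj, e, pow_zero]))) p

theorem Good.cent_le [hp : Fact p.Prime] (hp2 : p ≠ 2) {P : Subgroup G} (hP : IsPGroup p P)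
    (hF : P ≤ Fit t) (hn : 𝓒[t] ≤ 𝓝(P)) (hM : ¬ P ≤ M) (h0 : P ⊓ 𝓒[s] ≠ ⊥) (hA : A ≤ P)
    (hab : IsMulCommutative A) (nA : 𝓒[t] ≤ 𝓝(A))
    (hmax : ∀ X, X ≤ P → IsMulCommutative X → 𝓒[t] ≤ 𝓝(X) → A ≤ X → X ≤ A) :
    P ⊓ 𝓒(A) ≤ A := by
  by_contra hc
  have hst : s ∈ (𝓒[t] : Subgroup G) := mem_cent1.2 h4.comm.symm.eq
  have hPU := hF.trans (SL.fit_le t)
  have hU := (SB.core_cent_normal t).1
  have hPH := hPU.trans hU
  obtain ⟨E, hE, hEs, hN, hEZ, hk, ν, hν, hi⟩ := h.exists_E hB ht hs h4 hp2 hP hF hn hM h0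
  obtain ⟨B, hch, hle⟩ := exists_isChief_above (lt_of_le_of_ne (le_inf hA
    (comm_iff_le_cent.1 hab)) fun e => hc e.ge) (inf_le_left.trans hPH) nA
    (le_normalizer_inf hn (le_norm_cent nA))
  have hBP := hle.trans inf_le_left
  have hBA := hle.trans inf_le_right
  have hAB : A ⊴ B := ⟨hch.lt.le, hch.le.trans nA⟩
  have h1 : ⁅B, P⁆ ≤ A := hch.comm_le_of_isNilpotent ⟨hPH, hn⟩ (nil_of_pgroup hP)
  have h2 : ∀ b ∈ B, b ^ p ∈ A := by
    obtain ⟨q, hq, hq'⟩ := hch.abelem (sol_of_pgroup (hP.to_le hBP))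
    haveI := Fact.mk hq
    obtain rfl : p = q := by
      by_contra hne
      exact hch.quo_ne_bot (eq_bot_of_card_eq _ (Nat.coprime_self _ |>.1
        (coprime_of_pgroup (isPGroup_quo (hP.to_le hBP) A) hq'.isPGroup hne)))
    exact ((abelem_quo_iff hAB.2).1 hq').2
  have hAs : A ⊓ 𝓒[s] = ⊥ := h.noW hB ht hs h4 A (hA.trans hPU) hab nA
  have oA := SL.odd_le (hA.trans hF)
  have oB := SL.odd_le (hBP.trans hF)
  have hAi := inv_of_cent_eq_bot oA h4.ss (nA hst) hAs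
  have hBn : ¬ IsMulCommutative B := fun e => hch.lt.not_ge (hmax B hBP e hch.normU hAB.1)
  have hZB : 𝓩(B) ≤ A := hmax _ (inf_le_left.trans hBP) (comm_center B) (le_norm_center hch.normU)
    (le_inf hAB.1 (le_cent_symm hBA))
  have hEB : B ⊓ 𝓒[s] = E := by
    refine SL.eq_of_prime_index hp.out (A := ⊥) (bot_lt_iff_ne_bot.2 fun e => hBn (comm_of_inv
      (inv_of_cent_eq_bot oB h4.ss (hch.normU hst) e))) (fun e he => hEZ e ⟨⟨hBP he.1, he.2⟩, ?_⟩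
        (mem_bot.1 (hAs.le ⟨h2 e he.1, pow_mem he.2 p⟩))) (by rw [hE, card_bot, mul_one])
    exact le_cent_iff_comm.2 (eq_bot_iff.2 ((le_inf ((commutator_mono inf_le_left inf_le_left).trans
      h1) (comm_le_of_le inf_le_right inf_le_right)).trans hAs.le)) he
  have hEB' : E ≤ B := hEB.ge.trans inf_le_left
  have hEA := hEB'.trans hBA
  have hAK : A ≤ Kc L t := fun a ha => h.mem_Kc hB ht hs h4 (hPU (hA ha))
    (hN.le (cent_le_norm _ (le_cent_symm hEA ha))) (hAi a ha)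
  have hO : Nat.card (omegaOne p A) ∣ p := card_dvd_of_abelem_of_isCyclic (abelem_omegaOne hab)
    (cyclic_of_le (h.lt.cyc t ht h4.ord_left) ((omegaOne_le _).trans hAK))
  obtain ⟨e, he, he1⟩ := (bot_or_exists_ne_one E).resolve_left
    (ne_bot_of_prime_card (hE ▸ hp.out))
  have hze : zpowers e = E := SL.eq_of_prime_index hp.out (A := ⊥)
    (bot_lt_iff_ne_bot.2 (zpowers_ne_bot.2 he1)) (zpowers_le.2 he) (by rw [hE, card_bot, mul_one])
  have hZ : Nat.card (A ⊔ E : Subgroup G) = p * Nat.card A := by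
    rw [← IsSdprod.card ⟨rfl, le_norm_of_le_cent hEA,
      eq_bot_iff.2 ((inf_le_inf_left A hEs).trans hAs.le)⟩, hE, mul_comm]
  have hZab : IsMulCommutative (A ⊔ E : Subgroup G) :=
    comm_sup hab (abelem_of_card_prime hE).1 (le_cent_symm hEA)
  have hZle : A ⊔ E ≤ B := sup_le hAB.1 hEB'
  have h3 : B ⊓ 𝓒[e] ≤ A ⊔ E := fun b hb => by
    obtain ⟨c, hc, z, hz, e1, e2, rfl⟩ := exists_cent_mul_inv (SB.odd_of_le oB inf_le_left) h4.ss
      (SL.mem_norm_cent (hch.normU hst) (hEs he)) hb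
    refine mul_mem (mem_sup_right (hEB.le ⟨hc.1, mem_cent1.2 (mul_inv_eq_iff_eq_mul.1 e1).symm⟩))
      (mem_sup_left (hZB ⟨hz.1, mem_cent_sub.2 fun w hw => ?_⟩))
    obtain ⟨c', hc', z', hz', e3, e4, rfl⟩ := exists_cent_mul_inv oB h4.ss (hch.normU hst) hw
    have h5 : c' ∈ (𝓒[z] : Subgroup G) := (zpowers_le.2 (mem_cent1.2 (mem_cent1.1 hz.2).symm))
      (hze.ge (hEB.le ⟨hc', mem_cent1.2 (mul_inv_eq_iff_eq_mul.1 e3).symm⟩))
    rw [mul_assoc, SL.comm_of_inv oA hAi hBA ((commutator_mono le_rfl hBP).trans h1) hz' hz.1 e4 e2,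
      ← mul_assoc, mem_cent1.1 h5, mul_assoc]
  have hBc : Nat.card B ≤ p ^ 2 * Nat.card A := by
    have h5 : (𝓒[e] : Subgroup G).relIndex B ∣ p := by
      refine (relIndex_cent1_dvd (fun b hb => ?_) (hBA.trans (cent_anti (omegaOne_le A)))).trans hO
      have h6 := h1 (commutator_mem_commutator (hEB' he) (hBP hb))
      refine mem_omegaOne h6 ?_
      rw [← comm_pow_left (mem_cent_sub.1 (hEA he) _ h6).symm, (abelem_of_card_prime hE).2 e he,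
        commutatorElement_one_left]
    rw [← card_mul_relIndex (inf_le_left : B ⊓ 𝓒[e] ≤ B), inf_relIndex_left, sq, mul_assoc,
      mul_comm p, ← hZ]
    exact Nat.mul_le_mul (card_le_of_le h3) (Nat.le_of_dvd hp.out.pos h5)
  have hl : ∀ u ∈ 𝐎(𝓒[t]), A ≤ (A ⊔ E) :^ u ∧ (A ⊔ E) :^ u ≤ B := fun u hu =>
    ⟨(conj_eq_of_mem_norm (nA (hU hu))).ge.trans (conj_mono le_sup_left u),
      conj_le_of_mem_norm hZle (hch.normU (hU hu))⟩
  have h5 := SL.orbit_le hp.out hp2 hBc hZ (odd_core _) hl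
  have hMZ : M ⊓ 𝓒[t] ≤ 𝓝(A ⊔ E) :=
    le_normalizer_sup (inf_le_right.trans nA) (inf_le_left.trans hN.ge)
  have hpr := h.isProd hB ht hs h4
  by_cases hp3 : p = 3
  · obtain ⟨m, hm⟩ := (odd_core _).of_dvd_nat (relIndex_dvd_card 𝓝(A ⊔ E) 𝐎(𝓒[t]))
    have h6 : 𝓝(A ⊔ E).relIndex 𝐎(𝓒[t]) ≠ 1 := fun e' => he1 (mem_bot.1 (hAs.le ⟨hmax _
      (hZle.trans hBP) hZab (hpr.sup_eq.ge.trans (sup_le hMZ (relIndex_eq_one.1 e'))) le_sup_left
        (mem_sup_right he), hEs he⟩))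
    have h7 : Nat.card B = p ^ 2 * Nat.card A := by
      refine le_antisymm hBc ?_
      obtain ⟨n, hn⟩ := (hP.to_le hBP).exists_card_eq
      obtain ⟨j, -, hj⟩ := (Nat.dvd_prime_pow hp.out).1 (hn ▸ relIndex_dvd_card (A ⊔ E) B)
      rw [← card_mul_relIndex hZle, hZ, hj, sq, mul_right_comm]
      exact Nat.mul_le_mul_left _ (Nat.le_self_pow (fun e' => hBn (comm_of_le hZab
        (relIndex_eq_one.1 (by rw [hj, e', pow_zero])))) p)
    obtain ⟨b, hb, hbA, hbn⟩ := SL.exists_line hAB nA hch.normU h7 h2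
      (𝓛 := (fun u => (A ⊔ E) :^ u) '' 𝐎(𝓒[t])) (by
        rintro _ ⟨u, hu, rfl⟩
        exact ⟨(hl u hu).1, (hl u hu).2, (card_map_conj u _).trans hZ⟩)
      (by rw [SL.ncard_conj]; omega) (by
        rintro _ ⟨u, hu, rfl⟩ g hg
        obtain ⟨a, ha, b, hb, e⟩ := hpr.symm.2.2 _ (mul_mem hg (hU hu))
        exact ⟨a, ha, by simp only; rw [conj_conj, e, ← conj_conj, conj_eq_of_mem_norm (hMZ hb)]⟩)
    exact hbA (hmax _ (sup_le hA (zpowers_le.2 (hBP hb))) (comm_sup hab inferInstance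
      (le_cent_symm (zpowers_le.2 (hBA hb)))) hbn le_sup_left (mem_sup_right (mem_zpowers b)))
  have h6 : M.relIndex (𝐎(𝓒[t]) ⊓ 𝓝(A ⊔ E)) ≤ p := by
    have h7 : E ≤ 𝓝(omegaOne p A) := le_norm_omegaOne (le_norm_of_le_cent hEA)
    rw [← hN]
    refine SL.orbit_le hp.out hp2 (A := ⊥) (B := omegaOne p A ⊔ E) ?_
      (by rw [hE, card_bot, mul_one]) (SB.odd_of_le (odd_core _) inf_le_left) fun u hu =>
        ⟨bot_le, fun z hz => ?_⟩
    · rw [card_bot, mul_one, sup_comm, sq]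
      exact Nat.le_of_dvd (Nat.mul_pos hp.out.pos hp.out.pos)
        ((card_sup_dvd_of_le_normalizer h7).trans (Nat.mul_dvd_mul hE.dvd hO))
    · obtain ⟨a, ha, d, hd, rfl⟩ := (mem_sup_of_le_normalizer' (le_norm_of_le_cent hEA)).1
        (conj_le_of_mem_norm le_sup_right hu.2 hz)
      have h8 := (abelem_map_conj (abelem_of_card_prime hE) u).2 _ hz
      rw [Commute.mul_pow (mem_cent_sub.1 (hEA hd) a ha), (abelem_of_card_prime hE).2 d hd,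
        mul_one] at h8
      exact mul_mem (mem_sup_left (mem_omegaOne ha h8)) (mem_sup_right hd)
  have h7 : M.relIndex 𝐎(𝓒[t]) ≤ p * p := by
    refine (relIndex_le_of_le_left (inf_le_left : M ⊓ (𝐎(𝓒[t]) ⊓ 𝓝(A ⊔ E)) ≤ M)
      index_ne_zero_of_finite).trans ?_
    rw [← relIndex_mul_relIndex _ _ _ inf_le_right inf_le_left, inf_relIndex_right,
      inf_relIndex_left]
    exact Nat.mul_le_mul h6 h5
  have h8 : 5 ≤ p := by
    have := hp.out.two_le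
    have : p ≠ 4 := fun e => absurd (e ▸ hp.out) (by decide)
    omega
  exact SL.arith₂ hi (by simpa only [mul_assoc] using h.lt.ineq₂ (h8.trans hk)) h8 hk hν h7

theorem Good.inv : Inv t s := by
  obtain ⟨x, hx, hp⟩ := exists_prime_order_mem (h.core_fit ht hs h4 ▸ h.ne t ht h4.ord_left)
  generalize hq : orderOf x = p at hp
  haveI := Fact.mk hp
  have hp2 : p ≠ 2 := fun e => by
    have := odd_orderOf (odd_fit t) hx.1
    rw [hq, e] at this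
    exact absurd this (by decide)
  have hst : s ∈ (𝓒[t] : Subgroup G) := mem_cent1.2 h4.comm.symm.eq
  have hF := fittingOf_nil 𝐎(𝓒[t])
  have hP := (fit_normal t).piCoreOf {p}
  have hR := (fit_normal t).piCoreOf {p}ᶜ
  have hPF : piCoreOf {p} (Fit t) ≤ Fit t := piCoreOf_le _
  have hRF : piCoreOf {p}ᶜ (Fit t) ≤ Fit t := piCoreOf_le _
  have h0 : piCoreOf {p} (Fit t) ⊓ 𝓒[s] ≠ ⊥ := fun e => hp.ne_one (by
    rw [← hq, orderOf_eq_one_iff, ← mem_bot, ← e]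
    exact ⟨nil_le_pcore hF (pgroup_of_card ((Nat.card_zpowers x).trans hq)) (zpowers_le.2 hx.1)
      (mem_zpowers x), hx.2⟩)
  have hM : ¬ piCoreOf {p} (Fit t) ≤ M := fun e => h.center_ne hB ht hs h4 hPF e (hP.2 hst) h0
    (h.noW hB ht hs h4 _ (inf_le_left.trans (hPF.trans (SL.fit_le t))) (comm_center _)
      (le_norm_center hP.2))
  obtain ⟨A, -, ⟨hA, hab, nA⟩, hmax⟩ := Finite.exists_le_maximal (a := ⊥) (p := fun X : Subgroup G =>
    X ≤ piCoreOf {p} (Fit t) ∧ IsMulCommutative X ∧ 𝓒[t] ≤ 𝓝(X))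
    ⟨bot_le, comm_of_cyclic cyclic_bot, le_norm_bot _⟩
  refine SL.inv_of h4 nA (inv_of_cent_eq_bot (SL.odd_le (hA.trans hPF)) h4.ss (nA hst)
    (h.noW hB ht hs h4 A (hA.trans (hPF.trans (SL.fit_le t))) hab nA))
    (inv_of_cent_eq_bot (SL.odd_le hRF) h4.ss (hR.2 hst) ?_) (h.cent_le hB ht hs h4 hp2
      (nil_pcore_sylow p hF).pgroup hPF hP.2 hM h0 hA hab nA fun X h1 h2 h3 => hmax ⟨h1, h2, h3⟩)
  by_contra h1
  exact hM ((le_norm_of_le_cent ((le_cent_symm (nil_dprod hF {p}).cent).trans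
    (cent_anti inf_le_left))).trans (h.norm_le hB ht hs h4 (inf_le_left.trans hRF) inf_le_right h1))

end

theorem BB.dich (h : BB G) (h4 : IsFour t s) : Hp t s ∨ NoW t s ∧ Inv t s := by
  refine or_iff_not_imp_left.2 fun hH => ?_
  by_cases hD : Fit t ⊓ 𝓒[s] = ⊥
  · refine ⟨fun W hU hab hn => eq_bot_iff.2 ((inf_le_inf_right _ (IsNormalOf.le_fittingOf
      ⟨hU, (SB.core_cent_normal t).1.trans hn⟩ (nil_of_comm hab))).trans hD.le), fun y hy => ?_⟩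
    have h1 := inv_of_cent_eq_bot (odd_fit t) h4.ss
      ((fit_normal t).2 (mem_cent1.2 h4.comm.symm.eq)) hD
    exact h1 y (cent_sub_fitting (sol_of_odd (odd_core _)) ⟨comm_le_left (zpowers_le.2
      (SL.s_mem_norm h4)) hy, comm_le_cent_of_inv h1 (fittingOf_normal _).2 hy⟩)
  · obtain ⟨M, L, k, i, β, hG, ht, hs⟩ := h.exists_good h4 hH hD
    exact ⟨hG.noW h ht hs h4, hG.inv h ht hs h4⟩

end Cfsg.GW
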