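import Cfsg.Agent.GW.StepB

/-! # Case (L): counting lemmas -/

set_option autoImplicit false
set_option linter.unusedSectionVars false

namespace Cfsg.GW

open Subgroup Cfsg.Agent.FT
open scoped commutatorElement

universe u

variable {G : Type u} [Group G] [Finite G] {p : ℕ}

theorem SL.mul_ncard_le {α ι : Type*} [Finite α] [Finite ι] {I : Set ι} {f : ι → Set α}
    {Ω : Set α} {m : ℕ} (h1 : ∀ i ∈ I, f i ⊆ Ω) (h2 : ∀ i ∈ I, m ≤ (f i).ncard)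
    (h3 : ∀ i ∈ I, ∀ j ∈ I, ∀ x, x ∈ f i → x ∈ f j → i = j) : I.ncard * m ≤ Ω.ncard := by
  classical
  have h4 : (I.toFinite.toFinset.biUnion fun i => (f i).toFinite.toFinset).card =
      ∑ i ∈ I.toFinite.toFinset, (f i).toFinite.toFinset.card := by
    refine Finset.card_biUnion fun i hi j hj hij => ?_
    refine Finset.disjoint_left.2 fun x hx hx' => hij (h3 i ?_ j ?_ x ?_ ?_) <;> simp_all
  have h5 : (I.toFinite.toFinset.biUnion fun i => (f i).toFinite.toFinset) ⊆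
      Ω.toFinite.toFinset := by
    intro x hx
    obtain ⟨i, hi, hx⟩ := Finset.mem_biUnion.1 hx
    simpa using h1 i (by simpa using hi) (by simpa using hx)
  rw [Set.ncard_eq_toFinset_card I, Set.ncard_eq_toFinset_card Ω]
  refine le_trans ?_ (h4.ge.trans (Finset.card_le_card h5))
  rw [← smul_eq_mul]
  refine Finset.card_nsmul_le_sum _ _ _ fun i hi => ?_
  rw [← Set.ncard_eq_toFinset_card]
  exact h2 i (by simpa using hi)

theorem SL.ncard_image {α : Type*} (f : G → α) (U C : Subgroup G)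
    (h : ∀ u ∈ U, ∀ v ∈ U, f u = f v ↔ u⁻¹ * v ∈ C) : (f '' U).ncard = C.relIndex U := by
  rw [relIndex, index, ← Nat.card_coe_set_eq]
  symm
  refine Nat.card_congr (Equiv.ofBijective (fun q : U ⧸ C.subgroupOf U => Quotient.liftOn' q
    (fun u => (⟨f u, u, u.2, rfl⟩ : f '' U)) fun a b hab => Subtype.ext
      ((h a a.2 b b.2).2 (mem_subgroupOf.1 (QuotientGroup.leftRel_apply.1 hab)))) ⟨?_, ?_⟩)
  · intro a b
    induction a using Quotient.inductionOn'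
    induction b using Quotient.inductionOn'
    intro e
    exact Quotient.sound' (QuotientGroup.leftRel_apply.2 (mem_subgroupOf.2
      ((h _ (Subtype.prop _) _ (Subtype.prop _)).1 (congrArg Subtype.val e))))
  · rintro ⟨_, u, hu, rfl⟩
    exact ⟨Quotient.mk'' ⟨u, hu⟩, rfl⟩

theorem SL.ncard_conj (U E : Subgroup G) :
    ((fun u => E :^ u) '' U).ncard = 𝓝(E).relIndex U := by
  refine SL.ncard_image _ U _ fun u _ v _ => ?_
  rw [← map_conj_eq_iff, ← conj_conj, conj_eq_iff_eq_conj_inv (g := u⁻¹), inv_inv, eq_comm]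

theorem SL.ncard_conj1 (U : Subgroup G) (t : G) :
    ((fun u => u * t * u⁻¹) '' U).ncard = (𝓒[t] : Subgroup G).relIndex U := by
  refine SL.ncard_image _ U _ fun u _ v _ => ?_
  rw [mem_cent1]
  constructor
  · intro e
    calc u⁻¹ * v * t = u⁻¹ * (v * t * v⁻¹) * v := by group
      _ = t * (u⁻¹ * v) := by rw [← e]; group
  · intro e
    calc u * t * u⁻¹ = u * (t * (u⁻¹ * v)) * v⁻¹ := by group
      _ = v * t * v⁻¹ := by rw [← e]; group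

theorem SL.eq_of_prime_index (hp : p.Prime) {A Z Y : Subgroup G} (h1 : A < Y) (h2 : Y ≤ Z)
    (hZ : Nat.card Z = p * Nat.card A) : Y = Z := by
  have h3 := card_mul_relIndex h1.le
  have h4 := card_mul_relIndex h2
  have h5 : A.relIndex Y * Y.relIndex Z = p := by
    refine Nat.eq_of_mul_eq_mul_left (Nat.card_pos (α := A)) ?_
    rw [← mul_assoc, h3, h4, hZ, mul_comm]
  rcases (Nat.dvd_prime hp).1 (Dvd.intro _ h5) with h | h
  · exact absurd (relIndex_eq_one.1 h) h1.not_ge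
  · rw [h] at h5
    exact le_antisymm h2 (relIndex_eq_one.1 (Nat.eq_of_mul_eq_mul_left hp.pos
      (h5.trans (mul_one p).symm)))

theorem SL.ncard_diff {A Z : Subgroup G} (h : A ≤ Z) :
    ((Z : Set G) \ A).ncard = Nat.card Z - Nat.card A := by
  rw [← Nat.card_coe_set_eq, card_diff h]

theorem SL.lines_aux (hp : p.Prime) {A : Subgroup G} {X : Set G} {𝓛 : Set (Subgroup G)}
    (h : ∀ Z ∈ 𝓛, A ≤ Z ∧ (Z : Set G) \ A ⊆ X ∧ Nat.card Z = p * Nat.card A) :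
    𝓛.ncard * ((p - 1) * Nat.card A) ≤ X.ncard := by
  refine SL.mul_ncard_le (f := fun Z : Subgroup G => (Z : Set G) \ A) (fun Z hZ => (h Z hZ).2.1)
    (fun Z hZ => ?_) fun Z hZ Z' hZ' x hx hx' => ?_
  · rw [SL.ncard_diff (h Z hZ).1, (h Z hZ).2.2, Nat.sub_mul, one_mul]
  · have h1 : A < Z ⊓ Z' := lt_of_le_of_ne (le_inf (h Z hZ).1 (h Z' hZ').1) fun e =>
      hx.2 (e ▸ (⟨hx.1, hx'.1⟩ : x ∈ Z ⊓ Z'))
    exact (SL.eq_of_prime_index hp h1 inf_le_left (h Z hZ).2.2).symm.trans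
      (SL.eq_of_prime_index hp h1 inf_le_right (h Z' hZ').2.2)

theorem SL.lines (hp : p.Prime) {A B : Subgroup G} (hAB : A ≤ B)
    (hB : Nat.card B ≤ p ^ 2 * Nat.card A) {𝓛 : Set (Subgroup G)}
    (h : ∀ Z ∈ 𝓛, A ≤ Z ∧ Z ≤ B ∧ Nat.card Z = p * Nat.card A) : 𝓛.ncard ≤ p + 1 := by
  have h1 := SL.lines_aux hp (X := (B : Set G) \ A) fun Z hZ =>
    ⟨(h Z hZ).1, Set.sdiff_subset_sdiff_left (h Z hZ).2.1, (h Z hZ).2.2⟩
  rw [SL.ncard_diff hAB] at h1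
  have h2 : 0 < (p - 1) * Nat.card A := Nat.mul_pos (Nat.sub_pos_of_lt hp.one_lt) Nat.card_pos
  refine Nat.le_of_mul_le_mul_right (h1.trans ?_) h2
  obtain ⟨m, rfl⟩ : ∃ m, p = m + 1 := ⟨p - 1, (Nat.sub_add_cancel hp.pos).symm⟩
  rw [Nat.add_sub_cancel]
  refine Nat.sub_le_of_le_add (hB.trans (le_of_eq (by ring)))

theorem SL.exists_four {X E E' : Subgroup G} (h8 : IsD8 X) (hX : X = E ⊔ E')
    (h1 : Odd (Nat.card E)) (h2 : Odd (Nat.card E')) (h : ¬ Odd (Nat.card X)) :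
    ∃ a ∈ X, ∃ b ∈ X, IsFour a b := by
  obtain ⟨S, hS⟩ := exists_sylow 2 X
  by_cases hc : IsCyclic S
  · have h3 := npc_of_cyclic hS hc
    exact absurd (SB.odd_of_le (odd_core X) (hX.le.trans (sup_le
      (le_core_of_npc h3 (hX ▸ le_sup_left) h1) (le_core_of_npc h3 (hX ▸ le_sup_right) h2)))) h
  · obtain ⟨x, s, t, hd⟩ := h8.exists_dihOf_sylow hS hc
    exact ⟨t, hS.le hd.t_mem', s, hS.le hd.s_mem, hd.isFour⟩

theorem SL.mem_of_invol (hp : p.Prime) (hp2 : p ≠ 2) {E L : Subgroup G} (hE : Nat.card E = p)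
    (hc : E ≤ 𝓒(L)) {z : G} (hz : z ∈ E ⊔ L) (ho : orderOf z = 2) : z ∈ L := by
  obtain ⟨c, hc', l, hl, rfl⟩ := (mem_sup_of_le_normalizer (le_norm_of_le_cent hc)).1 hz
  have h1 : Commute c l := (mem_cent_sub.1 (hc hc') l hl).symm
  have h2 : c ^ p = 1 := by
    rw [← hE]; exact orderOf_dvd_iff_pow_eq_one.1 (Subgroup.orderOf_dvd_natCard E hc')
  obtain ⟨m, hm⟩ := hp.odd_of_ne_two hp2
  have h3 : (c * l) ^ p = c * l := by
    rw [hm, pow_succ, pow_mul, ← ho, pow_orderOf_eq_one, one_pow, one_mul]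
  rw [← h3, h1.mul_pow, h2, one_mul]
  exact L.pow_mem hl p

theorem SL.Kc_le (L : Subgroup G) (a : G) : Kc L a ≤ L :=
  comm_le_of_le ((piCoreOf_le _).trans inf_le_left) inf_le_left

/-- two distinct subgroups of order `p` in `E ⟨y⟩` generate it -/
theorem SL.mem_sup_of_ne (hp : p.Prime) {E E' : Subgroup G} (hE : Nat.card E = p)
    (hE' : Nat.card E' = p) (hne : E' ≠ E) {y : G} (hy : orderOf y = p) (hc : E ≤ 𝓒[y])
    (hle : E' ≤ E ⊔ zpowers y) : y ∈ E ⊔ E' := by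
  have h1 : E < E ⊔ E' := lt_of_le_of_ne le_sup_left fun e =>
    hne (eq_of_le_of_card_le (e ▸ le_sup_right) (hE.trans hE'.symm).le)
  have h2 : zpowers y ≤ 𝓝(E) := le_norm_of_le_cent (zpowers_le.2 (le_cent1_iff.1 hc))
  have h3 := card_sup_dvd_of_le_normalizer h2
  rw [Nat.card_zpowers, hy, sup_comm] at h3
  obtain ⟨m, hm⟩ := card_dvd_of_le (le_sup_left : E ≤ E ⊔ zpowers y)
  have h4 : m ∣ p := by
    rw [hm, mul_comm p] at h3
    exact Nat.dvd_of_mul_dvd_mul_left Nat.card_pos h3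
  rcases (Nat.dvd_prime hp).1 h4 with h | h
  · rw [h, mul_one] at hm
    exact absurd ((sup_le le_sup_left hle).trans (eq_of_le_of_card_le le_sup_left hm.le).ge)
      h1.not_ge
  · rw [h, mul_comm] at hm
    exact (SL.eq_of_prime_index hp h1 (sup_le le_sup_left hle) hm).ge
      (mem_sup_right (mem_zpowers y))

/-- the neighbours of `E` through the involution `a` -/
def Nbr (p : ℕ) (Ω : Set (Subgroup G)) (Lf : Subgroup G → Subgroup G) (E : Subgroup G) (a : G) :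
    Set (Subgroup G) :=
  {E' | E' ∈ Ω ∧ E' ≠ E ∧ (∃ y ∈ Kc (Lf E) a, orderOf y = p ∧ E' ≤ E ⊔ zpowers y) ∧
    a ∈ Lf E' ∧ ∃ y ∈ Kc (Lf E') a, orderOf y = p ∧ E ≤ E' ⊔ zpowers y}

theorem SL.count (h8 : IsD8 G) (hp : p.Prime) (hp2 : p ≠ 2) {Ω : Set (Subgroup G)}
    {Lf : Subgroup G → Subgroup G} {k i β ν : ℕ} {E₀ : Subgroup G} (h0 : E₀ ∈ Ω)
    (h1 : ∀ E ∈ Ω, Nat.card E = p ∧ E ≤ 𝐎(𝓝(E)) ∧ LT 𝓝(E) (Lf E) k i β)
    (h2 : ∀ E ∈ Ω, ∀ E' ∈ Ω, ∀ a b, IsFour a b → a ∈ Lf E → b ∈ Lf E → a ∈ Lf E' → b ∈ Lf E' →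
      E = E')
    (h3 : ∀ E ∈ Ω, ∀ a ∈ Lf E, orderOf a = 2 → ν ≤ (Nbr p Ω Lf E a).ncard) :
    i * ν * ((i - β) * ν) ≤ Ω.ncard := by
  have hc : ∀ E ∈ Ω, E ≤ 𝓒(Lf E) := fun E hE =>
    (h1 E hE).2.1.trans ((h1 E hE).2.2.cent.ge.trans inf_le_right)
  have hc1 : ∀ E ∈ Ω, ∀ a, ∀ y ∈ Kc (Lf E) a, E ≤ 𝓒[y] := fun E hE a y hy =>
    (hc E hE).trans (cent_le_cent1 (SL.Kc_le _ _ hy))
  have hodd : ∀ E ∈ Ω, Odd (Nat.card E) := fun E hE => (h1 E hE).1 ▸ hp.odd_of_ne_two hp2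
  have hA : ∀ E ∈ Ω, ∀ a ∈ Lf E, ∀ b ∈ Lf E, orderOf a = 2 → orderOf b = 2 → ∀ E',
      E' ∈ Nbr p Ω Lf E a → E' ∈ Nbr p Ω Lf E b → a = b := by
    rintro E hE a ha b hb oa ob E' ⟨hE', hne, ⟨y, hy, -, hle⟩, -⟩ ⟨-, -, ⟨z, hz, -, hle'⟩, -⟩
    obtain ⟨e, he, heE⟩ := SetLike.not_le_iff_exists.1 fun h : E' ≤ E =>
      hne (eq_of_le_of_card_le h ((h1 E hE).1.trans (h1 E' hE').1.symm).le)
    obtain ⟨c, hc', y', hy', rfl⟩ := (mem_sup_of_le_normalizer (le_norm_of_le_cent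
      (le_cent_zpowers.2 (hc1 E hE a y hy)))).1 (hle he)
    obtain ⟨d, hd, z', hz', e'⟩ := (mem_sup_of_le_normalizer (le_norm_of_le_cent
      (le_cent_zpowers.2 (hc1 E hE b z hz)))).1 (hle' he)
    have hy'' := zpowers_le.2 hy hy'
    refine (h1 E hE).2.2.uniq a ha b hb oa ob y' hy'' z' (zpowers_le.2 hz hz')
      (fun e => heE (by rw [e, mul_one]; exact hc')) ((h1 E hE).2.1 ?_)
    have h5 : z' = d⁻¹ * c * y' := by rw [mul_assoc, ← e']; group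
    have h6 := mem_cent1.1 (hc1 E hE a y' hy'' (E.mul_mem (E.inv_mem hd) hc'))
    rw [h5, h6, inv_mul_cancel_left]
    exact E.mul_mem (E.inv_mem hd) hc'
  have hB : ∀ E ∈ Ω, ∀ I : Set G, (∀ a ∈ I, a ∈ Lf E ∧ orderOf a = 2) →
      I.ncard * ν ≤ {E' | ∃ a ∈ I, E' ∈ Nbr p Ω Lf E a}.ncard := fun E hE I hI =>
    SL.mul_ncard_le (f := Nbr p Ω Lf E) (fun a ha E' hE' => ⟨a, ha, hE'⟩)
      (fun a ha => h3 E hE a (hI a ha).1 (hI a ha).2) fun a ha b hb E' =>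
        hA E hE a (hI a ha).1 b (hI b hb).1 (hI a ha).2 (hI b hb).2 E'
  set N₁ := {E' | ∃ a ∈ {a | a ∈ Lf E₀ ∧ orderOf a = 2}, E' ∈ Nbr p Ω Lf E₀ a} with hN₁
  have hN : i * ν ≤ N₁.ncard := by
    rw [← (h1 E₀ h0).2.2.ncard]; exact hB E₀ h0 _ fun a ha => ha
  -- the chosen element `y`
  have hy : ∀ E' ∈ N₁, ∃ y a, E' ∈ Ω ∧ E' ≠ E₀ ∧ a ∈ Lf E' ∧ orderOf a = 2 ∧ y ∈ Kc (Lf E') a ∧
      orderOf y = p ∧ E₀ ≤ E' ⊔ zpowers y := by
    rintro E' ⟨a, ⟨-, oa⟩, hE', hne, -, ha, y, hy, oy, hle⟩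
    exact ⟨y, a, hE', hne, ha, oa, hy, oy, hle⟩
  choose! y hy using hy
  let Gd : Subgroup G → Set G := fun E' => {b | b ∈ Lf E' ∧ orderOf b = 2} \
    {b | b ∈ Lf E' ∧ orderOf b = 2 ∧ ∃ y' ∈ Kc (Lf E') b, orderOf y' = p ∧
      Odd (Nat.card (zpowers (y E') ⊔ zpowers y' : Subgroup G))}
  refine (Nat.mul_le_mul_right _ hN).trans (SL.mul_ncard_le
    (f := fun E' => {E'' | ∃ b ∈ Gd E', E'' ∈ Nbr p Ω Lf E' b}) ?_ ?_ ?_)
  · rintro E' - E'' ⟨b, -, h, -⟩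
    exact h
  · intro E' hE'
    obtain ⟨a, hΩ, -, ha, oa, hy1, oy, -⟩ := hy E' hE'
    refine le_trans (Nat.mul_le_mul_right _ ?_) (hB E' hΩ _ fun b hb => hb.1)
    refine le_trans ?_ (Set.le_ncard_sdiff _ _)
    rw [(h1 E' hΩ).2.2.ncard]
    exact Nat.sub_le_sub_left ((h1 E' hΩ).2.2.bad p hp a ha oa _ hy1 oy) _
  · have key : ∀ E' ∈ N₁, ∀ E'', (∃ b ∈ Gd E', E'' ∈ Nbr p Ω Lf E' b) →
        E'' ∈ Ω ∧ ¬ Odd (Nat.card (E₀ ⊔ E'' : Subgroup G)) ∧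
          ∀ z ∈ E₀ ⊔ E'', orderOf z = 2 → z ∈ Lf E' := by
      rintro E' hE' E'' ⟨b, ⟨⟨hb, ob⟩, hbad⟩, hΩ'', hne'', ⟨z, hz, oz, hle'⟩, -⟩
      obtain ⟨a, hΩ, hne, ha, oa, hy1, oy, hle⟩ := hy E' hE'
      have hX : E₀ ⊔ E'' ≤ E' ⊔ Lf E' := sup_le
        (hle.trans (sup_le_sup_left (zpowers_le.2 (SL.Kc_le _ _ hy1)) _))
        (hle'.trans (sup_le_sup_left (zpowers_le.2 (SL.Kc_le _ _ hz)) _))
      refine ⟨hΩ'', fun ho => hbad ⟨hb, ob, z, hz, oz, ?_⟩, fun w hw ow =>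
        SL.mem_of_invol hp hp2 (h1 E' hΩ).1 (hc E' hΩ) (hX hw) ow⟩
      have hn : E₀ ⊔ E'' ≤ 𝓝(E') := hX.trans (sup_le le_normalizer (h1 E' hΩ).2.2.normal.1)
      refine SB.odd_of_le (odd_card_sup hn ho (hodd E' hΩ)) (sup_le (zpowers_le.2 ?_)
        (zpowers_le.2 ?_))
      · exact SetLike.le_def.1 (sup_le_sup_left le_sup_left _) (SL.mem_sup_of_ne hp (h1 E' hΩ).1 (h1 E₀ h0).1 hne.symm
          oy (hc1 E' hΩ a _ hy1) hle)
      · exact SetLike.le_def.1 (sup_le_sup_left le_sup_right _) (SL.mem_sup_of_ne hp (h1 E' hΩ).1 (h1 E'' hΩ'').1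
          hne'' oz (hc1 E' hΩ b _ hz) hle')
    intro E₁ hE₁ E₂ hE₂ E'' h₁ h₂
    obtain ⟨hΩ, he, k₁⟩ := key E₁ hE₁ E'' h₁
    obtain ⟨-, -, k₂⟩ := key E₂ hE₂ E'' h₂
    obtain ⟨a, ha, b, hb, h4⟩ := SL.exists_four (h8.sub _) rfl (hodd _ h0) (hodd _ hΩ) he
    exact h2 E₁ (hy E₁ hE₁).choose_spec.1 E₂ (hy E₂ hE₂).choose_spec.1 a b h4
      (k₁ a ha h4.ord_left) (k₁ b hb h4.ord_right) (k₂ a ha h4.ord_left) (k₂ b hb h4.ord_right)

end Cfsg.GW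

set_option linter.all false in
theorem Cfsg.Rz.GW_StepL1_0 : True := by
  have := @_root_.Cfsg.GW.Nbr.eq_def.{0}
  have := @_root_.Cfsg.GW.Nbr.eq_1.{0}
  have := @_root_.Cfsg.GW.Nbr.fun_cases
  trivial
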