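import Cfsg.Agent.GW.StepL1

/-! # Case (L): the maximal subgroup `M` -/

set_option autoImplicit false
set_option linter.unusedSectionVars false

namespace Cfsg.GW

open Subgroup Cfsg.Agent.FT
open scoped commutatorElement

universe u

variable {G : Type u} [Group G] [Finite G] {M N L : Subgroup G} {k i β : ℕ} {s t a b : G}

theorem SL.ord_conj (g a : G) : orderOf (g * a * g⁻¹) = orderOf a :=
  (SemiconjBy.orderOf_eq g (by simp [SemiconjBy])).symm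

theorem SL.Kc_conj (L : Subgroup G) (a g : G) : Kc (L :^ g) (g * a * g⁻¹) = Kc L a :^ g := by
  rw [Kc, Kc, conj_comm, centralizer_singleton_conj, ← map_conj_inf, piCoreOf_map_conj]

theorem SL.four_of_conj {g : G} (h : IsFour (g * a * g⁻¹) (g * b * g⁻¹)) : IsFour a b := by
  have := h.conj g⁻¹
  simpa [mul_assoc] using this

theorem SL.conj_inj (g : G) : Function.Injective fun a : G => g * a * g⁻¹ := fun a b e => by
  simpa using e

theorem LT.conj (h : LT N L k i β) (g : G) : LT (N :^ g) (L :^ g) k i β where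
  normal := h.normal.conj g
  perfect := by rw [← conj_comm, h.perfect]
  cent := by rw [centralizer_map_conj, ← map_conj_inf, h.cent, piCoreOf_map_conj]
  max X hX hp := le_conj_iff.2 (h.max _ (le_conj_iff.1 hX) (by rw [← conj_comm, hp]))
  one u hu v hv ou ov := by
    rw [mem_conj_iff] at hu; obtain ⟨u, hu, rfl⟩ := hu
    rw [mem_conj_iff] at hv; obtain ⟨v, hv, rfl⟩ := hv
    obtain ⟨c, hc, rfl⟩ := h.one u hu v hv (SL.ord_conj g u ▸ ou) (SL.ord_conj g v ▸ ov)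
    exact ⟨g * c * g⁻¹, conj_mem_map_conj.2 hc, by group⟩
  f3 a ha s hs h4 X hX hn hnil ho := by
    rw [mem_conj_iff] at ha; obtain ⟨a, ha, rfl⟩ := ha
    rw [mem_conj_iff] at hs; obtain ⟨s, hs, rfl⟩ := hs
    obtain ⟨X, rfl⟩ : ∃ Y, X = Y :^ g := ⟨_, (conj_conj_inv X g).symm⟩
    rw [centralizer_singleton_conj, ← map_conj_inf] at hX hn
    obtain ⟨h1, h2⟩ := h.f3 a ha s hs (SL.four_of_conj h4) X (map_conj_le_map_conj_iff.1 hX)
      (conj_le_norm_iff.1 hn) (isNilpotent_conj_iff.1 hnil) (card_map_conj g X ▸ ho)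
    rw [centralizer_singleton_conj, ← map_conj_inf, piCoreOf_map_conj, ← map_conj_inf,
      map_conj_eq_bot_iff, isCyclic_conj_iff]
    exact ⟨conj_mono h1 g, h2⟩
  cyc a ha oa := by
    rw [mem_conj_iff] at ha; obtain ⟨a, ha, rfl⟩ := ha
    rw [SL.Kc_conj, isCyclic_conj_iff]
    exact h.cyc a ha (SL.ord_conj g a ▸ oa)
  cardK a ha oa := by
    rw [mem_conj_iff] at ha; obtain ⟨a, ha, rfl⟩ := ha
    rw [SL.Kc_conj, card_map_conj]
    exact h.cardK a ha (SL.ord_conj g a ▸ oa)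
  inv a ha s hs h4 y hy := by
    rw [mem_conj_iff] at ha; obtain ⟨a, ha, rfl⟩ := ha
    rw [mem_conj_iff] at hs; obtain ⟨s, hs, rfl⟩ := hs
    rw [SL.Kc_conj] at hy
    rw [mem_conj_iff] at hy; obtain ⟨y, hy, rfl⟩ := hy
    calc _ = g * (s * y * s⁻¹) * g⁻¹ := by group
      _ = _ := by rw [h.inv a ha s hs (SL.four_of_conj h4) y hy]; group
  comm a ha s hs h4 := by
    rw [mem_conj_iff] at ha; obtain ⟨a, ha, rfl⟩ := ha
    rw [mem_conj_iff] at hs; obtain ⟨s, hs, rfl⟩ := hs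
    rw [SL.Kc_conj, centralizer_singleton_conj, ← map_conj_inf, piCoreOf_map_conj, zpowers_conj,
      ← conj_comm, h.comm a ha s hs (SL.four_of_conj h4)]
  uniq a ha b hb oa ob y hy z hz h1 h2 := by
    rw [mem_conj_iff] at ha; obtain ⟨a, ha, rfl⟩ := ha
    rw [mem_conj_iff] at hb; obtain ⟨b, hb, rfl⟩ := hb
    rw [SL.Kc_conj] at hy hz
    rw [mem_conj_iff] at hy; obtain ⟨y, hy, rfl⟩ := hy
    rw [mem_conj_iff] at hz; obtain ⟨z, hz, rfl⟩ := hz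
    rw [piCoreOf_map_conj, show (g * y * g⁻¹)⁻¹ * (g * z * g⁻¹) = g * (y⁻¹ * z) * g⁻¹ by group,
      conj_mem_map_conj] at h2
    rw [h.uniq a ha b hb (SL.ord_conj g a ▸ oa) (SL.ord_conj g b ▸ ob) y hy z hz
      (fun e => h1 (by rw [e]; group)) h2]
  ncard := by
    rw [← h.ncard, ← Set.ncard_image_of_injective {a | a ∈ L ∧ orderOf a = 2} (SL.conj_inj g)]
    congr 1
    ext a
    constructor
    · rintro ⟨ha, oa⟩
      rw [mem_conj_iff] at ha; obtain ⟨a, ha, rfl⟩ := ha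
      exact ⟨a, ⟨ha, SL.ord_conj g a ▸ oa⟩, rfl⟩
    · rintro ⟨a, ⟨ha, oa⟩, rfl⟩
      exact ⟨conj_mem_map_conj.2 ha, (SL.ord_conj g a).trans oa⟩
  bad p hp a ha oa y hy oy := by
    rw [mem_conj_iff] at ha; obtain ⟨a, ha, rfl⟩ := ha
    rw [SL.Kc_conj] at hy
    rw [mem_conj_iff] at hy; obtain ⟨y, hy, rfl⟩ := hy
    refine le_trans ?_ (h.bad p hp a ha (SL.ord_conj g a ▸ oa) y hy (SL.ord_conj g y ▸ oy))
    refine le_of_le_of_eq (Set.ncard_le_ncard ?_) (Set.ncard_image_of_injective _ (SL.conj_inj g))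
    rintro b ⟨hb, ob, z, hz, oz, ho⟩
    rw [mem_conj_iff] at hb; obtain ⟨b, hb, rfl⟩ := hb
    rw [SL.Kc_conj] at hz
    rw [mem_conj_iff] at hz; obtain ⟨z, hz, rfl⟩ := hz
    rw [zpowers_conj, zpowers_conj, ← Subgroup.map_sup, card_map_conj] at ho
    exact ⟨b, ⟨hb, SL.ord_conj g b ▸ ob, z, hz, SL.ord_conj g z ▸ oz, ho⟩, rfl⟩
  ineq₁ := h.ineq₁
  ineq₂ := h.ineq₂

theorem LT.core_le (h : LT N L k i β) : 𝐎(N) ≤ 𝓒(L) := h.cent.ge.trans inf_le_right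

theorem LT.fit_le (h : LT N L k i β) (ha : a ∈ N) (hb : b ∈ N) (h4 : IsFour a b) :
    Fit a ⊓ N ⊓ 𝓒[b] ≤ 𝐎(N) :=
  (h.f3 a ha b hb h4 (Fit a ⊓ N) (le_inf inf_le_right (inf_le_left.trans (fit_normal a).1))
    (le_normalizer_inf (inf_le_right.trans (fit_normal a).2) (inf_le_left.trans le_normalizer))
    (nil_of_le (fittingOf_nil _) inf_le_left) (SB.odd_of_le (odd_fit a) inf_le_left)).1

theorem BB.not_le_cent (h : BB G) (ot : orderOf t = 2) (hp : ⁅L, L⁆ = L) (h0 : L ≠ ⊥) :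
    ¬ L ≤ 𝓒[t] := fun hle => (der_lt (sol_of_le (h.sol ot) hle) h0).ne hp

theorem SL.ne_bot (ha : a ∈ L) (oa : orderOf a = 2) : L ≠ ⊥ := fun e =>
  ne_one_of_ord oa (mem_bot.1 (e ▸ ha))

theorem BB.norm_ne_top (h : BB G) (ot : orderOf t = 2) {Y : Subgroup G} (hY : Y ≤ Fit t)
    (h0 : Y ≠ ⊥) : 𝓝(Y) ≠ ⊤ :=
  haveI := h.simple
  GW.norm_ne_top h0 fun e => (h.max t ot).1 (top_le_iff.1 (e.ge.trans (hY.trans (fit_normal t).1)))

theorem BB.exists_norm_conj (h : BB G) (h4 : IsFour t s) {v : G} (hv : v = t ∨ v = s ∨ v = t * s) :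
    ∃ g ∈ 𝓝(four t s), g * t * g⁻¹ = v := by
  obtain ⟨ρ, h1, h2⟩ := h.exists_rho h4
  have h3 : ρ ∈ 𝓝(four t s) := h4.mem_norm (h1 ▸ right_mem_four t s) (h2 ▸ mul_mem_four t s)
  rcases hv with rfl | rfl | rfl
  · exact ⟨1, one_mem _, by group⟩
  · exact ⟨ρ, h3, h1⟩
  · exact ⟨ρ * ρ, mul_mem h3 h3, by rw [← h2, ← h1]; group⟩

theorem SL.cent_four_le_norm (t s : G) : 𝓒(four t s) ≤ 𝓝(Fit t ⊓ 𝓒[s]) := by
  rw [cent_four]
  exact le_normalizer_inf (inf_le_left.trans (fit_normal t).2) (inf_le_right.trans le_normalizer)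

theorem BB.exists_LT' (h : BB G) (h4 : IsFour t s) (hH : ¬ Hp t s) (hD : Fit t ⊓ 𝓒[s] ≠ ⊥) :
    ∃ N L k i β, IsCoatom N ∧ LT N L k i β ∧ t ∈ L ∧ s ∈ L ∧ 𝐎(N) ⊓ Fit t ≠ ⊥ := by
  have ot := h4.ord_left
  have hs : s ∈ 𝓒(four t s) := h4.le_cent (right_mem_four t s)
  have hDV : Fit t ⊓ 𝓒[s] ≤ 𝓒(four t s) := by
    rw [cent_four]; exact inf_le_inf_right _ (fit_normal t).1
  simp only [Hp, not_forall] at hH
  obtain ⟨Y, hY, h0, hV, hn⟩ := hH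
  obtain ⟨N, hN, hle⟩ := exists_coatom_ge (h.norm_ne_top ot hY h0)
  obtain ⟨L, k, i, β, hL, hv⟩ := h.exists_LT h4 hN hY hle (fun e => hn (e ▸ hle))
    (hle (hV hs)) (.inl (hV.trans hle))
  obtain ⟨v, hv, hvL⟩ : ∃ v, (v = t ∨ v = s ∨ v = t * s) ∧ v ∈ L := by
    rcases hv with hv | hv | hv
    exacts [⟨_, .inl rfl, hv⟩, ⟨_, .inr (.inl rfl), hv⟩, ⟨_, .inr (.inr rfl), hv⟩]
  obtain ⟨c, hc, rfl⟩ := h.exists_norm_conj h4 hv
  have key : ∀ g ∈ 𝓝(four t s), L :^ g ≤ 𝓒(Fit t ⊓ 𝓒[s]) := fun g hg => by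
    have h1 : 𝓒(four t s) ≤ N :^ g := by
      rw [← conj_eq_of_mem_norm (le_norm_cent le_rfl hg)]; exact conj_mono (hV.trans hle) g
    exact le_cent_symm ((le_trans (le_inf (le_inf inf_le_left (hDV.trans h1)) inf_le_right)
      ((hL.conj g).fit_le (h1 (h4.le_cent (left_mem_four t s))) (h1 hs) h4)).trans
        (hL.conj g).core_le)
  obtain ⟨N', hN', hle'⟩ := exists_coatom_ge (h.norm_ne_top ot inf_le_left hD)
  have hV' := (SL.cent_four_le_norm t s).trans hle'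
  have hK : ∀ g ∈ 𝓝(four t s), L :^ g ≤ N' := fun g hg =>
    (key g hg).trans ((cent_le_norm _).trans hle')
  have ht : t ∈ L :^ c⁻¹ := mem_conj_iff.2 ⟨_, hvL, by group⟩
  obtain ⟨L', k', i', β', hL', -⟩ := h.exists_LT h4 hN' inf_le_left hle' (fun e =>
    h.not_le_cent ot (hL.conj c⁻¹).perfect (SL.ne_bot ht ot) (e ▸ hK _ (inv_mem hc)))
    (hV' hs) (.inl hV')
  obtain ⟨d, hd, hds⟩ := h.exists_norm_conj h4 (.inr (.inl rfl))
  refine ⟨N', L', k', i', β', hN', hL', hL'.max _ (hK _ (inv_mem hc)) (hL.conj _).perfect ht,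
    hL'.max _ (hK _ (mul_mem hd (inv_mem hc))) (hL.conj _).perfect
      (mem_conj_iff.2 ⟨_, hvL, by rw [← hds]; group⟩), fun e => hD (eq_bot_iff.2 (e.le.trans' ?_))⟩
  exact le_inf (le_trans (le_inf (le_inf inf_le_left (hDV.trans hV')) inf_le_right)
    (hL'.fit_le (hV' (h4.le_cent (left_mem_four t s))) (hV' hs) h4)) inf_le_left

/-- the maximal subgroup `M` of case (L) -/
structure Good (M L : Subgroup G) (k i β : ℕ) : Prop where
  max : IsCoatom M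
  lt : LT M L k i β
  ne : ∀ a ∈ L, orderOf a = 2 → 𝐎(M) ⊓ Fit a ≠ ⊥
  norm : ∀ a ∈ L, orderOf a = 2 → ∀ E, E ≤ 𝐎(M) ⊓ Fit a → E ≠ ⊥ → 𝓝(E) ≤ M

theorem SL.core_fit_conj (M : Subgroup G) (a g : G) :
    𝐎(M :^ g) ⊓ Fit (g * a * g⁻¹) = (𝐎(M) ⊓ Fit a) :^ g := by
  rw [fit_conj, piCoreOf_map_conj, map_conj_inf]

theorem Good.conj (h : Good M L k i β) (g : G) : Good (M :^ g) (L :^ g) k i β where
  max := coatom_conj h.max g
  lt := h.lt.conj g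
  ne a ha oa := by
    rw [mem_conj_iff] at ha; obtain ⟨a, ha, rfl⟩ := ha
    rw [SL.core_fit_conj, Ne, map_conj_eq_bot_iff]
    exact h.ne a ha (SL.ord_conj g a ▸ oa)
  norm a ha oa E hE h0 := by
    rw [mem_conj_iff] at ha; obtain ⟨a, ha, rfl⟩ := ha
    obtain ⟨E, rfl⟩ : ∃ Y, E = Y :^ g := ⟨_, (conj_conj_inv E g).symm⟩
    rw [SL.core_fit_conj, map_conj_le_map_conj_iff] at hE
    rw [normalizer_map_conj]
    exact conj_mono (h.norm a ha (SL.ord_conj g a ▸ oa) E hE fun e => h0 (e ▸ conj_bot g)) g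

theorem BB.exists_good (h : BB G) (h4 : IsFour t s) (hH : ¬ Hp t s) (hD : Fit t ⊓ 𝓒[s] ≠ ⊥) :
    ∃ M L k i β, Good M L k i β ∧ t ∈ L ∧ s ∈ L := by
  haveI := h.simple
  have ot := h4.ord_left
  obtain ⟨N₀, L₀, h₀⟩ := h.exists_LT' h4 hH hD
  obtain ⟨L, -, ⟨M, k, i, β, hM, hL, ht, hs, h0⟩, hmax⟩ := Finite.exists_le_maximal (a := L₀)
    (p := fun L : Subgroup G => ∃ N k i β, IsCoatom N ∧ LT N L k i β ∧ t ∈ L ∧ s ∈ L ∧
      𝐎(N) ⊓ Fit t ≠ ⊥) ⟨N₀, h₀⟩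
  have key : ∀ E, E ≤ 𝐎(M) ⊓ Fit t → E ≠ ⊥ → 𝓝(E) ≤ M := fun E hE hE0 => by
    obtain ⟨N, hN, hle⟩ := exists_coatom_ge (h.norm_ne_top ot (hE.trans inf_le_right) hE0)
    have h1 : E ≤ 𝓒(L) := hE.trans (inf_le_left.trans hL.core_le)
    have h2 : L ≤ N := (le_cent_symm h1).trans ((cent_le_norm _).trans hle)
    have h3 : ∀ v ∈ L, orderOf v = 2 → ∃ g ∈ N, g * t * g⁻¹ = v := fun v hv ov =>
      (hL.one t ht v hv ot ov).imp fun g hg => ⟨h2 hg.1, hg.2⟩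
    obtain ⟨L', k', i', β', hL', -⟩ := h.exists_LT h4 hN (hE.trans inf_le_right) hle (fun e =>
      h.not_le_cent ot hL.perfect (SL.ne_bot ht ot) (e ▸ h2)) (h2 hs)
      (.inr ⟨h3 s hs h4.ord_right, h3 _ (mul_mem ht hs) h4.mul.ord_right⟩)
    have h5 := hL'.max L h2 hL.perfect
    have h6 : L' ≤ L := hmax ⟨N, k', i', β', hN, hL', h5 ht, h5 hs, fun e => hE0 (eq_bot_iff.2
      (e.le.trans' (le_inf (le_trans (le_inf (le_inf (hE.trans inf_le_right)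
        (le_normalizer.trans hle)) (h1.trans (cent_le_cent1 hs))) (hL'.fit_le (h2 ht) (h2 hs) h4))
          (hE.trans inf_le_right))))⟩ h5
    rw [← norm_eq_of_coatom hM hL.normal (SL.ne_bot ht ot), le_antisymm h5 h6,
      norm_eq_of_coatom hN hL'.normal (SL.ne_bot (h5 ht) ot)]
    exact hle
  refine ⟨M, L, k, i, β, ⟨hM, hL, fun a ha oa => ?_, fun a ha oa E hE hE0 => ?_⟩, ht, hs⟩
  · obtain ⟨g, hg, rfl⟩ := hL.one t ht a ha ot oa
    rw [← map_conj_eq_of_mem (hL.normal.1 hg), SL.core_fit_conj, Ne, map_conj_eq_bot_iff]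
    exact h0
  · obtain ⟨g, hg, rfl⟩ := hL.one t ht a ha ot oa
    obtain ⟨E, rfl⟩ : ∃ Y, E = Y :^ g := ⟨_, (conj_conj_inv E g).symm⟩
    rw [← map_conj_eq_of_mem (hL.normal.1 hg), SL.core_fit_conj, map_conj_le_map_conj_iff] at hE
    rw [normalizer_map_conj, ← map_conj_eq_of_mem (hL.normal.1 hg)]
    exact conj_mono (key E hE fun e => hE0 (e ▸ conj_bot g)) g

theorem Good.core_fit (h : Good M L k i β) (ha : a ∈ L) (hb : b ∈ L) (h4 : IsFour a b) :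
    𝐎(M) ⊓ Fit a = Fit a ⊓ 𝓒[b] := by
  refine nil_eq_of_norm_le (nil_of_le (fittingOf_nil _) inf_le_left)
    (le_inf inf_le_right (inf_le_left.trans (h.lt.core_le.trans (cent_le_cent1 hb)))) ?_
  refine le_inf (le_trans ?_ (h.lt.fit_le (h.lt.normal.1 ha) (h.lt.normal.1 hb) h4))
    (inf_le_left.trans inf_le_left)
  exact le_inf (inf_le_inf inf_le_left (h.norm a ha h4.ord_left _ le_rfl (h.ne a ha h4.ord_left)))
    (inf_le_left.trans inf_le_right)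

theorem LT.le_norm (h : LT M L k i β) (ha : a ∈ L) (oa : orderOf a = 2) {E : Subgroup G}
    (hE : E ≤ 𝐎(M)) (hn : M ⊓ 𝓒[a] ≤ 𝓝(E)) : M ≤ 𝓝(E) := fun m hm => by
  obtain ⟨g, hg, e⟩ := h.one a ha _ (h.normal.conj_mem hm ha) oa ((SL.ord_conj m a).trans oa)
  have h1 : g⁻¹ * m ∈ M ⊓ 𝓒[a] := ⟨M.mul_mem (M.inv_mem (h.normal.1 hg)) hm, mem_cent1.2 (by
    calc g⁻¹ * m * a = g⁻¹ * (m * a * m⁻¹) * m := by group
      _ = a * (g⁻¹ * m) := by rw [← e]; group)⟩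
  rw [← mul_inv_cancel_left g m]
  exact mul_mem (cent_le_norm _ (le_cent_symm (hE.trans h.core_le) hg)) (hn h1)

theorem Good.norm_eq (h : Good M L k i β) (ha : a ∈ L) (oa : orderOf a = 2) {E : Subgroup G}
    (hE : E ≤ 𝐎(M) ⊓ Fit a) (h0 : E ≠ ⊥) (hn : M ⊓ 𝓒[a] ≤ 𝓝(E)) : 𝓝(E) = M :=
  le_antisymm (h.norm a ha oa E hE h0) (h.lt.le_norm ha oa (hE.trans inf_le_left) hn)

theorem Good.norm_D (h : Good M L k i β) (ha : a ∈ L) (hb : b ∈ L) (h4 : IsFour a b) :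
    𝓝(Fit a ⊓ 𝓒[b]) = M := by
  rw [← h.core_fit ha hb h4]
  exact h.norm_eq ha h4.ord_left le_rfl (h.ne a ha h4.ord_left) (le_normalizer_inf
    (inf_le_left.trans (piCoreOf_normalOf _ M).2) (inf_le_right.trans (fit_normal a).2))

end Cfsg.GW

set_option linter.all false in
theorem Cfsg.Rz.GW_StepL2_0 : True := by
  have := @_root_.Cfsg.GW.Good.mk.congr_simp.{0}
  trivial
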