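import Cfsg.Agent.GW.StepL2
import Cfsg.Agent.GW.Num

/-! # Case (L): the counting inequality -/

set_option autoImplicit false
set_option linter.unusedSectionVars false

namespace Cfsg.GW

open Subgroup Cfsg.Agent.FT
open scoped commutatorElement

universe u

variable {G : Type u} [Group G] [Finite G] {M N L : Subgroup G} {k i β p : ℕ} {s t y : G}

theorem LT.sSup_eq (h : LT N L k i β) : sSup {X | X ≤ N ∧ ⁅X, X⁆ = X} = L :=
  le_antisymm (sSup_le fun X hX => h.max X hX.1 hX.2) (le_sSup ⟨h.normal.1, h.perfect⟩)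

theorem SL.nbr {Ω : Set (Subgroup G)} {Lf : Subgroup G → Subgroup G} {E T : Subgroup G}
    (hΩ : ∀ u, E :^ u ∈ Ω) (hLf : ∀ u, Lf (E :^ u) = L :^ u) (ht : t ∈ L) (hy : y ∈ Kc L t)
    (oy : orderOf y = p) (hT : T ≤ 𝓒[t] ⊓ 𝓝(E ⊔ zpowers y)) :
    𝓝(E).relIndex T - 1 ≤ (Nbr p Ω Lf E t).ncard := by
  have h0 : Lf E = L := by simpa only [map_conj_one] using hLf 1
  rw [← SL.ncard_conj, ← Set.ncard_singleton E]
  refine (Set.le_ncard_sdiff _ _).trans (Set.ncard_le_ncard ?_)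
  rintro _ ⟨⟨u, hu, rfl⟩, hne⟩
  have h1 : u * t * u⁻¹ = t := by rw [mem_cent1.1 (hT hu).1]; group
  have h2 : (E ⊔ zpowers y) :^ u = E ⊔ zpowers y := conj_eq_of_mem_norm (hT hu).2
  refine ⟨hΩ u, hne, ⟨y, h0 ▸ hy, oy, h2 ▸ conj_mono le_sup_left u⟩, ?_, u * y * u⁻¹, ?_,
    (SL.ord_conj u y).trans oy, ?_⟩
  · rw [hLf, ← h1]; exact conj_mem_map_conj.2 ht
  · rw [hLf, ← h1, SL.Kc_conj]; exact conj_mem_map_conj.2 hy
  · rw [zpowers_conj, ← Subgroup.map_sup, h2]; exact le_sup_left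

theorem Good.count (hB : BB G) (h : Good M L k i β) (ht : t ∈ L) (ot : orderOf t = 2)
    (hp : p.Prime) (hp2 : p ≠ 2) {E T : Subgroup G} (hE : Nat.card E = p) (hEM : E ≤ 𝐎(M))
    (hn : 𝓝(E) = M) (hy : y ∈ Kc L t) (oy : orderOf y = p) (hT : T ≤ 𝓒[t] ⊓ 𝓝(E ⊔ zpowers y)) :
    i * (M.relIndex T - 1) * ((i - β) * (M.relIndex T - 1)) ≤ M.index := by
  haveI := hB.simple
  have hn' : ∀ g, 𝓝(E :^ g) = M :^ g := fun g => by rw [normalizer_map_conj, hn]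
  let Lf : Subgroup G → Subgroup G := fun E' => sSup {X | X ≤ 𝓝(E') ∧ ⁅X, X⁆ = X}
  have hLf : ∀ g, Lf (E :^ g) = L :^ g := fun g => by
    simp only [Lf]; rw [hn']; exact (h.lt.conj g).sSup_eq
  have hM : 𝓝(M) = M := norm_eq_of_coatom h.max (IsNormalOf.refl M)
    fun e => SL.ne_bot ht ot (eq_bot_iff.2 (h.lt.normal.1.trans e.le))
  rw [← relIndex_top_right (H := M), ← congrArg (·.relIndex ⊤) hn, ← SL.ncard_conj]
  refine SL.count (Lf := Lf) (k := k) hB.d8 hp hp2 ⟨1, mem_top 1, rfl⟩ ?_ ?_ ?_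
  · rintro _ ⟨g, -, rfl⟩
    rw [hn', hLf, piCoreOf_map_conj]
    exact ⟨(card_map_conj g E).trans hE, conj_mono hEM g, h.lt.conj g⟩
  · rintro _ ⟨g, -, rfl⟩ _ ⟨g', -, rfl⟩ a b h4 ha hb ha' hb'
    rw [hLf] at ha hb ha' hb'
    have h1 := ((h.conj g).norm_D ha hb h4).symm.trans ((h.conj g').norm_D ha' hb' h4)
    have h2 : g'⁻¹ * g ∈ 𝓝(E) := by
      rw [hn, ← hM, ← map_conj_eq_iff, ← conj_conj, h1, conj_inv_conj]
    have h3 := conj_eq_of_mem_norm h2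
    rwa [← conj_conj, conj_eq_iff_eq_conj_inv, inv_inv] at h3
  · rintro _ ⟨g, -, rfl⟩ a ha oa
    rw [hLf, mem_conj_iff] at ha
    obtain ⟨a, ha, rfl⟩ := ha
    obtain ⟨c, hc, rfl⟩ := h.lt.one t ht a ha ot (SL.ord_conj g a ▸ oa)
    have h1 : E :^ g = E :^ (g * c) := by
      rw [← conj_conj, conj_eq_of_mem_norm (hn.ge (h.lt.normal.1 hc))]
    have h2 := SL.nbr (Ω := (fun u => E :^ u) '' (⊤ : Subgroup G)) (Lf := Lf) (E := E :^ (g * c))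
      (T := T :^ (g * c)) (L := L :^ (g * c)) (fun u => ⟨_, mem_top _, (conj_conj _ _ _).symm⟩)
      (fun u => by rw [conj_conj, hLf, conj_conj]) (conj_mem_map_conj.2 ht)
      (by rw [SL.Kc_conj]; exact conj_mem_map_conj.2 hy) ((SL.ord_conj _ y).trans oy)
      (by rw [centralizer_singleton_conj, zpowers_conj, ← Subgroup.map_sup, normalizer_map_conj,
        ← map_conj_inf]; exact conj_mono hT _)
    rw [hn', relIndex_map_conj] at h2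
    simp only
    rwa [h1, show g * (c * t * c⁻¹) * g⁻¹ = g * c * t * (g * c)⁻¹ by group]

theorem Good.cent_four_le (h : Good M L k i β) (ht : t ∈ L) (hs : s ∈ L) (h4 : IsFour t s) :
    𝓒[t] ⊓ 𝓒[s] ≤ M := by
  rw [← cent_four, ← h.norm_D ht hs h4]; exact SL.cent_four_le_norm t s

theorem Good.isProd (hB : BB G) (h : Good M L k i β) (ht : t ∈ L) (hs : s ∈ L) (h4 : IsFour t s) :
    IsProd (M ⊓ 𝓒[t]) 𝐎(𝓒[t]) 𝓒[t] := by
  obtain ⟨S, x, hb⟩ := hB.base h4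
  have h1 := hb.dih.sdprod.isProd.symm
  rw [top_inf_eq] at h1
  refine h1.mono (le_inf ?_ h1.1) inf_le_right le_rfl h1.2.1
  have h2 : Fit t ⊓ 𝓒[s] = Fit t ⊓ 𝓒(four t s) := by
    rw [cent_four, ← inf_assoc, inf_eq_left.2 (fit_normal t).1]
  rw [← h.norm_D ht hs h4, h2]
  exact le_normalizer_inf (h1.1.trans (fit_normal t).2) (le_norm_cent hb.dih.le_norm_four)

theorem Good.not_le (hB : BB G) (h : Good M L k i β) (ht : t ∈ L) (hs : s ∈ L) (h4 : IsFour t s) :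
    ¬ 𝐎(𝓒[t]) ≤ M := fun hle => by
  have h1 : 𝓒[t] ≤ M := (h.isProd hB ht hs h4).sup_eq.ge.trans (sup_le inf_le_left hle)
  exact hB.not_le_cent h4.ord_left h.lt.perfect (SL.ne_bot ht h4.ord_left)
    (h.lt.normal.1.trans (((hB.max t h4.ord_left).le_iff.1 h1).resolve_left h.max.1).le)

theorem Good.comm_eq (hB : BB G) (h : Good M L k i β) (ht : t ∈ L) (hs : s ∈ L) (h4 : IsFour t s) :
    ⁅𝐎(𝓒[t]) ⊓ M, zpowers s⁆ = Kc L t := by
  rw [← hB.core_inf h4.ord_left (h.lt.normal.1 ht), h.lt.comm t ht s hs h4]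

theorem SL.s_mem_norm (h4 : IsFour t s) : s ∈ 𝓝(𝐎(𝓒[t])) :=
  (SB.core_cent_normal t).2 (mem_cent1.2 h4.comm.symm.eq)

theorem Good.mem_Kc (hB : BB G) (h : Good M L k i β) (ht : t ∈ L) (hs : s ∈ L) (h4 : IsFour t s)
    (h1 : y ∈ 𝐎(𝓒[t])) (h2 : y ∈ M) (h3 : s * y * s⁻¹ = y⁻¹) : y ∈ Kc L t :=
  h.comm_eq hB ht hs h4 ▸ mem_comm_of_inv (SB.odd_of_le (odd_core _) inf_le_left) ⟨h1, h2⟩ h3

theorem Good.Kc_le (hB : BB G) (h : Good M L k i β) (ht : t ∈ L) (hs : s ∈ L) (h4 : IsFour t s) :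
    Kc L t ≤ 𝐎(𝓒[t]) ⊓ M :=
  h.comm_eq hB ht hs h4 ▸ comm_le_left (zpowers_le.2 (le_normalizer_inf (A := zpowers s)
    (zpowers_le.2 (SL.s_mem_norm h4)) (zpowers_le.2 (le_normalizer (h.lt.normal.1 hs)))
      (mem_zpowers s)))

theorem Good.index_mul (hB : BB G) (h : Good M L k i β) (ht : t ∈ L) (hs : s ∈ L)
    (h4 : IsFour t s) : M.index * i ≤ 133 * M.relIndex 𝐎(𝓒[t]) ^ 3 * k ^ 2 := by
  have ot := h4.ord_left
  have h1 : i = (𝓒[t] : Subgroup G).relIndex M := by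
    rw [← h.lt.ncard, ← SL.ncard_conj1]
    congr 1
    ext a
    refine ⟨fun ha => ?_, ?_⟩
    · obtain ⟨g, hg, e⟩ := h.lt.one t ht a ha.1 ot ha.2
      exact ⟨g, h.lt.normal.1 hg, e⟩
    · rintro ⟨g, hg, rfl⟩
      exact ⟨h.lt.normal.conj_mem hg ht, (SL.ord_conj g t).trans ot⟩
  have h2 : M.index * i = (𝓒[t] : Subgroup G).index * M.relIndex 𝐎(𝓒[t]) := by
    rw [h1, mul_comm, ← inf_relIndex_left, relIndex_mul_index inf_le_left,
      ← relIndex_mul_index (inf_le_right : M ⊓ 𝓒[t] ≤ 𝓒[t]), (h.isProd hB ht hs h4).relIndex_eq,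
      ← inf_relIndex_right, inf_assoc, inf_eq_right.2 (SB.core_cent_normal t).1,
      inf_relIndex_right, mul_comm]
  have h3 : (𝓒[s] : Subgroup G).relIndex (𝐎(𝓒[t]) ⊓ M) = k := by
    rw [relIndex_cent_eq (SB.odd_of_le (odd_core _) inf_le_left) h4.ss (le_normalizer_inf
      (A := zpowers s) (zpowers_le.2 (SL.s_mem_norm h4))
      (zpowers_le.2 (le_normalizer (h.lt.normal.1 hs))) (mem_zpowers s)), ← h.lt.cardK t ht ot,
      ← Nat.card_coe_set_eq]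
    refine Nat.card_congr (Equiv.setCongr (Set.ext fun z => ⟨fun hz => ?_, fun hz => ?_⟩))
    · exact h.mem_Kc hB ht hs h4 hz.1.1 hz.1.2 hz.2
    · exact ⟨h.Kc_le hB ht hs h4 hz, h.lt.inv t ht s hs h4 z hz⟩
  have h5 : (𝓒[s] : Subgroup G).relIndex 𝐎(𝓒[t]) = k * M.relIndex 𝐎(𝓒[t]) := by
    have e : 𝐎(𝓒[t]) ⊓ 𝓒[s] ≤ 𝐎(𝓒[t]) ⊓ M := le_inf inf_le_left
      ((inf_le_inf_right _ (SB.core_cent_normal t).1).trans (h.cent_four_le ht hs h4))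
    rw [← inf_relIndex_left, ← relIndex_mul_relIndex _ _ _ e inf_le_left, inf_relIndex_left, ← h3,
      ← inf_relIndex_left (𝐎(𝓒[t]) ⊓ M) 𝓒[s], inf_right_comm,
      inf_eq_left.2 (e.trans inf_le_right)]
  obtain ⟨S, x, hb⟩ := hB.base h4
  have h6 := hb.index_le fun e => h.ne t ht ot (eq_bot_iff.2 ((h.core_fit ht hs h4).le.trans
    ((inf_le_inf_right _ (fittingOf_le _)).trans e.le)))
  rw [h2]
  refine (Nat.mul_le_mul_right _ h6).trans (le_of_eq ?_)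
  rw [h5]; ring

theorem Good.ineq (hB : BB G) (h : Good M L k i β) (ht : t ∈ L) (hs : s ∈ L) (h4 : IsFour t s)
    (hp : p.Prime) (hp2 : p ≠ 2) {E T : Subgroup G} (hE : Nat.card E = p) (hEM : E ≤ 𝐎(M))
    (hn : 𝓝(E) = M) (hy : y ∈ Kc L t) (oy : orderOf y = p) (hT : T ≤ 𝓒[t] ⊓ 𝓝(E ⊔ zpowers y)) :
    i ^ 2 * (i - β) * (M.relIndex T - 1) ^ 2 ≤ 133 * M.relIndex 𝐎(𝓒[t]) ^ 3 * k ^ 2 ∧ p ≤ k := by
  refine ⟨le_trans (le_of_eq_of_le (by ring) (Nat.mul_le_mul_right i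
    (h.count hB ht h4.ord_left hp hp2 hE hEM hn hy oy hT))) (h.index_mul hB ht hs h4), ?_⟩
  rw [← oy, ← h.lt.cardK t ht h4.ord_left]
  exact Nat.le_of_dvd Nat.card_pos (Subgroup.orderOf_dvd_natCard _ hy)

end Cfsg.GW
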