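import Cfsg.Agent.GW.StepL3

/-! # Case (L): elementary abelian subgroups of `F_t` -/

set_option autoImplicit false
set_option linter.unusedSectionVars false

namespace Cfsg.GW

open Subgroup Cfsg.Agent.FT
open scoped commutatorElement

universe u

variable {G : Type u} [Group G] [Finite G] {M L W X : Subgroup G} {k i β p : ℕ} {s t : G}

theorem SL.orbit_le (hp : p.Prime) (hp2 : p ≠ 2) {A B Z T : Subgroup G}
    (hB : Nat.card B ≤ p ^ 2 * Nat.card A) (hZ : Nat.card Z = p * Nat.card A)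
    (hT : Odd (Nat.card T)) (h : ∀ u ∈ T, A ≤ Z :^ u ∧ Z :^ u ≤ B) : 𝓝(Z).relIndex T ≤ p := by
  have h1 := SL.lines hp ((h 1 T.one_mem).1.trans (h 1 T.one_mem).2) hB
    (𝓛 := (fun u => Z :^ u) '' T) (by
      rintro _ ⟨u, hu, rfl⟩
      exact ⟨(h u hu).1, (h u hu).2, (card_map_conj u Z).trans hZ⟩)
  rw [SL.ncard_conj] at h1
  obtain ⟨m, hm⟩ := hT.of_dvd_nat (relIndex_dvd_card 𝓝(Z) T)
  obtain ⟨n, hn⟩ := hp.odd_of_ne_two hp2
  omega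

theorem SL.arith₁ {X μ k : ℕ} (h1 : X * (μ - 1) ^ 2 ≤ 133 * μ ^ 3 * k ^ 2) (h2 : 300 * k ^ 3 < X)
    (h3 : 3 ≤ μ) (h4 : μ ≤ k) : False := by
  obtain ⟨m, rfl⟩ := Nat.exists_eq_add_of_le' h3
  have h5 : 300 * k ^ 3 * (m + 2) ^ 2 < X * (m + 2) ^ 2 :=
    Nat.mul_lt_mul_of_pos_right h2 (by positivity)
  have h6 : 133 * (m + 3) ^ 3 * k ^ 2 ≤ 300 * k ^ 3 * (m + 2) ^ 2 :=
    calc _ = 133 * (m + 3) ^ 2 * ((m + 3) * k ^ 2) := by ring
      _ ≤ 300 * (m + 2) ^ 2 * (k * k ^ 2) := Nat.mul_le_mul (by nlinarith) (by gcongr)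
      _ = _ := by ring
  exact absurd (h5.trans_le h1) h6.not_gt

theorem SL.arith₂ {X μ ν k : ℕ} (h1 : X * (ν - 1) ^ 2 ≤ 133 * μ ^ 3 * k ^ 2)
    (h2 : 3325 * k ^ 6 < 16 * X) (h3 : 5 ≤ p) (h4 : p ≤ k) (h5 : p ≤ ν) (h6 : μ ≤ p * p) :
    False := by
  obtain ⟨m, rfl⟩ := Nat.exists_eq_add_of_le' h3
  have h7 : 3325 * k ^ 6 * (m + 4) ^ 2 < 16 * X * (m + 4) ^ 2 :=
    Nat.mul_lt_mul_of_pos_right h2 (by positivity)
  have h8 : 16 * X * (m + 4) ^ 2 ≤ 3325 * k ^ 6 * (m + 4) ^ 2 :=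
    calc _ = 16 * (X * (m + 4) ^ 2) := by ring
      _ ≤ 16 * (X * (ν - 1) ^ 2) := by gcongr; omega
      _ ≤ 16 * (133 * ((m + 5) * (m + 5)) ^ 3 * k ^ 2) :=
        Nat.mul_le_mul_left _ (h1.trans (by gcongr))
      _ = 133 * (16 * (m + 5) ^ 2) * ((m + 5) ^ 4 * k ^ 2) := by ring
      _ ≤ 133 * (25 * (m + 4) ^ 2) * (k ^ 4 * k ^ 2) :=
        Nat.mul_le_mul (by nlinarith) (by gcongr)
      _ = _ := by ring
  exact absurd h7 h8.not_gt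

theorem SL.fit_le (t : G) : Fit t ≤ 𝐎(𝓒[t]) := fittingOf_le _

theorem SL.odd_le (h : X ≤ Fit t) : Odd (Nat.card X) := SB.odd_of_le (odd_fit t) h

theorem SL.mem_norm_cent (hX : s ∈ 𝓝(X)) {e : G} (he : e ∈ (𝓒[s] : Subgroup G)) :
    s ∈ 𝓝(X ⊓ 𝓒[e]) :=
  inf_normalizer_le_normalizer_inf ⟨hX, le_normalizer (mem_cent1.2 (mem_cent1.1 he).symm)⟩

section
variable (hB : BB G) (h : Good M L k i β) (ht : t ∈ L) (hs : s ∈ L) (h4 : IsFour t s)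
include hB h ht hs h4

theorem Good.norm_le (hX : X ≤ Fit t) (hc : X ≤ 𝓒[s]) (h0 : X ≠ ⊥) : 𝓝(X) ≤ M :=
  h.norm t ht h4.ord_left X ((le_inf hX hc).trans (h.core_fit ht hs h4).ge) h0

theorem Good.norm_inf (hW : W ≤ Fit t) (hn : M ⊓ 𝓒[t] ≤ 𝓝(W)) (h0 : W ⊓ 𝓒[s] ≠ ⊥) :
    W ⊓ 𝓒[s] ≤ 𝐎(M) ∧ 𝓝(W ⊓ 𝓒[s]) = M := by
  have h1 := h.core_fit ht hs h4
  have h2 : W ⊓ 𝓒[s] = W ⊓ (𝐎(M) ⊓ Fit t) := by rw [h1, ← inf_assoc, inf_eq_left.2 hW]
  refine ⟨h2.le.trans (inf_le_right.trans inf_le_left),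
    h.norm_eq ht h4.ord_left (h2.le.trans inf_le_right) h0 ?_⟩
  rw [h2]
  exact le_normalizer_inf hn (le_normalizer_inf (inf_le_left.trans (piCoreOf_normalOf _ M).2)
    (inf_le_right.trans (fit_normal t).2))

theorem Good.exists_inv (hX : X ≤ 𝐎(𝓒[t])) (hn : s ∈ 𝓝(X)) (hM : ¬ X ≤ M) :
    ∃ c ∈ X, s * c * s⁻¹ = c⁻¹ ∧ c ∉ M := by
  by_contra hc
  push Not at hc
  refine hM fun y hy => ?_
  obtain ⟨c, hc', z, hz, e1, e2, rfl⟩ :=
    exists_cent_mul_inv (SB.odd_of_le (odd_core _) hX) h4.ss hn hy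
  refine M.mul_mem (h.cent_four_le ht hs h4 ⟨(SB.core_cent_normal t).1 (hX hc'), mem_cent1.2 ?_⟩)
    (hc z hz e2)
  rw [← mul_inv_eq_iff_eq_mul.1 e1]

theorem Good.comm_le (hX : X ≤ Fit t) (hM : X ≤ M) : ⁅X, zpowers s⁆ ≤ Kc L t :=
  h.comm_eq hB ht hs h4 ▸ commutator_mono (le_inf (hX.trans (SL.fit_le t)) hM) le_rfl

theorem Good.center_le (hX : X ≤ Fit t) (hM : X ≤ M) (hn : s ∈ 𝓝(X)) :
    𝓩(X ⊓ 𝓒[s]) ≤ 𝓩(X) := by
  refine le_inf (inf_le_left.trans inf_le_left) ?_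
  conv_rhs => rw [← (isProd_cent_comm (SL.odd_le hX) h4.ss hn).sup_eq]
  refine le_cent_sup (inf_le_left.trans ?_) inf_le_right
  exact ((inf_le_inf_right _ hX).trans ((h.core_fit ht hs h4).ge.trans inf_le_left)).trans
    (h.lt.core_le.trans (cent_anti ((h.comm_le hB ht hs h4 hX hM).trans (SL.Kc_le L t))))

theorem Good.center_ne (hX : X ≤ Fit t) (hM : X ≤ M) (hn : s ∈ 𝓝(X)) (h0 : X ⊓ 𝓒[s] ≠ ⊥) :
    𝓩(X) ⊓ 𝓒[s] ≠ ⊥ := fun e =>
  center_ne_bot_of_nil (nil_of_le (fittingOf_nil _) (inf_le_left.trans hX)) h0 (eq_bot_iff.2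
    ((le_inf (h.center_le hB ht hs h4 hX hM hn) (inf_le_left.trans inf_le_right)).trans e.le))

theorem Good.lw [hp : Fact p.Prime] (hW : IsElementaryAbelian p W) (hF : W ≤ Fit t)
    (nW : s ∈ 𝓝(W)) {c : G} (hc : c ∈ 𝓝(W)) (oc : Odd (orderOf c)) (hcs : s * c * s⁻¹ = c⁻¹)
    (hcM : c ∉ M) (h0 : W ⊓ 𝓒[s] ≠ ⊥) : Nat.card (W ⊓ 𝓒[s] : Subgroup G) = p ∧
      ∃ y ∈ Kc L t, orderOf y = p ∧ W ⊓ 𝓒[s] ⊔ zpowers y = W := by
  have hM : W ≤ M := (le_norm_of_comm hW.1 inf_le_left).trans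
    (h.norm_le hB ht hs h4 (inf_le_left.trans hF) inf_le_right h0)
  have h1 := h.comm_le hB ht hs h4 hF hM
  obtain ⟨y, hy⟩ := (Subgroup.isCyclic_iff_exists_zpowers_eq_top _).1
    (cyclic_of_le (h.lt.cyc t ht h4.ord_left) h1)
  have h2 := (isProd_cent_comm (SL.odd_le hF) h4.ss nW).symm
  rw [← hy] at h1 h2
  have oy : orderOf y = p := hW.orderOf_eq (h2.2.1 (mem_zpowers y)) fun e => hcM (h.norm_le hB ht
    hs h4 hF (SB.comm_eq_bot_iff_cent.1 (by rw [← hy, e, zpowers_one_eq_bot]))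
    (fun e => h0 (eq_bot_iff.2 (inf_le_left.trans e.le))) hc)
  refine ⟨le_antisymm ?_ ?_, y, h1 (mem_zpowers y), oy, h2.sup_eq⟩
  · have h3 : (W ⊓ 𝓒[s]) :^ c ⊓ (W ⊓ 𝓒[s]) = ⊥ := by
      by_contra h3
      refine hcM (h.norm_le hB ht hs h4 (inf_le_right.trans (inf_le_left.trans hF))
        (inf_le_right.trans inf_le_right) h3 (cent_le_norm _ (mem_cent_sub.2 fun z hz => ?_)))
      obtain ⟨w, hw, e⟩ := mem_conj_iff.1 hz.1
      have e1 := mem_cent1.1 hw.2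
      have e2 := mem_cent1.1 hz.2.2
      have e3 : c * s * c⁻¹ = c * c * s := by
        calc _ = c * (s * (s * c * s⁻¹) * s⁻¹) * s := by rw [hcs]; group
          _ = _ := by rw [conj_conj_of_mul_self h4.ss]
      have e4 : z * (c * c * s) = c * c * s * z := by
        rw [← e3, e]
        calc _ = c * (w * s) * c⁻¹ := by group
          _ = _ := by rw [e1]; group
      have e5 : z * c * z⁻¹ * (z * c * z⁻¹) = c * c := by
        calc _ = z * (c * c * s) * (z * s)⁻¹ := by group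
          _ = _ := by rw [e4, e2]; group
      exact mul_inv_eq_iff_eq_mul.1 (eq_of_mul_self_eq ((SL.ord_conj z c).symm ▸ oc) oc e5)
    calc _ = ((W ⊓ 𝓒[s]) :^ c).relIndex (W ⊓ 𝓒[s]) := by
          rw [← inf_relIndex_right, h3, relIndex_bot_left]
      _ ≤ ((W ⊓ 𝓒[s]) :^ c).relIndex (W :^ c) := relIndex_le_of_le_right
          (inf_le_left.trans (conj_eq_of_mem_norm hc).ge) index_ne_zero_of_finite
      _ ≤ p := by
          rw [relIndex_map_conj, h2.relIndex_eq, ← oy, ← Nat.card_zpowers]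
          exact Nat.le_of_dvd Nat.card_pos (relIndex_dvd_card _ _)
  · obtain ⟨e, he, he1⟩ := (bot_or_exists_ne_one _).resolve_left h0
    rw [← hW.orderOf_eq he.1 he1]
    exact Nat.le_of_dvd Nat.card_pos (Subgroup.orderOf_dvd_natCard _ he)

theorem Good.noW : NoW t s := fun W₀ hU hab hn => by
  by_contra h0
  obtain ⟨x, hx, hp⟩ := exists_prime_order_mem h0
  generalize hq : orderOf x = p at hp
  haveI := Fact.mk hp
  have hp2 : p ≠ 2 := fun e => by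
    have := odd_orderOf (odd_core _) (hU hx.1)
    rw [hq, e] at this
    exact absurd this (by decide)
  have hF : omegaOne p W₀ ≤ Fit t := (omegaOne_le _).trans (IsNormalOf.le_fittingOf
    ⟨hU, (SB.core_cent_normal t).1.trans hn⟩ (nil_of_comm hab))
  have hn' := le_norm_omegaOne (p := p) hn
  have h1 : omegaOne p W₀ ⊓ 𝓒[s] ≠ ⊥ := fun e => hp.ne_one (by
    rw [← hq, orderOf_eq_one_iff, ← mem_bot, ← e]
    exact ⟨mem_omegaOne hx.1 (hq ▸ pow_orderOf_eq_one x), hx.2⟩)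
  have hUM := h.not_le hB ht hs h4
  obtain ⟨c, hc, hcs, hcM⟩ := h.exists_inv hB ht hs h4 le_rfl (SL.s_mem_norm h4) hUM
  have hUn := (SB.core_cent_normal t).1.trans hn'
  obtain ⟨hE, y, hy, oy, hW⟩ := h.lw hB ht hs h4 (abelem_omegaOne hab) hF
    (hn' (mem_cent1.2 h4.comm.symm.eq)) (hUn hc) (odd_orderOf (odd_core _) hc) hcs hcM h1
  obtain ⟨hEM, hN⟩ := h.norm_inf hB ht hs h4 hF (inf_le_right.trans hn') h1
  obtain ⟨h2, h3⟩ := h.ineq hB ht hs h4 hp hp2 hE hEM hN hy oy (T := 𝐎(𝓒[t]))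
    (by rw [hW]; exact le_inf (SB.core_cent_normal t).1 hUn)
  have h5 : M.relIndex 𝐎(𝓒[t]) ≤ p := by
    rw [← hN]
    refine SL.orbit_le hp hp2 (A := ⊥) (B := omegaOne p W₀) ?_ (by rw [hE, card_bot, mul_one])
      (odd_core _) fun u hu => ⟨bot_le, conj_le_of_mem_norm inf_le_left (hUn hu)⟩
    have := card_sup_dvd_of_le_normalizer (le_norm_of_le_cent (le_cent_symm (zpowers_le.2
      (cent_anti inf_le_left (comm_iff_le_cent.1 (abelem_omegaOne (p := p) hab).1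
        (hW.le (mem_sup_right (mem_zpowers y))))) : zpowers y ≤ 𝓒(omegaOne p W₀ ⊓ 𝓒[s]))))
    rw [hW, hE, Nat.card_zpowers, oy] at this
    rw [card_bot, mul_one, sq]
    exact Nat.le_of_dvd (Nat.mul_pos hp.pos hp.pos) this
  obtain ⟨m, hm⟩ := (odd_core _).of_dvd_nat (relIndex_dvd_card M 𝐎(𝓒[t]))
  have h6 : M.relIndex 𝐎(𝓒[t]) ≠ 1 := fun e => hUM (relIndex_eq_one.1 e)
  exact SL.arith₁ h2 (h.lt.ineq₁ (by omega)) (by omega) (h5.trans h3)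

end

end Cfsg.GW
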