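import Cfsg.Agent.GW.Defs
import Cfsg.Agent.Blk.ZStar
import Cfsg.Agent.Blk.PrinDih
import Cfsg.Agent.Blk.AbFree
import Cfsg.Agent.GW.StabSec

/-!
# A generalized character of norm at most three that is constant on two types of involutions

Let `θ = X₁ + … + X_k` (`k ≤ 3`, signed irreducibles; all lie in `B₀`, since `θ` is a combination of
indicator functions of `2`-sections, `blockPart_secOne`). Put `nᵢ = Xᵢ 1`, `sᵢ = 1 - Xᵢ c / nᵢ`
(real, `0 ≤ sᵢ`, and `sᵢ = 0` iff `c` lies in the kernel). Averaging over classes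
(`Irr.sum_class_mul_class`):
* `h11` gives `∑ nᵢ sᵢ = 0` (from `θ 1 = θ c`) and `∑ nᵢ sᵢ² = 0` (from `θ (c c') = θ 1`);
* for every `u ∈ T`: `∑ Xᵢ(u) sᵢ = 0` (from `hT`);
* `∑ Xᵢ(v) (1 - sᵢ) sᵢ` is the average over `y ~ c` of `∑ Xᵢ(v y) sᵢ = ∑ Xᵢ((v y)₂) sᵢ = 0` (`hv`),
  so with `yᵢ = Xᵢ v`: `∑ yᵢ sᵢ = ∑ yᵢ sᵢ² = 0`.
Let `I` be the set of indices with `sᵢ ≠ 0`, i.e. `Xᵢ ≠ ±1` (simple group). `I ≠ ∅` because
`θ v ≠ θ 1`. If the `sᵢ`, `i ∈ I`, are all equal then `∑_I nᵢ = 0 = ∑_I yᵢ`, so `θ 1 = θ v`. If they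
take two values and `|I| = 2` then `n = 0`. So `|I| = 3`, the vectors `s`, `s²` are independent and
`y = λ n`, `θ v = λ θ 1`, `|λ| ≤ 1`; `λ = -1` gives `v` central. So `|θ v| < |θ 1|` or
`θ v = θ 1 = 0`.
-/

set_option autoImplicit false

namespace Cfsg.GW

open Subgroup

universe u

theorem three_lin {ι : Type*} {I : Finset ι} (hI : I.card ≤ 3) {n s y : ι → ℂ}
    (hn : ∀ i ∈ I, n i ≠ 0) (hs : ∀ i ∈ I, s i ≠ 0) (n1 : ∑ i ∈ I, n i * s i = 0)
    (n2 : ∑ i ∈ I, n i * s i ^ 2 = 0) (y1 : ∑ i ∈ I, y i * s i = 0)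
    (y2 : ∑ i ∈ I, y i * s i ^ 2 = 0) :
    (∑ i ∈ I, n i = 0 ∧ ∑ i ∈ I, y i = 0) ∨ (I.card = 3 ∧ ∃ l, ∀ i ∈ I, y i = l * n i) := by
  classical
  by_cases h : ∀ i ∈ I, ∀ j ∈ I, s i = s j
  · left
    rcases I.eq_empty_or_nonempty with rfl | ⟨k, hk⟩
    · simp
    rw [Finset.sum_congr rfl fun i hi => by rw [h i hi k hk], ← Finset.sum_mul] at n1 y1
    exact ⟨(mul_eq_zero.1 n1).resolve_right (hs k hk), (mul_eq_zero.1 y1).resolve_right (hs k hk)⟩
  push Not at h
  obtain ⟨i, hi, j, hj, hij⟩ := h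
  have hne : i ≠ j := fun e => hij (e ▸ rfl)
  have h2 : 2 ≤ I.card := Finset.one_lt_card.2 ⟨i, hi, j, hj, hne⟩
  rcases h2.eq_or_lt with h2 | h2
  · obtain rfl : {i, j} = I := Finset.eq_of_subset_of_card_le
      (Finset.insert_subset hi (Finset.singleton_subset_iff.2 hj))
      (by rw [Finset.card_pair hne, h2])
    rw [Finset.sum_pair hne] at n1 n2
    have : n i * s i * (s i - s j) = 0 := by linear_combination n2 - s j * n1
    simp [hn i hi, hs i hi, sub_eq_zero, hij] at this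
  have h3 : I.card = 3 := by omega
  obtain ⟨k, hk⟩ : ((I.erase i).erase j).Nonempty := by
    rw [← Finset.card_pos, Finset.card_erase_of_mem (Finset.mem_erase.2 ⟨hne.symm, hj⟩),
      Finset.card_erase_of_mem hi, h3]
    norm_num
  simp only [Finset.mem_erase] at hk
  obtain ⟨hkj, hki, hk⟩ := hk
  have hc : i ∉ ({j, k} : Finset ι) := by simp [hne, hki.symm]
  obtain rfl : {i, j, k} = I := Finset.eq_of_subset_of_card_le
    (by simp [Finset.insert_subset_iff, hi, hj, hk])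
    (by rw [Finset.card_insert_of_notMem hc, Finset.card_pair hkj.symm, h3])
  rw [Finset.sum_insert hc, Finset.sum_pair hkj.symm] at n1 n2 y1 y2
  refine Or.inr ⟨h3, y k / n k, ?_⟩
  have hnk := hn k hk
  have e1 : (y i * n k - y k * n i) * (s i * (s i - s j)) = 0 := by
    have a1 : n i * s i * (s i - s j) + n k * s k * (s k - s j) = 0 := by
      linear_combination n2 - s j * n1
    have a2 : y i * s i * (s i - s j) + y k * s k * (s k - s j) = 0 := by
      linear_combination y2 - s j * y1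
    linear_combination n k * a2 - y k * a1
  have e2 : (y j * n k - y k * n j) * (s j * (s j - s i)) = 0 := by
    have a1 : n j * s j * (s j - s i) + n k * s k * (s k - s i) = 0 := by
      linear_combination n2 - s i * n1
    have a2 : y j * s j * (s j - s i) + y k * s k * (s k - s i) = 0 := by
      linear_combination y2 - s i * y1
    linear_combination n k * a2 - y k * a1
  have e1' := (mul_eq_zero.1 e1).resolve_right (mul_ne_zero (hs i hi) (sub_ne_zero.2 hij))
  have e2' := (mul_eq_zero.1 e2).resolve_right (mul_ne_zero (hs j hj) (sub_ne_zero.2 (Ne.symm hij)))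
  simp only [Finset.mem_insert, Finset.mem_singleton, forall_eq_or_imp, forall_eq]
  refine ⟨?_, ?_, ?_⟩ <;> field_simp
  · linear_combination e1'
  · linear_combination e2'

theorem charKer_eq_bot_of_simple {G : Type u} [Group G] [Finite G] [IsSimpleGroup G]
    {χ : IrrCharacter G} (h : χ ≠ IrrCharacter.one G) : charKer χ.1 = ⊥ :=
  (IsSimpleGroup.eq_bot_or_eq_top_of_normal _ inferInstance).resolve_right fun e =>
    h (χ.charKer_eq_top_iff.1 e)

theorem false_of_three {G : Type u} [Group G] [Finite G] [IsSimpleGroup G]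
    (hna : ¬ IsMulCommutative G) {θ : G → ℂ} (hθ : IsGeneralizedCharacter G θ)
    (h2 : ∀ g, θ g = θ (pPart 2 g)) (h3 : (ip θ θ).re ≤ 3) {c v : G} (hc : orderOf c = 2)
    (hv2 : orderOf v = 2) (hc1 : θ c = θ 1)
    (h11 : ∀ a b, IsConj c a → IsConj c b → θ (a * b) = θ 1)
    {T : Set G} (hvT : v ∈ T) (hT : ∀ u ∈ T, θ u = θ v ∧ ∀ y, IsConj c y → θ (u * y) = θ v)
    (hv : ∀ y, IsConj c y → pPart 2 (v * y) ∈ T ∧
      ∃ w : centralizer ({pPart 2 (v * y)} : Set G),
        w ∈ pPrimeCore 2 (centralizer ({pPart 2 (v * y)} : Set G)) ∧ (w : G) = pPrimePart 2 (v * y))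
    (hne : θ v ≠ θ 1) (hle : ‖θ 1‖ ≤ ‖θ v‖) : False := by
  classical
  haveI := Fintype.ofFinite G
  obtain ⟨M, hM⟩ := exists_isPModular Nat.prime_two
  obtain ⟨a, ha, hθa⟩ := hθ.exists_eq_sum
  have hval : ∀ g, θ g = ∑ χ, (a χ : ℂ) * χ g := fun g => by
    rw [hθa]; simp
  have hB : ∀ χ, a χ ≠ 0 → χ ∈ principalBlock M G := fun χ h => by
    by_contra hχ
    have := ip_comp_pPart_of_notMem hM hθ.isClassFunction hχ
    rw [← funext h2, ha] at this
    exact h (by exact_mod_cast this)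
  have hG : (Nat.card G : ℂ) ≠ 0 := Nat.cast_ne_zero.2 Nat.card_pos.ne'
  set s : IrrCharacter G → ℂ := fun χ => 1 - χ c / χ 1 with hs
  have hcj : ∀ g, IsConj c (g * c * g⁻¹) := fun g => isConj_iff.2 ⟨g, rfl⟩
  have avg : ∀ (u : G) (w : IrrCharacter G → ℂ) (z : ℂ),
      (∀ y, IsConj c y → ∑ χ, w χ * χ (u * y) = z) → ∑ χ, w χ * (χ u * (1 - s χ)) = z := by
    intro u w z h
    refine mul_left_cancel₀ hG ?_
    have := Finset.sum_congr (s₁ := Finset.univ) rfl fun g _ => h _ (hcj g)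
    rw [Finset.sum_comm, Finset.sum_const, Finset.card_univ, ← Nat.card_eq_fintype_card,
      nsmul_eq_mul] at this
    rw [← this, Finset.mul_sum]
    refine Finset.sum_congr rfl fun χ _ => ?_
    rw [← Finset.mul_sum, Finset.sum_congr rfl fun g _ => χ.isClassFunction.mul_comm u _,
      χ.sum_conj_mul]
    simp only [hs]
    ring
  have hcs : ∀ χ : IrrCharacter G, χ c = χ 1 * (1 - s χ) := fun χ => by
    have := χ.apply_one_ne_zero
    simp only [hs]
    field_simp
    ring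
  have n1 : ∑ χ, a χ * χ 1 * s χ = 0 := by
    have := sub_eq_zero.2 hc1.symm
    rw [hval, hval, ← Finset.sum_sub_distrib] at this
    rw [← this]
    exact Finset.sum_congr rfl fun χ _ => by rw [hcs]; ring
  have n2 : ∑ χ, a χ * χ 1 * s χ ^ 2 = 0 := by
    have := avg c (fun χ => a χ) (θ 1) fun y hy => by rw [← hval, h11 c y (IsConj.refl c) hy]
    rw [hval, ← sub_eq_zero, ← Finset.sum_sub_distrib] at this
    rw [← this, ← add_zero (Finset.sum _ _), ← mul_zero (-2 : ℂ), ← n1, Finset.mul_sum,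
      ← Finset.sum_add_distrib]
    exact Finset.sum_congr rfl fun χ _ => by rw [hcs]; ring
  have yT : ∀ u ∈ T, ∑ χ, a χ * χ u * s χ = 0 := fun u hu => by
    have := avg u (fun χ => a χ) (θ u) fun y hy => by rw [← hval, (hT u hu).2 y hy, (hT u hu).1]
    rw [hval, eq_comm, ← sub_eq_zero, ← Finset.sum_sub_distrib] at this
    rw [← this]
    exact Finset.sum_congr rfl fun χ _ => by ring
  have y2 : ∑ χ, a χ * χ v * s χ ^ 2 = 0 := by
    have := avg v (fun χ => a χ * s χ) 0 fun y hy => by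
      obtain ⟨h1, w, hw, e⟩ := hv y hy
      rw [← yT _ h1]
      refine Finset.sum_congr rfl fun χ _ => ?_
      by_cases h : a χ = 0
      · simp [h]
      · rw [← irr_apply_mul_of_mem_pPrimeCore hM (isPElt_pPart 2 _) (hB χ h) hw, e,
          pPart_mul_pPrimePart]
        ring
    rw [← sub_zero (0 : ℂ)]
    nth_rw 1 [← yT v hvT]
    rw [← this, ← Finset.sum_sub_distrib]
    exact Finset.sum_congr rfl fun χ _ => by ring
  have hsq : ∑ χ, a χ ^ 2 ≤ 3 := by
    rw [ip_self_eq_sum_sq hθ.isClassFunction a ha] at h3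
    exact_mod_cast h3
  set S := Finset.univ.filter fun χ => a χ ≠ 0 with hS
  have hS3 : S.card ≤ 3 := by
    have : (S.card : ℤ) ≤ ∑ χ ∈ S, a χ ^ 2 := by
      rw [Finset.card_eq_sum_ones, Nat.cast_sum]
      exact Finset.sum_le_sum fun χ hχ => by
        simpa using (one_le_sq_iff_one_le_abs _).2 (Int.one_le_abs (Finset.mem_filter.1 hχ).2)
    have h4 : ∑ χ ∈ S, a χ ^ 2 ≤ ∑ χ, a χ ^ 2 :=
      Finset.sum_le_sum_of_subset_of_nonneg (Finset.subset_univ _) fun _ _ _ => sq_nonneg _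
    omega
  set I := S.erase (IrrCharacter.one G) with hI
  have hsI : ∀ χ ∈ I, s χ ≠ 0 := fun χ hχ h => by
    have h1 : c ∈ charKer χ.1 := χ.isCharacter.mem_charKer.2 (by rw [hcs, h, sub_zero, mul_one])
    rw [charKer_eq_bot_of_simple (Finset.mem_erase.1 hχ).1, mem_bot] at h1
    simp [h1] at hc
  have hs1 : s (IrrCharacter.one G) = 0 := by simp [hs]
  have res : ∀ F : IrrCharacter G → ℂ, ∑ χ, a χ * F χ =
      a (IrrCharacter.one G) * F (IrrCharacter.one G) + ∑ χ ∈ I, a χ * F χ := fun F => by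
    rw [← Finset.add_sum_erase _ _ (Finset.mem_univ (IrrCharacter.one G)), add_right_inj]
    refine (Finset.sum_subset (Finset.erase_subset_erase _ (Finset.subset_univ _))
      fun χ h1 h2 => ?_).symm
    have : a χ = 0 := by simpa [hI, hS, (Finset.mem_erase.1 h1).1] using h2
    simp [this]
  have y1 := yT v hvT
  simp only [mul_assoc, res, hs1, ne_eq, OfNat.ofNat_ne_zero, not_false_eq_true, zero_pow,
    mul_zero, zero_add] at n1 n2 y1 y2
  simp only [← mul_assoc] at n1 n2 y1 y2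
  have ha0 : ∀ χ ∈ I, (a χ : ℂ) ≠ 0 := fun χ hχ =>
    Int.cast_ne_zero.2 (Finset.mem_filter.1 (Finset.mem_erase.1 hχ).2).2
  rcases three_lin (I := I) (Finset.card_erase_le.trans hS3) (fun χ hχ => mul_ne_zero (ha0 χ hχ)
    χ.apply_one_ne_zero) hsI n1 n2 y1 y2 with ⟨e1, e2⟩ | ⟨e1, l, e2⟩
  · exact hne (by rw [hval, hval, res, res, e1, e2]; simp)
  have h1 : a (IrrCharacter.one G) = 0 := by
    by_contra h
    have := Finset.card_erase_add_one (s := S) (Finset.mem_filter.2 ⟨Finset.mem_univ _, h⟩)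
    rw [← hI] at this
    omega
  have e3 : θ v = l * θ 1 := by
    rw [hval, hval, res, res, Finset.sum_congr rfl e2, ← Finset.mul_sum, h1]
    simp
  obtain ⟨χ, hχ⟩ : I.Nonempty := Finset.card_pos.1 (by omega)
  have e4 : χ v = l * χ 1 := mul_left_cancel₀ (ha0 χ hχ) (by rw [e2 χ hχ]; ring)
  have h0 : θ 1 ≠ 0 := fun h => hne (by rw [e3, h, mul_zero])
  have hl : 1 ≤ ‖l‖ := by
    rw [e3, norm_mul] at hle
    exact (le_mul_iff_one_le_left (norm_pos_iff.2 h0)).1 hle
  have h5 : v ∈ charCenter χ.1 := χ.mem_charCenter.2 (le_antisymm (χ.norm_le v) (by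
    rw [e4, norm_mul, ← χ.isCharacter.norm_apply_one]
    exact le_mul_of_one_le_left (norm_nonneg _) hl))
  rw [χ.charCenter_eq_center_of_faithful (charKer_eq_bot_of_simple (Finset.mem_erase.1 hχ).1)] at h5
  rcases IsSimpleGroup.eq_bot_or_eq_top_of_normal (center G) inferInstance with h | h
  · rw [h, mem_bot] at h5
    simp [h5] at hv2
  · exact hna ⟨⟨fun x y => (mem_center_iff.1 (h ▸ mem_top y) x)⟩⟩

end Cfsg.GW
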